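import Mathlib
import Cfsg.Prelude.Def_FusionSystem

/-!
Basic API for `Cfsg.FusionSystem`.

Everything lives in `Cfsg.Agent.Lib.FS`; write `open Cfsg Cfsg.Agent.Lib.FS`.
-/

set_option autoImplicit false
set_option linter.style.haveILetI false
set_option linter.unusedSimpArgs false

namespace Cfsg.Agent.Lib.FS

open Cfsg Cfsg.FusionSystem

variable {Ω : Type*} [Group Ω] {S : Subgroup Ω} {F : FusionSystem S}

/-- Two systems with the same maps are equal. -/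
theorem fusion_ext {F E : FusionSystem S} (h : ∀ (P : Subgroup Ω) (φ : P →* Ω), φ ∈ F.Hom P ↔ φ ∈ E.Hom P) :
    F = E := by
  have h' : F.Hom = E.Hom := funext fun P => Set.ext fun φ => h P φ
  cases F; cases E; cases h'; rfl

theorem fusion_le_antisymm {F E : FusionSystem S} (h₁ : F ≤ E) (h₂ : E ≤ F) : F = E :=
  fusion_ext fun P _ => ⟨fun h => h₁ P h, fun h => h₂ P h⟩

@[simp] theorem conjHom_apply (P : Subgroup Ω) (g : Ω) (x : P) : conjHom P g x = g * x * g⁻¹ := rfl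

theorem src_le {P : Subgroup Ω} {φ : P →* Ω} (hφ : φ ∈ F.Hom P) : P ≤ S := (F.le_of_mem hφ).1

theorem apply_mem {P : Subgroup Ω} {φ : P →* Ω} (hφ : φ ∈ F.Hom P) (x : P) : φ x ∈ S :=
  (F.le_of_mem hφ).2 x

theorem range_le_base {P : Subgroup Ω} {φ : P →* Ω} (hφ : φ ∈ F.Hom P) : φ.range ≤ S := by
  rintro _ ⟨x, rfl⟩; exact apply_mem hφ x

/-- A map pointwise equal to a map of the system is a map of the system. -/
theorem hom_congr {P : Subgroup Ω} {φ ψ : P →* Ω} (hψ : ψ ∈ F.Hom P) (h : ∀ x, φ x = ψ x) :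
    φ ∈ F.Hom P := by
  have : φ = ψ := MonoidHom.ext h
  exact this ▸ hψ

theorem subtype_mem (F : FusionSystem S) {P : Subgroup Ω} (hP : P ≤ S) : P.subtype ∈ F.Hom P :=
  hom_congr (F.conj_mem hP S.one_mem) fun x => by simp

/-- Conjugation by an element of `S`, given pointwise. -/
theorem mem_of_conj (F : FusionSystem S) {P : Subgroup Ω} {φ : P →* Ω} {g : Ω} (hP : P ≤ S) (hg : g ∈ S)
    (h : ∀ x : P, φ x = g * x * g⁻¹) : φ ∈ F.Hom P :=
  hom_congr (F.conj_mem hP hg) h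

/-- Composition given pointwise. -/
theorem mem_comp {P Q : Subgroup Ω} {φ : P →* Ω} {ψ : Q →* Ω} {χ : P →* Ω} (hφ : φ ∈ F.Hom P)
    (hψ : ψ ∈ F.Hom Q) (h : ∀ x, φ x ∈ Q) (hχ : ∀ x, χ x = ψ ⟨φ x, h x⟩) : χ ∈ F.Hom P :=
  hom_congr (F.comp_mem hφ hψ h) hχ

theorem exists_comp {P Q : Subgroup Ω} {φ : P →* Ω} {ψ : Q →* Ω} (hφ : φ ∈ F.Hom P)
    (hψ : ψ ∈ F.Hom Q) (h : ∀ x, φ x ∈ Q) :
    ∃ χ ∈ F.Hom P, ∀ x, χ x = ψ ⟨φ x, h x⟩ :=
  ⟨_, F.comp_mem hφ hψ h, fun _ => rfl⟩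

/-- Restriction to a smaller source. -/
theorem restrict_mem {P Q : Subgroup Ω} {φ : Q →* Ω} (hφ : φ ∈ F.Hom Q) (h : P ≤ Q) :
    φ.comp (Subgroup.inclusion h) ∈ F.Hom P :=
  mem_comp (subtype_mem F (h.trans (src_le hφ))) hφ (fun x => h x.2) fun _ => rfl

theorem mem_of_restrict {P Q : Subgroup Ω} {φ : P →* Ω} {ψ : Q →* Ω} (hψ : ψ ∈ F.Hom Q) (h : P ≤ Q)
    (he : ∀ x : P, φ x = ψ ⟨x, h x.2⟩) : φ ∈ F.Hom P :=
  hom_congr (restrict_mem hψ h) he

/-- The restriction of a map of the system, with the formula for its values. -/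
theorem exists_restrict {P Q : Subgroup Ω} {φ : Q →* Ω} (hφ : φ ∈ F.Hom Q) (h : P ≤ Q) :
    ∃ ψ ∈ F.Hom P, ∀ x : P, ψ x = φ ⟨x, h x.2⟩ :=
  ⟨_, restrict_mem hφ h, fun _ => rfl⟩

/-- The inverse of a map of the system, with both inverse laws. -/
theorem exists_inv {P Q : Subgroup Ω} {φ : P →* Ω} (hφ : φ ∈ F.Hom P) (hQ : φ.range = Q) :
    ∃ ψ ∈ F.Hom Q, ψ.range = P ∧ (∀ (x : P) (h : φ x ∈ Q), ψ ⟨φ x, h⟩ = x) ∧
      (∀ (y : Q) (h : ψ y ∈ P), φ ⟨ψ y, h⟩ = y) := by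
  subst hQ
  obtain ⟨ψ, hψ, h⟩ := F.inv_mem hφ
  refine ⟨ψ, hψ, ?_, fun x _ => h x, ?_⟩
  · ext y
    constructor
    · rintro ⟨⟨_, x, rfl⟩, rfl⟩; rw [h x]; exact x.2
    · exact fun hy => ⟨⟨φ ⟨y, hy⟩, ⟨_, rfl⟩⟩, h ⟨y, hy⟩⟩
  · rintro ⟨_, x, rfl⟩ hy
    show φ _ = φ x
    congr 1
    exact Subtype.ext (h x)

/-! ### Cardinalities and conjugacy of subgroups -/

theorem finite_sub [Finite S] {P : Subgroup Ω} (hP : P ≤ S) : Finite P :=
  Finite.of_injective (Subgroup.inclusion hP) (Subgroup.inclusion_injective hP)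

theorem card_range {P : Subgroup Ω} {φ : P →* Ω} (hφ : φ ∈ F.Hom P) :
    Nat.card φ.range = Nat.card P :=
  (Nat.card_congr (MonoidHom.ofInjective (F.injective_of_mem hφ)).toEquiv).symm

/-- If the image of a map lies in a finite subgroup of the same order, it is that subgroup. -/
theorem range_eq_of_mem {P Q : Subgroup Ω} [Finite Q] {φ : P →* Ω} (hφ : φ ∈ F.Hom P) (h : ∀ x, φ x ∈ Q)
    (hc : Nat.card Q ≤ Nat.card P) : φ.range = Q := by
  refine Subgroup.eq_of_le_of_card_ge ?_ ?_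
  · rintro _ ⟨x, rfl⟩; exact h x
  · rw [card_range hφ]; exact hc

theorem isConj_refl (F : FusionSystem S) {P : Subgroup Ω} (hP : P ≤ S) : F.IsConj P P :=
  ⟨_, subtype_mem F hP, P.range_subtype⟩

theorem isConj_symm {P Q : Subgroup Ω} (h : F.IsConj P Q) : F.IsConj Q P := by
  obtain ⟨φ, hφ, hQ⟩ := h
  obtain ⟨ψ, hψ, hP, -⟩ := exists_inv hφ hQ
  exact ⟨ψ, hψ, hP⟩

theorem isConj_trans {P Q R : Subgroup Ω} (h₁ : F.IsConj P Q) (h₂ : F.IsConj Q R) : F.IsConj P R := by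
  obtain ⟨φ, hφ, rfl⟩ := h₁
  obtain ⟨ψ, hψ, rfl⟩ := h₂
  obtain ⟨χ, hχ, e⟩ := exists_comp hφ hψ fun x => ⟨x, rfl⟩
  refine ⟨χ, hχ, ?_⟩
  ext y
  constructor
  · rintro ⟨x, rfl⟩; exact ⟨_, (e x).symm⟩
  · rintro ⟨⟨_, x, rfl⟩, rfl⟩; exact ⟨x, e x⟩

theorem isConj_le_left {P Q : Subgroup Ω} (h : F.IsConj P Q) : P ≤ S := by
  obtain ⟨φ, hφ, -⟩ := h; exact src_le hφ

theorem isConj_le_right {P Q : Subgroup Ω} (h : F.IsConj P Q) : Q ≤ S := by
  obtain ⟨φ, hφ, rfl⟩ := h; exact range_le_base hφ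

theorem isConj_card {P Q : Subgroup Ω} (h : F.IsConj P Q) : Nat.card Q = Nat.card P := by
  obtain ⟨φ, hφ, rfl⟩ := h; exact card_range hφ

theorem isConj_conj (F : FusionSystem S) {P : Subgroup Ω} (hP : P ≤ S) {g : Ω} (hg : g ∈ S) :
    F.IsConj P (P.map (MulAut.conj g).toMonoidHom) := by
  refine ⟨conjHom P g, F.conj_mem hP hg, ?_⟩
  rw [conjHom, MonoidHom.range_comp, P.range_subtype]

/-- The isomorphism `P ≃* Q` underlying a map of the system with image `Q`. -/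
noncomputable def homEquiv {P Q : Subgroup Ω} {φ : P →* Ω} (hφ : φ ∈ F.Hom P) (hQ : φ.range = Q) : P ≃* Q :=
  (MonoidHom.ofInjective (F.injective_of_mem hφ)).trans (MulEquiv.subgroupCongr hQ)

@[simp] theorem homEquiv_coe {P Q : Subgroup Ω} {φ : P →* Ω} (hφ : φ ∈ F.Hom P) (hQ : φ.range = Q) (x : P) :
    ((homEquiv hφ hQ x : Q) : Ω) = φ x := rfl

theorem homEquiv_symm_apply {P Q : Subgroup Ω} {φ : P →* Ω} (hφ : φ ∈ F.Hom P) (hQ : φ.range = Q) (y : Q) :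
    φ ((homEquiv hφ hQ).symm y) = y := by
  conv_rhs => rw [← (homEquiv hφ hQ).apply_symm_apply y]
  rfl

/-! ### Automorphism groups -/

theorem mem_autGroup {P : Subgroup Ω} (hP : P ≤ S) {α : MulAut P} :
    α ∈ F.autGroup P ↔ P.subtype.comp α.toMonoidHom ∈ F.Hom P := by
  refine ⟨fun h => ?_, fun h => Subgroup.subset_closure h⟩
  refine Subgroup.closure_induction (p := fun a _ => P.subtype.comp a.toMonoidHom ∈ F.Hom P)
    (fun a ha => ha) (hom_congr (subtype_mem F hP) fun _ => rfl) ?_ ?_ h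
  · intro a b _ _ ha hb
    exact mem_comp hb ha (fun x => (b x).2) fun _ => rfl
  · intro a _ ha
    have hr : (P.subtype.comp a.toMonoidHom).range = P := by
      ext y
      exact ⟨by rintro ⟨x, rfl⟩; exact (a x).2, fun hy => ⟨a.symm ⟨y, hy⟩, by simp⟩⟩
    obtain ⟨ψ, hψ, -, h₁, -⟩ := exists_inv ha hr
    refine hom_congr hψ fun x => ?_
    have := h₁ (a⁻¹ x) (a (a⁻¹ x)).2
    simp only [MonoidHom.coe_comp, Subgroup.coe_subtype, MulEquiv.coe_toMonoidHom, Function.comp_apply,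
      MulAut.apply_inv_self] at this ⊢
    exact this.symm

theorem autGroup_eq_bot {P : Subgroup Ω} (hP : ¬ P ≤ S) : F.autGroup P = ⊥ := by
  rw [eq_bot_iff]
  exact (Subgroup.closure_le _).2 fun α hα => absurd (src_le hα) hP

/-- Automorphisms in `Aut_F(P)` give maps of the system. -/
theorem exists_hom_of_aut {P : Subgroup Ω} (hP : P ≤ S) {α : MulAut P} (hα : α ∈ F.autGroup P) :
    ∃ φ ∈ F.Hom P, φ.range = P ∧ ∀ x, φ x = α x := by
  refine ⟨_, (mem_autGroup hP).1 hα, ?_, fun _ => rfl⟩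
  ext y
  exact ⟨by rintro ⟨x, rfl⟩; exact (α x).2, fun hy => ⟨α.symm ⟨y, hy⟩, by simp⟩⟩

theorem mem_autGroup_of_hom {P : Subgroup Ω} {φ : P →* Ω} (hφ : φ ∈ F.Hom P) {α : MulAut P}
    (h : ∀ x, ((α x : P) : Ω) = φ x) : α ∈ F.autGroup P :=
  (mem_autGroup (src_le hφ)).2 (hom_congr hφ h)

theorem homEquiv_mem_autGroup {P : Subgroup Ω} {φ : P →* Ω} (hφ : φ ∈ F.Hom P) (hr : φ.range = P) :
    homEquiv hφ hr ∈ F.autGroup P :=
  mem_autGroup_of_hom hφ fun _ => rfl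

/-- Transport along a map of the system sends `Aut_F(P)` into `Aut_F(Q)`. -/
theorem congr_mem_autGroup {P Q : Subgroup Ω} {φ : P →* Ω} (hφ : φ ∈ F.Hom P) (hQ : φ.range = Q)
    {α : MulAut P} (hα : α ∈ F.autGroup P) : MulAut.congr (homEquiv hφ hQ) α ∈ F.autGroup Q := by
  obtain ⟨ψ, hψ, hψP, hψl, hψr⟩ := exists_inv hφ hQ
  obtain ⟨χ, hχ, e⟩ := exists_comp hψ ((mem_autGroup (src_le hφ)).1 hα) fun y => hψP.le ⟨y, rfl⟩
  obtain ⟨τ, hτ, e'⟩ := exists_comp hχ hφ fun y => by rw [e y]; exact (α _).2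
  refine mem_autGroup_of_hom hτ fun y => ?_
  rw [e' y]
  show φ (α ((homEquiv hφ hQ).symm y)) = φ _
  congr 1
  apply Subtype.ext
  show ((α ((homEquiv hφ hQ).symm y) : P) : Ω) = χ y
  rw [e y]
  simp only [MonoidHom.coe_comp, Subgroup.coe_subtype, MulEquiv.coe_toMonoidHom, Function.comp_apply]
  congr 2
  apply Subtype.ext
  obtain ⟨x, rfl⟩ := (homEquiv hφ hQ).surjective y
  rw [MulEquiv.symm_apply_apply]
  exact (hψl x _).symm

theorem map_congr_autGroup {P Q : Subgroup Ω} {φ : P →* Ω} (hφ : φ ∈ F.Hom P) (hQ : φ.range = Q) :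
    (F.autGroup P).map (MulAut.congr (homEquiv hφ hQ)).toMonoidHom = F.autGroup Q := by
  apply le_antisymm
  · rintro _ ⟨α, hα, rfl⟩; exact congr_mem_autGroup hφ hQ hα
  · intro β hβ
    obtain ⟨ψ, hψ, hψP, hψl, -⟩ := exists_inv hφ hQ
    refine ⟨_, congr_mem_autGroup hψ hψP hβ, ?_⟩
    have : homEquiv hψ hψP = (homEquiv hφ hQ).symm := by
      ext y
      obtain ⟨x, rfl⟩ := (homEquiv hφ hQ).surjective y
      rw [MulEquiv.symm_apply_apply]
      exact hψl x _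
    rw [this]
    ext y
    simp [MulAut.congr]

theorem card_autGroup_of_isConj {P Q : Subgroup Ω} (h : F.IsConj P Q) :
    Nat.card (F.autGroup Q) = Nat.card (F.autGroup P) := by
  obtain ⟨φ, hφ, hQ⟩ := h
  rw [← map_congr_autGroup hφ hQ]
  exact (Nat.card_congr ((F.autGroup P).equivMapOfInjective _
    (MulAut.congr (homEquiv hφ hQ)).injective).toEquiv).symm

/-! ### Automorphisms induced by a subgroup of the ambient group -/

theorem mem_autInducedBy {K P : Subgroup Ω} {α : MulAut P} :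
    α ∈ autInducedBy K P ↔ ∃ g ∈ K, ∀ x : P, ((α x : P) : Ω) = g * x * g⁻¹ := by
  refine ⟨fun h => ?_, fun h => Subgroup.subset_closure h⟩
  refine Subgroup.closure_induction (p := fun a _ => ∃ g ∈ K, ∀ x : P, ((a x : P) : Ω) = g * x * g⁻¹)
    (fun a ha => ha) ⟨1, K.one_mem, fun x => by simp⟩ ?_ ?_ h
  · rintro a b - - ⟨g, hg, ha⟩ ⟨k, hk, hb⟩
    refine ⟨g * k, K.mul_mem hg hk, fun x => ?_⟩
    rw [MulAut.mul_apply, ha, hb]; group
  · rintro a - ⟨g, hg, ha⟩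
    refine ⟨g⁻¹, K.inv_mem hg, fun x => ?_⟩
    have hx := ha (a⁻¹ x)
    rw [MulAut.apply_inv_self] at hx
    rw [hx]; group

/-- An element realising an automorphism of `P` normalises `P`. -/
theorem mem_normalizer_of_aut {P : Subgroup Ω} {α : MulAut P} {g : Ω}
    (h : ∀ x : P, ((α x : P) : Ω) = g * x * g⁻¹) : g ∈ Subgroup.normalizer (P : Set Ω) := by
  intro y
  refine ⟨fun hy => (h ⟨y, hy⟩) ▸ (α ⟨y, hy⟩).2, fun hy => ?_⟩
  have h2 := h (α.symm ⟨_, hy⟩)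
  rw [MulEquiv.apply_symm_apply] at h2
  have h3 : y = (α.symm ⟨_, hy⟩ : Ω) := mul_left_cancel (mul_right_cancel h2)
  rw [h3]; exact SetLike.coe_mem _

theorem conj_mem_of_normalizer {P : Subgroup Ω} {g x : Ω} (hg : g ∈ Subgroup.normalizer (P : Set Ω))
    (hx : x ∈ P) : g * x * g⁻¹ ∈ P :=
  (hg x).1 hx

theorem conj_inv_mem_of_normalizer {P : Subgroup Ω} {g x : Ω} (hg : g ∈ Subgroup.normalizer (P : Set Ω))
    (hx : x ∈ P) : g⁻¹ * x * g ∈ P := by
  simpa using conj_mem_of_normalizer (inv_mem hg) hx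

theorem mem_normalizer_of_conj_mem {P : Subgroup Ω} [Finite P] {g : Ω} (h : ∀ x ∈ P, g * x * g⁻¹ ∈ P) :
    g ∈ Subgroup.normalizer (P : Set Ω) := by
  rw [Subgroup.mem_normalizer_iff_map_conj_eq]
  refine Subgroup.eq_of_le_of_card_ge ?_ ?_
  · rintro _ ⟨x, hx, rfl⟩; exact h x hx
  · rw [Nat.card_congr (P.equivMapOfInjective (↑(MulAut.conj g) : Ω →* Ω) (MulAut.conj g).injective).toEquiv]

@[simp] theorem normalizerMonoidHom_coe (P : Subgroup Ω) (g : Subgroup.normalizer (P : Set Ω)) (x : P) :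
    ((P.normalizerMonoidHom g x : P) : Ω) = g * x * (g : Ω)⁻¹ := rfl

theorem autInducedBy_eq_map (K P : Subgroup Ω) :
    autInducedBy K P =
      (K.subgroupOf (Subgroup.normalizer (P : Set Ω))).map P.normalizerMonoidHom := by
  ext α
  rw [mem_autInducedBy, Subgroup.mem_map]
  constructor
  · rintro ⟨g, hg, h⟩
    exact ⟨⟨g, mem_normalizer_of_aut h⟩, Subgroup.mem_subgroupOf.2 hg,
      MulEquiv.ext fun x => Subtype.ext (h x).symm⟩
  · rintro ⟨g, hg, rfl⟩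
    exact ⟨g, Subgroup.mem_subgroupOf.1 hg, fun _ => rfl⟩

theorem mem_normalizerIn {P : Subgroup Ω} {g : Ω} :
    g ∈ normalizerIn S P ↔ g ∈ S ∧ g ∈ Subgroup.normalizer (P : Set Ω) := Iff.rfl

theorem mem_centralizerIn {P : Subgroup Ω} {g : Ω} :
    g ∈ centralizerIn S P ↔ g ∈ S ∧ ∀ x ∈ P, x * g = g * x :=
  Iff.rfl

theorem mem_centralizerIn' {P : Subgroup Ω} {g : Ω} :
    g ∈ centralizerIn S P ↔ g ∈ S ∧ ∀ x ∈ P, g * x * g⁻¹ = x := by
  rw [mem_centralizerIn]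
  exact and_congr_right fun _ => forall₂_congr fun x _ => by rw [mul_inv_eq_iff_eq_mul, eq_comm]

theorem normalizerIn_le (P : Subgroup Ω) : normalizerIn S P ≤ S := inf_le_left

theorem centralizerIn_le (P : Subgroup Ω) : centralizerIn S P ≤ S := inf_le_left

theorem le_normalizerIn {P : Subgroup Ω} (hP : P ≤ S) : P ≤ normalizerIn S P :=
  le_inf hP Subgroup.le_normalizer

theorem centralizerIn_le_normalizerIn (P : Subgroup Ω) : centralizerIn S P ≤ normalizerIn S P :=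
  inf_le_inf_left S (Subgroup.centralizer_le_normalizer _)

theorem centralizerIn_anti {P Q : Subgroup Ω} (h : P ≤ Q) : centralizerIn S Q ≤ centralizerIn S P :=
  inf_le_inf_left S (Subgroup.centralizer_le h)

theorem autInducedBy_le_autGroup (F : FusionSystem S) {P : Subgroup Ω} (hP : P ≤ S) :
    autInducedBy S P ≤ F.autGroup P := by
  intro α hα
  obtain ⟨g, hg, h⟩ := mem_autInducedBy.1 hα
  exact mem_autGroup_of_hom (F.conj_mem hP hg) h

theorem inn_le_autInducedBy {K P : Subgroup Ω} (hP : P ≤ K) : Inn P ≤ autInducedBy K P := by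
  rintro _ ⟨g, rfl⟩
  exact mem_autInducedBy.2 ⟨g, hP g.2, fun _ => rfl⟩

theorem inn_le_autGroup (F : FusionSystem S) {P : Subgroup Ω} (hP : P ≤ S) : Inn P ≤ F.autGroup P :=
  (inn_le_autInducedBy hP).trans (autInducedBy_le_autGroup F hP)

theorem card_normalizerIn (S P : Subgroup Ω) :
    Nat.card (normalizerIn S P) = Nat.card (autInducedBy S P) * Nat.card (centralizerIn S P) := by
  set N := Subgroup.normalizer (P : Set Ω)
  set f : (S.subgroupOf N) →* MulAut P := P.normalizerMonoidHom.comp (S.subgroupOf N).subtype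
  have h1 : f.range = autInducedBy S P := by
    rw [autInducedBy_eq_map, MonoidHom.range_comp, Subgroup.range_subtype]
  have e1 : S.subgroupOf N ≃* normalizerIn S P :=
    (MulEquiv.subgroupCongr (Subgroup.inf_subgroupOf_right S N).symm).trans
      (Subgroup.subgroupOfEquivOfLe inf_le_right)
  have h2 : f.ker = ((centralizerIn S P).subgroupOf N).subgroupOf (S.subgroupOf N) := by
    ext g
    rw [MonoidHom.mem_ker, Subgroup.mem_subgroupOf, Subgroup.mem_subgroupOf, mem_centralizerIn']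
    refine ⟨fun h => ⟨Subgroup.mem_subgroupOf.1 g.2, fun x hx => by
      have h2 := congrArg Subtype.val (DFunLike.congr_fun h ⟨x, hx⟩)
      exact h2⟩,
      fun h => MulEquiv.ext fun x => Subtype.ext (h.2 x x.2)⟩
  rw [← Nat.card_congr e1.toEquiv, ← Subgroup.card_mul_index f.ker, Subgroup.index_ker, h1, h2,
    mul_comm]
  congr 1
  refine (Nat.card_congr (Subgroup.subgroupOfEquivOfLe ?_).toEquiv).trans
    (Nat.card_congr (Subgroup.subgroupOfEquivOfLe ((centralizerIn_le_normalizerIn P).trans inf_le_right)).toEquiv)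
  exact fun g hg => (mem_centralizerIn.1 hg).1

theorem isPGroup_of_le {p : ℕ} (hS : IsPGroup p S) {P : Subgroup Ω} (hP : P ≤ S) : IsPGroup p P :=
  hS.of_injective (Subgroup.inclusion hP) (Subgroup.inclusion_injective hP)

theorem isPGroup_autInducedBy {p : ℕ} (hS : IsPGroup p S) (P : Subgroup Ω) :
    IsPGroup p (autInducedBy S P) := by
  rw [autInducedBy_eq_map]
  refine IsPGroup.map ?_ _
  exact hS.of_injective
    ((((Subgroup.normalizer (P : Set Ω)).subtype.comp (S.subgroupOf _).subtype).codRestrict S)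
      fun g => Subgroup.mem_subgroupOf.1 g.2)
    (by intro a b h; exact Subtype.ext (Subtype.ext (congrArg (Subtype.val : S → Ω) h)))

/-! ### The extender `N_φ` -/

theorem mem_extender {P : Subgroup Ω} {φ : P →* Ω} {g : Ω} :
    g ∈ extender S P φ ↔ g ∈ S ∧ g ∈ Subgroup.normalizer (P : Set Ω) ∧
      ∃ h ∈ S, ∀ (x : P) (hx : g * (x : Ω) * g⁻¹ ∈ P), φ ⟨g * x * g⁻¹, hx⟩ = h * φ x * h⁻¹ := by
  refine ⟨fun h => ?_, fun h => Subgroup.subset_closure h⟩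
  refine Subgroup.closure_induction (p := fun g _ => g ∈ S ∧ g ∈ Subgroup.normalizer (P : Set Ω) ∧
      ∃ h ∈ S, ∀ (x : P) (hx : g * (x : Ω) * g⁻¹ ∈ P), φ ⟨g * x * g⁻¹, hx⟩ = h * φ x * h⁻¹)
    (fun a ha => ha) ⟨S.one_mem, one_mem _, 1, S.one_mem, fun x hx => by simp⟩ ?_ ?_ h
  · rintro a b - - ⟨ha, han, u, hu, hau⟩ ⟨hb, hbn, v, hv, hbv⟩
    refine ⟨S.mul_mem ha hb, mul_mem han hbn, u * v, S.mul_mem hu hv, fun x hx => ?_⟩
    have hbx : b * (x : Ω) * b⁻¹ ∈ P := conj_mem_of_normalizer hbn x.2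
    calc φ ⟨a * b * x * (a * b)⁻¹, hx⟩
        = φ ⟨a * (b * x * b⁻¹) * a⁻¹, conj_mem_of_normalizer han hbx⟩ := by
          congr 1; apply Subtype.ext; show _ = _; group
      _ = u * φ ⟨_, hbx⟩ * u⁻¹ := hau ⟨_, hbx⟩ _
      _ = _ := by rw [hbv x hbx]; group
  · rintro a - ⟨ha, han, u, hu, hau⟩
    refine ⟨S.inv_mem ha, inv_mem han, u⁻¹, S.inv_mem hu, fun x hx => ?_⟩
    have h2 := hau ⟨_, hx⟩ (conj_mem_of_normalizer han hx)
    rw [show (⟨a * (a⁻¹ * (x : Ω) * a⁻¹⁻¹) * a⁻¹, conj_mem_of_normalizer han hx⟩ : P) = x from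
      Subtype.ext (show _ = (x : Ω) by group)] at h2
    rw [h2]; group

theorem extender_le_normalizerIn (P : Subgroup Ω) (φ : P →* Ω) : extender S P φ ≤ normalizerIn S P :=
  fun _ hg => ⟨(mem_extender.1 hg).1, (mem_extender.1 hg).2.1⟩

theorem le_extender {P : Subgroup Ω} {φ : P →* Ω} (hP : P ≤ S) (hφ : ∀ x, φ x ∈ S) :
    P ≤ extender S P φ := by
  intro g hg
  refine mem_extender.2 ⟨hP hg, Subgroup.le_normalizer hg, φ ⟨g, hg⟩, hφ _, fun x hx => ?_⟩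
  rw [← map_inv, ← map_mul, ← map_mul]
  rfl

theorem centralizerIn_le_extender (P : Subgroup Ω) (φ : P →* Ω) :
    centralizerIn S P ≤ extender S P φ := by
  intro g hg
  refine mem_extender.2 ⟨hg.1, Subgroup.centralizer_le_normalizer _ hg.2, 1, S.one_mem, fun x hx => ?_⟩
  simp only [(mem_centralizerIn'.1 hg).2 x x.2]
  simp

/-- `g ∈ N_φ` once `g ∈ N_S(P)` and some element of `S` induces the transported action. -/
theorem mem_extender_of {P : Subgroup Ω} {φ : P →* Ω} {g h : Ω} (hg : g ∈ normalizerIn S P) (hh : h ∈ S)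
    (e : ∀ (x : P) (hx : g * (x : Ω) * g⁻¹ ∈ P), φ ⟨g * x * g⁻¹, hx⟩ = h * φ x * h⁻¹) :
    g ∈ extender S P φ :=
  mem_extender.2 ⟨hg.1, hg.2, h, hh, e⟩

/-- A map extending `φ` from a subgroup normalising `P` has its values normalising the image. -/
theorem ext_apply_conj {P R : Subgroup Ω} {φ : P →* Ω} {ψ : R →* Ω} (hPR : P ≤ R)
    (he : ∀ (x : Ω) (hP : x ∈ P) (hR : x ∈ R), ψ ⟨x, hR⟩ = φ ⟨x, hP⟩) (g : R) (x : P)
    (hx : (g : Ω) * x * (g : Ω)⁻¹ ∈ P) : φ ⟨g * x * (g : Ω)⁻¹, hx⟩ = ψ g * φ x * (ψ g)⁻¹ := by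
  rw [← he _ hx (R.mul_mem (R.mul_mem g.2 (hPR x.2)) (R.inv_mem g.2)), ← he x x.2 (hPR x.2),
    ← map_inv, ← map_mul, ← map_mul]
  rfl

theorem ext_apply_mem_normalizer {P R Q : Subgroup Ω} [Finite Q] {φ : P →* Ω} {ψ : R →* Ω} (hPR : P ≤ R)
    (he : ∀ (x : Ω) (hP : x ∈ P) (hR : x ∈ R), ψ ⟨x, hR⟩ = φ ⟨x, hP⟩) (hQ : φ.range = Q) (g : R)
    (hg : (g : Ω) ∈ Subgroup.normalizer (P : Set Ω)) : ψ g ∈ Subgroup.normalizer (Q : Set Ω) := by
  refine mem_normalizer_of_conj_mem fun y hy => ?_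
  obtain ⟨x, rfl⟩ := hQ.ge hy
  rw [← ext_apply_conj hPR he g x (conj_mem_of_normalizer hg x.2)]
  exact hQ.le ⟨_, rfl⟩

/-! ### Existence of fully normalized / centralized conjugates -/

theorem finite_subgroups_le [Finite S] : Finite {Q : Subgroup Ω // Q ≤ S} :=
  Finite.of_injective (fun Q => Q.1.subgroupOf S) fun Q R h => Subtype.ext (by
    have h' := congrArg (Subgroup.map S.subtype) h
    simpa [Subgroup.map_subgroupOf_eq_of_le Q.2, Subgroup.map_subgroupOf_eq_of_le R.2] using h')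

theorem exists_isFullyNormalized [Finite S] (F : FusionSystem S) {P : Subgroup Ω} (hP : P ≤ S) :
    ∃ Q, F.IsConj P Q ∧ F.IsFullyNormalized Q := by
  haveI := finite_subgroups_le (S := S)
  haveI : Nonempty {Q : {Q : Subgroup Ω // Q ≤ S} // F.IsConj P Q.1} := ⟨⟨⟨P, hP⟩, isConj_refl F hP⟩⟩
  obtain ⟨⟨⟨Q, hQ⟩, hPQ⟩, hmax⟩ := Finite.exists_max
    fun Q : {Q : {Q : Subgroup Ω // Q ≤ S} // F.IsConj P Q.1} => Nat.card (normalizerIn S Q.1.1)
  exact ⟨Q, hPQ, hQ, fun R hR => hmax ⟨⟨R, isConj_le_right hR⟩, isConj_trans hPQ hR⟩⟩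

theorem exists_isFullyCentralized [Finite S] (F : FusionSystem S) {P : Subgroup Ω} (hP : P ≤ S) :
    ∃ Q, F.IsConj P Q ∧ F.IsFullyCentralized Q := by
  haveI := finite_subgroups_le (S := S)
  haveI : Nonempty {Q : {Q : Subgroup Ω // Q ≤ S} // F.IsConj P Q.1} := ⟨⟨⟨P, hP⟩, isConj_refl F hP⟩⟩
  obtain ⟨⟨⟨Q, hQ⟩, hPQ⟩, hmax⟩ := Finite.exists_max
    fun Q : {Q : {Q : Subgroup Ω // Q ≤ S} // F.IsConj P Q.1} => Nat.card (centralizerIn S Q.1.1)
  exact ⟨Q, hPQ, hQ, fun R hR => hmax ⟨⟨R, isConj_le_right hR⟩, isConj_trans hPQ hR⟩⟩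

end Cfsg.Agent.Lib.FS
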