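import Mathlib
import Cfsg.Agent.Lib.FusionSystem.Basic

/-!
Saturation: receptive subgroups, fully automized subgroups, and the equivalent definitions.
-/

set_option autoImplicit false
set_option linter.style.haveILetI false

namespace Cfsg.Agent.Lib.FS

open Cfsg Cfsg.FusionSystem

variable {Ω : Type*} [Group Ω] {S : Subgroup Ω} {F : FusionSystem S}

/-- Conjugate a `p`-subgroup of `A` into a Sylow subgroup of `A`, all seen in the ambient group. -/
theorem exists_conj_le_sylow {G : Type*} [Group G] {p : ℕ} [Fact p.Prime] {A : Subgroup G} [Finite A]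
    (R : Sylow p A) {R₀ : Subgroup G} (hR : (R : Subgroup A) = R₀.subgroupOf A) {T : Subgroup G}
    (hTA : T ≤ A) (hT : IsPGroup p T) : ∃ a ∈ A, ∀ t ∈ T, a * t * a⁻¹ ∈ R₀ := by
  have hT' : IsPGroup p (T.subgroupOf A) := hT.of_equiv (Subgroup.subgroupOfEquivOfLe hTA).symm
  obtain ⟨Q, hQ⟩ := hT'.exists_le_sylow
  obtain ⟨a, ha⟩ := MulAction.exists_smul_eq A Q R
  refine ⟨a, a.2, fun t ht => ?_⟩
  have h1 : (⟨t, hTA ht⟩ : A) ∈ Q := hQ (Subgroup.mem_subgroupOf.2 ht)
  have h2 : a * ⟨t, hTA ht⟩ * a⁻¹ ∈ (R : Subgroup A) := by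
    rw [← ha, Sylow.coe_subgroup_smul]
    exact Subgroup.smul_mem_pointwise_smul _ (MulAut.conj a) _ h1
  rw [hR, Subgroup.mem_subgroupOf] at h2
  exact h2

theorem map_subgroupOf_eq_range {P R : Subgroup Ω} (h : P ≤ R) (ψ : R →* Ω) :
    (P.subgroupOf R).map ψ = (ψ.comp (Subgroup.inclusion h)).range := by
  rw [MonoidHom.range_comp]
  congr 1
  ext ⟨y, hy⟩
  exact ⟨fun hP => ⟨⟨y, Subgroup.mem_subgroupOf.1 hP⟩, rfl⟩,
    fun ⟨x, hx⟩ => Subgroup.mem_subgroupOf.2 (congrArg Subtype.val hx ▸ x.2)⟩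

/-- For an injective map `ψ` on `R ≥ P`: `ψ g` centralizes `ψ(P)` iff `g` centralizes `P`. -/
theorem apply_mem_centralizerIn_iff {P Q R : Subgroup Ω} {ψ : R →* Ω} (hψ : ψ ∈ F.Hom R) (h : P ≤ R)
    (hQ : (P.subgroupOf R).map ψ = Q) (g : R) :
    ψ g ∈ centralizerIn S Q ↔ (g : Ω) ∈ centralizerIn S P := by
  subst hQ
  simp only [mem_centralizerIn]
  constructor
  · rintro ⟨-, hc⟩
    refine ⟨src_le hψ g.2, fun x hx => ?_⟩
    have := hc (ψ ⟨x, h hx⟩) ⟨⟨x, h hx⟩, Subgroup.mem_subgroupOf.2 hx, rfl⟩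
    rw [← map_mul, ← map_mul] at this
    exact congrArg Subtype.val (F.injective_of_mem hψ this)
  · rintro ⟨-, hc⟩
    refine ⟨apply_mem hψ g, ?_⟩
    rintro _ ⟨x, hx, rfl⟩
    rw [← map_mul, ← map_mul]
    exact congrArg ψ (Subtype.ext (hc x (Subgroup.mem_subgroupOf.1 hx)))

theorem apply_mem_normalizerIn {P Q R : Subgroup Ω} [Finite S] {ψ : R →* Ω} (hψ : ψ ∈ F.Hom R)
    (h : P ≤ R) (hQ : (P.subgroupOf R).map ψ = Q) (g : R)
    (hg : (g : Ω) ∈ Subgroup.normalizer (P : Set Ω)) : ψ g ∈ normalizerIn S Q := by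
  subst hQ
  haveI : Finite ((P.subgroupOf R).map ψ) :=
    finite_sub (P := (P.subgroupOf R).map ψ) fun y hy => by
      obtain ⟨x, -, rfl⟩ := hy
      exact apply_mem hψ x
  refine ⟨apply_mem hψ g, ext_apply_mem_normalizer (φ := ψ.comp (Subgroup.inclusion h)) h
    (fun x _ _ => rfl) (map_subgroupOf_eq_range h ψ).symm g hg⟩

/-! ### Receptive subgroups are fully centralized -/

theorem card_centralizerIn_le_of_receptive [Finite S] {P Q : Subgroup Ω} (hQ : F.IsReceptive Q)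
    (h : F.IsConj P Q) : Nat.card (centralizerIn S P) ≤ Nat.card (centralizerIn S Q) := by
  obtain ⟨φ, hφ, hPQ⟩ := h
  obtain ⟨ψ, hψ, he⟩ := hQ.2 P φ hφ hPQ
  have hPE : P ≤ extender S P φ := le_extender (src_le hφ) (apply_mem hφ)
  have hC := centralizerIn_le_extender (S := S) P φ
  have hmap : (P.subgroupOf (extender S P φ)).map ψ = Q := by
    rw [map_subgroupOf_eq_range hPE, ← hPQ]
    congr 1
    ext x
    exact he x x.2 (hPE x.2)
  haveI : Finite (centralizerIn S Q) := finite_sub (centralizerIn_le Q)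
  refine Nat.card_le_card_of_injective (fun c : centralizerIn S P =>
    (⟨ψ ⟨c, hC c.2⟩, (apply_mem_centralizerIn_iff hψ hPE hmap _).2 c.2⟩ : centralizerIn S Q)) ?_
  intro a b hab
  exact Subtype.ext (congrArg (fun z : extender S P φ => (z : Ω))
    (F.injective_of_mem hψ (congrArg Subtype.val hab)))

theorem isFullyCentralized_of_receptive [Finite S] {P : Subgroup Ω} (hP : F.IsReceptive P) :
    F.IsFullyCentralized P :=
  ⟨hP.1, fun _ hQ => card_centralizerIn_le_of_receptive hP (isConj_symm hQ)⟩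

/-! ### Fully automized and receptive subgroups -/

section FAR

variable [Finite S] {p : ℕ} [Fact p.Prime]

/-- If `Q` is fully automized and receptive, a map `P → Q` extends to `N_S(P) → N_S(Q)` after composing
with an element of `Aut_F(Q)`. -/
theorem exists_twist_extension (hS : IsPGroup p S) {P Q : Subgroup Ω} (h₁ : F.IsFullyAutomized p Q)
    (h₂ : F.IsReceptive Q) {φ : P →* Ω} (hφ : φ ∈ F.Hom P) (hPQ : φ.range = Q) :
    ∃ a ∈ F.autGroup Q, ∃ ψ ∈ F.Hom (normalizerIn S P), (∀ x, ψ x ∈ normalizerIn S Q) ∧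
      (P.subgroupOf (normalizerIn S P)).map ψ = Q ∧
      ∀ (x : P) (hx : (x : Ω) ∈ normalizerIn S P) (hy : φ x ∈ Q), ψ ⟨x, hx⟩ = a ⟨φ x, hy⟩ := by
  have hP := src_le hφ
  haveI := finite_sub hP
  haveI := finite_sub h₁.1
  obtain ⟨R, hR⟩ := h₁.2
  have hTA : (autInducedBy S P).map (MulAut.congr (homEquiv hφ hPQ)).toMonoidHom ≤ F.autGroup Q := by
    rintro _ ⟨α, hα, rfl⟩
    exact congr_mem_autGroup hφ hPQ (autInducedBy_le_autGroup F hP hα)
  obtain ⟨a, ha, hconj⟩ := exists_conj_le_sylow R hR hTA ((isPGroup_autInducedBy hS P).map _)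
  obtain ⟨τ, hτ, hτQ, hτa⟩ := exists_hom_of_aut h₁.1 ha
  obtain ⟨φ', hφ', hφ'e⟩ := exists_comp hφ hτ fun x => hPQ.le ⟨x, rfl⟩
  have hval : ∀ x : P, φ' x = a (homEquiv hφ hPQ x) := fun x => by
    rw [hφ'e, hτa]; rfl
  have hφ'Q : φ'.range = Q :=
    range_eq_of_mem hφ' (fun x => by rw [hval]; exact SetLike.coe_mem _)
      (isConj_card ⟨φ, hφ, hPQ⟩).le
  have hPN : P ≤ normalizerIn S P := le_normalizerIn hP
  have hN : normalizerIn S P ≤ extender S P φ' := by
    intro g hg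
    have hgα : (P.normalizerMonoidHom ⟨g, hg.2⟩ : MulAut P) ∈ autInducedBy S P :=
      mem_autInducedBy.2 ⟨g, hg.1, fun _ => rfl⟩
    obtain ⟨h, hh, he⟩ := mem_autInducedBy.1 (hconj _ ⟨_, hgα, rfl⟩)
    refine mem_extender_of hg hh fun x hx => ?_
    rw [hval, hval, ← he (a (homEquiv hφ hPQ x))]
    congr 1
    simp only [MulAut.mul_apply, MulAut.inv_apply_self]
    show _ = a (MulAut.congr (homEquiv hφ hPQ) (P.normalizerMonoidHom ⟨g, hg.2⟩) (homEquiv hφ hPQ x))
    congr 1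
    show _ = homEquiv hφ hPQ (P.normalizerMonoidHom ⟨g, hg.2⟩ ((homEquiv hφ hPQ).symm (homEquiv hφ hPQ x)))
    rw [MulEquiv.symm_apply_apply]
    rfl
  obtain ⟨ψ₀, hψ₀, he₀⟩ := h₂.2 P φ' hφ' hφ'Q
  obtain ⟨ψ, hψ, heψ⟩ := exists_restrict hψ₀ hN
  have hPψ : (P.subgroupOf (normalizerIn S P)).map ψ = Q := by
    rw [map_subgroupOf_eq_range hPN, ← hφ'Q]
    congr 1
    ext x
    exact (heψ _).trans (he₀ x x.2 _)
  refine ⟨a, ha, ψ, hψ, fun g => apply_mem_normalizerIn hψ hPN hPψ g g.2.2, hPψ, fun x hx hy => ?_⟩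
  rw [heψ, he₀ x x.2, hval]
  rfl

theorem exists_normalizer_map_far (hS : IsPGroup p S) {P Q : Subgroup Ω} (h₁ : F.IsFullyAutomized p Q)
    (h₂ : F.IsReceptive Q) (hPQ : F.IsConj P Q) :
    ∃ ψ ∈ F.Hom (normalizerIn S P), (∀ x, ψ x ∈ normalizerIn S Q) ∧
      (P.subgroupOf (normalizerIn S P)).map ψ = Q := by
  obtain ⟨φ, hφ, hr⟩ := hPQ
  obtain ⟨a, -, ψ, hψ, hm, hP, -⟩ := exists_twist_extension hS h₁ h₂ hφ hr
  exact ⟨ψ, hψ, hm, hP⟩

theorem card_le_of_hom {P : Subgroup Ω} {φ : P →* Ω} (hφ : φ ∈ F.Hom P) {Q : Subgroup Ω} [Finite Q]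
    (h : ∀ x, φ x ∈ Q) : Nat.card P ≤ Nat.card Q :=
  Nat.card_le_card_of_injective (fun x : P => (⟨φ x, h x⟩ : Q)) fun _ _ e =>
    F.injective_of_mem hφ (congrArg Subtype.val e)

theorem isFullyNormalized_of_far (hS : IsPGroup p S) {Q : Subgroup Ω} (h₁ : F.IsFullyAutomized p Q)
    (h₂ : F.IsReceptive Q) : F.IsFullyNormalized Q := by
  refine ⟨h₁.1, fun P hP => ?_⟩
  obtain ⟨ψ, hψ, hm, -⟩ := exists_normalizer_map_far hS h₁ h₂ (isConj_symm hP)
  haveI : Finite (normalizerIn S Q) := finite_sub (normalizerIn_le Q)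
  exact card_le_of_hom hψ hm

/-- A `p`-subgroup `R₀ ≤ A` of the order of a Sylow subgroup of `A` is a Sylow subgroup of `A`. -/
theorem exists_sylow_of_card {G : Type*} [Group G] {p : ℕ} [Fact p.Prime] {A R₀ : Subgroup G} [Finite A]
    (hRA : R₀ ≤ A) (hc : Nat.card R₀ = p ^ (Nat.card A).factorization p) :
    ∃ R : Sylow p A, (R : Subgroup A) = R₀.subgroupOf A :=
  ⟨Sylow.ofCard _ ((Nat.card_congr (Subgroup.subgroupOfEquivOfLe hRA).toEquiv).trans hc), rfl⟩

theorem card_autInducedBy_of_fullyAutomized {P : Subgroup Ω} (h : F.IsFullyAutomized p P) :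
    Nat.card (autInducedBy S P) = p ^ (Nat.card (F.autGroup P)).factorization p := by
  obtain ⟨R, hR⟩ := h.2
  haveI := finite_sub h.1
  rw [← Sylow.card_eq_multiplicity R, hR]
  exact (Nat.card_congr (Subgroup.subgroupOfEquivOfLe (autInducedBy_le_autGroup F h.1)).toEquiv).symm

theorem isFullyAutomized_of_card {P : Subgroup Ω} (hP : P ≤ S)
    (hc : Nat.card (autInducedBy S P) = p ^ (Nat.card (F.autGroup P)).factorization p) :
    F.IsFullyAutomized p P := by
  haveI := finite_sub hP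
  exact ⟨hP, exists_sylow_of_card (autInducedBy_le_autGroup F hP) hc⟩

/-- If `ψ : N_S(P) → N_S(Q)` is onto and carries `P` onto `Q`, the centralizers have equal orders. -/
theorem card_centralizerIn_eq {P Q : Subgroup Ω} {ψ : normalizerIn S P →* Ω}
    (hψ : ψ ∈ F.Hom (normalizerIn S P)) (hP : P ≤ S) (hr : ψ.range = normalizerIn S Q)
    (hPQ : (P.subgroupOf (normalizerIn S P)).map ψ = Q) :
    Nat.card (centralizerIn S P) = Nat.card (centralizerIn S Q) := by
  refine Nat.card_congr (Equiv.ofBijective (fun c : centralizerIn S P =>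
    (⟨ψ ⟨c, centralizerIn_le_normalizerIn P c.2⟩,
      (apply_mem_centralizerIn_iff hψ (le_normalizerIn hP) hPQ _).2 c.2⟩ : centralizerIn S Q)) ⟨?_, ?_⟩)
  · intro a b hab
    exact Subtype.ext (congrArg (fun z : normalizerIn S P => (z : Ω))
      (F.injective_of_mem hψ (congrArg Subtype.val hab)))
  · rintro ⟨d, hd⟩
    obtain ⟨g, hg⟩ := hr.ge (centralizerIn_le_normalizerIn Q hd)
    exact ⟨⟨g, (apply_mem_centralizerIn_iff hψ (le_normalizerIn hP) hPQ g).1 (hg ▸ hd)⟩, Subtype.ext hg⟩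

/-- In a saturated system a fully centralized subgroup is receptive. -/
theorem receptive_of_fullyCentralized (hS : IsPGroup p S) (hF : F.IsSaturated p) {P : Subgroup Ω}
    (hP : F.IsFullyCentralized P) : F.IsReceptive P := by
  refine ⟨hP.1, fun R φ hφ hr => ?_⟩
  subst hr
  obtain ⟨Q, hPQ, h₁, h₂⟩ := hF φ.range hP.1
  obtain ⟨ψ, hψ, -, hψQ⟩ := exists_normalizer_map_far hS h₁ h₂ hPQ
  have hPN := le_normalizerIn hP.1
  haveI : Finite φ.range := finite_sub hP.1
  -- `φ' = ψ ∘ φ`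
  obtain ⟨φ', hφ', he'⟩ := exists_comp hφ hψ fun x => hPN ⟨x, rfl⟩
  have hφ'Q : φ'.range = Q := by
    rw [← hψQ]
    ext y
    constructor
    · rintro ⟨x, rfl⟩
      exact ⟨⟨φ x, hPN ⟨x, rfl⟩⟩, Subgroup.mem_subgroupOf.2 ⟨x, rfl⟩, (he' x).symm⟩
    · rintro ⟨z, hz, rfl⟩
      obtain ⟨x, hx⟩ := Subgroup.mem_subgroupOf.1 hz
      exact ⟨x, (he' x).trans (congrArg ψ (Subtype.ext hx))⟩
  obtain ⟨χ, hχ, heχ⟩ := h₂.2 R φ' hφ' hφ'Q
  have hR := src_le hφ
  -- `N_φ ≤ N_φ'`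
  have key : ∀ g ∈ extender S R φ, g ∈ extender S R φ' ∧ ∃ h : normalizerIn S φ.range,
      ∀ (x : R) (hx : g * (x : Ω) * g⁻¹ ∈ R), φ' ⟨g * x * g⁻¹, hx⟩ = ψ h * φ' x * (ψ h)⁻¹ := by
    intro g hg
    obtain ⟨hgS, hgN, h, hh, he⟩ := mem_extender.1 hg
    have hhN : h ∈ normalizerIn S φ.range := by
      refine ⟨hh, mem_normalizer_of_conj_mem ?_⟩
      rintro _ ⟨x, rfl⟩
      rw [← he x (conj_mem_of_normalizer hgN x.2)]
      exact ⟨_, rfl⟩
    have he'' : ∀ (x : R) (hx : g * (x : Ω) * g⁻¹ ∈ R),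
        φ' ⟨g * x * g⁻¹, hx⟩ = ψ ⟨h, hhN⟩ * φ' x * (ψ ⟨h, hhN⟩)⁻¹ := by
      intro x hx
      rw [he', he', ← map_inv, ← map_mul, ← map_mul]
      exact congrArg ψ (Subtype.ext (he x hx))
    exact ⟨mem_extender_of ⟨hgS, hgN⟩ (apply_mem hψ _) he'', ⟨h, hhN⟩, he''⟩
  -- `ψ` maps `C_S(P)` onto `C_S(Q)`
  have hCsurj : ∀ c ∈ centralizerIn S Q, ∃ z, ψ z = c := by
    have hC := centralizerIn_le_normalizerIn (S := S) φ.range
    obtain ⟨τ, hτ, heτ⟩ := exists_restrict hψ hC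
    haveI : Finite (centralizerIn S Q) := finite_sub (centralizerIn_le Q)
    have hτr : τ.range = centralizerIn S Q := by
      refine range_eq_of_mem hτ (fun c => ?_) (hP.2 Q hPQ)
      rw [heτ]; exact (apply_mem_centralizerIn_iff hψ hPN hψQ _).2 c.2
    intro c hc
    obtain ⟨z, hz⟩ := hτr.ge hc
    exact ⟨_, (heτ z).symm.trans hz⟩
  obtain ⟨χ', hχ', heχ'⟩ := exists_restrict hχ (fun g hg => (key g hg).1)
  -- values of `χ'` lie in the image of `ψ`
  have hval : ∀ g, χ' g ∈ ψ.range := by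
    intro g
    obtain ⟨hge, h, he⟩ := key g g.2
    have hgN : (g : Ω) ∈ Subgroup.normalizer (R : Set Ω) := (mem_extender.1 g.2).2.1
    have hc : (ψ h)⁻¹ * χ' g ∈ centralizerIn S Q := by
      refine mem_centralizerIn'.2 ⟨S.mul_mem (S.inv_mem (apply_mem hψ _)) (apply_mem hχ' _), fun y hy => ?_⟩
      obtain ⟨x, rfl⟩ := hφ'Q.ge hy
      have hx := conj_mem_of_normalizer hgN x.2
      have e1 := ext_apply_conj (φ := φ') (ψ := χ) (le_extender hR (apply_mem hφ'))
        (fun x a b => heχ x a b) ⟨g, hge⟩ x hx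
      rw [he x hx, ← heχ'] at e1
      calc (ψ h)⁻¹ * χ' g * φ' x * ((ψ h)⁻¹ * χ' g)⁻¹
          = (ψ h)⁻¹ * (χ' g * φ' x * (χ' g)⁻¹) * ψ h := by group
        _ = (ψ h)⁻¹ * (ψ h * φ' x * (ψ h)⁻¹) * ψ h := by rw [← e1]
        _ = φ' x := by group
    obtain ⟨z, hz⟩ := hCsurj _ hc
    exact ⟨h * z, by rw [map_mul, hz]; group⟩
  obtain ⟨ψi, hψi, -, hψl, -⟩ := exists_inv hψ rfl
  obtain ⟨θ, hθ, heθ⟩ := exists_comp hχ' hψi hval
  refine ⟨θ, hθ, fun x hx hN => ?_⟩
  rw [heθ]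
  have e : χ' ⟨x, hN⟩ = ψ ⟨φ ⟨x, hx⟩, hPN ⟨_, rfl⟩⟩ := by rw [heχ', heχ x hx, he']
  simp only [e]
  exact hψl _ _

/-- In a saturated system a fully normalized subgroup is fully centralized, fully automized and receptive. -/
theorem fullyNormalized_props (hS : IsPGroup p S) (hF : F.IsSaturated p) {P : Subgroup Ω}
    (hP : F.IsFullyNormalized P) :
    F.IsFullyCentralized P ∧ F.IsFullyAutomized p P ∧ F.IsReceptive P := by
  obtain ⟨Q, hPQ, h₁, h₂⟩ := hF P hP.1
  obtain ⟨ψ, hψ, hm, hψQ⟩ := exists_normalizer_map_far hS h₁ h₂ hPQ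
  haveI : Finite (normalizerIn S Q) := finite_sub (normalizerIn_le Q)
  have hr : ψ.range = normalizerIn S Q := range_eq_of_mem hψ hm (hP.2 Q hPQ)
  have hC := card_centralizerIn_eq hψ hP.1 hr hψQ
  have hfc : F.IsFullyCentralized P :=
    ⟨hP.1, fun R hR => hC ▸ card_centralizerIn_le_of_receptive h₂ (isConj_trans (isConj_symm hR) hPQ)⟩
  refine ⟨hfc, ?_, receptive_of_fullyCentralized hS hF hfc⟩
  refine isFullyAutomized_of_card hP.1 ?_
  have h3 : Nat.card (normalizerIn S P) = Nat.card (normalizerIn S Q) := by rw [← hr, card_range hψ]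
  rw [card_normalizerIn, card_normalizerIn, hC] at h3
  haveI : Finite (centralizerIn S Q) := finite_sub (centralizerIn_le Q)
  rw [Nat.eq_of_mul_eq_mul_right Nat.card_pos h3, card_autInducedBy_of_fullyAutomized h₁,
    card_autGroup_of_isConj hPQ]

theorem fullyAutomized_of_fullyNormalized (hS : IsPGroup p S) (hF : F.IsSaturated p) {P : Subgroup Ω}
    (hP : F.IsFullyNormalized P) : F.IsFullyAutomized p P :=
  (fullyNormalized_props hS hF hP).2.1

theorem receptive_of_fullyNormalized (hS : IsPGroup p S) (hF : F.IsSaturated p) {P : Subgroup Ω}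
    (hP : F.IsFullyNormalized P) : F.IsReceptive P :=
  (fullyNormalized_props hS hF hP).2.2

/-- A map `N_S(P) → N_S(Q)` onto `Q` when `Q` is fully normalized in a saturated system. -/
theorem exists_normalizer_map (hS : IsPGroup p S) (hF : F.IsSaturated p) {P Q : Subgroup Ω}
    (hQ : F.IsFullyNormalized Q) (hPQ : F.IsConj P Q) :
    ∃ ψ ∈ F.Hom (normalizerIn S P), (∀ x, ψ x ∈ normalizerIn S Q) ∧
      (P.subgroupOf (normalizerIn S P)).map ψ = Q :=
  exists_normalizer_map_far hS (fullyAutomized_of_fullyNormalized hS hF hQ)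
    (receptive_of_fullyNormalized hS hF hQ) hPQ

theorem isFullyNormalized_base (F : FusionSystem S) : F.IsFullyNormalized S := by
  refine ⟨le_rfl, fun Q hQ => ?_⟩
  have hQS : Q = S := Subgroup.eq_of_le_of_card_ge (isConj_le_right hQ) (isConj_card hQ).ge
  rw [hQS]

theorem isFullyAutomized_base (hS : IsPGroup p S) (hF : F.IsSaturated p) : F.IsFullyAutomized p S :=
  fullyAutomized_of_fullyNormalized hS hF (isFullyNormalized_base F)

end FAR

/-! ### The equivalent definition: `Aut_S(S)` Sylow and fully normalized subgroups receptive -/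

section RS

variable [Finite S] {p : ℕ} [Fact p.Prime]

theorem exists_pow_pElement {G : Type*} [Group G] [Finite G] {p : ℕ} [Fact p.Prime] (x : G) :
    ∃ n : ℕ, ¬ p ∣ n ∧ ∃ k, orderOf (x ^ n) = p ^ k := by
  refine ⟨orderOf x / p ^ (orderOf x).factorization p,
    Nat.not_dvd_ordCompl Fact.out (orderOf_pos x).ne', (orderOf x).factorization p, ?_⟩
  have h1 := Nat.ordProj_mul_ordCompl_eq_self (orderOf x) p
  set m := orderOf x / p ^ (orderOf x).factorization p
  generalize (orderOf x).factorization p = a at h1 ⊢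
  have hm0 : m ≠ 0 := fun h => (orderOf_pos x).ne' (by rw [← h1, h, mul_zero])
  rw [orderOf_pow_of_dvd hm0 ⟨_, by rw [mul_comm]; exact h1.symm⟩, ← h1,
    Nat.mul_div_cancel _ (Nat.pos_of_ne_zero hm0)]

theorem mem_of_pow_mem_of_coprime {G : Type*} [Group G] {H : Subgroup G} {x : G} {n k : ℕ}
    (hk : orderOf x = p ^ k) (hn : ¬ p ∣ n) (h : x ^ n ∈ H) : x ∈ H := by
  have hco : (orderOf x).Coprime n := by
    rw [hk]; exact ((Nat.Prime.coprime_iff_not_dvd Fact.out).2 hn).pow_left k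
  obtain ⟨m, hm⟩ := exists_pow_eq_self_of_coprime hco.symm
  rw [← hm]; exact pow_mem h m

theorem normalizerIn_ne_of_lt (hS : IsPGroup p S) {P : Subgroup Ω} (hP : P < S) : P < normalizerIn S P := by
  haveI : Group.IsNilpotent S := hS.isNilpotent
  refine lt_of_le_of_ne (le_normalizerIn hP.le) fun he => ?_
  have h1 : P.subgroupOf S < ⊤ := lt_top_iff_ne_top.2 fun h =>
    hP.not_ge (Subgroup.subgroupOf_eq_top.1 h)
  refine (Group.normalizerCondition_of_isNilpotent _ h1).ne ?_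
  rw [← Subgroup.subgroupOf_normalizer_eq hP.le]
  ext g
  rw [Subgroup.mem_subgroupOf, Subgroup.mem_subgroupOf]
  exact ⟨fun h => Subgroup.le_normalizer h, fun h => he ▸ ⟨g.2, h⟩⟩

theorem fullyAutomized_of_receptive_criterion (hS : IsPGroup p S) (hSS : F.IsFullyAutomized p S)
    (hrec : ∀ P : Subgroup Ω, F.IsFullyNormalized P → F.IsReceptive P) :
    ∀ P : Subgroup Ω, F.IsFullyNormalized P → F.IsFullyAutomized p P := by
  suffices h : ∀ n, ∀ P : Subgroup Ω, Nat.card S - Nat.card P < n → F.IsFullyNormalized P →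
      F.IsFullyAutomized p P from fun P => h _ P (Nat.lt_succ_self _)
  intro n
  induction n with
  | zero => exact fun P h => absurd h (Nat.not_lt_zero _)
  | succ n ih =>
    intro P hn hP
    rcases eq_or_lt_of_le hP.1 with rfl | hPS
    · exact hSS
    haveI := finite_sub hP.1
    by_contra hcon
    have hA := autInducedBy_le_autGroup F hP.1
    -- a Sylow subgroup properly containing `Aut_S(P)`
    set R₀ := (autInducedBy S P).subgroupOf (F.autGroup P)
    have hR₀ : IsPGroup p R₀ := (isPGroup_autInducedBy hS P).of_equiv (Subgroup.subgroupOfEquivOfLe hA).symm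
    obtain ⟨T, hT⟩ := hR₀.exists_le_sylow
    have hlt : R₀ < (T : Subgroup (F.autGroup P)) := lt_of_le_of_ne hT fun h => hcon ⟨hP.1, T, h.symm⟩
    haveI : Group.IsNilpotent T := T.isPGroup'.isNilpotent
    have hlt' : R₀.subgroupOf (T : Subgroup (F.autGroup P)) < ⊤ := lt_top_iff_ne_top.2 fun h =>
      hlt.not_ge (Subgroup.subgroupOf_eq_top.1 h)
    obtain ⟨⟨⟨α, hα⟩, hαT⟩, hαN, hαn⟩ :=
      SetLike.exists_of_lt (Group.normalizerCondition_of_isNilpotent _ hlt')
    have hαnot : α ∉ autInducedBy S P := fun h => hαn (by simpa [Subgroup.mem_subgroupOf, R₀] using h)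
    have hαnorm : ∀ β ∈ autInducedBy S P, α * β * α⁻¹ ∈ autInducedBy S P := by
      intro β hβ
      have := (hαN ⟨⟨β, hA hβ⟩, hT (Subgroup.mem_subgroupOf.2 hβ)⟩).1
        (Subgroup.mem_subgroupOf.2 (Subgroup.mem_subgroupOf.2 hβ))
      exact Subgroup.mem_subgroupOf.1 (Subgroup.mem_subgroupOf.1 this)
    obtain ⟨k, hk⟩ := (T.isPGroup' ⟨⟨α, hα⟩, hαT⟩)
    have hαp : α ^ p ^ k = 1 := congrArg (fun z : T => ((z : F.autGroup P) : MulAut P)) hk
    obtain ⟨φ, hφ, hφP, hφα⟩ := exists_hom_of_aut hP.1 hα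
    -- `α` extends to `N_S(P)`
    have hPN := le_normalizerIn hP.1
    have hN : normalizerIn S P ≤ extender S P φ := by
      intro g hg
      obtain ⟨h, hh, he⟩ := mem_autInducedBy.1 (hαnorm (P.normalizerMonoidHom ⟨g, hg.2⟩)
        (mem_autInducedBy.2 ⟨g, hg.1, fun _ => rfl⟩))
      refine mem_extender_of hg hh fun x hx => ?_
      rw [hφα, hφα, ← he (α x), MulAut.mul_apply, MulAut.mul_apply, MulAut.inv_apply_self]
      rfl
    obtain ⟨ψ₀, hψ₀, he₀⟩ := (hrec P hP).2 P φ hφ hφP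
    obtain ⟨ψ, hψ, heψ⟩ := exists_restrict hψ₀ hN
    haveI := finite_sub (normalizerIn_le (S := S) P)
    have hPψ : (P.subgroupOf (normalizerIn S P)).map ψ = P := by
      rw [map_subgroupOf_eq_range hPN]
      conv_rhs => rw [← hφP]
      congr 1
      ext x
      exact (heψ _).trans (he₀ x x.2 _)
    have hψr : ψ.range = normalizerIn S P :=
      range_eq_of_mem hψ (fun g => apply_mem_normalizerIn hψ hPN hPψ g g.2.2) le_rfl
    -- make it a `p`-element
    set β : MulAut (normalizerIn S P) := homEquiv hψ hψr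
    have hβ : β ∈ F.autGroup (normalizerIn S P) := homEquiv_mem_autGroup hψ hψr
    have hβα : ∀ x : P, β (Subgroup.inclusion hPN x) = Subgroup.inclusion hPN (α x) := fun x =>
      Subtype.ext (((heψ _).trans (he₀ (x : Ω) x.2 _)).trans (hφα x))
    obtain ⟨m, hm, j, hj⟩ := exists_pow_pElement (p := p) β
    have hβm : ∀ (i : ℕ) (x : P),
        (β ^ i) (Subgroup.inclusion hPN x) = Subgroup.inclusion hPN ((α ^ i) x) := by
      intro i
      induction i with
      | zero => intro x; rfl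
      | succ i hi => intro x; rw [pow_succ, pow_succ, MulAut.mul_apply, MulAut.mul_apply, hβα, hi]
    have hαm : α ^ m ∉ autInducedBy S P := fun h => by
      obtain ⟨l, -, hl⟩ := (Nat.dvd_prime_pow Fact.out).1 (orderOf_dvd_of_pow_eq_one hαp)
      exact hαnot (mem_of_pow_mem_of_coprime hl hm h)
    -- move to a fully normalized conjugate of `N_S(P)`
    obtain ⟨Q, hNQ, hQ⟩ := exists_isFullyNormalized F (normalizerIn_le (S := S) P)
    have hlt2 := normalizerIn_ne_of_lt hS hPS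
    have hcard : Nat.card P < Nat.card (normalizerIn S P) :=
      lt_of_le_of_ne (Subgroup.card_le_of_le hPN) fun h => hlt2.ne (Subgroup.eq_of_le_of_card_ge hPN h.ge)
    have hQa : F.IsFullyAutomized p Q := by
      refine ih Q ?_ hQ
      have hc2 := isConj_card hNQ
      have : Nat.card (normalizerIn S P) ≤ Nat.card S := Subgroup.card_le_of_le (normalizerIn_le P)
      omega
    obtain ⟨χ, hχ, hχQ⟩ := hNQ
    obtain ⟨R, hR⟩ := hQa.2
    haveI := finite_sub hQ.1
    set B := MulAut.congr (homEquiv hχ hχQ) (β ^ m) with hB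
    have hBA : B ∈ F.autGroup Q := congr_mem_autGroup hχ hχQ (pow_mem hβ m)
    have hBp : IsPGroup p (Subgroup.zpowers B) := by
      refine IsPGroup.of_card (n := j) ?_
      rw [Nat.card_zpowers, hB, MulEquiv.orderOf_eq, hj]
    obtain ⟨γ, hγ, hconj⟩ := exists_conj_le_sylow R hR
      (Subgroup.zpowers_le.2 hBA) hBp
    obtain ⟨s, hs, hse⟩ := mem_autInducedBy.1 (hconj B (Subgroup.mem_zpowers B))
    obtain ⟨τ, hτ, -, hτγ⟩ := exists_hom_of_aut hQ.1 hγ
    obtain ⟨χ', hχ', heχ'⟩ := exists_comp hχ hτ fun x => hχQ.le ⟨x, rfl⟩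
    have hχ'val : ∀ x, χ' x = γ (homEquiv hχ hχQ x) := fun x => by rw [heχ', hτγ]; rfl
    have hχ'Q : χ'.range = Q :=
      range_eq_of_mem hχ' (fun x => by rw [hχ'val]; exact SetLike.coe_mem _)
        (isConj_card ⟨χ, hχ, hχQ⟩).le
    -- `χ'` conjugates `β ^ m` to conjugation by `s`
    have hkey : ∀ x, χ' ((β ^ m) x) = s * χ' x * s⁻¹ := by
      intro x
      rw [hχ'val, hχ'val, ← hse, MulAut.mul_apply, MulAut.mul_apply, MulAut.inv_apply_self, hB]
      show _ = (γ (homEquiv hχ hχQ ((β ^ m) ((homEquiv hχ hχQ).symm (homEquiv hχ hχQ x)))) : Ω)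
      rw [MulEquiv.symm_apply_apply]
    set P' := (P.subgroupOf (normalizerIn S P)).map χ' with hP'
    have hPP' : F.IsConj P P' :=
      ⟨_, restrict_mem hχ' hPN, (map_subgroupOf_eq_range hPN χ').symm⟩
    have hQN : Q = normalizerIn S P' := by
      haveI : Finite (normalizerIn S P') := finite_sub (normalizerIn_le _)
      rw [← hχ'Q]
      exact range_eq_of_mem hχ' (fun g => apply_mem_normalizerIn hχ' hPN hP'.symm g g.2.2) (hP.2 P' hPP')
    have hsQ : s ∈ Q := by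
      haveI : Finite P' := finite_sub (isConj_le_right hPP')
      rw [hQN]
      refine ⟨hs, mem_normalizer_of_conj_mem ?_⟩
      rintro _ ⟨x, hx, rfl⟩
      rw [← hkey]
      refine ⟨_, ?_, rfl⟩
      have e : x = Subgroup.inclusion hPN ⟨x, Subgroup.mem_subgroupOf.1 hx⟩ := rfl
      rw [e, hβm]
      exact Subgroup.mem_subgroupOf.2 (SetLike.coe_mem _)
    obtain ⟨n₀, hn₀⟩ := hχ'Q.ge hsQ
    refine hαm (mem_autInducedBy.2 ⟨n₀, n₀.2.1, fun x => ?_⟩)
    have := hkey (Subgroup.inclusion hPN x)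
    rw [hβm, ← hn₀, ← map_inv, ← map_mul, ← map_mul] at this
    exact congrArg (fun z : normalizerIn S P => (z : Ω)) (F.injective_of_mem hχ' this)

theorem isSaturated_iff_base_and_receptive (hS : IsPGroup p S) :
    F.IsSaturated p ↔
      F.IsFullyAutomized p S ∧ ∀ P : Subgroup Ω, F.IsFullyNormalized P → F.IsReceptive P := by
  refine ⟨fun hF => ⟨isFullyAutomized_base hS hF, fun P hP => receptive_of_fullyNormalized hS hF hP⟩,
    fun ⟨h₁, h₂⟩ P hP => ?_⟩
  obtain ⟨Q, hPQ, hQ⟩ := exists_isFullyNormalized F hP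
  exact ⟨Q, hPQ, fullyAutomized_of_receptive_criterion hS h₁ h₂ Q hQ, h₂ Q hQ⟩

theorem isSaturated_iff_fullyNormalized (hS : IsPGroup p S) :
    F.IsSaturated p ↔ (∀ P : Subgroup Ω, F.IsFullyNormalized P → F.IsFullyCentralized P ∧ F.IsFullyAutomized p P) ∧
      ∀ P : Subgroup Ω, F.IsFullyCentralized P → F.IsReceptive P := by
  refine ⟨fun hF => ⟨fun P hP => ⟨(fullyNormalized_props hS hF hP).1, fullyAutomized_of_fullyNormalized hS hF hP⟩,
    fun P hP => receptive_of_fullyCentralized hS hF hP⟩, fun ⟨h₁, h₂⟩ P hP => ?_⟩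
  obtain ⟨Q, hPQ, hQ⟩ := exists_isFullyNormalized F hP
  exact ⟨Q, hPQ, (h₁ Q hQ).2, h₂ Q (h₁ Q hQ).1⟩

end RS

end Cfsg.Agent.Lib.FS
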