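import Mathlib
import Cfsg.Agent.Lib.FusionSystem.Saturation

/-!
The fusion system `F_S(G)` of a finite group on a Sylow subgroup.
-/

set_option autoImplicit false
set_option linter.style.haveILetI false

namespace Cfsg.Agent.Lib.FS

open Cfsg Cfsg.FusionSystem
open scoped Pointwise

variable {G : Type*} [Group G]

theorem mem_groupHom {S P : Subgroup G} {φ : P →* G} :
    φ ∈ (groupFusionSystem S).Hom P ↔
      P ≤ S ∧ (∀ x : P, φ x ∈ S) ∧ ∃ g : G, ∀ x : P, φ x = g * (x : G) * g⁻¹ := Iff.rfl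

theorem conjHom_range (P : Subgroup G) (g : G) :
    (conjHom P g).range = P.map (MulAut.conj g).toMonoidHom := by
  rw [conjHom, MonoidHom.range_comp, P.range_subtype]

theorem conjHom_mem_group {S P : Subgroup G} {g : G} (hP : P ≤ S) (hg : ∀ x ∈ P, g * x * g⁻¹ ∈ S) :
    conjHom P g ∈ (groupFusionSystem S).Hom P :=
  ⟨hP, fun x => hg x x.2, g, fun _ => rfl⟩

theorem group_isConj_iff {S P Q : Subgroup G} :
    (groupFusionSystem S).IsConj P Q ↔
      P ≤ S ∧ Q ≤ S ∧ ∃ g : G, P.map (MulAut.conj g).toMonoidHom = Q := by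
  constructor
  · rintro ⟨φ, ⟨hP, hS, g, hg⟩, rfl⟩
    refine ⟨hP, by rintro _ ⟨x, rfl⟩; exact hS x, g, ?_⟩
    have : φ = conjHom P g := MonoidHom.ext hg
    rw [this, conjHom_range]
  · rintro ⟨hP, hQ, g, rfl⟩
    exact ⟨conjHom P g, conjHom_mem_group hP fun x hx => hQ ⟨x, hx, rfl⟩, conjHom_range P g⟩

theorem group_autGroup {S Q : Subgroup G} (hQ : Q ≤ S) :
    (groupFusionSystem S).autGroup Q = autInducedBy ⊤ Q := by
  ext α
  rw [mem_autGroup hQ, mem_autInducedBy]
  constructor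
  · rintro ⟨-, -, g, hg⟩; exact ⟨g, trivial, hg⟩
  · rintro ⟨g, -, hg⟩; exact ⟨hQ, fun x => hQ (α x).2, g, hg⟩

/-- Image of a normalizer under conjugation. -/
theorem conj_mem_normalizer_map {P : Subgroup G} {g u : G} (hu : u ∈ Subgroup.normalizer (P : Set G)) :
    g * u * g⁻¹ ∈ Subgroup.normalizer ((P.map (MulAut.conj g).toMonoidHom : Subgroup G) : Set G) :=
  Subgroup.le_normalizer_map (MulAut.conj g).toMonoidHom ⟨u, hu, rfl⟩

theorem conj_mem_centralizer_map {P : Subgroup G} {g u : G} (hu : u ∈ Subgroup.centralizer (P : Set G)) :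
    g * u * g⁻¹ ∈ Subgroup.centralizer ((P.map (MulAut.conj g).toMonoidHom : Subgroup G) : Set G) := by
  rintro _ ⟨x, hx, rfl⟩
  show g * x * g⁻¹ * (g * u * g⁻¹) = g * u * g⁻¹ * (g * x * g⁻¹)
  calc g * x * g⁻¹ * (g * u * g⁻¹) = g * (x * u) * g⁻¹ := by group
    _ = g * (u * x) * g⁻¹ := by rw [hu x hx]
    _ = _ := by group

theorem conj_normalizer_centralizer {P : Subgroup G} {a c : G}
    (ha : a ∈ Subgroup.normalizer (P : Set G)) (hc : c ∈ Subgroup.centralizer (P : Set G)) :
    a * c * a⁻¹ ∈ Subgroup.centralizer (P : Set G) := by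
  have := conj_mem_centralizer_map (g := a) hc
  rwa [show P.map (MulAut.conj a).toMonoidHom = P from
    Subgroup.mem_normalizer_iff_map_conj_eq.1 ha] at this

section Sylow

variable [Finite G] {p : ℕ} [Fact p.Prime]

/-- A map pushing `N_S(P)` into a subgroup with given Sylow subgroup bounds its order. -/
theorem card_le_of_conj_into {A R₀ : Subgroup G} (R : Sylow p A) (hR : (R : Subgroup A) = R₀.subgroupOf A)
    {T : Subgroup G} (hT : IsPGroup p T) {g : G} (hg : ∀ t ∈ T, g * t * g⁻¹ ∈ A) :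
    Nat.card T ≤ Nat.card R₀ := by
  obtain ⟨a, -, ha⟩ := exists_conj_le_sylow R hR (T := T.map (MulAut.conj g).toMonoidHom)
    (by rintro _ ⟨t, ht, rfl⟩; exact hg t ht) (hT.map _)
  refine Nat.card_le_card_of_injective
    (fun t : T => (⟨a * (g * t * g⁻¹) * a⁻¹, ha _ ⟨t, t.2, rfl⟩⟩ : R₀)) fun s t h => ?_
  have h' := congrArg (fun z : R₀ => (z : G)) h
  exact Subtype.ext (mul_left_cancel (mul_right_cancel (mul_left_cancel (mul_right_cancel h'))))

theorem exists_sylow_of_card_ge {A R₀ : Subgroup G} (hRA : R₀ ≤ A) (hp : IsPGroup p R₀) (T : Sylow p A)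
    (hc : Nat.card T ≤ Nat.card R₀) : ∃ R : Sylow p A, (R : Subgroup A) = R₀.subgroupOf A := by
  refine exists_sylow_of_card hRA (le_antisymm ?_ ((Sylow.card_eq_multiplicity T).ge.trans hc))
  have hp' : IsPGroup p (R₀.subgroupOf A) := hp.of_equiv (Subgroup.subgroupOfEquivOfLe hRA).symm
  obtain ⟨T', hT'⟩ := hp'.exists_le_sylow
  rw [← Nat.card_congr (Subgroup.subgroupOfEquivOfLe hRA).toEquiv, ← Sylow.card_eq_multiplicity T']
  exact Subgroup.card_le_of_le hT'

/-- Every subgroup of a Sylow subgroup has a conjugate with Sylow normalizer in `S`. -/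
theorem exists_conj_sylow_normalizer (S : Sylow p G) {P : Subgroup G} (hP : P ≤ S) :
    ∃ g : G, P.map (MulAut.conj g).toMonoidHom ≤ S ∧
      ∃ R : Sylow p ↥(Subgroup.normalizer ((P.map (MulAut.conj g).toMonoidHom : Subgroup G) : Set G)),
        (R : Subgroup _) = (normalizerIn (S : Subgroup G) (P.map (MulAut.conj g).toMonoidHom)).subgroupOf
          (Subgroup.normalizer ((P.map (MulAut.conj g).toMonoidHom : Subgroup G) : Set G)) := by
  set N := Subgroup.normalizer (P : Set G)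
  have hPp : IsPGroup p (P.subgroupOf N) :=
    (isPGroup_of_le S.isPGroup' hP).of_equiv (Subgroup.subgroupOfEquivOfLe Subgroup.le_normalizer).symm
  obtain ⟨T, hT⟩ := hPp.exists_le_sylow
  obtain ⟨U, hU⟩ := (T.isPGroup'.map N.subtype).exists_le_sylow
  obtain ⟨g, hg⟩ := MulAction.exists_smul_eq G U S
  have hUS : ∀ u ∈ (U : Subgroup G), g * u * g⁻¹ ∈ (S : Subgroup G) := fun u hu => by
    rw [← hg, Sylow.coe_subgroup_smul]
    exact Subgroup.smul_mem_pointwise_smul _ (MulAut.conj g) _ hu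
  set Q := P.map (MulAut.conj g).toMonoidHom
  refine ⟨g, ?_, ?_⟩
  · rintro _ ⟨x, hx, rfl⟩
    exact hUS x (hU ⟨⟨x, Subgroup.le_normalizer hx⟩, hT (Subgroup.mem_subgroupOf.2 hx), rfl⟩)
  set M := Subgroup.normalizer (Q : Set G)
  refine exists_sylow_of_card_ge (A := M) inf_le_right (isPGroup_of_le S.isPGroup' inf_le_left) default ?_
  refine le_trans ?_ (Nat.card_le_card_of_injective (fun t : T =>
    (⟨g * ((t : N) : G) * g⁻¹, hUS _ (hU ⟨t, t.2, rfl⟩), conj_mem_normalizer_map (t : N).2⟩ :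
      normalizerIn (S : Subgroup G) Q)) fun s t h => Subtype.ext (Subtype.ext
        (mul_left_cancel (mul_right_cancel (congrArg (fun z : normalizerIn (S : Subgroup G) Q => (z : G)) h)))))
  refine le_of_eq ((Sylow.card_eq_multiplicity _).trans (Eq.trans ?_ (Sylow.card_eq_multiplicity T).symm))
  congr 2
  have hMN : M = N.map (MulAut.conj g).toMonoidHom :=
    (Subgroup.map_equiv_normalizer_eq P (MulAut.conj g)).symm
  rw [hMN]
  rw [Nat.card_congr (N.equivMapOfInjective ((MulAut.conj g).toMonoidHom) (MulAut.conj g).injective).toEquiv]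

theorem isFullyNormalized_of_sylow (S : Sylow p G) {Q : Subgroup G} (hQ : Q ≤ S)
    (h : ∃ R : Sylow p ↥(Subgroup.normalizer (Q : Set G)), (R : Subgroup _) =
      (normalizerIn (S : Subgroup G) Q).subgroupOf (Subgroup.normalizer (Q : Set G))) :
    (groupFusionSystem (S : Subgroup G)).IsFullyNormalized Q := by
  refine ⟨hQ, fun P hP => ?_⟩
  obtain ⟨-, -, g, rfl⟩ := group_isConj_iff.1 (isConj_symm hP)
  obtain ⟨R, hR⟩ := h
  exact card_le_of_conj_into R hR (isPGroup_of_le S.isPGroup' inf_le_left)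
    fun t ht => conj_mem_normalizer_map ht.2

theorem isFullyNormalized_group_iff (S : Sylow p G) {P : Subgroup G} (hP : P ≤ S) :
    (groupFusionSystem (S : Subgroup G)).IsFullyNormalized P ↔
      ∃ R : Sylow p ↥(Subgroup.normalizer (P : Set G)), (R : Subgroup _) =
        (normalizerIn (S : Subgroup G) P).subgroupOf (Subgroup.normalizer (P : Set G)) := by
  refine ⟨fun h => ?_, isFullyNormalized_of_sylow S hP⟩
  obtain ⟨g, hQ, hN⟩ := exists_conj_sylow_normalizer S hP
  set Q := P.map (MulAut.conj g).toMonoidHom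
  obtain ⟨R, hR⟩ := hN
  refine exists_sylow_of_card_ge inf_le_right (isPGroup_of_le S.isPGroup' inf_le_left) default ?_
  refine le_trans ?_ (h.2 Q (group_isConj_iff.2 ⟨hP, hQ, g, rfl⟩))
  have hd := card_le_of_conj_into R hR
    ((default : Sylow p ↥(Subgroup.normalizer (P : Set G))).isPGroup'.map (Subgroup.normalizer (P : Set G)).subtype)
    (g := g) (by rintro _ ⟨t, -, rfl⟩; exact conj_mem_normalizer_map t.2)
  refine le_of_eq_of_le ?_ hd
  exact Nat.card_congr
    (Subgroup.equivMapOfInjective _ _ (Subgroup.subtype_injective _)).toEquiv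

theorem sylow_centralizer_of_normalizer (S : Sylow p G) {Q : Subgroup G}
    (h : ∃ R : Sylow p ↥(Subgroup.normalizer (Q : Set G)), (R : Subgroup _) =
      (normalizerIn (S : Subgroup G) Q).subgroupOf (Subgroup.normalizer (Q : Set G))) :
    ∃ R : Sylow p ↥(Subgroup.centralizer (Q : Set G)), (R : Subgroup _) =
      (centralizerIn (S : Subgroup G) Q).subgroupOf (Subgroup.centralizer (Q : Set G)) := by
  obtain ⟨R, hR⟩ := h
  set C := Subgroup.centralizer (Q : Set G)
  set D : Sylow p C := default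
  refine exists_sylow_of_card_ge inf_le_right (isPGroup_of_le S.isPGroup' inf_le_left) D ?_
  obtain ⟨a, ha, haD⟩ := exists_conj_le_sylow R hR (T := (D : Subgroup C).map C.subtype)
    (by rintro _ ⟨t, -, rfl⟩; exact Subgroup.centralizer_le_normalizer _ t.2) (D.isPGroup'.map _)
  refine Nat.card_le_card_of_injective (fun t : D =>
    (⟨a * ((t : C) : G) * a⁻¹, (haD _ ⟨t, t.2, rfl⟩).1, conj_normalizer_centralizer ha (t : C).2⟩ :
      centralizerIn (S : Subgroup G) Q)) fun s t h => ?_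
  exact Subtype.ext (Subtype.ext
    (mul_left_cancel (mul_right_cancel (congrArg (fun z : centralizerIn (S : Subgroup G) Q => (z : G)) h))))

theorem isFullyCentralized_of_sylow (S : Sylow p G) {Q : Subgroup G} (hQ : Q ≤ S)
    (h : ∃ R : Sylow p ↥(Subgroup.centralizer (Q : Set G)), (R : Subgroup _) =
      (centralizerIn (S : Subgroup G) Q).subgroupOf (Subgroup.centralizer (Q : Set G))) :
    (groupFusionSystem (S : Subgroup G)).IsFullyCentralized Q := by
  refine ⟨hQ, fun P hP => ?_⟩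
  obtain ⟨-, -, g, rfl⟩ := group_isConj_iff.1 (isConj_symm hP)
  obtain ⟨R, hR⟩ := h
  exact card_le_of_conj_into R hR (isPGroup_of_le S.isPGroup' inf_le_left)
    fun t ht => conj_mem_centralizer_map ht.2

theorem isFullyCentralized_group_iff (S : Sylow p G) {P : Subgroup G} (hP : P ≤ S) :
    (groupFusionSystem (S : Subgroup G)).IsFullyCentralized P ↔
      ∃ R : Sylow p ↥(Subgroup.centralizer (P : Set G)), (R : Subgroup _) =
        (centralizerIn (S : Subgroup G) P).subgroupOf (Subgroup.centralizer (P : Set G)) := by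
  refine ⟨fun h => ?_, isFullyCentralized_of_sylow S hP⟩
  obtain ⟨g, hQ, hN⟩ := exists_conj_sylow_normalizer S hP
  set Q := P.map (MulAut.conj g).toMonoidHom
  obtain ⟨R, hR⟩ := sylow_centralizer_of_normalizer S hN
  refine exists_sylow_of_card_ge inf_le_right (isPGroup_of_le S.isPGroup' inf_le_left) default ?_
  refine le_trans ?_ (h.2 Q (group_isConj_iff.2 ⟨hP, hQ, g, rfl⟩))
  have hd := card_le_of_conj_into R hR
    ((default : Sylow p ↥(Subgroup.centralizer (P : Set G))).isPGroup'.map (Subgroup.centralizer (P : Set G)).subtype)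
    (g := g) (by rintro _ ⟨t, -, rfl⟩; exact conj_mem_centralizer_map t.2)
  refine le_of_eq_of_le ?_ hd
  exact Nat.card_congr
    (Subgroup.equivMapOfInjective _ _ (Subgroup.subtype_injective _)).toEquiv

theorem sylow_autInduced_of_normalizer (S : Sylow p G) {Q : Subgroup G}
    (h : ∃ R : Sylow p ↥(Subgroup.normalizer (Q : Set G)), (R : Subgroup _) =
      (normalizerIn (S : Subgroup G) Q).subgroupOf (Subgroup.normalizer (Q : Set G))) :
    ∃ R : Sylow p ↥(autInducedBy ⊤ Q), (R : Subgroup _) =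
      (autInducedBy (S : Subgroup G) Q).subgroupOf (autInducedBy ⊤ Q) := by
  obtain ⟨R, hR⟩ := h
  have htop : autInducedBy ⊤ Q = Q.normalizerMonoidHom.range := by
    rw [autInducedBy_eq_map, Subgroup.top_subgroupOf, MonoidHom.range_eq_map]
  let f : ↥(Subgroup.normalizer (Q : Set G)) →* ↥(autInducedBy ⊤ Q) :=
    Q.normalizerMonoidHom.codRestrict _ fun g => htop.symm ▸ ⟨g, rfl⟩
  have hf : Function.Surjective f := fun α => by
    obtain ⟨g, hg⟩ := htop.le α.2
    exact ⟨g, Subtype.ext hg⟩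
  refine ⟨R.mapSurjective hf, ?_⟩
  rw [Sylow.coe_mapSurjective, hR]
  ext α
  rw [Subgroup.mem_subgroupOf, mem_autInducedBy]
  constructor
  · rintro ⟨g, hg, rfl⟩
    exact ⟨g, (Subgroup.mem_subgroupOf.1 hg).1, fun _ => rfl⟩
  · rintro ⟨g, hg, he⟩
    exact ⟨⟨g, mem_normalizer_of_aut he⟩, Subgroup.mem_subgroupOf.2 ⟨hg, mem_normalizer_of_aut he⟩,
      Subtype.ext (MulEquiv.ext fun x => Subtype.ext (he x).symm)⟩

/-- The extension lemma in `G`. -/
theorem exists_centralizer_conj (S : Sylow p G) {P Q : Subgroup G} {g : G}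
    (hN : ∃ R : Sylow p ↥(Subgroup.normalizer (Q : Set G)), (R : Subgroup _) =
      (normalizerIn (S : Subgroup G) Q).subgroupOf (Subgroup.normalizer (Q : Set G))) :
    ∃ h ∈ Subgroup.centralizer (Q : Set G),
      ((normalizerIn (S : Subgroup G) P) ⊓
        (normalizerIn (S : Subgroup G) Q ⊔ Subgroup.centralizer (Q : Set G)).comap
          (MulAut.conj g).toMonoidHom).map (MulAut.conj (h * g)).toMonoidHom ≤ S := by
  obtain ⟨R, hR⟩ := hN
  set C := Subgroup.centralizer (Q : Set G)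
  set NS := normalizerIn (S : Subgroup G) Q
  have hNC : NS ≤ Subgroup.normalizer (C : Set G) :=
    Subgroup.le_normalizer_iff.2 fun a ha c hc => conj_normalizer_centralizer ha.2 hc
  set M := NS ⊔ C
  have hMN : M ≤ Subgroup.normalizer (Q : Set G) :=
    sup_le inf_le_right (Subgroup.centralizer_le_normalizer _)
  have hRM : ∃ T : Sylow p M, (T : Subgroup M) = NS.subgroupOf M := by
    refine exists_sylow_of_card_ge le_sup_left (isPGroup_of_le S.isPGroup' inf_le_left) default ?_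
    have hd := card_le_of_conj_into R hR ((default : Sylow p M).isPGroup'.map M.subtype) (g := 1)
      (by rintro _ ⟨t, -, rfl⟩; simpa using hMN t.2)
    refine le_of_eq_of_le ?_ hd
    exact Nat.card_congr
      (Subgroup.equivMapOfInjective _ _ (Subgroup.subtype_injective _)).toEquiv
  obtain ⟨T, hT⟩ := hRM
  obtain ⟨a, ha, hconj⟩ := exists_conj_le_sylow T hT
    (T := ((normalizerIn (S : Subgroup G) P) ⊓ M.comap (MulAut.conj g).toMonoidHom).map (MulAut.conj g).toMonoidHom)
    (by rintro _ ⟨t, ⟨-, ht⟩, rfl⟩; exact ht)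
    ((isPGroup_of_le S.isPGroup' (inf_le_left.trans inf_le_left)).map _)
  rw [← SetLike.mem_coe, show ((M : Subgroup G) : Set G) = (NS : Set G) * (C : Set G) from
    Subgroup.coe_mul_of_left_le_normalizer_right NS C hNC] at ha
  obtain ⟨s, hs, h, hh, rfl⟩ := ha
  refine ⟨h, hh, ?_⟩
  rintro _ ⟨t, ht, rfl⟩
  have h1 := NS.mul_mem (NS.mul_mem (NS.inv_mem hs) (hconj _ ⟨t, ht, rfl⟩)) hs
  have h2 : h * g * t * (h * g)⁻¹ ∈ NS := by
    convert h1 using 1
    show _ = s⁻¹ * (s * h * (g * t * g⁻¹) * (s * h)⁻¹) * s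
    group
  exact h2.1

theorem receptive_of_sylow_normalizer (S : Sylow p G) {Q : Subgroup G} (hQ : Q ≤ S)
    (hN : ∃ R : Sylow p ↥(Subgroup.normalizer (Q : Set G)), (R : Subgroup _) =
      (normalizerIn (S : Subgroup G) Q).subgroupOf (Subgroup.normalizer (Q : Set G))) :
    (groupFusionSystem (S : Subgroup G)).IsReceptive Q := by
  refine ⟨hQ, fun P φ hφ hr => ?_⟩
  obtain ⟨hP, -, g, hg⟩ := mem_groupHom.1 hφ
  obtain ⟨h, hh, hle⟩ := exists_centralizer_conj S (P := P) (g := g) hN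
  have hext : extender (S : Subgroup G) P φ ≤ (normalizerIn (S : Subgroup G) P) ⊓
      (normalizerIn (S : Subgroup G) Q ⊔ Subgroup.centralizer (Q : Set G)).comap
        (MulAut.conj g).toMonoidHom := by
    intro u hu
    refine ⟨extender_le_normalizerIn P φ hu, ?_⟩
    obtain ⟨-, huN, v, hv, he⟩ := mem_extender.1 hu
    have hvN : v ∈ Subgroup.normalizer (Q : Set G) := mem_normalizer_of_conj_mem fun y hy => by
      obtain ⟨x, rfl⟩ := hr.ge hy
      rw [← he x (conj_mem_of_normalizer huN x.2)]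
      exact hr.le ⟨_, rfl⟩
    show g * u * g⁻¹ ∈ (normalizerIn (S : Subgroup G) Q ⊔ Subgroup.centralizer (Q : Set G))
    have hvu : v⁻¹ * (g * u * g⁻¹) ∈ Subgroup.centralizer (Q : Set G) := by
      intro y hy
      obtain ⟨x, rfl⟩ := hr.ge hy
      have e := he x (conj_mem_of_normalizer huN x.2)
      rw [hg, hg] at e
      rw [hg]
      simp only at e
      calc g * (x : G) * g⁻¹ * (v⁻¹ * (g * u * g⁻¹))
          = v⁻¹ * (v * (g * x * g⁻¹) * v⁻¹) * (g * u * g⁻¹) := by group
        _ = v⁻¹ * (g * (u * x * u⁻¹) * g⁻¹) * (g * u * g⁻¹) := by rw [← e]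
        _ = _ := by group
    rw [show g * u * g⁻¹ = v * (v⁻¹ * (g * u * g⁻¹)) by group]
    exact Subgroup.mul_mem_sup (show v ∈ normalizerIn (S : Subgroup G) Q from ⟨hv, hvN⟩) hvu
  refine ⟨conjHom _ (h * g),
    conjHom_mem_group ((extender_le_normalizerIn P φ).trans inf_le_left)
      (fun u hu => hle ⟨u, hext hu, rfl⟩), fun x hx hN => ?_⟩
  have hc := hh (φ ⟨x, hx⟩) (hr.le ⟨_, rfl⟩)
  rw [hg] at hc
  rw [hg, conjHom_apply]
  simp only at hc ⊢
  calc h * g * x * (h * g)⁻¹ = h * (g * x * g⁻¹) * h⁻¹ := by group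
    _ = g * x * g⁻¹ * h * h⁻¹ := by rw [← hc]
    _ = _ := by group

theorem isSaturated_group (S : Sylow p G) : (groupFusionSystem (S : Subgroup G)).IsSaturated p := by
  intro P hP
  obtain ⟨g, hQ, hN⟩ := exists_conj_sylow_normalizer S hP
  refine ⟨_, group_isConj_iff.2 ⟨hP, hQ, g, rfl⟩, ⟨hQ, ?_⟩, receptive_of_sylow_normalizer S hQ hN⟩
  rw [group_autGroup hQ]
  exact sylow_autInduced_of_normalizer S hN

/-- A normal `p`-subgroup of `G` is normal in `F_S(G)`. -/
theorem isNormal_group (S : Sylow p G) {R : Subgroup G} [R.Normal] (hR : IsPGroup p R) :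
    (groupFusionSystem (S : Subgroup G)).IsNormal R := by
  obtain ⟨U, hU⟩ := hR.exists_le_sylow
  obtain ⟨g, hg⟩ := MulAction.exists_smul_eq G U S
  have hRS : R ≤ S := by
    intro r hr
    rw [← hg, Sylow.coe_subgroup_smul]
    have h1 : g⁻¹ * r * g⁻¹⁻¹ ∈ R := Subgroup.Normal.conj_mem inferInstance r hr g⁻¹
    have h2 := Subgroup.smul_mem_pointwise_smul _ (MulAut.conj g) _ (hU h1)
    convert h2 using 1
    show r = g * (g⁻¹ * r * g⁻¹⁻¹) * g⁻¹
    group
  refine ⟨hRS, fun P φ hφ => ?_⟩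
  obtain ⟨hP, hφS, k, hk⟩ := mem_groupHom.1 hφ
  have hle : (P ⊔ R).map (MulAut.conj k).toMonoidHom ≤ S := by
    rw [Subgroup.map_sup, sup_le_iff]
    refine ⟨?_, ?_⟩
    · rintro _ ⟨x, hx, rfl⟩
      have h1 := hφS ⟨x, hx⟩
      rw [hk] at h1
      exact h1
    · rintro _ ⟨x, hx, rfl⟩; exact hRS (Subgroup.Normal.conj_mem inferInstance x hx k)
  refine ⟨conjHom (P ⊔ R) k, conjHom_mem_group (sup_le hP hRS) fun x hx => hle ⟨x, hx, rfl⟩,
    fun x => (hk x).symm, ?_⟩
  rw [map_subgroupOf_eq_range le_sup_right]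
  refine le_antisymm (by rintro _ ⟨x, rfl⟩; exact Subgroup.Normal.conj_mem inferInstance _ x.2 k)
    fun r hr => ⟨⟨k⁻¹ * r * k, by simpa using Subgroup.Normal.conj_mem inferInstance r hr k⁻¹⟩, ?_⟩
  show k * (k⁻¹ * r * k) * k⁻¹ = r
  group

end Sylow

end Cfsg.Agent.Lib.FS
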