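import Mathlib
import Cfsg.Agent.Lib.FusionSystem.Saturation
import Cfsg.Agent.Lib.FusionP3.Induction
import Cfsg.Agent.Lib.FusionAlperin.Join

/-!
Normal and central subgroups of a fusion system: basic API and criteria.
-/

set_option autoImplicit false
set_option linter.style.haveILetI false

namespace Cfsg.Agent.Lib.FS

open Cfsg Cfsg.FusionSystem
open scoped commutatorElement Pointwise

variable {Ω : Type*} [Group Ω] {S : Subgroup Ω} {F : FusionSystem S}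

theorem map_subgroupOf_eq_of_mapsTo {P Q : Subgroup Ω} [Finite Q] {ψ : P →* Ω} (hψ : ψ ∈ F.Hom P)
    (hQP : Q ≤ P) (h : ∀ x : P, (x : Ω) ∈ Q → ψ x ∈ Q) : (Q.subgroupOf P).map ψ = Q := by
  rw [map_subgroupOf_eq_range hQP]
  exact range_eq_of_mem (restrict_mem hψ hQP) (fun x => h _ x.2) le_rfl

theorem mem_iff_apply_mem {P Q : Subgroup Ω} [Finite P] {γ : MulAut P}
    (h : ∀ x : P, (x : Ω) ∈ Q → ((γ x : P) : Ω) ∈ Q) (x : P) : (x : Ω) ∈ Q ↔ ((γ x : P) : Ω) ∈ Q := by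
  refine ⟨h x, fun hx => ?_⟩
  obtain ⟨y, hy⟩ := (Finite.injective_iff_surjective.1
    (fun a b e => Subtype.ext (γ.injective (congrArg (fun z : Q.subgroupOf P => (z : P)) e)) :
      Function.Injective fun y : Q.subgroupOf P => (⟨γ y, h _ y.2⟩ : Q.subgroupOf P))) ⟨γ x, hx⟩
  rw [← γ.injective (congrArg (fun z : Q.subgroupOf P => (z : P)) hy)]
  exact y.2

/-! ### Basic properties -/

/-- The maps of the system preserve a normal subgroup. -/
theorem isNormal_apply_mem {Q : Subgroup Ω} (hQ : F.IsNormal Q) {P : Subgroup Ω} {φ : P →* Ω}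
    (hφ : φ ∈ F.Hom P) {x : P} (hx : (x : Ω) ∈ Q) : φ x ∈ Q := by
  obtain ⟨ψ, -, he, hm⟩ := hQ.2 P φ hφ
  rw [← he x]
  exact hm.le ⟨_, Subgroup.mem_subgroupOf.2 hx, rfl⟩

theorem isNormal_stronglyClosed {Q : Subgroup Ω} (hQ : F.IsNormal Q) : F.StronglyClosed Q :=
  ⟨hQ.1, fun _ hR _ hφ x => isNormal_apply_mem hQ hφ (hR x.2)⟩

/-- The maps of the system preserve a strongly closed subgroup elementwise. -/
theorem stronglyClosed_apply_mem {Q : Subgroup Ω} (hQ : F.StronglyClosed Q) {P : Subgroup Ω}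
    {φ : P →* Ω} (hφ : φ ∈ F.Hom P) {x : P} (hx : (x : Ω) ∈ Q) : φ x ∈ Q := by
  have hle : Subgroup.zpowers (x : Ω) ≤ P := Subgroup.zpowers_le.2 x.2
  obtain ⟨ψ, hψ, he⟩ := exists_restrict hφ hle
  have := hQ.2 _ (Subgroup.zpowers_le.2 hx) ψ hψ ⟨x, Subgroup.mem_zpowers _⟩
  rwa [he] at this

theorem stronglyClosed_le_normalizer {Q : Subgroup Ω} (hQ : F.StronglyClosed Q) :
    S ≤ Subgroup.normalizer (Q : Set Ω) :=
  Subgroup.le_normalizer_iff.2 fun g hg x hx =>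
    stronglyClosed_apply_mem hQ (F.conj_mem le_rfl hg) (x := ⟨x, hQ.1 hx⟩) hx

theorem isNormal_le_normalizer {Q : Subgroup Ω} (hQ : F.IsNormal Q) :
    S ≤ Subgroup.normalizer (Q : Set Ω) :=
  stronglyClosed_le_normalizer (isNormal_stronglyClosed hQ)

theorem autGroup_mem_iff_of_stronglyClosed {Q P : Subgroup Ω} (hQ : F.StronglyClosed Q) (hP : P ≤ S)
    {α : MulAut P} (hα : α ∈ F.autGroup P) (x : P) : (x : Ω) ∈ Q ↔ ((α x : P) : Ω) ∈ Q := by
  have key : ∀ β ∈ F.autGroup P, ∀ y : P, (y : Ω) ∈ Q → ((β y : P) : Ω) ∈ Q := fun β hβ y hy => by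
    obtain ⟨φ, hφ, -, he⟩ := exists_hom_of_aut hP hβ
    rw [← he]; exact stronglyClosed_apply_mem hQ hφ hy
  refine ⟨key α hα x, fun hx => ?_⟩
  have := key α⁻¹ (inv_mem hα) _ hx
  rwa [MulAut.inv_apply_self] at this

/-! ### Radical subgroups absorb normal `p`-subgroups of the automiser -/

section Radical

variable [Finite S] {p : ℕ} [Fact p.Prime]

theorem le_inn_of_radical {P : Subgroup Ω} (hP : F.IsRadical p P) {K : Subgroup (MulAut P)}
    (hK : K ≤ F.autGroup P) (hn : ∀ α ∈ F.autGroup P, ∀ k ∈ K, α * k * α⁻¹ ∈ K)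
    (hp : IsPGroup p K) : K ≤ Inn P := by
  haveI := finite_sub hP.1
  haveI : (K.subgroupOf (F.autGroup P)).Normal :=
    ⟨fun n hn' g => Subgroup.mem_subgroupOf.2 (hn g g.2 n (Subgroup.mem_subgroupOf.1 hn'))⟩
  intro k hk
  rw [← hP.2]
  exact ⟨⟨k, hK hk⟩, Cores.le_pCore (hp.of_equiv (Subgroup.subgroupOfEquivOfLe hK).symm)
    (Subgroup.mem_subgroupOf.2 hk), rfl⟩

/-- If a subgroup normalized by `S` induces only inner automorphisms on `P` and `C_S(P) ≤ P`, it lies in `P`. -/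
theorem le_of_autInducedBy_le_inn (hS : IsPGroup p S) {P Q : Subgroup Ω} (hPS : P ≤ S) (hQS : Q ≤ S)
    (hnQ : S ≤ Subgroup.normalizer (Q : Set Ω)) (hC : centralizerIn S P ≤ P)
    (h : autInducedBy Q P ≤ Inn P) : Q ≤ P := by
  by_contra hQP
  haveI : Finite ↥(P ⊔ Q) := finite_sub (sup_le hPS hQS)
  have hlt : P < P ⊔ Q := left_lt_sup.2 hQP
  obtain ⟨g, ⟨hg, hgN⟩, hgP⟩ :=
    SetLike.exists_of_lt (FusionP3.Induction.lt_normalizerIn (isPGroup_of_le hS (sup_le hPS hQS)) hlt)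
  replace hg : g ∈ ((P ⊔ Q : Subgroup Ω) : Set Ω) := hg
  rw [show ((P ⊔ Q : Subgroup Ω) : Set Ω) = (P : Set Ω) * (Q : Set Ω) from
    Subgroup.coe_mul_of_left_le_normalizer_right P Q (hPS.trans hnQ)] at hg
  obtain ⟨x, hx, q, hq, rfl⟩ := hg
  apply hgP
  refine P.mul_mem hx ?_
  have hqN : q ∈ Subgroup.normalizer (P : Set Ω) := by
    have := mul_mem (inv_mem (Subgroup.le_normalizer hx)) hgN
    simpa using this
  obtain ⟨w, hw⟩ := h (mem_autInducedBy.2 ⟨q, hq, fun _ => rfl⟩ :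
    P.normalizerMonoidHom ⟨q, hqN⟩ ∈ autInducedBy Q P)
  have hc : (w : Ω)⁻¹ * q ∈ centralizerIn S P := by
    refine mem_centralizerIn'.2 ⟨S.mul_mem (S.inv_mem (hPS w.2)) (hQS hq), fun y hy => ?_⟩
    have h2 : (w : Ω) * y * (w : Ω)⁻¹ = q * y * q⁻¹ :=
      congrArg (fun f : MulAut P => ((f ⟨y, hy⟩ : P) : Ω)) hw
    calc (w : Ω)⁻¹ * q * y * ((w : Ω)⁻¹ * q)⁻¹
        = (w : Ω)⁻¹ * (q * y * q⁻¹) * w := by group
      _ = y := by rw [← h2]; group
  have := P.mul_mem w.2 (hC hc)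
  simpa using this

theorem isPGroup_autInducedBy_of_le (hS : IsPGroup p S) {Q : Subgroup Ω} (hQ : Q ≤ S) (P : Subgroup Ω) :
    IsPGroup p (autInducedBy Q P) :=
  isPGroup_autInducedBy (isPGroup_of_le hS hQ) P

/-- A normal subgroup lies in every centric radical subgroup. -/
theorem isNormal_le_centricRadical (hS : IsPGroup p S) {Q : Subgroup Ω} (hQ : F.IsNormal Q)
    {P : Subgroup Ω} (hc : F.IsCentric P) (hr : F.IsRadical p P) : Q ≤ P := by
  refine le_of_autInducedBy_le_inn hS hc.1 hQ.1 (isNormal_le_normalizer hQ) (hc.2 P (isConj_refl F hc.1))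
    (le_inn_of_radical hr (fun α hα => ?_) ?_ (isPGroup_autInducedBy_of_le hS hQ.1 P))
  · obtain ⟨g, hg, h⟩ := mem_autInducedBy.1 hα
    exact autInducedBy_le_autGroup F hc.1 (mem_autInducedBy.2 ⟨g, hQ.1 hg, h⟩)
  · intro α hα k hk
    obtain ⟨g, hg, hk⟩ := mem_autInducedBy.1 hk
    obtain ⟨φ, hφ, -, hφα⟩ := exists_hom_of_aut hc.1 hα
    obtain ⟨ψ, hψ, he, hm⟩ := hQ.2 P φ hφ
    refine mem_autInducedBy.2 ⟨ψ (Subgroup.inclusion le_sup_right ⟨g, hg⟩),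
      hm.le ⟨_, Subgroup.mem_subgroupOf.2 hg, rfl⟩, fun y => ?_⟩
    obtain ⟨x, rfl⟩ := α.surjective y
    rw [MulAut.mul_apply, MulAut.mul_apply, MulAut.inv_apply_self, ← hφα, ← hφα, ← he, ← he, ← map_inv,
      ← map_mul, ← map_mul]
    exact congrArg ψ (Subtype.ext (hk x))

/-- Criterion: `Q` is normal once it lies in, and is invariant in, every fully normalized centric radical
subgroup. -/
theorem isNormal_of_centricRadical (hS : IsPGroup p S) (hF : F.IsSaturated p) {Q : Subgroup Ω}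
    (hQS : Q ≤ S)
    (h : ∀ P, F.IsFullyNormalized P → F.IsCentric P → F.IsRadical p P →
      Q ≤ P ∧ ∀ α ∈ F.autGroup P, ∀ x : P, (x : Ω) ∈ Q → ((α x : P) : Ω) ∈ Q) :
    F.IsNormal Q := by
  haveI := finite_sub hQS
  refine ⟨hQS, fun P φ hφ => ?_⟩
  suffices hM : ∃ ψ ∈ F.Hom (P ⊔ Q), (∀ x : P, ψ (Subgroup.inclusion le_sup_left x) = φ x) ∧
      ∀ x : ↥(P ⊔ Q), (x : Ω) ∈ Q → ψ x ∈ Q by
    obtain ⟨ψ, hψ, he, hQ⟩ := hM
    exact ⟨ψ, hψ, he, map_subgroupOf_eq_of_mapsTo hψ le_sup_right hQ⟩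
  refine FusionP3.Induction.hom_induction hS hF (M := fun P φ => ∃ ψ ∈ F.Hom (P ⊔ Q),
    (∀ x : P, ψ (Subgroup.inclusion le_sup_left x) = φ x) ∧ ∀ x : ↥(P ⊔ Q), (x : Ω) ∈ Q → ψ x ∈ Q)
    ?_ ?_ ?_ P φ hφ
  · rintro P₁ P₂ φ₁ φ₂ χ hφ₁ hφ₂ hv hχ ⟨ψ₁, hψ₁, he₁, hQ₁⟩ ⟨ψ₂, hψ₂, he₂, hQ₂⟩
    have hval : ∀ z, ψ₁ z ∈ P₂ ⊔ Q := by
      rintro ⟨z, hz⟩
      have : P₁ ⊔ Q ≤ ((P₂ ⊔ Q).comap ψ₁).map (P₁ ⊔ Q).subtype :=
        sup_le (fun x hx => ⟨Subgroup.inclusion le_sup_left ⟨x, hx⟩,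
            (by show ψ₁ _ ∈ P₂ ⊔ Q; rw [he₁]; exact (le_sup_left : P₂ ≤ P₂ ⊔ Q) (hv _)), rfl⟩)
          (fun y hy => ⟨⟨y, (le_sup_right : Q ≤ P₁ ⊔ Q) hy⟩,
            (le_sup_right : Q ≤ P₂ ⊔ Q) (hQ₁ _ hy), rfl⟩)
      obtain ⟨w, hw, hwz⟩ := this hz
      rwa [show w = ⟨z, hz⟩ from Subtype.ext hwz] at hw
    obtain ⟨τ, hτ, heτ⟩ := exists_comp hψ₁ hψ₂ hval
    refine ⟨τ, hτ, fun x => ?_, fun x hx => (heτ x).symm ▸ hQ₂ _ (hQ₁ x hx)⟩
    rw [heτ, hχ x, ← he₂ ⟨φ₁ x, hv x⟩]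
    exact congrArg ψ₂ (Subtype.ext (he₁ x))
  · rintro P₁ P₂ φ₁ φ₂ hle hφ₂ he ⟨ψ, hψ, heψ, hQ⟩
    obtain ⟨τ, hτ, heτ⟩ := exists_restrict hψ (sup_le_sup_right hle Q)
    refine ⟨τ, hτ, fun x => ?_, fun x hx => (heτ x).symm ▸ hQ _ hx⟩
    rw [heτ, he x]
    exact heψ ⟨x, hle x.2⟩
  · intro R hR hc hr α hα _
    obtain ⟨hQR, hinv⟩ := h R hR hc hr
    obtain ⟨φ, hφ, -, he⟩ := exists_hom_of_aut hR.1 hα
    obtain ⟨τ, hτ, heτ⟩ := exists_restrict hφ (show R ⊔ Q ≤ R from sup_le le_rfl hQR)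
    exact ⟨τ, hτ, fun x => (heτ _).trans (he x),
      fun x hx => by rw [heτ, he]; exact hinv α hα _ hx⟩

theorem isNormal_iff_centricRadical (hS : IsPGroup p S) (hF : F.IsSaturated p) {Q : Subgroup Ω} :
    F.IsNormal Q ↔
      F.StronglyClosed Q ∧ ∀ P : Subgroup Ω, F.IsCentric P → F.IsRadical p P → Q ≤ P := by
  refine ⟨fun h => ⟨isNormal_stronglyClosed h, fun P hc hr => isNormal_le_centricRadical hS h hc hr⟩,
    fun ⟨hsc, h⟩ => isNormal_of_centricRadical hS hF hsc.1 fun P _ hc hr =>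
      ⟨h P hc hr, fun α hα x hx => (autGroup_mem_iff_of_stronglyClosed hsc hc.1 hα x).1 hx⟩⟩

/-! ### Stabilisers of series -/

/-- A power of `p` killing the action on a layer. -/
theorem exists_pow_fix (hS : IsPGroup p S) {P Z : Subgroup Ω} (hP : P ≤ S) {γ : MulAut P}
    (hinv : ∀ x : P, (x : Ω) ∈ Z → ((γ x : P) : Ω) ∈ Z) {a : ℕ}
    (hfix : ∀ x : P, (x : Ω) ∈ Z → (γ ^ p ^ a) x = x) :
    ∃ b, a ≤ b ∧ ∀ x : P, (x : Ω)⁻¹ * ((γ x : P) : Ω) ∈ Z → (γ ^ p ^ b) x = x := by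
  obtain ⟨k, hk⟩ := (IsPGroup.iff_card).1 hS
  refine ⟨a + k, Nat.le_add_right _ _, fun x hx => ?_⟩
  have hstep : ∀ n, (x : Ω)⁻¹ * (((γ ^ n) x : P) : Ω) ∈ Z := by
    intro n
    induction n with
    | zero => simp
    | succ n ih =>
      have h1 := hinv (x⁻¹ * (γ ^ n) x) (by simpa using ih)
      rw [map_mul, map_inv] at h1
      have h2 := Z.mul_mem hx h1
      rw [pow_succ', MulAut.mul_apply]
      simpa [mul_assoc] using h2
  set δ := γ ^ p ^ a with hδ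
  set w : P := x⁻¹ * δ x with hw
  have hwZ : (w : Ω) ∈ Z := by simpa [hw] using hstep (p ^ a)
  have hpow : ∀ n, (δ ^ n) x = x * w ^ n := by
    intro n
    induction n with
    | zero => simp
    | succ n ih =>
      rw [pow_succ', MulAut.mul_apply, ih, map_mul, map_pow, hfix w hwZ, hw]
      rw [pow_succ', ← mul_assoc, mul_inv_cancel_left]
  rw [pow_add, pow_mul, ← hδ, hpow]
  have hw1 : w ^ (p ^ k) = 1 := by
    haveI := finite_sub hP
    refine orderOf_dvd_iff_pow_eq_one.1 ((orderOf_dvd_natCard w).trans ?_)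
    rw [← hk]
    exact Subgroup.card_dvd_of_le hP
  rw [hw1, mul_one]

/-- The automorphisms of `P` preserving each `A i` and acting trivially modulo it on `B i`. -/
def layerStab (P : Subgroup Ω) {ι : Type*} (A B : ι → Subgroup Ω) : Subgroup (MulAut P) where
  carrier := {γ | ∀ i, (∀ x : P, (x : Ω) ∈ A i ↔ ((γ x : P) : Ω) ∈ A i) ∧
    ∀ x : P, (x : Ω) ∈ B i → (x : Ω)⁻¹ * ((γ x : P) : Ω) ∈ A i}
  one_mem' := fun i => ⟨fun _ => Iff.rfl, fun x _ => by simp⟩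
  mul_mem' := by
    intro a b ha hb i
    refine ⟨fun x => ((hb i).1 x).trans ((ha i).1 _), fun x hx => ?_⟩
    have h1 := (ha i).2 x hx
    have h2 := ((ha i).1 (x⁻¹ * b x)).1 (by simpa using (hb i).2 x hx)
    rw [map_mul, map_inv] at h2
    have := (A i).mul_mem h1 h2
    simpa [mul_assoc] using this
  inv_mem' := by
    intro γ hγ i
    refine ⟨fun x => ?_, fun x hx => ?_⟩
    · have := (hγ i).1 (γ⁻¹ x)
      rw [MulAut.apply_inv_self] at this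
      exact this.symm
    · have h := ((hγ i).1 (x⁻¹ * γ⁻¹ x)).2
      rw [map_mul, MulAut.apply_inv_self, map_inv] at h
      refine h ?_
      simpa using (A i).inv_mem ((hγ i).2 x hx)

theorem layerStab_conj_mem {P : Subgroup Ω} {ι : Type*} {A B : ι → Subgroup Ω} {α k : MulAut P}
    (hA : ∀ i, ∀ x : P, (x : Ω) ∈ A i ↔ ((α x : P) : Ω) ∈ A i)
    (hB : ∀ i, ∀ x : P, (x : Ω) ∈ B i ↔ ((α x : P) : Ω) ∈ B i) (hk : k ∈ layerStab P A B) :
    α * k * α⁻¹ ∈ layerStab P A B := by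
  intro i
  refine ⟨fun x => ?_, fun x hx => ?_⟩
  · obtain ⟨y, rfl⟩ := α.surjective x
    rw [MulAut.mul_apply, MulAut.mul_apply, MulAut.inv_apply_self, ← hA i, ← hA i]
    exact (hk i).1 y
  · obtain ⟨y, rfl⟩ := α.surjective x
    rw [MulAut.mul_apply, MulAut.mul_apply, MulAut.inv_apply_self]
    have h1 := (hA i (y⁻¹ * k y)).1 (by simpa using (hk i).2 y ((hB i y).2 hx))
    simpa using h1

/-- `Q` lies in `P` (centric radical) when it stabilises layers whose stabiliser is a `p`-group. -/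
theorem le_of_layerStab (hS : IsPGroup p S) {P Q : Subgroup Ω} (hc : F.IsCentric P) (hr : F.IsRadical p P)
    (hQ : F.StronglyClosed Q) {ι : Type*} (A B : ι → Subgroup Ω)
    (hA : ∀ i, ∀ α ∈ F.autGroup P, ∀ x : P, (x : Ω) ∈ A i ↔ ((α x : P) : Ω) ∈ A i)
    (hB : ∀ i, ∀ α ∈ F.autGroup P, ∀ x : P, (x : Ω) ∈ B i ↔ ((α x : P) : Ω) ∈ B i)
    (hQAB : ∀ i, ∀ q ∈ Q, ∀ x : P, (x : Ω) ∈ B i → (x : Ω)⁻¹ * (q * x * q⁻¹) ∈ A i)
    (hp : IsPGroup p ↥(layerStab P A B ⊓ F.autGroup P)) : Q ≤ P := by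
  refine le_of_autInducedBy_le_inn hS hc.1 hQ.1 (stronglyClosed_le_normalizer hQ)
    (hc.2 P (isConj_refl F hc.1)) (le_trans ?_ (le_inn_of_radical hr inf_le_right ?_ hp))
  · intro γ hγ
    obtain ⟨q, hq, he⟩ := mem_autInducedBy.1 hγ
    have hγF : γ ∈ F.autGroup P :=
      autInducedBy_le_autGroup F hc.1 (mem_autInducedBy.2 ⟨q, hQ.1 hq, he⟩)
    exact ⟨fun i => ⟨hA i γ hγF, fun x hx => by rw [he]; exact hQAB i q hq x hx⟩, hγF⟩
  · intro α hα k hk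
    exact ⟨layerStab_conj_mem (fun i => hA i α hα) (fun i => hB i α hα) hk.1,
      (F.autGroup P).mul_mem ((F.autGroup P).mul_mem hα hk.2) ((F.autGroup P).inv_mem hα)⟩

theorem comm_mem_of_le_normalizer {Q : Subgroup Ω} {x q : Ω} (hx : x ∈ Subgroup.normalizer (Q : Set Ω))
    (hq : q ∈ Q) : x⁻¹ * (q * x * q⁻¹) ∈ Q := by
  have := Q.mul_mem (conj_inv_mem_of_normalizer hx hq) (Q.inv_mem hq)
  simpa [mul_assoc] using this

theorem commutator_mem_of_le {Q A B : Subgroup Ω} (h : ⁅Q, B⁆ ≤ A) {q x : Ω} (hq : q ∈ Q) (hx : x ∈ B) :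
    x⁻¹ * (q * x * q⁻¹) ∈ A := by
  have h1 : ⁅q, x⁻¹⁆ ∈ A := h (Subgroup.commutator_mem_commutator hq (inv_mem hx))
  have h2 := A.inv_mem h1
  rw [commutatorElement_inv, commutatorElement_def] at h2
  simpa [mul_assoc] using h2

/-- A strongly closed subgroup with a central series of strongly closed subgroups is normal. -/
theorem isNormal_of_series (hS : IsPGroup p S) (hF : F.IsSaturated p) {Q : Subgroup Ω} {n : ℕ}
    (Qs : Fin (n + 1) → Subgroup Ω) (h0 : Qs 0 = ⊥) (hn : Qs (Fin.last n) = Q)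
    (hsc : ∀ i : Fin n, F.StronglyClosed (Qs i.succ))
    (hcomm : ∀ i : Fin n, ⁅Q, Qs i.succ⁆ ≤ Qs (Fin.castSucc i)) : F.IsNormal Q := by
  have hscA : ∀ i, F.StronglyClosed (Qs i) := by
    intro i
    refine Fin.cases ?_ hsc i
    rw [h0]
    exact ⟨bot_le, fun R hR φ _ x => Subgroup.mem_bot.2 (by
      rw [show x = 1 from Subtype.ext (Subgroup.mem_bot.1 (hR x.2)), map_one])⟩
  have hQsc : F.StronglyClosed Q := hn ▸ hscA _
  refine (isNormal_iff_centricRadical hS hF).2 ⟨hQsc, fun P hc hr => ?_⟩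
  let A : Option (Fin n) → Subgroup Ω := fun i => i.elim Q fun i => Qs (Fin.castSucc i)
  let B : Option (Fin n) → Subgroup Ω := fun i => i.elim ⊤ fun i => Qs i.succ
  refine le_of_layerStab hS hc hr hQsc A B ?_ ?_ ?_ ?_
  · rintro (_ | i) α hα x
    · exact autGroup_mem_iff_of_stronglyClosed hQsc hc.1 hα x
    · exact autGroup_mem_iff_of_stronglyClosed (hscA _) hc.1 hα x
  · rintro (_ | i) α hα x
    · exact ⟨fun _ => Subgroup.mem_top _, fun _ => Subgroup.mem_top _⟩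
    · exact autGroup_mem_iff_of_stronglyClosed (hsc i) hc.1 hα x
  · rintro (_ | i) q hq x hx
    · exact comm_mem_of_le_normalizer (stronglyClosed_le_normalizer hQsc (hc.1 x.2)) hq
    · exact commutator_mem_of_le (hcomm i) hq hx
  · rintro ⟨γ, hγ, -⟩
    have hfix : ∀ j : Fin (n + 1), ∃ a, ∀ x : P, (x : Ω) ∈ Qs j → (γ ^ p ^ a) x = x := by
      intro j
      induction j using Fin.induction with
      | zero =>
        refine ⟨0, fun x hx => ?_⟩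
        rw [h0, Subgroup.mem_bot] at hx
        rw [show x = 1 from Subtype.ext hx, map_one]
      | succ i ih =>
        obtain ⟨a, ha⟩ := ih
        obtain ⟨b, -, hb⟩ := exists_pow_fix hS hc.1
          (fun x hx => ((hγ (some i)).1 x).1 hx) ha
        exact ⟨b, fun x hx => hb x ((hγ (some i)).2 x hx)⟩
    obtain ⟨a, ha⟩ := hfix (Fin.last n)
    rw [hn] at ha
    obtain ⟨b, -, hb⟩ := exists_pow_fix hS hc.1 (fun x hx => ((hγ none).1 x).1 hx) ha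
    exact ⟨b, Subtype.ext (MulEquiv.ext fun x => hb x ((hγ none).2 x (Subgroup.mem_top _)))⟩

end Radical

end Cfsg.Agent.Lib.FS
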