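import Mathlib
import Cfsg.Agent.Lib.FusionSystem.Normal
import Cfsg.Agent.Lib.FusionSystem.Group

/-!
Consequences of the normality criteria: characteristic subgroups, series, abelian strongly closed subgroups,
the extension criterion, central subgroups.
-/

set_option autoImplicit false
set_option linter.style.haveILetI false

namespace Cfsg.Agent.Lib.FS

open Cfsg Cfsg.FusionSystem
open scoped commutatorElement

variable {Ω : Type*} [Group Ω] {S : Subgroup Ω} {F : FusionSystem S}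

/-- A characteristic subgroup of a normal subgroup is normal. -/
theorem isNormal_of_characteristic {Q U : Subgroup Ω} (hQ : F.IsNormal Q) (hUQ : U ≤ Q)
    (hU : (U.subgroupOf Q).Characteristic) : F.IsNormal U := by
  refine ⟨hUQ.trans hQ.1, fun P φ hφ => ?_⟩
  obtain ⟨ψ, hψ, he, hm⟩ := hQ.2 P φ hφ
  obtain ⟨τ, hτ, heτ⟩ := exists_restrict hψ (le_sup_right : Q ≤ P ⊔ Q)
  have hτr : τ.range = Q := by
    rw [map_subgroupOf_eq_range le_sup_right] at hm
    conv_rhs => rw [← hm]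
    exact congrArg _ (MonoidHom.ext heτ)
  have hUU := Subgroup.characteristic_iff_map_eq.1 hU (homEquiv hτ hτr)
  obtain ⟨θ, hθ, heθ⟩ := exists_restrict hψ (sup_le_sup_left hUQ P)
  refine ⟨θ, hθ, fun x => (heθ _).trans (he x), ?_⟩
  rw [map_subgroupOf_eq_range le_sup_right]
  have key : ∀ y : U, θ (Subgroup.inclusion le_sup_right y) =
      ((homEquiv hτ hτr ⟨y, hUQ y.2⟩ : Q) : Ω) := fun y => by
    rw [homEquiv_coe, heθ, heτ]; rfl
  ext z
  constructor
  · rintro ⟨y, rfl⟩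
    have h1 : homEquiv hτ hτr ⟨y, hUQ y.2⟩ ∈ (U.subgroupOf Q).map (homEquiv hτ hτr).toMonoidHom :=
      ⟨⟨y, hUQ y.2⟩, Subgroup.mem_subgroupOf.2 y.2, rfl⟩
    rw [hUU, Subgroup.mem_subgroupOf, ← key] at h1
    exact h1
  · intro hz
    obtain ⟨w, hw, hwz⟩ := hUU.ge (show (⟨z, hUQ hz⟩ : Q) ∈ U.subgroupOf Q from Subgroup.mem_subgroupOf.2 hz)
    exact ⟨⟨w, Subgroup.mem_subgroupOf.1 hw⟩, (key _).trans (congrArg (fun q : Q => (q : Ω)) hwz)⟩

theorem le_core_of_isNormal {Q : Subgroup Ω} (hQ : F.IsNormal Q) : Q ≤ F.core := le_sSup hQ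

theorem core_le_base (F : FusionSystem S) : F.core ≤ S := sSup_le fun _ h => h.1

section

variable [Finite S] {p : ℕ} [Fact p.Prime]

theorem isNormal_iff_series (hS : IsPGroup p S) (hF : F.IsSaturated p) {Q : Subgroup Ω} :
    F.IsNormal Q ↔ ∃ (n : ℕ) (Qs : Fin (n + 1) → Subgroup Ω), Qs 0 = ⊥ ∧ Qs (Fin.last n) = Q ∧
      Monotone Qs ∧ ∀ i : Fin n, F.StronglyClosed (Qs i.succ) ∧ ⁅Q, Qs i.succ⁆ ≤ Qs (Fin.castSucc i) := by
  refine ⟨fun hQ => ?_, fun ⟨n, Qs, h0, hn, _, h⟩ =>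
    isNormal_of_series hS hF Qs h0 hn (fun i => (h i).1) (fun i => (h i).2)⟩
  haveI := finite_sub hQ.1
  haveI : Group.IsNilpotent Q := (isPGroup_of_le hS hQ.1).isNilpotent
  obtain ⟨n, hn⟩ := Subgroup.nilpotent_iff_lowerCentralSeries.1 ‹Group.IsNilpotent Q›
  let L : ℕ → Subgroup Ω := fun k => ((⊤ : Subgroup Q).lowerCentralSeries k).map Q.subtype
  have hLnormal : ∀ k, F.IsNormal (L k) := fun k => by
    refine isNormal_of_characteristic hQ (Subgroup.map_subtype_le _) ?_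
    have : (L k).subgroupOf Q = (⊤ : Subgroup Q).lowerCentralSeries k :=
      Subgroup.comap_map_eq_self_of_injective Q.subtype_injective _
    rw [this]
    infer_instance
  refine ⟨n, fun i => L (n - i.val), ?_, ?_, ?_, fun i => ⟨isNormal_stronglyClosed (hLnormal _), ?_⟩⟩
  · show ((⊤ : Subgroup Q).lowerCentralSeries (n - 0)).map Q.subtype = ⊥
    rw [Nat.sub_zero, hn, Subgroup.map_bot]
  · simp [L, Subgroup.lowerCentralSeries_zero, ← MonoidHom.range_eq_map]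
  · exact fun i j hij => Subgroup.map_mono (Subgroup.lowerCentralSeries_antitone _ (Nat.sub_le_sub_left hij n))
  · have e : n - (Fin.castSucc i).val = (n - i.succ.val) + 1 := by
      simp only [Fin.val_castSucc, Fin.val_succ]; omega
    have h1 : L ((n - i.succ.val) + 1) = ⁅L (n - i.succ.val), Q⁆ := by
      show ((⊤ : Subgroup Q).lowerCentralSeries (_ + 1)).map Q.subtype = _
      rw [Subgroup.lowerCentralSeries_succ, Subgroup.map_commutator, ← MonoidHom.range_eq_map,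
        Subgroup.range_subtype]
    show ⁅Q, L (n - i.succ.val)⁆ ≤ L (n - (Fin.castSucc i).val)
    rw [e, h1, Subgroup.commutator_comm]

theorem commutator_eq_bot_of_commutative (A : Subgroup Ω) [IsMulCommutative A] : ⁅A, A⁆ = ⊥ := by
  rw [Subgroup.commutator_eq_bot_iff_le_centralizer]
  exact fun a ha b hb => congrArg (fun z : A => (z : Ω)) (mul_comm' (⟨b, hb⟩ : A) ⟨a, ha⟩)

theorem isNormal_of_abelian (hS : IsPGroup p S) (hF : F.IsSaturated p) {Q : Subgroup Ω}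
    [IsMulCommutative Q] (hQ : F.StronglyClosed Q) : F.IsNormal Q := by
  refine isNormal_of_series hS hF (n := 1) ![⊥, Q] rfl rfl (fun i => ?_) fun i => ?_
  · fin_cases i; exact hQ
  · fin_cases i
    exact (commutator_eq_bot_of_commutative Q).le

theorem core_ne_bot_iff (hS : IsPGroup p S) (hF : F.IsSaturated p) :
    F.core ≠ ⊥ ↔ ∃ Q : Subgroup Ω, Q ≠ ⊥ ∧ IsMulCommutative Q ∧ F.StronglyClosed Q := by
  constructor
  · intro hne
    have hN := FusionAlperin.Join.isNormal_core F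
    haveI := finite_sub hN.1
    haveI : Nontrivial F.core := (Subgroup.nontrivial_iff_ne_bot _).2 hne
    haveI := (isPGroup_of_le hS hN.1).center_nontrivial
    refine ⟨(Subgroup.center F.core).map F.core.subtype, ?_, ?_, ?_⟩
    · rw [Ne, Subgroup.map_eq_bot_iff_of_injective _ F.core.subtype_injective]
      exact (Subgroup.nontrivial_iff_ne_bot _).1 inferInstance
    · infer_instance
    · refine isNormal_stronglyClosed (isNormal_of_characteristic hN (Subgroup.map_subtype_le _) ?_)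
      rw [show ((Subgroup.center F.core).map F.core.subtype).subgroupOf F.core = Subgroup.center F.core from
        Subgroup.comap_map_eq_self_of_injective F.core.subtype_injective _]
      infer_instance
  · rintro ⟨Q, hne, hc, hsc⟩ h
    exact hne (le_bot_iff.1 (h ▸ le_core_of_isNormal (isNormal_of_abelian hS hF hsc)))

/-- Normality by extension to automorphisms. -/
theorem isNormal_iff_extend (hS : IsPGroup p S) (hF : F.IsSaturated p) {R : Subgroup Ω} (hRS : R ≤ S) :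
    F.IsNormal R ↔ ∀ (P : Subgroup Ω) (hPR : P ≤ R) (φ : P →* Ω), φ ∈ F.Hom P →
      ∃ α ∈ F.autGroup R, ∀ x : P, ((α (Subgroup.inclusion hPR x) : R) : Ω) = φ x := by
  haveI := finite_sub hRS
  constructor
  · intro hR P hPR φ hφ
    obtain ⟨ψ, hψ, he, hm⟩ := hR.2 P φ hφ
    obtain ⟨τ, hτ, heτ⟩ := exists_restrict hψ (le_sup_right : R ≤ P ⊔ R)
    have hτr : τ.range = R := range_eq_of_mem hτ
      (fun y => by rw [heτ]; exact hm.le ⟨_, Subgroup.mem_subgroupOf.2 y.2, rfl⟩) le_rfl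
    exact ⟨homEquiv hτ hτr, homEquiv_mem_autGroup hτ hτr, fun x => (heτ _).trans (he x)⟩
  intro h
  have hsc : F.StronglyClosed R := ⟨hRS, fun P hP φ hφ x => by
    obtain ⟨α, -, he⟩ := h P hP φ hφ
    rw [← he]; exact SetLike.coe_mem _⟩
  refine (isNormal_iff_centricRadical hS hF).2 ⟨hsc, fun P hc hr => ?_⟩
  let M : Subgroup (MulAut P) :=
    { carrier := {γ | (∀ x : P, (x : Ω) ∈ R ↔ ((γ x : P) : Ω) ∈ R) ∧
        ∃ g ∈ R, ∀ x : P, (x : Ω) ∈ R → ((γ x : P) : Ω) = g * x * g⁻¹}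
      one_mem' := ⟨fun _ => Iff.rfl, 1, R.one_mem, fun x _ => by simp⟩
      mul_mem' := by
        rintro a b ⟨ha, g, hg, hag⟩ ⟨hb, k, hk, hbk⟩
        refine ⟨fun x => (hb x).trans (ha _), g * k, R.mul_mem hg hk, fun x hx => ?_⟩
        rw [MulAut.mul_apply, hag _ ((hb x).1 hx), hbk x hx]; group
      inv_mem' := by
        rintro a ⟨ha, g, hg, hag⟩
        have hinv : ∀ x : P, (x : Ω) ∈ R ↔ ((a⁻¹ x : P) : Ω) ∈ R := fun x => by
          have := ha (a⁻¹ x)
          rw [MulAut.apply_inv_self] at this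
          exact this.symm
        refine ⟨hinv, g⁻¹, R.inv_mem hg, fun x hx => ?_⟩
        have := hag (a⁻¹ x) ((hinv x).1 hx)
        rw [MulAut.apply_inv_self] at this
        rw [this]; group }
  set K := layerStab P (fun _ : Unit => R) (fun _ => ⊤) ⊓ M ⊓ F.autGroup P
  refine le_of_autInducedBy_le_inn hS hc.1 hRS (stronglyClosed_le_normalizer hsc)
    (hc.2 P (isConj_refl F hc.1)) (le_trans ?_ (le_inn_of_radical hr (inf_le_right : K ≤ _) ?_ ?_))
  · intro γ hγ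
    obtain ⟨q, hq, he⟩ := mem_autInducedBy.1 hγ
    have hγF : γ ∈ F.autGroup P :=
      autInducedBy_le_autGroup F hc.1 (mem_autInducedBy.2 ⟨q, hRS hq, he⟩)
    have hiff := autGroup_mem_iff_of_stronglyClosed hsc hc.1 hγF
    exact ⟨⟨fun _ => ⟨hiff, fun x _ => by
      rw [he]; exact comm_mem_of_le_normalizer (stronglyClosed_le_normalizer hsc (hc.1 x.2)) hq⟩,
      hiff, q, hq, fun x _ => he x⟩, hγF⟩
  · rintro α hα k ⟨⟨hk₁, hk₂⟩, hk₃⟩
    have hαR := autGroup_mem_iff_of_stronglyClosed hsc hc.1 hα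
    refine ⟨⟨layerStab_conj_mem (fun _ => hαR)
      (fun _ _ => ⟨fun _ => Subgroup.mem_top _, fun _ => Subgroup.mem_top _⟩) hk₁, ?_⟩,
      (F.autGroup P).mul_mem ((F.autGroup P).mul_mem hα hk₃) ((F.autGroup P).inv_mem hα)⟩
    obtain ⟨hkR, g, hg, hkg⟩ := hk₂
    obtain ⟨φ, hφ, -, hφα⟩ := exists_hom_of_aut hc.1 hα
    obtain ⟨φ', hφ', heφ'⟩ := exists_restrict hφ (inf_le_left : P ⊓ R ≤ P)
    obtain ⟨β, -, hβ⟩ := h (P ⊓ R) inf_le_right φ' hφ'
    have hβα : ∀ (x : P) (hx : (x : Ω) ∈ R), ((β ⟨x, hx⟩ : R) : Ω) = ((α x : P) : Ω) := fun x hx => by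
      have := hβ ⟨x, x.2, hx⟩
      rw [heφ', hφα] at this
      exact this
    refine ⟨fun x => ?_, β ⟨g, hg⟩, SetLike.coe_mem _, fun x hx => ?_⟩
    · obtain ⟨y, rfl⟩ := α.surjective x
      rw [MulAut.mul_apply, MulAut.mul_apply, MulAut.inv_apply_self, ← hαR, ← hαR]
      exact hkR y
    · obtain ⟨y, rfl⟩ := α.surjective x
      have hy : (y : Ω) ∈ R := (hαR y).2 hx
      rw [MulAut.mul_apply, MulAut.mul_apply, MulAut.inv_apply_self, ← hβα y hy,
        ← hβα (k y) ((hkR y).1 hy)]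
      have e : (⟨(k y : P), (hkR y).1 hy⟩ : R) = ⟨g, hg⟩ * ⟨y, hy⟩ * ⟨g, hg⟩⁻¹ := Subtype.ext (hkg y hy)
      rw [e, map_mul, map_mul, map_inv]; rfl
  · rintro ⟨γ, ⟨hγ₁, hγR, g, hg, hγg⟩, -⟩
    obtain ⟨k, hk⟩ := (IsPGroup.iff_card).1 hS
    have hg1 : g ^ p ^ k = 1 := by
      have h1 : (⟨g, hRS hg⟩ : S) ^ p ^ k = 1 :=
        orderOf_dvd_iff_pow_eq_one.1 (hk ▸ orderOf_dvd_natCard _)
      exact congrArg (fun z : S => (z : Ω)) h1
    have hpow : ∀ (m : ℕ) (x : P), (x : Ω) ∈ R →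
        (((γ ^ m) x : P) : Ω) = g ^ m * x * (g ^ m)⁻¹ ∧ (((γ ^ m) x : P) : Ω) ∈ R := by
      intro m
      induction m with
      | zero => exact fun x hx => ⟨by simp, by simpa using hx⟩
      | succ m ih =>
        intro x hx
        rw [pow_succ', MulAut.mul_apply]
        refine ⟨?_, (hγR _).1 (ih x hx).2⟩
        rw [hγg _ (ih x hx).2, (ih x hx).1, pow_succ']; group
    have hfix : ∀ x : P, (x : Ω) ∈ R → (γ ^ p ^ k) x = x := fun x hx =>
      Subtype.ext (by rw [(hpow _ x hx).1, hg1]; simp)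
    obtain ⟨b, -, hb⟩ := exists_pow_fix hS hc.1 (fun x hx => (hγR x).1 hx) hfix
    exact ⟨b, Subtype.ext (MulEquiv.ext fun x => hb x ((hγ₁ ()).2 x (Subgroup.mem_top _)))⟩

theorem isNormal_of_normal_le (hS : IsPGroup p S) (hF : F.IsSaturated p) {Q Q₁ : Subgroup Ω}
    (hQ : F.StronglyClosed Q) (hQ₁ : F.IsNormal Q₁) (hab : ⁅Q, Q⁆ ≤ Q₁)
    (hAut : IsPGroup p ↥(F.autGroup Q₁)) : F.IsNormal Q := by
  refine (isNormal_iff_centricRadical hS hF).2 ⟨hQ, fun P hc hr => ?_⟩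
  have hQ₁P : Q₁ ≤ P := isNormal_le_centricRadical hS hQ₁ hc hr
  have hsc₁ := isNormal_stronglyClosed hQ₁
  haveI := finite_sub hQ₁.1
  let A : Bool → Subgroup Ω := fun b => if b then Q else Q₁
  let B : Bool → Subgroup Ω := fun b => if b then ⊤ else Q
  refine le_of_layerStab hS hc hr hQ A B ?_ ?_ ?_ ?_
  · rintro (_ | _) α hα x
    · exact autGroup_mem_iff_of_stronglyClosed hsc₁ hc.1 hα x
    · exact autGroup_mem_iff_of_stronglyClosed hQ hc.1 hα x
  · rintro (_ | _) α hα x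
    · exact autGroup_mem_iff_of_stronglyClosed hQ hc.1 hα x
    · exact ⟨fun _ => Subgroup.mem_top _, fun _ => Subgroup.mem_top _⟩
  · rintro (_ | _) q hq x hx
    · exact commutator_mem_of_le hab hq hx
    · exact comm_mem_of_le_normalizer (stronglyClosed_le_normalizer hQ (hc.1 x.2)) hq
  · rintro ⟨γ, hγ, hγF⟩
    obtain ⟨φ, hφ, -, hφγ⟩ := exists_hom_of_aut hc.1 hγF
    obtain ⟨τ, hτ, heτ⟩ := exists_restrict hφ hQ₁P
    have hτr : τ.range = Q₁ := range_eq_of_mem hτ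
      (fun y => by rw [heτ, hφγ]; exact ((hγ false).1 _).1 y.2) le_rfl
    obtain ⟨a, ha⟩ := hAut ⟨homEquiv hτ hτr, homEquiv_mem_autGroup hτ hτr⟩
    have hpow : ∀ (m : ℕ) (x : P) (hx : (x : Ω) ∈ Q₁),
        (((γ ^ m) x : P) : Ω) = ((homEquiv hτ hτr ^ m : MulAut Q₁) ⟨x, hx⟩ : Q₁) := by
      intro m
      induction m with
      | zero => intro x hx; simp
      | succ m ih =>
        intro x hx
        rw [pow_succ', pow_succ', MulAut.mul_apply, MulAut.mul_apply, homEquiv_coe, heτ, hφγ]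
        exact congrArg (fun z : P => ((γ z : P) : Ω)) (Subtype.ext (ih x hx))
    have hfix : ∀ x : P, (x : Ω) ∈ Q₁ → (γ ^ p ^ a) x = x := fun x hx => by
      apply Subtype.ext
      rw [hpow _ x hx]
      have h1 : (homEquiv hτ hτr : MulAut Q₁) ^ p ^ a = 1 := congrArg Subtype.val ha
      rw [h1]; rfl
    obtain ⟨b, -, hb⟩ := exists_pow_fix hS hc.1 (fun x hx => ((hγ false).1 x).1 hx) hfix
    obtain ⟨b', -, hb'⟩ := exists_pow_fix hS hc.1 (fun x hx => ((hγ true).1 x).1 hx)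
      (fun x hx => hb x ((hγ false).2 x hx))
    exact ⟨b', Subtype.ext (MulEquiv.ext fun x => hb' x ((hγ true).2 x (Subgroup.mem_top _)))⟩

theorem isCentral_iff (hS : IsPGroup p S) (hF : F.IsSaturated p) {Q : Subgroup Ω} :
    F.IsCentral Q ↔ (Q ≤ S ∧ ∀ x ∈ Q, ∀ y : Ω, F.IsConjElt x y → y = x) := by
  constructor
  · rintro ⟨hQS, h⟩
    refine ⟨hQS, fun x hx y ⟨φ, hφ, hy⟩ => ?_⟩
    obtain ⟨ψ, -, he, hfix⟩ := h _ φ hφ
    rw [← hy, ← he]
    exact hfix ⟨x, hx⟩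
  rintro ⟨hQS, h⟩
  have hfix : ∀ {P : Subgroup Ω} {φ : P →* Ω}, φ ∈ F.Hom P → ∀ x : P, (x : Ω) ∈ Q → φ x = x := by
    intro P φ hφ x hx
    obtain ⟨τ, hτ, heτ⟩ := exists_restrict hφ (Subgroup.zpowers_le.2 x.2)
    exact (heτ ⟨x, Subgroup.mem_zpowers _⟩).symm.trans (h _ hx _ ⟨τ, hτ, rfl⟩)
  have hQC : Q ≤ Subgroup.centralizer (S : Set Ω) := fun x hx g hg => by
    have h1 : g * x * g⁻¹ = x := hfix (F.conj_mem le_rfl hg) ⟨x, hQS hx⟩ hx
    conv_rhs => rw [← h1]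
    group
  have hsc : F.StronglyClosed Q :=
    ⟨hQS, fun R hR φ hφ x => by rw [hfix hφ x (hR x.2)]; exact hR x.2⟩
  have hN : F.IsNormal Q := (isNormal_iff_centricRadical hS hF).2 ⟨hsc, fun P hc _ => by
    refine le_trans (fun x hx => ?_) (hc.2 P (isConj_refl F hc.1))
    exact ⟨hQS hx, fun y hy => hQC hx y (hc.1 hy)⟩⟩
  refine ⟨hQS, fun P φ hφ => ?_⟩
  obtain ⟨ψ, hψ, he, -⟩ := hN.2 P φ hφ
  exact ⟨ψ, hψ, he, fun x => hfix hψ _ x.2⟩

theorem group_class_two {G : Type*} [Group G] [Finite G] (S : Sylow p G)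
    (hcl : ⁅(S : Subgroup G), (S : Subgroup G)⁆ ≤ (S : Subgroup G) ⊓ Subgroup.centralizer ((S : Subgroup G) : Set G))
    (hZ : Cfsg.IsStronglyClosed ((S : Subgroup G) ⊓ Subgroup.centralizer ((S : Subgroup G) : Set G)) (S : Subgroup G)) :
    (∀ (P : Subgroup G) (φ : P →* G), φ ∈ (groupFusionSystem (S : Subgroup G)).Hom P →
      ∃ g ∈ Subgroup.normalizer ((S : Subgroup G) : Set G), ∀ x : P, φ x = g * (x : G) * g⁻¹) ∧
    (groupFusionSystem (S : Subgroup G)).core = S := by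
  set F := groupFusionSystem (S : Subgroup G)
  set Z := (S : Subgroup G) ⊓ Subgroup.centralizer ((S : Subgroup G) : Set G)
  have hscZ : F.StronglyClosed Z := ⟨inf_le_left, fun R hR φ hφ x => by
    obtain ⟨hRS, hφS, g, hg⟩ := mem_groupHom.1 hφ
    rw [hg]
    exact hZ.2 _ (hR x.2) g (hg x ▸ hφS x)⟩
  have hscS : F.StronglyClosed (S : Subgroup G) := ⟨le_rfl, fun R _ φ hφ x => apply_mem hφ x⟩
  have hcom : ⁅(S : Subgroup G), Z⁆ ≤ (⊥ : Subgroup G) := by
    rw [le_bot_iff, Subgroup.commutator_comm, Subgroup.commutator_eq_bot_iff_le_centralizer]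
    exact inf_le_right
  have hN : F.IsNormal (S : Subgroup G) := by
    refine isNormal_of_series (n := 2) S.isPGroup' (isSaturated_group S) ![⊥, Z, (S : Subgroup G)] rfl rfl
      (fun i => ?_) fun i => ?_
    · fin_cases i
      · exact hscZ
      · exact hscS
    · fin_cases i
      · exact hcom
      · exact hcl
  refine ⟨fun P φ hφ => ?_, le_antisymm (core_le_base F) (le_core_of_isNormal hN)⟩
  obtain ⟨ψ, hψ, he, hm⟩ := hN.2 P φ hφ
  obtain ⟨-, -, g, hg⟩ := mem_groupHom.1 hψ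
  refine ⟨g, ?_, fun x => by rw [← he, hg]; rfl⟩
  haveI : Finite (S : Subgroup G) := inferInstance
  refine mem_normalizer_of_conj_mem fun y hy => ?_
  have h1 := hm.le ⟨⟨y, (le_sup_right : (S : Subgroup G) ≤ P ⊔ S) hy⟩, Subgroup.mem_subgroupOf.2 hy, rfl⟩
  rw [hg] at h1
  exact h1

end

end Cfsg.Agent.Lib.FS
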