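import Mathlib
import Cfsg.Agent.Lib.FusionSystem.NormalFacts
import Cfsg.Agent.Lib.FusionEssential.Proper

/-!
Essential subgroups and the Alperin–Goldschmidt theorem for saturated fusion systems.
-/

set_option autoImplicit false
set_option linter.style.haveILetI false
set_option linter.unusedSectionVars false

namespace Cfsg.Agent.Lib.FS

open Cfsg Cfsg.FusionSystem
open Cfsg.Agent.Lib.FusionP3.Induction (lt_normalizerIn preimageAut le_preimageAut exists_extend_preimage)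

variable {Ω : Type*} [Group Ω] {S : Subgroup Ω} [Finite S] {p : ℕ} [Fact p.Prime] {F : FusionSystem S}

/-- Essential subgroups are radical. -/
theorem radical_of_essential (hS : IsPGroup p S) (hF : F.IsSaturated p) {P : Subgroup Ω}
    (hP : F.IsEssential p P) : F.IsRadical p P := by
  obtain ⟨M, ⟨a, ha, haM⟩, -, hM, -⟩ := FusionEssential.exists_data hS hF hP
  have hPS := hP.2.1.1
  haveI := finite_sub hPS
  refine ⟨hPS, le_antisymm ?_ ?_⟩
  · intro w hw
    by_contra hwi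
    obtain ⟨v, hv, rfl⟩ := hw
    obtain ⟨R, hR⟩ := (fullyAutomized_of_fullyNormalized hS hF hP.2.1).2
    have hin : ∀ z ∈ pCore p (F.autGroup P), (z : MulAut P) ∈ autInducedBy S P := fun z hz =>
      Subgroup.mem_subgroupOf.1 (hR ▸ Cores.pCore_le_sylow R hz)
    haveI : (pCore p (F.autGroup P)).Normal := inferInstance
    exact haM (hM a ha v (hin v hv) hwi
      (hin (⟨a, ha⟩ * v * ⟨a, ha⟩⁻¹) (Subgroup.Normal.conj_mem inferInstance v hv ⟨a, ha⟩)))
  · intro w hw
    have hwX := inn_le_autGroup F hPS hw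
    haveI : ((Inn P).subgroupOf (F.autGroup P)).Normal := hP.2.2.fst
    refine ⟨⟨w, hwX⟩, Cores.le_pCore ?_ (Subgroup.mem_subgroupOf.2 hw), rfl⟩
    refine IsPGroup.of_equiv ?_ (Subgroup.subgroupOfEquivOfLe (inn_le_autGroup F hPS)).symm
    exact (isPGroup_of_le hS hPS).of_surjective (MulAut.conj (G := P)).rangeRestrict
      (MulAut.conj (G := P)).rangeRestrict_surjective

/-- The automorphisms of `P` which extend to a larger subgroup. -/
def extendable (F : FusionSystem S) (P : Subgroup Ω) : Set (MulAut P) :=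
  {α : MulAut P | ∃ (Q : Subgroup Ω) (hPQ : P < Q) (φ : Q →* Ω), φ ∈ F.Hom Q ∧
    ∀ x : P, φ (Subgroup.inclusion hPQ.le x) = α x}

theorem extendable_subset (P : Subgroup Ω) : extendable F P ⊆ F.autGroup P := by
  rintro α ⟨Q, hPQ, φ, hφ, he⟩
  obtain ⟨ψ, hψ, heψ⟩ := exists_restrict hφ hPQ.le
  exact mem_autGroup_of_hom hψ fun x => ((heψ x).trans (he x)).symm

theorem autInducedBy_subset_extendable (hS : IsPGroup p S) {P : Subgroup Ω} (hPS : P < S) :
    (autInducedBy S P : Set (MulAut P)) ⊆ extendable F P := fun α hα => by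
  obtain ⟨g, hg, he⟩ := mem_autInducedBy.1 hα
  exact ⟨normalizerIn S P, lt_normalizerIn hS hPS, conjHom _ g, F.conj_mem (normalizerIn_le P) hg,
    fun x => (he x).symm⟩

/-- An element of `N_S(P)` outside `P` induces a non-inner automorphism when `C_S(P) ≤ P`. -/
theorem not_inn_of_not_mem {P : Subgroup Ω} (hC : centralizerIn S P ≤ P) (hPS : P ≤ S) {g : Ω}
    (hg : g ∈ normalizerIn S P) (hgP : g ∉ P) : P.normalizerMonoidHom ⟨g, hg.2⟩ ∉ Inn P := by
  rintro ⟨w, hw⟩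
  have hc : (w : Ω)⁻¹ * g ∈ centralizerIn S P := by
    refine mem_centralizerIn'.2 ⟨S.mul_mem (S.inv_mem (hPS w.2)) hg.1, fun y hy => ?_⟩
    have h2 : (w : Ω) * y * (w : Ω)⁻¹ = g * y * g⁻¹ :=
      congrArg (fun f : MulAut P => ((f ⟨y, hy⟩ : P) : Ω)) hw
    calc (w : Ω)⁻¹ * g * y * ((w : Ω)⁻¹ * g)⁻¹ = (w : Ω)⁻¹ * (g * y * g⁻¹) * w := by group
      _ = y := by rw [← h2]; group
  have := P.mul_mem w.2 (hC hc)
  exact hgP (by simpa using this)

theorem extendable_le_of_data (hS : IsPGroup p S) {P : Subgroup Ω} (hc : F.IsCentric P)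
    {M : Subgroup (MulAut P)}
    (hM : ∀ a ∈ F.autGroup P, ∀ u ∈ autInducedBy S P, u ∉ Inn P →
      a * u * a⁻¹ ∈ autInducedBy S P → a ∈ M) : extendable F P ⊆ M := by
  rintro α ⟨Q, hPQ, φ, hφ, he⟩
  have hαA : α ∈ F.autGroup P := extendable_subset P ⟨Q, hPQ, φ, hφ, he⟩
  haveI := finite_sub (src_le hφ)
  haveI := finite_sub hc.1
  obtain ⟨g, ⟨hgQ, hgN⟩, hgP⟩ := SetLike.exists_of_lt (lt_normalizerIn (isPGroup_of_le hS (src_le hφ)) hPQ)
  have hg : g ∈ normalizerIn S P := ⟨src_le hφ hgQ, hgN⟩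
  refine hM α hαA _ (mem_autInducedBy.2 ⟨g, hg.1, fun _ => rfl⟩) (not_inn_of_not_mem (hc.2 P (isConj_refl F hc.1)) hc.1 hg hgP) ?_
  refine mem_autInducedBy.2 ⟨φ ⟨g, hgQ⟩, apply_mem hφ _, fun y => ?_⟩
  obtain ⟨x, rfl⟩ := α.surjective y
  rw [MulAut.mul_apply, MulAut.mul_apply, MulAut.inv_apply_self, ← he, ← he, ← map_inv, ← map_mul,
    ← map_mul]
  rfl

/-- The image in `Out_F(P)` of the group generated by extendable automorphisms contains the core of a Sylow
subgroup. -/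
theorem stronglyPEmbedded_extendable (hS : IsPGroup p S) (hF : F.IsSaturated p) {P : Subgroup Ω} (hPS : P < S)
    (hPn : F.IsFullyNormalized P) (hcen : centralizerIn S P ≤ P)
    [((Inn P).subgroupOf (F.autGroup P)).Normal] {α : MulAut P} (hα : α ∈ F.autGroup P)
    (hαH : α ∉ Subgroup.closure (extendable F P)) :
    Cfsg.IsStronglyPEmbedded p (((Subgroup.closure (extendable F P)).subgroupOf (F.autGroup P)).map
      (QuotientGroup.mk' ((Inn P).subgroupOf (F.autGroup P)))) := by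
  haveI := finite_sub hPS.le
  set H := Subgroup.closure (extendable F P) with hH
  set π := QuotientGroup.mk' ((Inn P).subgroupOf (F.autGroup P))
  refine ⟨?_, ?_, ?_⟩
  all_goals
    obtain ⟨R, hR⟩ := (fullyAutomized_of_fullyNormalized hS hF hPn).2
  · obtain ⟨g, ⟨hgS, hgN⟩, hgP⟩ := SetLike.exists_of_lt (lt_normalizerIn hS hPS)
    set u : F.autGroup P := ⟨P.normalizerMonoidHom ⟨g, hgN⟩,
      autInducedBy_le_autGroup F hPS.le (mem_autInducedBy.2 ⟨g, hgS, fun _ => rfl⟩)⟩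
    set T := R.mapSurjective (QuotientGroup.mk'_surjective ((Inn P).subgroupOf (F.autGroup P)))
    have hu : π u ∈ (T : Subgroup (↥(F.autGroup P) ⧸ (Inn P).subgroupOf (F.autGroup P))) :=
      ⟨u, by show u ∈ (R : Subgroup (F.autGroup P)); rw [hR]
             exact Subgroup.mem_subgroupOf.2 (mem_autInducedBy.2 ⟨g, hgS, fun _ => rfl⟩), rfl⟩
    have hu1 : π u ≠ 1 := fun h => not_inn_of_not_mem hcen hPS.le ⟨hgS, hgN⟩ hgP
      (Subgroup.mem_subgroupOf.1 ((QuotientGroup.eq_one_iff u).1 h))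
    obtain ⟨k, hk⟩ := IsPGroup.iff_card.1 T.isPGroup'
    have hk0 : k ≠ 0 := by
      rintro rfl
      rw [pow_zero] at hk
      have := Subgroup.eq_bot_of_card_eq _ hk
      exact hu1 (Subgroup.mem_bot.1 (this ▸ hu))
    exact (hk ▸ dvd_pow_self p hk0).trans (Subgroup.card_subgroup_dvd_card _)
  · intro htop
    have h1 : π ⟨α, hα⟩ ∈ (H.subgroupOf (F.autGroup P)).map π := htop ▸ Subgroup.mem_top _
    obtain ⟨b, hb, hbe⟩ := h1
    have h2 := (QuotientGroup.eq_one_iff (b⁻¹ * ⟨α, hα⟩)).1 (by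
      show π (b⁻¹ * ⟨α, hα⟩) = 1
      rw [map_mul, map_inv, hbe, inv_mul_cancel])
    have hInn : Inn P ≤ H := fun w hw => Subgroup.subset_closure
      (autInducedBy_subset_extendable hS hPS (inn_le_autInducedBy hPS.le hw))
    have h3 := H.mul_mem (Subgroup.mem_subgroupOf.1 hb) (hInn (Subgroup.mem_subgroupOf.1 h2))
    simp only [Subgroup.coe_mul, Subgroup.coe_inv] at h3
    exact hαH (by simpa using h3)
  · refine ⟨R.mapSurjective (QuotientGroup.mk'_surjective _), iSup_le fun U => ?_⟩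
    intro z hz
    obtain ⟨a, rfl⟩ := QuotientGroup.mk'_surjective _ z
    refine ⟨a, Subgroup.mem_subgroupOf.2 (Subgroup.subset_closure ?_), rfl⟩
    obtain ⟨U, hUR, hUr⟩ := U
    set W := (U.comap π).map (F.autGroup P).subtype with hW
    have hInnR : (Inn P).subgroupOf (F.autGroup P) ≤ (R : Subgroup (F.autGroup P)) := by
      rw [hR]
      exact fun w hw => Subgroup.mem_subgroupOf.2 (inn_le_autInducedBy hPS.le (Subgroup.mem_subgroupOf.1 hw))
    have hWS : W ≤ autInducedBy S P := by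
      rintro _ ⟨w, hw, rfl⟩
      obtain ⟨r, hr, hrw⟩ := hUR hw
      have h1 : r⁻¹ * w ∈ (Inn P).subgroupOf (F.autGroup P) := (QuotientGroup.eq_one_iff _).1 (by
        show π (r⁻¹ * w) = 1
        rw [map_mul, map_inv, show π r = π w from hrw, inv_mul_cancel])
      have h2 := (R : Subgroup (F.autGroup P)).mul_mem hr (hInnR h1)
      rw [mul_inv_cancel_left, hR] at h2
      exact Subgroup.mem_subgroupOf.1 h2
    have hInnW : Inn P ≤ W := fun w hw => by
      refine ⟨⟨w, inn_le_autGroup F hPS.le hw⟩, ?_, rfl⟩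
      show π _ ∈ U
      rw [show π ⟨w, inn_le_autGroup F hPS.le hw⟩ = 1 from
        (QuotientGroup.eq_one_iff _).2 (Subgroup.mem_subgroupOf.2 hw)]
      exact U.one_mem
    obtain ⟨ψ, hψ, he⟩ := exists_extend_preimage (receptive_of_fullyNormalized hS hF hPn) hWS a.2
      (fun w hw => by
        obtain ⟨w, hw, rfl⟩ := hw
        refine ⟨a * w * a⁻¹, ?_, rfl⟩
        show π (a * w * a⁻¹) ∈ U
        rw [map_mul, map_mul, map_inv]
        exact (hz (π w)).1 hw)
    have hlt : P < preimageAut S P W := by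
      refine lt_of_le_of_ne (le_preimageAut hPS.le hInnW) fun heq => hUr ?_
      have hU1 : U = ⊥ := by
        rw [eq_bot_iff]
        intro u hu
        obtain ⟨w, rfl⟩ := QuotientGroup.mk'_surjective _ u
        rw [Subgroup.mem_bot]
        refine (QuotientGroup.eq_one_iff w).2 (Subgroup.mem_subgroupOf.2 ?_)
        obtain ⟨g, hg, hge⟩ := mem_autInducedBy.1 (hWS ⟨w, hu, rfl⟩)
        have hgP : g ∈ P := by
          rw [heq]; exact ⟨⟨hg, mem_normalizer_of_aut hge⟩, _, ⟨w, hu, rfl⟩, hge⟩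
        exact ⟨⟨g, hgP⟩, MulEquiv.ext fun x => Subtype.ext (hge x).symm⟩
      subst hU1
      intro A _ _
      have : Nat.card A ≤ 1 := by
        haveI : Subsingleton A := ⟨fun x y => Subtype.ext (Subsingleton.elim _ _)⟩
        exact (Finite.card_le_one_iff_subsingleton).2 inferInstance
      simpa using this
    exact ⟨_, hlt, ψ, hψ, fun x => he x x.2 (hlt.le x.2)⟩

/-- The dichotomy for the group generated by the extendable automorphisms. -/
theorem extendable_closure (hS : IsPGroup p S) (hF : F.IsSaturated p) {P : Subgroup Ω} (hPS : P < S)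
    (hPn : F.IsFullyNormalized P) :
    (¬ F.IsEssential p P ∧ Subgroup.closure (extendable F P) = F.autGroup P) ∨
    (F.IsEssential p P ∧ ∃ _ : ((Cfsg.Inn P).subgroupOf (F.autGroup P)).Normal,
      Cfsg.IsStronglyPEmbedded p (((Subgroup.closure (extendable F P)).subgroupOf (F.autGroup P)).map
        (QuotientGroup.mk' ((Cfsg.Inn P).subgroupOf (F.autGroup P))))) := by
  haveI := finite_sub hPS.le
  set H := Subgroup.closure (extendable F P) with hH
  have hHA : H ≤ F.autGroup P := (Subgroup.closure_le _).2 (extendable_subset P)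
  by_cases hess : F.IsEssential p P
  swap
  · by_cases hcen : centralizerIn S P ≤ P
    swap
    · refine Or.inl ⟨hess, le_antisymm hHA fun α hα => Subgroup.subset_closure ?_⟩
      obtain ⟨φ, hφ, hr, he⟩ := exists_hom_of_aut hPS.le hα
      obtain ⟨ψ, hψ, hext⟩ := (receptive_of_fullyNormalized hS hF hPn).2 P φ hφ hr
      have hlt : P < extender S P φ := lt_of_le_of_ne (le_extender hPS.le (apply_mem hφ)) fun h =>
        hcen ((centralizerIn_le_extender P φ).trans h.ge)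
      exact ⟨_, hlt, ψ, hψ, fun x => (hext x x.2 (hlt.le x.2)).trans (he x)⟩
    refine Or.inl ⟨hess, le_antisymm hHA fun α hα => ?_⟩
    by_contra hαH
    refine hess ?_
    haveI hN : ((Inn P).subgroupOf (F.autGroup P)).Normal := by
      refine ⟨fun n hn g => ?_⟩
      obtain ⟨q, hq⟩ := Subgroup.mem_subgroupOf.mp hn
      refine Subgroup.mem_subgroupOf.mpr ⟨g.1 q, ?_⟩
      rw [Subgroup.coe_mul, Subgroup.coe_mul, Subgroup.coe_inv, ← hq]
      exact MulEquiv.ext fun x => by simp [MulAut.mul_apply, MulAut.conj_apply]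
    refine ⟨FusionP3.Induction.isCentric_of_centralizerIn_le (fullyNormalized_props hS hF hPn).1 hcen,
      hPn, hN, ?_⟩
    exact ⟨_, stronglyPEmbedded_extendable hS hF hPS hPn hcen hα hαH⟩
  · refine Or.inr ⟨hess, hess.2.2.fst, ?_⟩
    obtain ⟨M, ⟨a, ha, haM⟩, -, hM, -⟩ := FusionEssential.exists_data hS hF hess
    haveI := hess.2.2.fst
    exact stronglyPEmbedded_extendable hS hF hPS hPn (hess.1.2 P (isConj_refl F hPS.le)) ha fun h =>
      haM ((Subgroup.closure_le _).2 (extendable_le_of_data hS hess.1 hM) h)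

/-- Alperin–Goldschmidt induction: a property of maps closed under composition and restriction which holds on
`Aut_F(S)` and on `Aut_F(P)` for essential `P` holds for all maps. -/
theorem essential_induction (hS : IsPGroup p S) (hF : F.IsSaturated p)
    {M : ∀ P : Subgroup Ω, (P →* Ω) → Prop}
    (comp : ∀ (P Q : Subgroup Ω) (φ : P →* Ω) (ψ : Q →* Ω) (χ : P →* Ω), φ ∈ F.Hom P → ψ ∈ F.Hom Q →
      ∀ h : ∀ x, φ x ∈ Q, (∀ x, χ x = ψ ⟨φ x, h x⟩) → M P φ → M Q ψ → M P χ)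
    (restrict : ∀ (P Q : Subgroup Ω) (φ : P →* Ω) (ψ : Q →* Ω) (h : P ≤ Q), ψ ∈ F.Hom Q →
      (∀ x : P, φ x = ψ ⟨x, h x.2⟩) → M Q ψ → M P φ)
    (aut : ∀ P : Subgroup Ω, (P = S ∨ F.IsEssential p P) → ∀ α ∈ F.autGroup P,
      M P (P.subtype.comp α.toMonoidHom)) :
    ∀ (P : Subgroup Ω) (φ : P →* Ω), φ ∈ F.Hom P → M P φ := by
  refine FusionP3.Induction.hom_induction hS hF comp restrict fun P hPn _ _ α hα big => ?_
  rcases eq_or_lt_of_le hPn.1 with hPS | hPS
  · exact aut P (Or.inl hPS) α hα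
  haveI := finite_sub hPn.1
  rcases extendable_closure hS hF hPS hPn with ⟨-, hH⟩ | ⟨he, -⟩
  swap
  · exact aut P (Or.inr he) α hα
  have hbase : ∀ β ∈ extendable F P, M P (P.subtype.comp β.toMonoidHom) := by
    rintro β ⟨Q, hPQ, φ, hφ, he⟩
    haveI := finite_sub (src_le hφ)
    refine restrict P Q _ φ hPQ.le hφ (fun x => (he x).symm) (big Q ?_ φ hφ)
    exact lt_of_not_ge fun h => hPQ.ne (Subgroup.eq_of_le_of_card_ge hPQ.le h)
  have hone : M P (P.subtype.comp (1 : MulAut P).toMonoidHom) :=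
    hbase 1 ⟨normalizerIn S P, lt_normalizerIn hS hPS, (normalizerIn S P).subtype,
      subtype_mem F (normalizerIn_le P), fun x => rfl⟩
  rw [← hH] at hα
  refine (Subgroup.closure_induction (p := fun β _ =>
    β ∈ F.autGroup P ∧ M P (P.subtype.comp β.toMonoidHom))
    (fun β hβ => ⟨extendable_subset P hβ, hbase β hβ⟩) ⟨one_mem _, hone⟩ ?_ ?_ hα).2
  · rintro a b - - ⟨ha, hMa⟩ ⟨hb, hMb⟩
    exact ⟨mul_mem ha hb, comp P P _ _ _ ((mem_autGroup hPn.1).1 hb) ((mem_autGroup hPn.1).1 ha)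
      (fun x => (b x).2) (fun x => rfl) hMb hMa⟩
  · rintro a - ⟨ha, hMa⟩
    refine ⟨inv_mem ha, ?_⟩
    have hpow : ∀ n : ℕ, M P (P.subtype.comp (a ^ n).toMonoidHom) := by
      intro n
      induction n with
      | zero => rw [pow_zero]; exact hone
      | succ n ih =>
        rw [pow_succ]
        exact comp P P _ _ _ ((mem_autGroup hPn.1).1 ha) ((mem_autGroup hPn.1).1 (pow_mem ha n))
          (fun x => (a x).2) (fun x => rfl) hMa ih
    have e : a⁻¹ = a ^ (orderOf a - 1) := by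
      rw [inv_eq_iff_mul_eq_one, ← pow_succ', Nat.sub_add_cancel (orderOf_pos a), pow_orderOf_eq_one]
    rw [e]; exact hpow _

/-- Alperin–Goldschmidt: the automorphism groups of `S` and of the essential subgroups generate the system. -/
theorem le_of_essential_autGroup_le (hS : IsPGroup p S) (hF : F.IsSaturated p) {E : FusionSystem S}
    (hE : ∀ P : Subgroup Ω, (P = S ∨ F.IsEssential p P) → F.autGroup P ≤ E.autGroup P) : F ≤ E := by
  refine fun P φ hφ => essential_induction hS hF (M := fun P φ => φ ∈ E.Hom P) ?_ ?_ ?_ P φ hφ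
  · exact fun _ _ _ _ _ _ _ h hχ h1 h2 => mem_comp h1 h2 h hχ
  · exact fun _ _ _ _ h _ he h1 => mem_of_restrict h1 h he
  · intro Q hQ α hα
    have hQS : Q ≤ S := by
      rcases hQ with rfl | h
      · exact le_rfl
      · exact h.2.1.1
    exact (mem_autGroup hQS).1 (hE Q hQ hα)

theorem eq_inner_of_pGroup (hS : IsPGroup p S) (hF : F.IsSaturated p)
    (h : ∀ P : Subgroup Ω, P ≤ S → IsPGroup p (F.autGroup P)) : F = innerFusionSystem S := by
  refine fusion_le_antisymm (le_of_essential_autGroup_le hS hF fun P hP => ?_)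
    fun P φ ⟨hP, g, hg, he⟩ => mem_of_conj F hP hg he
  have hkey : ∀ {Q : Subgroup Ω}, F.IsFullyNormalized Q → F.autGroup Q ≤ autInducedBy S Q := by
    intro Q hQ
    haveI := finite_sub hQ.1
    obtain ⟨R, hR⟩ := (fullyAutomized_of_fullyNormalized hS hF hQ).2
    have htop : (R : Subgroup (F.autGroup Q)) = ⊤ :=
      (R.is_maximal' ((h Q hQ.1).to_subgroup ⊤) le_top).symm
    intro α hα
    exact Subgroup.mem_subgroupOf.1 (hR ▸ htop ▸ Subgroup.mem_top (⟨α, hα⟩ : F.autGroup Q))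
  rcases hP with rfl | hess
  · exact (hkey (isFullyNormalized_base F)).trans (autInducedBy_le_autGroup (innerFusionSystem P) le_rfl)
  · obtain ⟨M, ⟨a, ha, haM⟩, hSM, -, -⟩ := FusionEssential.exists_data hS hF hess
    exact absurd (hSM (hkey hess.2.1 ha)) haM

theorem isNormal_iff_essential (hS : IsPGroup p S) (hF : F.IsSaturated p) {Q : Subgroup Ω} :
    F.IsNormal Q ↔ ∀ P : Subgroup Ω, (P = S ∨ F.IsEssential p P) →
      (Q ≤ P ∧ ∀ α ∈ F.autGroup P, (Q.subgroupOf P).map α.toMonoidHom = Q.subgroupOf P) := by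
  constructor
  · intro hQ P hP
    have hPS : P ≤ S := by
      rcases hP with rfl | h
      · exact le_rfl
      · exact h.2.1.1
    refine ⟨?_, fun α hα => ?_⟩
    · rcases hP with rfl | h
      · exact hQ.1
      · exact isNormal_le_centricRadical hS hQ h.1 (radical_of_essential hS hF h)
    · have hiff := autGroup_mem_iff_of_stronglyClosed (isNormal_stronglyClosed hQ) hPS hα
      ext y
      obtain ⟨x, rfl⟩ := α.surjective y
      refine ⟨fun ⟨w, hw, hwe⟩ => ?_, fun hx => ⟨x, Subgroup.mem_subgroupOf.2 ((hiff x).2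
        (Subgroup.mem_subgroupOf.1 hx)), rfl⟩⟩
      rw [α.injective hwe] at hw
      exact Subgroup.mem_subgroupOf.2 ((hiff x).1 (Subgroup.mem_subgroupOf.1 hw))
  intro h
  have hQS : Q ≤ S := (h S (Or.inl rfl)).1
  haveI := finite_sub hQS
  refine ⟨hQS, fun P φ hφ => ?_⟩
  suffices hM : ∃ ψ ∈ F.Hom (P ⊔ Q), (∀ x : P, ψ (Subgroup.inclusion le_sup_left x) = φ x) ∧
      ∀ x : ↥(P ⊔ Q), (x : Ω) ∈ Q → ψ x ∈ Q by
    obtain ⟨ψ, hψ, he, hQ⟩ := hM
    exact ⟨ψ, hψ, he, map_subgroupOf_eq_of_mapsTo hψ le_sup_right hQ⟩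
  refine essential_induction hS hF (M := fun P φ => ∃ ψ ∈ F.Hom (P ⊔ Q),
    (∀ x : P, ψ (Subgroup.inclusion le_sup_left x) = φ x) ∧ ∀ x : ↥(P ⊔ Q), (x : Ω) ∈ Q → ψ x ∈ Q)
    ?_ ?_ ?_ P φ hφ
  · rintro P₁ P₂ φ₁ φ₂ χ hφ₁ hφ₂ hv hχ ⟨ψ₁, hψ₁, he₁, hQ₁⟩ ⟨ψ₂, hψ₂, he₂, hQ₂⟩
    have hval : ∀ z, ψ₁ z ∈ P₂ ⊔ Q := by
      rintro ⟨z, hz⟩
      have : P₁ ⊔ Q ≤ ((P₂ ⊔ Q).comap ψ₁).map (P₁ ⊔ Q).subtype :=
        sup_le (fun x hx => ⟨Subgroup.inclusion le_sup_left ⟨x, hx⟩,
            (by show ψ₁ _ ∈ P₂ ⊔ Q; rw [he₁]; exact (le_sup_left : P₂ ≤ P₂ ⊔ Q) (hv _)), rfl⟩)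
          (fun y hy => ⟨⟨y, (le_sup_right : Q ≤ P₁ ⊔ Q) hy⟩,
            (le_sup_right : Q ≤ P₂ ⊔ Q) (hQ₁ _ hy), rfl⟩)
      obtain ⟨w, hw, hwz⟩ := this hz
      rwa [show w = ⟨z, hz⟩ from Subtype.ext hwz] at hw
    obtain ⟨τ, hτ, heτ⟩ := exists_comp hψ₁ hψ₂ hval
    refine ⟨τ, hτ, fun x => ?_, fun x hx => (heτ x).symm ▸ hQ₂ _ (hQ₁ x hx)⟩
    rw [heτ, hχ x, ← he₂ ⟨φ₁ x, hv x⟩]
    exact congrArg ψ₂ (Subtype.ext (he₁ x))
  · rintro P₁ P₂ φ₁ φ₂ hle hφ₂ he ⟨ψ, hψ, heψ, hQ⟩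
    obtain ⟨τ, hτ, heτ⟩ := exists_restrict hψ (sup_le_sup_right hle Q)
    refine ⟨τ, hτ, fun x => ?_, fun x hx => (heτ x).symm ▸ hQ _ hx⟩
    rw [heτ, he x]
    exact heψ ⟨x, hle x.2⟩
  · intro R hR α hα
    obtain ⟨hQR, hinv⟩ := h R hR
    have hRS : R ≤ S := by
      rcases hR with rfl | h
      · exact le_rfl
      · exact h.2.1.1
    obtain ⟨φ, hφ, -, he⟩ := exists_hom_of_aut hRS hα
    obtain ⟨τ, hτ, heτ⟩ := exists_restrict hφ (show R ⊔ Q ≤ R from sup_le le_rfl hQR)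
    refine ⟨τ, hτ, fun x => (heτ _).trans (he x), fun x hx => ?_⟩
    rw [heτ, he]
    have h1 := (hinv α hα).le ⟨⟨x, sup_le le_rfl hQR x.2⟩, Subgroup.mem_subgroupOf.2 hx, rfl⟩
    exact Subgroup.mem_subgroupOf.1 h1

end Cfsg.Agent.Lib.FS
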