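import Mathlib
import Cfsg.Prelude.Def_FusionComponents
import Cfsg.Agent.Lib.FusionSystem.Normal
import Cfsg.Agent.Lib.FusionP3.StronglyClosed

/-!
Morphisms and factor systems: kernels, existence, surjectivity, saturation.
-/

set_option autoImplicit false
set_option linter.style.haveILetI false
set_option linter.unusedSectionVars false

namespace Cfsg.Agent.Lib.FS

open Cfsg Cfsg.FusionSystem
open scoped Pointwise

variable {Ω : Type*} [Group Ω] {S : Subgroup Ω} {F : FusionSystem S}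
variable {Ω' : Type*} [Group Ω'] {S' : Subgroup Ω'}

theorem mem_preimageAlong {θ : S →* Ω'} {P' : Subgroup Ω'} {x : Ω} :
    x ∈ preimageAlong θ P' ↔ ∃ h : x ∈ S, θ ⟨x, h⟩ ∈ P' := by
  constructor
  · rintro ⟨⟨y, hy⟩, h, rfl⟩; exact ⟨hy, h⟩
  · rintro ⟨hx, h⟩; exact ⟨⟨x, hx⟩, h, rfl⟩

theorem preimageAlong_le (θ : S →* Ω') (P' : Subgroup Ω') : preimageAlong θ P' ≤ S :=
  fun _ h => (mem_preimageAlong.1 h).1

theorem imageAlong_preimageAlong {θ : S →* Ω'} (hr : θ.range = S') {P' : Subgroup Ω'} (hP' : P' ≤ S') :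
    imageAlong θ (preimageAlong θ P') = P' := by
  have : (preimageAlong θ P').subgroupOf S = P'.comap θ :=
    Subgroup.comap_map_eq_self_of_injective S.subtype_injective _
  rw [imageAlong, this, Subgroup.map_comap_eq_self (hr ▸ hP')]

theorem le_preimageAlong_imageAlong {θ : S →* Ω'} {P : Subgroup Ω} (hP : P ≤ S) :
    P ≤ preimageAlong θ (imageAlong θ P) := fun x hx =>
  mem_preimageAlong.2 ⟨hP hx, ⟨⟨x, hP hx⟩, hx, rfl⟩⟩

theorem ker_map_le_preimageAlong (θ : S →* Ω') (P' : Subgroup Ω') :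
    θ.ker.map S.subtype ≤ preimageAlong θ P' := by
  rintro _ ⟨x, hx, rfl⟩
  exact ⟨x, by show θ x ∈ P'; rw [hx]; exact P'.one_mem, rfl⟩

theorem inducedAlong_apply {θ : S →* Ω'} {P : Subgroup Ω} {φ : P →* Ω} {P' : Subgroup Ω'} {φ' : P' →* Ω'}
    (h : InducedAlong θ φ φ') (x : P) (hx : (x : Ω) ∈ S) (hy : θ ⟨x, hx⟩ ∈ P') (hφ : φ x ∈ S) :
    φ' ⟨θ ⟨x, hx⟩, hy⟩ = θ ⟨φ x, hφ⟩ := by
  obtain ⟨_, _, _, h⟩ := h
  exact h x

theorem inducedAlong_preimage {θ : S →* Ω'} {P' : Subgroup Ω'} {φ : preimageAlong θ P' →* Ω}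
    {φ' : P' →* Ω'} (hφ : φ ∈ F.Hom (preimageAlong θ P'))
    (h : ∀ (s : S) (hs : θ s ∈ P'), φ' ⟨θ s, hs⟩ =
      θ ⟨φ ⟨s, mem_preimageAlong.2 ⟨s.2, hs⟩⟩, apply_mem hφ _⟩) : InducedAlong θ φ φ' :=
  ⟨preimageAlong_le θ P', apply_mem hφ, fun x => (mem_preimageAlong.1 x.2).2, fun x => h _ _⟩

/-- An induced map, once defined, is determined on the image. -/
theorem inducedAlong_unique {θ : S →* Ω'} {P : Subgroup Ω} {φ : P →* Ω} {P' : Subgroup Ω'}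
    {φ₁ φ₂ : P' →* Ω'} (h₁ : InducedAlong θ φ φ₁) (h₂ : InducedAlong θ φ φ₂)
    (hP : P' ≤ imageAlong θ P) : φ₁ = φ₂ := by
  obtain ⟨hPS, hφ, hP', e₁⟩ := h₁
  refine MonoidHom.ext fun y => ?_
  obtain ⟨x, hx, hxy⟩ := hP y.2
  have e : y = ⟨θ ⟨((⟨x, hx⟩ : P) : Ω), hPS hx⟩, hP' ⟨x, hx⟩⟩ := Subtype.ext hxy.symm
  rw [e, e₁, inducedAlong_apply h₂ ⟨x, hx⟩ (hPS hx) (hP' _) (hφ _)]

/-- Every map on a full preimage induces a map, when the kernel is strongly closed. -/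
theorem exists_induced {θ : S →* Ω'} (hK : F.StronglyClosed (θ.ker.map S.subtype)) (hr : θ.range = S')
    {P' : Subgroup Ω'} (hP' : P' ≤ S') {φ : preimageAlong θ P' →* Ω}
    (hφ : φ ∈ F.Hom (preimageAlong θ P')) : ∃ φ' : P' →* Ω', InducedAlong θ φ φ' := by
  let f : ↥(P'.comap θ) →* P' := (θ.comp (P'.comap θ).subtype).codRestrict P' fun x => x.2
  have hf : Function.Surjective f := fun y => by
    obtain ⟨s, hs⟩ := hr.ge (hP' y.2)
    exact ⟨⟨s, by show θ s ∈ P'; rw [hs]; exact y.2⟩, Subtype.ext hs⟩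
  let g : ↥(P'.comap θ) →* Ω' := θ.comp ((φ.codRestrict S fun x => apply_mem hφ x).comp
    ((S.subtype.comp (P'.comap θ).subtype).codRestrict _ fun x => ⟨x.1, x.2, rfl⟩))
  have hfg : f.ker ≤ g.ker := by
    intro x hx
    have hx' : θ x = 1 := congrArg Subtype.val hx
    obtain ⟨z, hz, hze⟩ := stronglyClosed_apply_mem hK hφ
      (x := ⟨(x : S), x.1, x.2, rfl⟩) ⟨x.1, hx', rfl⟩
    show θ _ = 1
    rw [← hz]
    exact congrArg θ (Subtype.ext hze.symm)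
  refine ⟨f.liftOfSurjective hf ⟨g, hfg⟩, inducedAlong_preimage hφ fun s hs => ?_⟩
  exact MonoidHom.liftOfRightInverse_comp_apply f _ _ ⟨g, hfg⟩ ⟨s, hs⟩

/-! ### Kernels of morphisms -/

theorem stronglyClosed_kernel {F' : FusionSystem S'} {α : S →* Ω'} (hα : F.IsMorphism F' α) :
    F.StronglyClosed (α.ker.map S.subtype) := by
  refine ⟨Subgroup.map_subtype_le _, fun R hR φ hφ x => ?_⟩
  obtain ⟨φ', -, hind⟩ := hα.2 R φ hφ
  obtain ⟨z, hz, hze⟩ := hR x.2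
  refine ⟨⟨φ x, apply_mem hφ x⟩, ?_, rfl⟩
  have hm : α ⟨x, src_le hφ x.2⟩ ∈ imageAlong α R := ⟨⟨x, src_le hφ x.2⟩, x.2, rfl⟩
  have h1 : α ⟨x, src_le hφ x.2⟩ = 1 := by rw [← hz]; exact congrArg α (Subtype.ext hze.symm)
  show α _ = 1
  rw [← inducedAlong_apply hind x (src_le hφ x.2) hm (apply_mem hφ x),
    show (⟨α ⟨x, src_le hφ x.2⟩, hm⟩ : imageAlong α R) = 1 from Subtype.ext h1, map_one]

theorem ker_map_eq {θ : S →* Ω'} {S₀ : Subgroup Ω} (h₀ : S₀ ≤ S)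
    (hker : ∀ s : S, θ s = 1 ↔ (s : Ω) ∈ S₀) : θ.ker.map S.subtype = S₀ := by
  ext x
  exact ⟨by rintro ⟨s, hs, rfl⟩; exact (hker s).1 hs,
    fun hx => ⟨⟨x, h₀ hx⟩, (hker _).2 hx, rfl⟩⟩

/-- The maps on full preimages permute the full preimages. -/
theorem range_eq_preimage [Finite S] {θ : S →* Ω'} (hK : F.StronglyClosed (θ.ker.map S.subtype))
    (hr : θ.range = S') {P' : Subgroup Ω'} (hP' : P' ≤ S') {φ : preimageAlong θ P' →* Ω}
    (hφ : φ ∈ F.Hom (preimageAlong θ P')) {φ' : P' →* Ω'} (h : InducedAlong θ φ φ') :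
    φ.range = preimageAlong θ φ'.range := by
  haveI := finite_sub hK.1
  ext y
  constructor
  · rintro ⟨x, rfl⟩
    obtain ⟨hS, hP⟩ := mem_preimageAlong.1 x.2
    exact mem_preimageAlong.2 ⟨apply_mem hφ x, _, inducedAlong_apply h x hS hP _⟩
  · intro hy
    obtain ⟨hyS, w, hw⟩ := mem_preimageAlong.1 hy
    obtain ⟨s, hs⟩ := hr.ge (hP' w.2)
    have hsP : θ s ∈ P' := hs ▸ w.2
    set x : preimageAlong θ P' := ⟨s, mem_preimageAlong.2 ⟨s.2, hsP⟩⟩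
    have h1 : θ ⟨φ x, apply_mem hφ x⟩ = θ ⟨y, hyS⟩ := by
      rw [← inducedAlong_apply h x s.2 hsP, ← hw]
      exact congrArg φ' (Subtype.ext hs)
    have h2 : (φ x)⁻¹ * y ∈ θ.ker.map S.subtype :=
      ⟨(⟨φ x, apply_mem hφ x⟩ : S)⁻¹ * ⟨y, hyS⟩, by
        show θ _ = 1
        rw [map_mul, map_inv, h1, inv_mul_cancel], rfl⟩
    have hK' := map_subgroupOf_eq_of_mapsTo hφ (ker_map_le_preimageAlong θ P')
      fun z hz => stronglyClosed_apply_mem hK hφ hz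
    obtain ⟨k, -, hk⟩ := hK'.ge h2
    exact ⟨x * k, by rw [map_mul, hk, mul_inv_cancel_left]⟩

theorem induced_injective [Finite S] {θ : S →* Ω'} (hK : F.StronglyClosed (θ.ker.map S.subtype))
    (hr : θ.range = S') {P' : Subgroup Ω'} (hP' : P' ≤ S') {φ : preimageAlong θ P' →* Ω}
    (hφ : φ ∈ F.Hom (preimageAlong θ P')) {φ' : P' →* Ω'} (h : InducedAlong θ φ φ') :
    Function.Injective φ' := by
  haveI := finite_sub hK.1
  rw [injective_iff_map_eq_one]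
  rintro ⟨w, hw⟩ h1
  obtain ⟨s, rfl⟩ := hr.ge (hP' hw)
  set x : preimageAlong θ P' := ⟨s, mem_preimageAlong.2 ⟨s.2, hw⟩⟩
  have h2 : φ x ∈ θ.ker.map S.subtype := by
    refine ⟨⟨φ x, apply_mem hφ x⟩, ?_, rfl⟩
    show θ _ = 1
    rw [← inducedAlong_apply h x s.2 hw]
    exact h1
  have hK' := map_subgroupOf_eq_of_mapsTo hφ (ker_map_le_preimageAlong θ P')
      fun z hz => stronglyClosed_apply_mem hK hφ hz
  obtain ⟨k, hk, hke⟩ := hK'.ge h2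
  rw [F.injective_of_mem hφ hke] at hk
  obtain ⟨z, hz, hze⟩ := Subgroup.mem_subgroupOf.1 hk
  apply Subtype.ext
  show θ s = 1
  rw [← hz]
  exact congrArg θ (Subtype.ext hze.symm)

theorem exists_factorSystem [Finite S] {S₀ : Subgroup Ω} (hS₀ : F.StronglyClosed S₀) (θ : S →* Ω')
    (hker : ∀ s : S, θ s = 1 ↔ (s : Ω) ∈ S₀) (hr : θ.range = S') :
    ∃ E : FusionSystem S', F.IsFactorSystem S₀ θ E := by
  have hK : F.StronglyClosed (θ.ker.map S.subtype) := by rw [ker_map_eq hS₀.1 hker]; exact hS₀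
  refine ⟨{ Hom := fun P' => {φ' | P' ≤ S' ∧ ∃ φ ∈ F.Hom (preimageAlong θ P'), InducedAlong θ φ φ'}
            le_of_mem := ?_, injective_of_mem := ?_, conj_mem := ?_, comp_mem := ?_, inv_mem := ?_ },
    hS₀.1, hker, hr, fun _ _ => Iff.rfl⟩
  · rintro P' φ' ⟨hP', φ, hφ, h⟩
    refine ⟨hP', fun y => ?_⟩
    obtain ⟨s, hs⟩ := hr.ge (hP' y.2)
    rw [show y = ⟨θ s, (by rw [hs]; exact y.2)⟩ from Subtype.ext hs.symm,
      inducedAlong_apply h ⟨s, mem_preimageAlong.2 ⟨s.2, (by rw [hs]; exact y.2)⟩⟩ s.2 ((by rw [hs]; exact y.2)) (apply_mem hφ _)]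
    exact hr.le ⟨_, rfl⟩
  · rintro P' φ' ⟨hP', φ, hφ, h⟩
    exact induced_injective hK hr hP' hφ h
  · intro P' g hP' hg
    obtain ⟨u, rfl⟩ := hr.ge hg
    refine ⟨hP', _, F.conj_mem (preimageAlong_le θ P') u.2, inducedAlong_preimage
      (F.conj_mem (preimageAlong_le θ P') u.2) fun s hs => ?_⟩
    rw [conjHom_apply]
    show θ u * θ s * (θ u)⁻¹ = _
    rw [← map_inv, ← map_mul, ← map_mul]
    rfl
  · rintro P' Q' φ' ψ' ⟨hP', φ, hφ, h⟩ ⟨hQ', ψ, hψ, h'⟩ hm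
    have hval : ∀ x, φ x ∈ preimageAlong θ Q' := fun x => by
      obtain ⟨hS, hP⟩ := mem_preimageAlong.1 x.2
      refine mem_preimageAlong.2 ⟨apply_mem hφ x, ?_⟩
      rw [← inducedAlong_apply h x hS hP]
      exact hm _
    refine ⟨hP', _, F.comp_mem hφ hψ hval,
      inducedAlong_preimage (F.comp_mem hφ hψ hval) fun s hs => ?_⟩
    set x : preimageAlong θ P' := ⟨s, mem_preimageAlong.2 ⟨s.2, hs⟩⟩
    have e : φ' ⟨θ s, hs⟩ = θ ⟨φ x, apply_mem hφ x⟩ := inducedAlong_apply h x s.2 hs _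
    show ψ' ⟨φ' ⟨θ s, hs⟩, hm _⟩ = _
    rw [show (⟨φ' ⟨θ s, hs⟩, hm _⟩ : Q') = ⟨θ ⟨φ x, apply_mem hφ x⟩, (mem_preimageAlong.1 (hval x)).2⟩
        from Subtype.ext e]
    exact inducedAlong_apply h' ⟨φ x, hval x⟩ _ _ _
  · rintro P' φ' ⟨hP', φ, hφ, h⟩
    have hrange := range_eq_preimage hK hr hP' hφ h
    obtain ⟨ψ, hψ, hψr, hl, -⟩ := exists_inv hφ hrange
    have hR' : φ'.range ≤ S' := by
      rintro _ ⟨y, rfl⟩
      obtain ⟨s, hs⟩ := hr.ge (hP' y.2)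
      rw [show y = ⟨θ s, (by rw [hs]; exact y.2)⟩ from Subtype.ext hs.symm,
        inducedAlong_apply h ⟨s, mem_preimageAlong.2 ⟨s.2, (by rw [hs]; exact y.2)⟩⟩ s.2 ((by rw [hs]; exact y.2)) (apply_mem hφ _)]
      exact hr.le ⟨_, rfl⟩
    obtain ⟨ψ', hψ'⟩ := exists_induced hK hr hR' hψ
    refine ⟨ψ', ⟨hR', ψ, hψ, hψ'⟩, fun y => ?_⟩
    obtain ⟨s, hs⟩ := hr.ge (hP' y.2)
    set x : preimageAlong θ P' := ⟨s, mem_preimageAlong.2 ⟨s.2, (by rw [hs]; exact y.2)⟩⟩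
    have hy : y = ⟨θ s, (by rw [hs]; exact y.2)⟩ := Subtype.ext hs.symm
    have hxm : φ x ∈ preimageAlong θ φ'.range := hrange.le ⟨x, rfl⟩
    have e : φ' y = θ ⟨φ x, apply_mem hφ x⟩ := by rw [hy]; exact inducedAlong_apply h x s.2 _ _
    have e2 := inducedAlong_apply hψ' ⟨φ x, hxm⟩ (apply_mem hφ x) (e ▸ ⟨y, rfl⟩) (apply_mem hψ _)
    rw [show (⟨φ' y, ⟨y, rfl⟩⟩ : φ'.range) = ⟨θ ⟨φ x, apply_mem hφ x⟩, e ▸ ⟨y, rfl⟩⟩ from Subtype.ext e,
      e2, ← hs]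
    exact congrArg θ (Subtype.ext (hl x hxm))

section Saturated

variable [Finite S] {p : ℕ} [Fact p.Prime]

theorem factor_isSurjectiveMorphism (hS : IsPGroup p S) (hF : F.IsSaturated p) {S₀ : Subgroup Ω}
    (hS₀ : F.StronglyClosed S₀) {θ : S →* Ω'} {E : FusionSystem S'} (hE : F.IsFactorSystem S₀ θ E) :
    F.IsSurjectiveMorphism E θ := by
  obtain ⟨h₀, hker, hr, hmem⟩ := hE
  have hK : F.StronglyClosed (θ.ker.map S.subtype) := by rw [ker_map_eq h₀ hker]; exact hS₀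
  refine ⟨⟨fun s => hr.le ⟨s, rfl⟩, fun P φ hφ => ?_⟩, hr,
    fun P' _ φ' h => ((hmem P' φ').1 h).2⟩
  obtain ⟨ψ, hψ, hc⟩ := FusionP3.StronglyClosed.hasLift hS hF hS₀ hφ
  have hP := src_le hφ
  have hP' : imageAlong θ P ≤ S' := by
    rintro _ ⟨s, -, rfl⟩; exact hr.le ⟨s, rfl⟩
  have hle : preimageAlong θ (imageAlong θ P) ≤ P ⊔ S₀ := by
    intro x hx
    obtain ⟨hxS, s, hs, hse⟩ := mem_preimageAlong.1 hx
    have : ((s⁻¹ * ⟨x, hxS⟩ : S) : Ω) ∈ S₀ := (hker _).1 (by rw [map_mul, map_inv, hse, inv_mul_cancel])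
    rw [show x = (s : Ω) * ((s⁻¹ * ⟨x, hxS⟩ : S) : Ω) by simp]
    exact Subgroup.mul_mem_sup (Subgroup.mem_subgroupOf.1 hs) this
  obtain ⟨ψ', hψ', he'⟩ := exists_restrict hψ hle
  obtain ⟨φ', hφ'⟩ := exists_induced hK hr hP' hψ'
  refine ⟨φ', (hmem _ _).2 ⟨hP', ψ', hψ', hφ'⟩, hP, apply_mem hφ, fun x => ⟨⟨x, hP x.2⟩, x.2, rfl⟩,
    fun x => ?_⟩
  refine (inducedAlong_apply hφ' ⟨x, le_preimageAlong_imageAlong hP x.2⟩ (hP x.2) _ (apply_mem hψ' _)).trans ?_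
  have h1 : θ ((⟨φ x, apply_mem hφ x⟩ : S)⁻¹ * ⟨ψ' ⟨x, le_preimageAlong_imageAlong hP x.2⟩, apply_mem hψ' _⟩) = 1 :=
    (hker _).2 (by rw [Subgroup.coe_mul, Subgroup.coe_inv]; show (φ x)⁻¹ * ψ' _ ∈ S₀; rw [he']; exact hc x)
  rw [map_mul, map_inv, inv_mul_eq_one] at h1
  exact h1.symm

/-- A surjective morphism exhibits its target as the factor system by the kernel. -/
theorem surjectiveMorphism_isFactorSystem {E : FusionSystem S'} {θ : S →* Ω'}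
    (h : F.IsSurjectiveMorphism E θ) : F.IsFactorSystem (θ.ker.map S.subtype) θ E := by
  obtain ⟨hm, hr, hsurj⟩ := h
  refine ⟨Subgroup.map_subtype_le _, fun s => ⟨fun hs => ⟨s, hs, rfl⟩, ?_⟩, hr, fun P' φ' => ⟨fun h' =>
    ⟨src_le h', hsurj P' (src_le h') φ' h'⟩, ?_⟩⟩
  · rintro ⟨t, ht, hte⟩
    rw [← Subtype.ext hte]; exact ht
  · rintro ⟨hP', φ, hφ, hind⟩
    have key : ∀ Q', Q' = P' → ∀ φ'' ∈ E.Hom Q', InducedAlong θ φ φ'' → φ' ∈ E.Hom P' := by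
      rintro Q' rfl φ'' hφ'' hind''
      rwa [inducedAlong_unique hind hind'' (imageAlong_preimageAlong hr hP').ge]
    obtain ⟨φ'', hφ'', hind''⟩ := hm.2 _ φ hφ
    exact key _ (imageAlong_preimageAlong hr hP') φ'' hφ'' hind''

theorem isPGroup_image (hS : IsPGroup p S) {θ : S →* Ω'} (hr : θ.range = S') : IsPGroup p S' :=
  hr ▸ hS.of_surjective θ.rangeRestrict θ.rangeRestrict_surjective

theorem finite_image {θ : S →* Ω'} (hr : θ.range = S') : Finite S' :=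
  hr ▸ Finite.of_surjective θ.rangeRestrict θ.rangeRestrict_surjective

theorem mem_normalizerIn_preimage {θ : S →* Ω'} (hr : θ.range = S') {P' : Subgroup Ω'} (hP' : P' ≤ S')
    (s : S) :
    θ s ∈ normalizerIn S' P' ↔ (s : Ω) ∈ normalizerIn S (preimageAlong θ P') := by
  haveI := finite_sub (preimageAlong_le θ P')
  constructor
  · intro h
    refine ⟨s.2, mem_normalizer_of_conj_mem fun x hx => ?_⟩
    obtain ⟨hxS, hxP⟩ := mem_preimageAlong.1 hx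
    refine mem_preimageAlong.2 ⟨S.mul_mem (S.mul_mem s.2 hxS) (S.inv_mem s.2), ?_⟩
    have := conj_mem_of_normalizer h.2 hxP
    rwa [← map_inv, ← map_mul, ← map_mul] at this
  · intro h
    haveI : Finite S' := finite_image hr
    haveI : Finite P' := finite_sub hP'
    refine ⟨hr.le ⟨s, rfl⟩, mem_normalizer_of_conj_mem fun y hy => ?_⟩
    obtain ⟨t, rfl⟩ := hr.ge (hP' hy)
    have h1 := conj_mem_of_normalizer h.2 (mem_preimageAlong.2 ⟨t.2, hy⟩ : (t : Ω) ∈ preimageAlong θ P')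
    obtain ⟨_, h2⟩ := mem_preimageAlong.1 h1
    rw [← map_inv, ← map_mul, ← map_mul]
    exact h2

end Saturated

end Cfsg.Agent.Lib.FS
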