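import Mathlib
import Cfsg.Agent.Lib.FusionSystem.Factor

/-!
Factor systems of saturated systems are saturated.
-/

set_option autoImplicit false
set_option linter.style.haveILetI false
set_option linter.unusedSectionVars false

namespace Cfsg.Agent.Lib.FS

open Cfsg Cfsg.FusionSystem
open scoped Pointwise

variable {Ω : Type*} [Group Ω] {S : Subgroup Ω} {F : FusionSystem S}
variable {Ω' : Type*} [Group Ω'] {S' : Subgroup Ω'} [Finite S] {p : ℕ} [Fact p.Prime]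

theorem card_normalizerIn_preimage {θ : S →* Ω'} (hr : θ.range = S') {P' : Subgroup Ω'} (hP' : P' ≤ S') :
    Nat.card (normalizerIn S (preimageAlong θ P')) =
      Nat.card (θ.ker.map S.subtype) * Nat.card (normalizerIn S' P') := by
  set N := normalizerIn S (preimageAlong θ P')
  let f : N →* Ω' := θ.comp (Subgroup.inclusion (normalizerIn_le _))
  have h1 : f.range = normalizerIn S' P' := by
    ext y
    constructor
    · rintro ⟨n, rfl⟩
      exact (mem_normalizerIn_preimage hr hP' _).2 n.2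
    · intro hy
      obtain ⟨s, rfl⟩ := hr.ge hy.1
      exact ⟨⟨s, (mem_normalizerIn_preimage hr hP' s).1 hy⟩, rfl⟩
  have hKN : θ.ker.map S.subtype ≤ N :=
    (ker_map_le_preimageAlong θ P').trans (le_normalizerIn (preimageAlong_le θ P'))
  have h2 : f.ker = (θ.ker.map S.subtype).subgroupOf N := by
    ext n
    refine ⟨fun h => ⟨_, h, rfl⟩, ?_⟩
    rintro ⟨t, ht, hte⟩
    show θ _ = 1
    rw [← show θ t = 1 from ht]
    exact congrArg θ (Subtype.ext hte.symm)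
  rw [← Subgroup.card_mul_index f.ker, Subgroup.index_ker, h1, h2,
    Nat.card_congr (Subgroup.subgroupOfEquivOfLe hKN).toEquiv]

theorem congr_apply' {R R' : Subgroup Ω} {ω : R →* Ω} (hω : ω ∈ F.Hom R) (hr : ω.range = R')
    (α : MulAut R) (x : R) :
    ((MulAut.congr (homEquiv hω hr) α (homEquiv hω hr x) : R') : Ω) = ω (α x) := by
  show ((homEquiv hω hr (α ((homEquiv hω hr).symm (homEquiv hω hr x))) : R') : Ω) = _
  rw [MulEquiv.symm_apply_apply, homEquiv_coe]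

variable {S₀ : Subgroup Ω} {θ : S →* Ω'} {E : FusionSystem S'}

theorem factor_fullyNormalized_lift (hS₀ : F.StronglyClosed S₀) (hE : F.IsFactorSystem S₀ θ E)
    {P' : Subgroup Ω'} (hP' : E.IsFullyNormalized P') : F.IsFullyNormalized (preimageAlong θ P') := by
  obtain ⟨h₀, hker, hr, hmem⟩ := hE
  have hK : F.StronglyClosed (θ.ker.map S.subtype) := by rw [ker_map_eq h₀ hker]; exact hS₀
  refine ⟨preimageAlong_le θ P', fun Q hQ => ?_⟩
  obtain ⟨φ, hφ, rfl⟩ := hQ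
  obtain ⟨φ', hφ'⟩ := exists_induced hK hr hP'.1 hφ
  have hmem' : φ' ∈ E.Hom P' := (hmem _ _).2 ⟨hP'.1, φ, hφ, hφ'⟩
  rw [range_eq_preimage hK hr hP'.1 hφ hφ', card_normalizerIn_preimage hr hP'.1,
    card_normalizerIn_preimage hr (range_le_base hmem')]
  exact Nat.mul_le_mul_left _ (hP'.2 _ ⟨φ', hmem', rfl⟩)

theorem factor_top_automized (hS : IsPGroup p S) (hF : F.IsSaturated p) (hS₀ : F.StronglyClosed S₀)
    (hE : F.IsFactorSystem S₀ θ E) : E.IsFullyAutomized p S' := by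
  obtain ⟨h₀, hker, hr, hmem⟩ := hE
  have hK : F.StronglyClosed (θ.ker.map S.subtype) := by rw [ker_map_eq h₀ hker]; exact hS₀
  haveI : Finite S' := finite_image hr
  have hpre : S ≤ preimageAlong θ S' := fun x hx => mem_preimageAlong.2 ⟨hx, hr.le ⟨_, rfl⟩⟩
  have hex : ∀ α : F.autGroup S, ∃ β : MulAut S', β ∈ E.autGroup S' ∧
      ∀ (s : S) (h : θ s ∈ S'), ((β ⟨θ s, h⟩ : S') : Ω') = θ ((α : MulAut S) s) := by
    intro α
    obtain ⟨φ, hφ, -, hφα⟩ := exists_hom_of_aut le_rfl α.2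
    obtain ⟨φ₁, hφ₁, he₁⟩ := exists_restrict hφ (preimageAlong_le θ S')
    obtain ⟨φ', hφ'⟩ := exists_induced hK hr le_rfl hφ₁
    have hmem' : φ' ∈ E.Hom S' := (hmem _ _).2 ⟨le_rfl, φ₁, hφ₁, hφ'⟩
    have hr' : φ'.range = S' := range_eq_of_mem hmem' (apply_mem hmem') le_rfl
    refine ⟨homEquiv hmem' hr', homEquiv_mem_autGroup hmem' hr', fun s h => ?_⟩
    refine (inducedAlong_apply hφ' ⟨s, hpre s.2⟩ s.2 h (apply_mem hφ₁ _)).trans ?_
    exact congrArg θ (Subtype.ext ((he₁ _).trans (hφα _)))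
  choose β hβ hβe using hex
  let ρ : F.autGroup S →* E.autGroup S' := MonoidHom.mk' (fun α => ⟨β α, hβ α⟩) fun a b => by
    refine Subtype.ext (MulEquiv.ext fun y => ?_)
    obtain ⟨s, hs⟩ := hr.ge y.2
    have hm : ∀ t : S, θ t ∈ S' := fun t => hr.le ⟨t, rfl⟩
    rw [show y = ⟨θ s, hm s⟩ from Subtype.ext hs.symm]
    have e : β b ⟨θ s, hm s⟩ = ⟨θ ((b : MulAut S) s), hm _⟩ := Subtype.ext (hβe b s _)
    apply Subtype.ext
    show ((β (a * b) _ : S') : Ω') = ((β a (β b _) : S') : Ω')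
    rw [e, hβe, hβe]
    rfl
  have hρ : Function.Surjective ρ := by
    rintro ⟨γ, hγ⟩
    obtain ⟨φ', hφ', -, hφ'γ⟩ := exists_hom_of_aut le_rfl hγ
    obtain ⟨-, φ, hφ, hind⟩ := (hmem _ _).1 hφ'
    obtain ⟨φ₁, hφ₁, he₁⟩ := exists_restrict hφ hpre
    have hr₁ : φ₁.range = S := range_eq_of_mem hφ₁ (apply_mem hφ₁) le_rfl
    refine ⟨⟨homEquiv hφ₁ hr₁, homEquiv_mem_autGroup hφ₁ hr₁⟩, Subtype.ext (MulEquiv.ext fun y => ?_)⟩
    obtain ⟨s, hs⟩ := hr.ge y.2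
    have hm : θ s ∈ S' := hr.le ⟨s, rfl⟩
    rw [show y = ⟨θ s, hm⟩ from Subtype.ext hs.symm]
    apply Subtype.ext
    refine (hβe ⟨homEquiv hφ₁ hr₁, _⟩ s hm).trans ?_
    rw [← hφ'γ ⟨θ s, hm⟩]
    refine Eq.trans ?_ (inducedAlong_apply hind ⟨s, hpre s.2⟩ s.2 hm (apply_mem hφ _)).symm
    exact congrArg θ (Subtype.ext (he₁ s))
  obtain ⟨R, hR⟩ := (isFullyAutomized_base hS hF).2
  refine ⟨le_rfl, R.mapSurjective hρ, ?_⟩
  rw [Sylow.coe_mapSurjective, hR]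
  ext γ
  rw [Subgroup.mem_subgroupOf, mem_autInducedBy]
  constructor
  · rintro ⟨α, hα, rfl⟩
    obtain ⟨g, hg, hge⟩ := mem_autInducedBy.1 (Subgroup.mem_subgroupOf.1 hα)
    refine ⟨θ ⟨g, hg⟩, hr.le ⟨_, rfl⟩, fun y => ?_⟩
    obtain ⟨s, hs⟩ := hr.ge y.2
    have hm : θ s ∈ S' := hr.le ⟨s, rfl⟩
    rw [show y = ⟨θ s, hm⟩ from Subtype.ext hs.symm]
    refine (hβe α s hm).trans ?_
    rw [← map_inv, ← map_mul, ← map_mul]
    exact congrArg θ (Subtype.ext (hge s))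
  · rintro ⟨g', hg', hge⟩
    obtain ⟨g, rfl⟩ := hr.ge hg'
    refine ⟨⟨MulAut.conj g, autInducedBy_le_autGroup F le_rfl (mem_autInducedBy.2 ⟨g, g.2, fun _ => rfl⟩)⟩,
      Subgroup.mem_subgroupOf.2 (mem_autInducedBy.2 ⟨g, g.2, fun _ => rfl⟩),
      Subtype.ext (MulEquiv.ext fun y => Subtype.ext ?_)⟩
    obtain ⟨s, hs⟩ := hr.ge y.2
    have hm : θ s ∈ S' := hr.le ⟨s, rfl⟩
    rw [show y = ⟨θ s, hm⟩ from Subtype.ext hs.symm]
    refine (hβe _ s hm).trans ?_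
    rw [hge, MulAut.conj_apply, map_mul, map_mul, map_inv]

theorem factor_receptive (hS : IsPGroup p S) (hF : F.IsSaturated p) (hS₀ : F.StronglyClosed S₀)
    (hE : F.IsFactorSystem S₀ θ E) {P' : Subgroup Ω'} (hP' : E.IsFullyNormalized P') :
    E.IsReceptive P' := by
  have hFN := factor_fullyNormalized_lift hS₀ hE hP'
  obtain ⟨h₀, hker, hr, hmem⟩ := hE
  have hK : F.StronglyClosed (θ.ker.map S.subtype) := by rw [ker_map_eq h₀ hker]; exact hS₀
  set K := θ.ker.map S.subtype with hKdef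
  refine ⟨hP'.1, fun R' φ' hφ' hφ'r => ?_⟩
  set P := preimageAlong θ P' with hPdef
  set R := preimageAlong θ R' with hRdef
  obtain ⟨hR', φ, hφ, hind⟩ := (hmem _ _).1 hφ'
  have hφr : φ.range = P := by rw [hPdef, range_eq_preimage hK hr hR' hφ hind, hφ'r]
  haveI : Finite P := finite_sub (preimageAlong_le θ P')
  haveI : Finite R := finite_sub (preimageAlong_le θ R')
  haveI : Finite S' := finite_image hr
  set N' := extender S' R' φ'
  set N := preimageAlong θ N'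
  have hR'N : R' ≤ N' := le_extender hR' (apply_mem hφ')
  have hNn : ∀ g ∈ N, g ∈ normalizerIn S R := fun g hg => by
    obtain ⟨hgS, hgN⟩ := mem_preimageAlong.1 hg
    exact (mem_normalizerIn_preimage hr hR' ⟨g, hgS⟩).1 (extender_le_normalizerIn R' φ' hgN)
  have hKP : K ≤ P := ker_map_le_preimageAlong θ P'
  set L := layerStab P (fun _ : Unit => K) (fun _ => ⊤) ⊓ F.autGroup P with hL
  set B := autInducedBy S P with hB
  have hBA : B ≤ F.autGroup P := autInducedBy_le_autGroup F (preimageAlong_le θ P')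
  have hLA : L ≤ F.autGroup P := inf_le_right
  have hnorm : B ≤ Subgroup.normalizer (L : Set (MulAut P)) := by
    refine Subgroup.le_normalizer_iff.2 fun b hb l hl => ⟨layerStab_conj_mem
      (fun _ => autGroup_mem_iff_of_stronglyClosed hK (preimageAlong_le θ P') (hBA hb))
      (fun _ _ => ⟨fun _ => Subgroup.mem_top _, fun _ => Subgroup.mem_top _⟩) hl.1,
      (F.autGroup P).mul_mem ((F.autGroup P).mul_mem (hBA hb) hl.2) ((F.autGroup P).inv_mem (hBA hb))⟩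
  let act : N →* MulAut P :=
    (MulAut.congr (homEquiv hφ hφr)).toMonoidHom.comp
      (R.normalizerMonoidHom.comp (N.subtype.codRestrict _ fun g => (hNn g g.2).2))
  have hact : ∀ (g : N) (x : R) (h : (g : Ω) * x * (g : Ω)⁻¹ ∈ R),
      ((act g (homEquiv hφ hφr x) : P) : Ω) = φ ⟨g * x * (g : Ω)⁻¹, h⟩ := fun g x h =>
    congr_apply' hφ hφr _ x
  have hactM : ∀ g : N, act g ∈ B ⊔ L := by
    intro g
    obtain ⟨hgS, hgN⟩ := mem_preimageAlong.1 g.2
    obtain ⟨-, hgn, h', hh', hhe⟩ := mem_extender.1 hgN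
    obtain ⟨h, rfl⟩ := hr.ge hh'
    have hhN : (h : Ω) ∈ normalizerIn S P := by
      rw [hPdef]
      refine (mem_normalizerIn_preimage hr hP'.1 h).1 ⟨hh', ?_⟩
      haveI : Finite P' := finite_sub hP'.1
      refine mem_normalizer_of_conj_mem fun y hy => ?_
      obtain ⟨x, rfl⟩ := hφ'r.ge hy
      rw [← hhe x (conj_mem_of_normalizer hgn x.2)]
      exact hφ'r.le ⟨_, rfl⟩
    set β : MulAut P := P.normalizerMonoidHom ⟨h, hhN.2⟩
    have hβB : β ∈ B := mem_autInducedBy.2 ⟨h, h.2, fun _ => rfl⟩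
    have hgA : act g ∈ F.autGroup P := congr_mem_autGroup hφ hφr
      (autInducedBy_le_autGroup F (preimageAlong_le θ R') (mem_autInducedBy.2 ⟨g, hgS, fun _ => rfl⟩))
    have hKiff := fun {a : MulAut P} (ha : a ∈ F.autGroup P) =>
      autGroup_mem_iff_of_stronglyClosed hK (preimageAlong_le θ P') ha
    have hl : β⁻¹ * act g ∈ L := by
      refine ⟨fun _ => ⟨hKiff (mul_mem ((F.autGroup P).inv_mem (hBA hβB)) hgA), fun w _ => ?_⟩,
        mul_mem ((F.autGroup P).inv_mem (hBA hβB)) hgA⟩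
      obtain ⟨x, rfl⟩ := (homEquiv hφ hφr).surjective w
      obtain ⟨hxS, hxR⟩ := mem_preimageAlong.1 x.2
      have hgx : (g : Ω) * x * (g : Ω)⁻¹ ∈ R := conj_mem_of_normalizer (hNn g g.2).2 x.2
      set u := β⁻¹ (act g (homEquiv hφ hφr x)) with hu
      have hu' : β u = act g (homEquiv hφ hφr x) := MulAut.apply_inv_self _ _ _
      have huv : (h : Ω) * u * (h : Ω)⁻¹ = φ ⟨_, hgx⟩ := (congrArg Subtype.val hu').trans (hact g x hgx)
      have e1 := inducedAlong_apply hind ⟨_, hgx⟩ (preimageAlong_le θ R' hgx)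
        (mem_preimageAlong.1 hgx).2 (apply_mem hφ _)
      have hcong : θ ⟨(g : Ω) * x * (g : Ω)⁻¹, preimageAlong_le θ R' hgx⟩ =
          θ ⟨g, hgS⟩ * θ ⟨x, hxS⟩ * (θ ⟨g, hgS⟩)⁻¹ := by
        rw [← map_inv, ← map_mul, ← map_mul]; rfl
      have hgx' : θ ⟨g, hgS⟩ * θ ⟨x, hxS⟩ * (θ ⟨g, hgS⟩)⁻¹ ∈ R' := hcong ▸ (mem_preimageAlong.1 hgx).2
      have e2 := hhe ⟨_, hxR⟩ hgx'
      rw [show (⟨_, (mem_preimageAlong.1 hgx).2⟩ : R') = ⟨_, hgx'⟩ from Subtype.ext hcong, e2,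
        inducedAlong_apply hind x hxS hxR (apply_mem hφ _)] at e1
      show _ ∈ K
      refine ⟨(⟨φ x, apply_mem hφ x⟩ : S)⁻¹ * ⟨u, preimageAlong_le θ P' u.2⟩, ?_, rfl⟩
      show θ _ = 1
      have e3 : (⟨φ ⟨_, hgx⟩, apply_mem hφ _⟩ : S) = h * ⟨u, preimageAlong_le θ P' u.2⟩ * h⁻¹ :=
        Subtype.ext huv.symm
      rw [e3, map_mul θ (_ * _), map_mul θ h, map_inv θ h] at e1
      rw [map_mul, map_inv, inv_mul_eq_one]
      exact mul_left_cancel (mul_right_cancel e1)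
    rw [show act g = β * (β⁻¹ * act g) by rw [mul_inv_cancel_left]]
    exact Subgroup.mul_mem_sup hβB hl
  obtain ⟨R₀, hR₀⟩ : ∃ R₀ : Sylow p ↥(B ⊔ L), (R₀ : Subgroup ↥(B ⊔ L)) = B.subgroupOf (B ⊔ L) := by
    have hle : Nat.card B ≤ p ^ (Nat.card ↥(B ⊔ L)).factorization p := by
      obtain ⟨T, hT⟩ := ((isPGroup_autInducedBy hS P).of_equiv
        (Subgroup.subgroupOfEquivOfLe (le_sup_left : B ≤ B ⊔ L)).symm).exists_le_sylow
      rw [← Nat.card_congr (Subgroup.subgroupOfEquivOfLe (le_sup_left : B ≤ B ⊔ L)).toEquiv,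
        ← Sylow.card_eq_multiplicity T]
      exact Subgroup.card_le_of_le hT
    refine exists_sylow_of_card le_sup_left (le_antisymm hle ?_)
    rw [card_autInducedBy_of_fullyAutomized (fullyAutomized_of_fullyNormalized hS hF hFN)]
    exact Nat.pow_le_pow_right (Fact.out (p := p.Prime)).pos
      ((Nat.factorization_le_iff_dvd Nat.card_pos.ne' Nat.card_pos.ne').2
        (Subgroup.card_dvd_of_le (sup_le hBA hLA)) p)
  have hact_p : IsPGroup p act.range :=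
    (isPGroup_of_le hS (preimageAlong_le θ N')).of_surjective act.rangeRestrict act.rangeRestrict_surjective
  obtain ⟨m, hm, hconj⟩ := exists_conj_le_sylow R₀ hR₀ (T := act.range)
    (by rintro _ ⟨g, rfl⟩; exact hactM g) hact_p
  rw [← SetLike.mem_coe, show ((B ⊔ L : Subgroup (MulAut P)) : Set (MulAut P)) = (B : Set _) * (L : Set _) from
    Subgroup.coe_mul_of_left_le_normalizer_right B L hnorm] at hm
  obtain ⟨s, hs, l, hl, rfl⟩ := hm
  obtain ⟨τ, hτ, hτr, hτl⟩ := exists_hom_of_aut (preimageAlong_le θ P') hl.2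
  obtain ⟨ψ, hψ, heψ⟩ := exists_comp hφ hτ fun x => hφr.le ⟨x, rfl⟩
  have hψval : ∀ x, ψ x = l (homEquiv hφ hφr x) := fun x => by rw [heψ, hτl]; rfl
  have hψr : ψ.range = P :=
    range_eq_of_mem hψ (fun x => by rw [hψval]; exact SetLike.coe_mem _) (isConj_card ⟨φ, hφ, hφr⟩).le
  obtain ⟨χ₀, hχ₀, heχ₀⟩ := (receptive_of_fullyNormalized hS hF hFN).2 R ψ hψ hψr
  have hNE : N ≤ extender S R ψ := fun g hg => by
    have h1 : l * act ⟨g, hg⟩ * l⁻¹ ∈ B := by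
      have h2 := hconj (act ⟨g, hg⟩) ⟨⟨g, hg⟩, rfl⟩
      have := B.mul_mem (B.mul_mem (B.inv_mem hs) h2) hs
      convert this using 1
      group
    obtain ⟨h, hh, hhe⟩ := mem_autInducedBy.1 h1
    refine mem_extender_of (hNn g hg) hh fun x hx => ?_
    have h3 := hhe (l (homEquiv hφ hφr x))
    rw [MulAut.mul_apply, MulAut.mul_apply, MulAut.inv_apply_self] at h3
    rw [hψval, hψval, ← h3]
    congr 2
    exact Subtype.ext (hact ⟨g, hg⟩ x hx).symm
  obtain ⟨χ, hχ, heχ⟩ := exists_restrict hχ₀ hNE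
  have hN' : N' ≤ S' := fun g hg => (mem_extender.1 hg).1
  obtain ⟨χ', hχ'⟩ := exists_induced hK hr hN' hχ
  refine ⟨χ', (hmem _ _).2 ⟨hN', χ, hχ, hχ'⟩, fun y hy hyN => ?_⟩
  obtain ⟨t, rfl⟩ := hr.ge (hR' hy)
  have htR : (t : Ω) ∈ R := mem_preimageAlong.2 ⟨t.2, hy⟩
  refine (inducedAlong_apply hχ' ⟨t, mem_preimageAlong.2 ⟨t.2, hyN⟩⟩ t.2 hyN (apply_mem hχ _)).trans ?_
  refine Eq.trans ?_ (inducedAlong_apply hind ⟨t, htR⟩ t.2 hy (apply_mem hφ _)).symm
  have hval : χ ⟨t, mem_preimageAlong.2 ⟨t.2, hyN⟩⟩ = l (homEquiv hφ hφr ⟨t, htR⟩) :=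
    ((heχ _).trans (heχ₀ _ htR _)).trans (hψval _)
  obtain ⟨z, hz, hze⟩ := (hl.1 ()).2 (homEquiv hφ hφr ⟨t, htR⟩) (Subgroup.mem_top _)
  have : (⟨χ ⟨t, mem_preimageAlong.2 ⟨t.2, hyN⟩⟩, apply_mem hχ _⟩ : S) = ⟨φ ⟨t, htR⟩, apply_mem hφ _⟩ * z := by
    apply Subtype.ext
    show χ ⟨t, mem_preimageAlong.2 ⟨t.2, hyN⟩⟩ = φ ⟨t, htR⟩ * S.subtype z
    rw [hval, hze, homEquiv_coe, mul_inv_cancel_left]
  rw [this, map_mul, hz, mul_one]

theorem factor_isSaturated (hS : IsPGroup p S) (hF : F.IsSaturated p) (hS₀ : F.StronglyClosed S₀)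
    (hE : F.IsFactorSystem S₀ θ E) : E.IsSaturated p := by
  have hr := hE.2.2.1
  haveI : Finite S' := finite_image hr
  exact (isSaturated_iff_base_and_receptive (isPGroup_image hS hr)).2
    ⟨factor_top_automized hS hF hS₀ hE, fun _ h => factor_receptive hS hF hS₀ hE h⟩

end Cfsg.Agent.Lib.FS
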