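import Mathlib
import Cfsg.Agent.Lib.FusionAlperin.Agree
import Cfsg.Agent.Lib.FusionP3.Induction

/-!
Maps agreeing on a centric subgroup differ by conjugation with an element of its centre.
-/

set_option autoImplicit false
set_option linter.style.haveILetI false

namespace Cfsg.Agent.Lib.FS

open Cfsg Cfsg.FusionSystem

variable {Ω : Type*} [Group Ω] {S : Subgroup Ω} {F : FusionSystem S}

/-- Overgroups of centric subgroups are centric. -/
theorem isCentric_of_le {Q R : Subgroup Ω} (hQ : F.IsCentric Q) (h : Q ≤ R) (hR : R ≤ S) :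
    F.IsCentric R := by
  refine ⟨hR, fun T hT => ?_⟩
  obtain ⟨φ, hφ, rfl⟩ := hT
  obtain ⟨ψ, hψ, he⟩ := exists_restrict hφ h
  have hle : ψ.range ≤ φ.range := by
    rintro _ ⟨x, rfl⟩; rw [he]; exact ⟨_, rfl⟩
  exact ((centralizerIn_anti hle).trans (hQ.2 _ ⟨ψ, hψ, rfl⟩)).trans hle

variable [Finite S] {p : ℕ} [Fact p.Prime]

theorem exists_conj_of_agree_le (hS : IsPGroup p S) (hF : F.IsSaturated p) {P Q : Subgroup Ω}
    (hQP : Q ≤ P) (hQ : F.IsCentric Q) {φ φ' : P →* Ω} (hφ : φ ∈ F.Hom P) (hφ' : φ' ∈ F.Hom P)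
    (h : ∀ x : P, (x : Ω) ∈ Q → φ x = φ' x) :
    ∃ z : P, (z : Ω) ∈ Q ∧ (z : Ω) ∈ Subgroup.centralizer (Q : Set Ω) ∧
      ∀ y : P, φ' y = φ (z * y * z⁻¹) := by
  have hP := src_le hφ
  haveI := finite_sub hP
  suffices hmain : ∀ (n : ℕ) (R : Subgroup Ω) (ψ : P →* Ω), Nat.card P - Nat.card R < n → R ≤ P →
      Q ≤ R → ψ ∈ F.Hom P → (∀ x : P, (x : Ω) ∈ R → ψ x = φ' x) →
      ∃ z : P, (z : Ω) ∈ Q ∧ (z : Ω) ∈ Subgroup.centralizer (Q : Set Ω) ∧
        ∀ y : P, φ' y = ψ (z * y * z⁻¹) from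
    hmain _ Q φ (Nat.lt_succ_self _) hQP le_rfl hφ h
  intro n
  induction n with
  | zero => exact fun R ψ h => absurd h (Nat.not_lt_zero _)
  | succ n ih =>
    intro R ψ hn hRP hQR hψ hag
    rcases eq_or_lt_of_le hRP with rfl | hlt
    · exact ⟨1, by simp, by simp [Subgroup.mem_centralizer_iff], fun y => by simp [hag y y.2]⟩
    set N := normalizerIn P R with hN
    have hNP : N ≤ P := normalizerIn_le R
    have hRN : R ≤ N := le_normalizerIn hRP
    have hRc : F.IsCentric R := isCentric_of_le hQ hQR (hRP.trans hP)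
    haveI := finite_sub (hNP.trans hP)
    obtain ⟨ψN, hψN, heN⟩ := exists_restrict hψ hNP
    obtain ⟨φN, hφN, heN'⟩ := exists_restrict hφ' hNP
    obtain ⟨z, hz, hzc, hzconj⟩ := FusionAlperin.Agree.exists_conj_of_agree hS hF hRN inf_le_right hRc
      hψN hφN (fun q hq => by rw [heN, heN']; exact (hag ⟨q, hRP hq⟩ hq).symm)
    have hzQ : z ∈ Q := hQ.2 Q (isConj_refl F hQ.1)
      ⟨(hRP.trans hP) hz, fun q hq => ((hzc q (hQR hq))).symm⟩
    set zP : P := ⟨z, hRP hz⟩ with hzP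
    let ψ' : P →* Ω := ψ.comp (MulAut.conj zP).toMonoidHom
    have hψ' : ψ' ∈ F.Hom P := by
      refine mem_comp (F.conj_mem hP (hP (hRP hz))) hψ
        (fun y => P.mul_mem (P.mul_mem (hRP hz) y.2) (P.inv_mem (hRP hz))) fun y => rfl
    have hlt' : R < N := FusionP3.Induction.lt_normalizerIn (isPGroup_of_le hS hP) hlt
    have hcard : Nat.card R < Nat.card N := lt_of_not_ge fun h =>
      hlt'.ne (Subgroup.eq_of_le_of_card_ge hlt'.le h)
    have hle : Nat.card N ≤ Nat.card P := Subgroup.card_le_of_le hNP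
    obtain ⟨w, hwQ, hwc, hw⟩ := ih N ψ' (by omega) hNP (hQR.trans hRN) hψ' fun x hx => by
      have h1 := hzconj ⟨x, hx⟩
      rw [heN', heN] at h1
      exact h1.symm
    refine ⟨zP * w, Q.mul_mem hzQ hwQ, ?_, fun y => ?_⟩
    · exact Subgroup.mul_mem _ (fun q hq => (hzc q (hQR hq)).symm) hwc
    · rw [hw]
      show ψ (zP * (w * y * w⁻¹) * zP⁻¹) = _
      simp [mul_assoc, mul_inv_rev]

end Cfsg.Agent.Lib.FS
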