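import Mathlib
import Cfsg.Agent.Lib.FusionSystem.FactorSaturated
import Cfsg.Agent.Lib.FusionSystem.Group

/-!
The factor system of `F_S(G)` by `S ⊓ H` for a normal subgroup `H`.
-/

set_option autoImplicit false
set_option linter.style.haveILetI false

namespace Cfsg.Agent.Lib.FS

open Cfsg Cfsg.FusionSystem
open scoped Pointwise

theorem group_factor {G : Type*} [Group G] [Finite G] {p : ℕ} [Fact p.Prime] (S : Sylow p G)
    (H : Subgroup G) [H.Normal] :
    (groupFusionSystem (S : Subgroup G)).IsFactorSystem ((S : Subgroup G) ⊓ H)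
      ((QuotientGroup.mk' H).comp (S : Subgroup G).subtype)
      (groupFusionSystem ((S : Subgroup G).map (QuotientGroup.mk' H))) := by
  set θ := (QuotientGroup.mk' H).comp (S : Subgroup G).subtype
  refine ⟨inf_le_left, fun s => ?_, ?_, fun P' φ' => ⟨?_, ?_⟩⟩
  · exact (QuotientGroup.eq_one_iff (s : G)).trans ⟨fun h => ⟨s.2, h⟩, fun h => h.2⟩
  · rw [MonoidHom.range_comp, Subgroup.range_subtype]
  · rintro ⟨hP', hv, g', hg'⟩
    obtain ⟨g, rfl⟩ := QuotientGroup.mk'_surjective H g'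
    refine ⟨hP', ?_⟩
    set P := preimageAlong θ P'
    set A := (S : Subgroup G) ⊔ H
    have hgP : ∀ x ∈ P, g * x * g⁻¹ ∈ A := by
      intro x hx
      obtain ⟨hxS, hxP⟩ := mem_preimageAlong.1 hx
      obtain ⟨s, hs, hse⟩ := hv ⟨_, hxP⟩
      rw [hg'] at hse
      have h1 : s⁻¹ * (g * x * g⁻¹) ∈ H := (QuotientGroup.eq_one_iff _).1 (by
        show QuotientGroup.mk' H _ = 1
        rw [map_mul, map_mul, map_mul, map_inv, map_inv, hse]
        exact inv_mul_cancel _)
      rw [show g * x * g⁻¹ = s * (s⁻¹ * (g * x * g⁻¹)) by rw [mul_inv_cancel_left]]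
      exact Subgroup.mul_mem_sup hs h1
    obtain ⟨R, hR⟩ : ∃ R : Sylow p A, (R : Subgroup A) = (S : Subgroup G).subgroupOf A :=
      ⟨S.subtype le_sup_left, rfl⟩
    obtain ⟨a, ha, hconj⟩ := exists_conj_le_sylow R hR (T := P.map (MulAut.conj g).toMonoidHom)
      (by rintro _ ⟨x, hx, rfl⟩; exact hgP x hx) ((isPGroup_of_le S.isPGroup' (preimageAlong_le θ P')).map _)
    rw [← SetLike.mem_coe,
      show ((A : Subgroup G) : Set G) = ((S : Subgroup G) : Set G) * (H : Set G) from Subgroup.mul_normal _ H] at ha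
    obtain ⟨s, hs, h, hh, rfl⟩ := ha
    have hin : ∀ x ∈ P, h * g * x * (h * g)⁻¹ ∈ (S : Subgroup G) := fun x hx => by
      have h1 := (S : Subgroup G).mul_mem ((S : Subgroup G).mul_mem ((S : Subgroup G).inv_mem hs)
        (hconj _ ⟨x, hx, rfl⟩)) hs
      convert h1 using 1
      show _ = s⁻¹ * (s * h * (g * x * g⁻¹) * (s * h)⁻¹) * s
      group
    have hmem := conjHom_mem_group (preimageAlong_le θ P') hin
    refine ⟨_, hmem, inducedAlong_preimage hmem fun t ht => ?_⟩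
    rw [hg']
    show QuotientGroup.mk' H g * QuotientGroup.mk' H t * (QuotientGroup.mk' H g)⁻¹ =
      QuotientGroup.mk' H (h * g * t * (h * g)⁻¹)
    have : QuotientGroup.mk' H h = 1 := (QuotientGroup.eq_one_iff h).2 hh
    simp only [map_mul, map_inv, this, one_mul]
  · rintro ⟨hP', φ, hφ, hind⟩
    obtain ⟨-, -, g, hg⟩ := mem_groupHom.1 hφ
    have hrepr : ∀ y : P', φ' y ∈ (S : Subgroup G).map (QuotientGroup.mk' H) ∧
        φ' y = QuotientGroup.mk' H g * (y : G ⧸ H) * (QuotientGroup.mk' H g)⁻¹ := by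
      rintro ⟨y, hy⟩
      obtain ⟨s, hs, rfl⟩ := hP' hy
      have hx : s ∈ preimageAlong θ P' := mem_preimageAlong.2 ⟨hs, hy⟩
      have e : φ' ⟨QuotientGroup.mk' H s, hy⟩ = QuotientGroup.mk' H (φ ⟨s, hx⟩) :=
        inducedAlong_apply hind ⟨s, hx⟩ hs hy (apply_mem hφ _)
      refine ⟨⟨φ ⟨s, hx⟩, apply_mem hφ _, e.symm⟩, ?_⟩
      rw [e, hg, map_mul, map_mul, map_inv]
    exact ⟨hP', fun y => (hrepr y).1, QuotientGroup.mk' H g, fun y => (hrepr y).2⟩

end Cfsg.Agent.Lib.FS
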