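import Mathlib
import Cfsg.Agent.Lib.FusionSystem.Saturation

/-!
The `K`-normalizer systems `N_F^K(Q)`, in particular `N_F(Q)` and `C_F(Q)`: construction and saturation.
-/

set_option autoImplicit false
set_option linter.style.haveILetI false
set_option linter.unusedSectionVars false

namespace Cfsg.Agent.Lib.FS

open Cfsg Cfsg.FusionSystem
open scoped Pointwise

variable {Ω : Type*} [Group Ω] {S : Subgroup Ω} {F : FusionSystem S}

/-- The elements `g` of `S` with `g ξ(y) g⁻¹ = ξ(k y)` for some `k ∈ K`. -/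
def kNorm (S : Subgroup Ω) {Q : Subgroup Ω} (ξ : Q →* Ω) (K : Subgroup (MulAut Q)) : Subgroup Ω where
  carrier := {g | g ∈ S ∧ ∃ k ∈ K, ∀ y : Q, g * ξ y * g⁻¹ = ξ (k y)}
  one_mem' := ⟨S.one_mem, 1, K.one_mem, fun y => by simp⟩
  mul_mem' := by
    rintro a b ⟨ha, k, hk, hak⟩ ⟨hb, l, hl, hbl⟩
    refine ⟨S.mul_mem ha hb, k * l, K.mul_mem hk hl, fun y => ?_⟩
    rw [MulAut.mul_apply, ← hak, ← hbl]; group
  inv_mem' := by
    rintro a ⟨ha, k, hk, hak⟩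
    refine ⟨S.inv_mem ha, k⁻¹, K.inv_mem hk, fun y => ?_⟩
    have h := hak (k⁻¹ y)
    rw [MulAut.apply_inv_self] at h
    rw [← h]; group

/-- The maps of the `K`-normalizer system of `Q`. -/
def kHom (F : FusionSystem S) {Q : Subgroup Ω} (K : Subgroup (MulAut Q)) (P : Subgroup Ω) : Set (P →* Ω) :=
  {φ | φ ∈ F.Hom P ∧ P ≤ kNorm S Q.subtype K ∧ (∀ x : P, φ x ∈ kNorm S Q.subtype K) ∧
    ∃ ψ ∈ F.Hom (P ⊔ Q), (∀ x : P, ψ (Subgroup.inclusion le_sup_left x) = φ x) ∧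
      ∃ k ∈ K, ∀ y : Q, ψ (Subgroup.inclusion le_sup_right y) = (k y : Ω)}

theorem mem_kNorm {Q : Subgroup Ω} {ξ : Q →* Ω} {K : Subgroup (MulAut Q)} {g : Ω} :
    g ∈ kNorm S ξ K ↔ g ∈ S ∧ ∃ k ∈ K, ∀ y : Q, g * ξ y * g⁻¹ = ξ (k y) := Iff.rfl

theorem kNorm_le {Q : Subgroup Ω} (ξ : Q →* Ω) (K : Subgroup (MulAut Q)) : kNorm S ξ K ≤ S :=
  fun _ h => h.1

theorem mem_normalizer_of_kNorm {Q : Subgroup Ω} {K : Subgroup (MulAut Q)} {g : Ω}
    (h : g ∈ kNorm S Q.subtype K) : g ∈ Subgroup.normalizer (Q : Set Ω) := by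
  obtain ⟨-, k, -, hk⟩ := h
  exact mem_normalizer_of_aut fun y => (hk y).symm

theorem kNorm_top (S Q : Subgroup Ω) :
    kNorm S Q.subtype (⊤ : Subgroup (MulAut Q)) = normalizerIn S Q := by
  ext g
  refine ⟨fun h => ⟨h.1, mem_normalizer_of_kNorm h⟩, fun h => ?_⟩
  exact ⟨h.1, Q.normalizerMonoidHom ⟨g, h.2⟩, trivial, fun _ => rfl⟩

theorem kNorm_bot (S Q : Subgroup Ω) :
    kNorm S Q.subtype (⊥ : Subgroup (MulAut Q)) = centralizerIn S Q := by
  ext g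
  rw [mem_centralizerIn']
  constructor
  · rintro ⟨h, k, hk, hg⟩
    rw [Subgroup.mem_bot] at hk
    subst hk
    exact ⟨h, fun x hx => hg ⟨x, hx⟩⟩
  · rintro ⟨h, hg⟩
    exact ⟨h, 1, Subgroup.mem_bot.2 rfl, fun y => hg y y.2⟩

theorem normalizerHom_eq (F : FusionSystem S) (Q P : Subgroup Ω) :
    F.normalizerHom Q P = kHom F (⊤ : Subgroup (MulAut Q)) P := by
  ext φ
  constructor
  · rintro ⟨h1, h2, h3, ψ, hψ, he, hQ⟩
    rw [map_subgroupOf_eq_range le_sup_right] at hQ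
    obtain ⟨τ, hτ, heτ⟩ := exists_restrict hψ (le_sup_right : Q ≤ P ⊔ Q)
    have hτQ : τ.range = Q := by
      rw [← MonoidHom.ext (f := ψ.comp (Subgroup.inclusion le_sup_right)) (g := τ) fun y => (heτ y).symm]
      exact hQ
    refine ⟨h1, ?_, ?_, ψ, hψ, he, homEquiv hτ hτQ, trivial, fun y => (heτ y).symm⟩
    · rw [kNorm_top]; exact h2
    · rw [kNorm_top]; exact h3
  · rintro ⟨h1, h2, h3, ψ, hψ, he, k, -, hk⟩
    rw [kNorm_top] at h2 h3
    refine ⟨h1, h2, h3, ψ, hψ, he, ?_⟩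
    rw [map_subgroupOf_eq_range le_sup_right]
    ext z
    constructor
    · rintro ⟨y, rfl⟩; exact (hk y).symm ▸ (k y).2
    · intro hz
      exact ⟨k⁻¹ ⟨z, hz⟩, by
        show ψ (Subgroup.inclusion _ (k⁻¹ ⟨z, hz⟩)) = z
        rw [hk, MulAut.apply_inv_self]⟩

theorem centralizerHom_eq (F : FusionSystem S) (Q P : Subgroup Ω) :
    F.centralizerHom Q P = kHom F (⊥ : Subgroup (MulAut Q)) P := by
  ext φ
  unfold kHom centralizerHom
  simp only [kNorm_bot, Set.mem_setOf_eq, Subgroup.mem_bot, exists_eq_left, MulAut.one_apply]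

/-! ### Construction -/

/-- The `K`-normalizer system of `Q`, over any name `T` for `N_S^K(Q)`. -/
theorem exists_kSystem (F : FusionSystem S) {Q : Subgroup Ω} (hQ : Q ≤ S) (K : Subgroup (MulAut Q))
    {T : Subgroup Ω} (hT : T = kNorm S Q.subtype K) :
    ∃ E : FusionSystem T, ∀ P, E.Hom P = kHom F K P := by
  subst hT
  refine ⟨{ Hom := kHom F K
            le_of_mem := fun h => ⟨h.2.1, h.2.2.1⟩
            injective_of_mem := fun h => F.injective_of_mem h.1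
            conj_mem := ?_, comp_mem := ?_, inv_mem := ?_ }, fun P => rfl⟩
  · intro P g hP hg
    refine ⟨F.conj_mem (hP.trans (kNorm_le _ _)) hg.1, hP,
      fun x => mul_mem (mul_mem hg (hP x.2)) (inv_mem hg),
      conjHom _ g, F.conj_mem (sup_le (hP.trans (kNorm_le _ _)) hQ) hg.1, fun x => rfl, ?_⟩
    obtain ⟨k, hk, hgk⟩ := hg.2
    exact ⟨k, hk, hgk⟩
  · rintro P R φ ψ ⟨hφ, hP, hφT, φ', hφ', he, k, hk, hek⟩ ⟨hψ, hR, hψT, ψ', hψ', he', l, hl, hel⟩ h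
    have hval : ∀ z, φ' z ∈ R ⊔ Q := by
      rintro ⟨z, hz⟩
      have : P ⊔ Q ≤ ((R ⊔ Q).comap φ').map (P ⊔ Q).subtype :=
        sup_le (fun x hx => ⟨Subgroup.inclusion le_sup_left ⟨x, hx⟩,
            (by show φ' _ ∈ R ⊔ Q; rw [he]; exact (le_sup_left : R ≤ R ⊔ Q) (h _)), rfl⟩)
          (fun y hy => ⟨Subgroup.inclusion le_sup_right ⟨y, hy⟩,
            (by show φ' _ ∈ R ⊔ Q; rw [hek]; exact (le_sup_right : Q ≤ R ⊔ Q) (SetLike.coe_mem _)), rfl⟩)
      obtain ⟨w, hw, hwz⟩ := this hz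
      rwa [show w = ⟨z, hz⟩ from Subtype.ext hwz] at hw
    obtain ⟨χ, hχ, heχ⟩ := exists_comp hφ' hψ' hval
    refine ⟨F.comp_mem hφ hψ h, hP, fun x => hψT _, χ, hχ, fun x => ?_, l * k, K.mul_mem hl hk,
      fun y => ?_⟩
    · rw [heχ]
      exact (congrArg ψ' (Subtype.ext (he x))).trans (he' ⟨φ x, h x⟩)
    · rw [heχ]
      exact (congrArg ψ' (Subtype.ext (hek y))).trans (hel (k y))
  · rintro P φ ⟨hφ, hP, hφT, φ', hφ', he, k, hk, hek⟩
    obtain ⟨ψ, hψ, hψP, hl, -⟩ := exists_inv hφ rfl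
    obtain ⟨ψ', hψ', -, hl', -⟩ := exists_inv hφ' rfl
    have hle : φ.range ⊔ Q ≤ φ'.range :=
      sup_le (by rintro _ ⟨x, rfl⟩; exact ⟨_, he x⟩)
        (fun y hy => ⟨Subgroup.inclusion le_sup_right (k⁻¹ ⟨y, hy⟩), by rw [hek, MulAut.apply_inv_self]⟩)
    obtain ⟨χ, hχ, heχ⟩ := exists_restrict hψ' hle
    refine ⟨ψ, ⟨hψ, ?_, ?_, χ, hχ, ?_, k⁻¹, K.inv_mem hk, ?_⟩, fun x => hl x _⟩
    · rintro _ ⟨x, rfl⟩; exact hφT x
    · intro x; exact hP (hψP.le ⟨x, rfl⟩)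
    · rintro ⟨_, x, rfl⟩
      rw [heχ]
      refine Eq.trans (Eq.trans ?_ (hl' (Subgroup.inclusion le_sup_left x) ⟨_, rfl⟩)) (hl x _).symm
      exact congrArg ψ' (Subtype.ext (he x).symm)
    · intro y
      rw [heχ]
      refine Eq.trans ?_ (hl' (Subgroup.inclusion le_sup_right (k⁻¹ y)) ⟨_, rfl⟩)
      refine congrArg ψ' (Subtype.ext ?_)
      show (y : Ω) = φ' _
      rw [hek, MulAut.apply_inv_self]

/-! ### Saturation -/

/-- `B` is a Sylow `p`-subgroup of `A` (by order). -/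
def SylowIn {G : Type*} [Group G] (p : ℕ) (A B : Subgroup G) : Prop :=
  B ≤ A ∧ Nat.card B = p ^ (Nat.card A).factorization p

theorem card_pSubgroup_le {G : Type*} [Group G] {p : ℕ} [Fact p.Prime] {A B : Subgroup G} [Finite A]
    (hBA : B ≤ A) (hB : IsPGroup p B) : Nat.card B ≤ p ^ (Nat.card A).factorization p := by
  obtain ⟨T, hT⟩ := (hB.of_equiv (Subgroup.subgroupOfEquivOfLe hBA).symm).exists_le_sylow
  rw [← Nat.card_congr (Subgroup.subgroupOfEquivOfLe hBA).toEquiv, ← Sylow.card_eq_multiplicity T]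
  exact Subgroup.card_le_of_le hT

theorem sylowIn_of_isFullyAutomized [Finite S] {p : ℕ} [Fact p.Prime] {Q : Subgroup Ω}
    (h : F.IsFullyAutomized p Q) : SylowIn p (F.autGroup Q) (autInducedBy S Q) :=
  ⟨autInducedBy_le_autGroup F h.1, card_autInducedBy_of_fullyAutomized h⟩

/-- The automorphisms of `R` preserving `P` and acting on `Q` by an element of `K`. -/
def stabK (P : Subgroup Ω) {Q : Subgroup Ω} (K : Subgroup (MulAut Q)) {R : Subgroup Ω} (hQR : Q ≤ R) :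
    Subgroup (MulAut R) where
  carrier := {α | (∀ x : R, (x : Ω) ∈ P ↔ ((α x : R) : Ω) ∈ P) ∧
    ∃ k ∈ K, ∀ y : Q, α (Subgroup.inclusion hQR y) = Subgroup.inclusion hQR (k y)}
  one_mem' := ⟨fun _ => Iff.rfl, 1, K.one_mem, fun _ => rfl⟩
  mul_mem' := by
    rintro a b ⟨ha, k, hk, hak⟩ ⟨hb, l, hl, hbl⟩
    exact ⟨fun x => (hb x).trans (ha _), k * l, K.mul_mem hk hl, fun y => by
      rw [MulAut.mul_apply, hbl, hak, MulAut.mul_apply]⟩
  inv_mem' := by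
    rintro a ⟨ha, k, hk, hak⟩
    refine ⟨fun x => ?_, k⁻¹, K.inv_mem hk, fun y => ?_⟩
    · have := ha (a⁻¹ x)
      rw [MulAut.apply_inv_self] at this
      exact this.symm
    · apply a.injective
      rw [MulAut.apply_inv_self, hak, MulAut.apply_inv_self]

theorem mem_stabK {P : Subgroup Ω} {Q : Subgroup Ω} {K : Subgroup (MulAut Q)} {R : Subgroup Ω}
    {hQR : Q ≤ R} {α : MulAut R} :
    α ∈ stabK P K hQR ↔ (∀ x : R, (x : Ω) ∈ P ↔ ((α x : R) : Ω) ∈ P) ∧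
      ∃ k ∈ K, ∀ y : Q, α (Subgroup.inclusion hQR y) = Subgroup.inclusion hQR (k y) := Iff.rfl

theorem congr_apply {R R' : Subgroup Ω} {ω : R →* Ω} (hω : ω ∈ F.Hom R) (hr : ω.range = R')
    (α : MulAut R) (x : R) :
    ((MulAut.congr (homEquiv hω hr) α (homEquiv hω hr x) : R') : Ω) = ω (α x) := by
  show ((homEquiv hω hr (α ((homEquiv hω hr).symm (homEquiv hω hr x))) : R') : Ω) = _
  rw [MulEquiv.symm_apply_apply, homEquiv_coe]

/-- Transport of `stabK` along a map fixing `Q` up to `K`. -/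
theorem stabK_map {P Q R P' R' : Subgroup Ω} {K : Subgroup (MulAut Q)} (hPR : P ≤ R) (hQR : Q ≤ R)
    (hQR' : Q ≤ R') {ω : R →* Ω} (hω : ω ∈ F.Hom R) (hr : ω.range = R')
    {a : MulAut Q} (ha : a ∈ K) (haQ : ∀ y : Q, ω (Subgroup.inclusion hQR y) = (a y : Ω))
    (hP' : (P.subgroupOf R).map ω = P') :
    (stabK P K hQR).map (MulAut.congr (homEquiv hω hr)).toMonoidHom = stabK P' K hQR' := by
  have hmemP : ∀ x : R, (x : Ω) ∈ P ↔ ω x ∈ P' := by
    intro x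
    subst hP'
    refine ⟨fun h => ⟨x, Subgroup.mem_subgroupOf.2 h, rfl⟩, ?_⟩
    rintro ⟨z, hz, hzx⟩
    rw [← F.injective_of_mem hω hzx]
    exact Subgroup.mem_subgroupOf.1 hz
  have hsub : ∀ y : Q,
      homEquiv hω hr (Subgroup.inclusion hQR y) = Subgroup.inclusion hQR' (a y) := fun y =>
    Subtype.ext (haQ y)
  ext β
  simp only [Subgroup.mem_map, MulEquiv.coe_toMonoidHom]
  constructor
  · rintro ⟨α, ⟨hαP, k, hk, hαk⟩, rfl⟩
    refine mem_stabK.2 ⟨fun z => ?_, a * k * a⁻¹, K.mul_mem (K.mul_mem ha hk) (K.inv_mem ha), fun y => ?_⟩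
    · obtain ⟨x, rfl⟩ := (homEquiv hω hr).surjective z
      rw [congr_apply hω hr α x, homEquiv_coe, ← hmemP, ← hmemP]
      exact hαP x
    · apply Subtype.ext
      have e : Subgroup.inclusion hQR' y = homEquiv hω hr (Subgroup.inclusion hQR (a⁻¹ y)) := by
        rw [hsub, MulAut.apply_inv_self]
      rw [e, congr_apply, hαk, haQ]
      rfl
  · rintro ⟨hβP, k, hk, hβk⟩
    refine ⟨(MulAut.congr (homEquiv hω hr)).symm β,
      mem_stabK.2 ⟨fun x => ?_, a⁻¹ * k * a, K.mul_mem (K.mul_mem (K.inv_mem ha) hk) ha, fun y => ?_⟩,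
      MulEquiv.apply_symm_apply _ _⟩
    · show _ ↔ (((homEquiv hω hr).symm (β (homEquiv hω hr x)) : R) : Ω) ∈ P
      rw [hmemP, hmemP, homEquiv_symm_apply hω hr]
      exact hβP (homEquiv hω hr x)
    · show (homEquiv hω hr).symm (β (homEquiv hω hr (Subgroup.inclusion hQR y))) = _
      rw [MulEquiv.symm_apply_eq, hsub, hsub, hβk]
      congr 1
      simp [MulAut.mul_apply]

section Saturated

variable [Finite S] {p : ℕ} [Fact p.Prime]

/-- Any `H ≤ Aut(R)` can be moved to a receptive conjugate where `Aut_S ∩ H` is Sylow in `Aut_F ∩ H`. -/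
theorem exists_receptive_sylow_conj (hS : IsPGroup p S) (hF : F.IsSaturated p) {R : Subgroup Ω}
    (hR : R ≤ S) (H : Subgroup (MulAut R)) :
    ∃ (R' : Subgroup Ω) (χ : R →* Ω) (hχ : χ ∈ F.Hom R) (hr : χ.range = R'), F.IsReceptive R' ∧
      SylowIn p (F.autGroup R' ⊓ H.map (MulAut.congr (homEquiv hχ hr)).toMonoidHom)
        (autInducedBy S R' ⊓ H.map (MulAut.congr (homEquiv hχ hr)).toMonoidHom) := by
  obtain ⟨R', hRR', hR'⟩ := exists_isFullyNormalized F hR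
  obtain ⟨χ₀, hχ₀, hr₀⟩ := hRR'
  haveI := finite_sub hR'.1
  set A₀ := F.autGroup R' ⊓ H.map (MulAut.congr (homEquiv hχ₀ hr₀)).toMonoidHom with hA₀
  let U : Sylow p A₀ := default
  obtain ⟨T, hT⟩ := (fullyAutomized_of_fullyNormalized hS hF hR').2
  obtain ⟨γ, hγ, hconj⟩ := exists_conj_le_sylow T hT (T := (U : Subgroup A₀).map A₀.subtype)
    (by rintro _ ⟨t, -, rfl⟩; exact (Subgroup.mem_inf.1 t.2).1) (U.isPGroup'.map _)
  obtain ⟨τ, hτ, hτr, hτγ⟩ := exists_hom_of_aut hR'.1 hγ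
  obtain ⟨χ, hχ, heχ⟩ := exists_comp hχ₀ hτ fun x => hr₀.le ⟨x, rfl⟩
  have hval : ∀ x, χ x = γ (homEquiv hχ₀ hr₀ x) := fun x => by rw [heχ, hτγ]; rfl
  have hr : χ.range = R' :=
    range_eq_of_mem hχ (fun x => by rw [hval]; exact SetLike.coe_mem _) (isConj_card ⟨χ₀, hχ₀, hr₀⟩).le
  refine ⟨R', χ, hχ, hr, receptive_of_fullyNormalized hS hF hR',
    inf_le_inf_right _ (autInducedBy_le_autGroup F hR'.1), ?_⟩
  set A := F.autGroup R' ⊓ H.map (MulAut.congr (homEquiv hχ hr)).toMonoidHom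
  have hH : ∀ α, α ∈ H.map (MulAut.congr (homEquiv hχ₀ hr₀)).toMonoidHom →
      γ * α * γ⁻¹ ∈ H.map (MulAut.congr (homEquiv hχ hr)).toMonoidHom := by
    rintro _ ⟨α, hα, rfl⟩
    refine ⟨α, hα, MulEquiv.ext fun z => ?_⟩
    obtain ⟨x, rfl⟩ := (homEquiv hχ hr).surjective z
    apply Subtype.ext
    rw [MulEquiv.coe_toMonoidHom, congr_apply, hval]
    have e : homEquiv hχ hr x = γ (homEquiv hχ₀ hr₀ x) := Subtype.ext (hval x)
    rw [e, MulAut.mul_apply, MulAut.mul_apply, MulAut.inv_apply_self, MulEquiv.coe_toMonoidHom]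
    congr 2
    exact Subtype.ext (congr_apply hχ₀ hr₀ α x).symm
  have hcard : Nat.card A₀ = Nat.card A := by
    have e : A₀.map (MulAut.conj γ).toMonoidHom = A := by
      apply le_antisymm
      · rintro _ ⟨α, hα, rfl⟩
        exact ⟨(F.autGroup R').mul_mem ((F.autGroup R').mul_mem hγ hα.1) ((F.autGroup R').inv_mem hγ),
          hH α hα.2⟩
      · rintro _ ⟨hβ, α, hα, rfl⟩
        have hmem : MulAut.congr (homEquiv hχ₀ hr₀) α ∈
            H.map (MulAut.congr (homEquiv hχ₀ hr₀)).toMonoidHom := ⟨α, hα, rfl⟩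
        have e2 : γ * MulAut.congr (homEquiv hχ₀ hr₀) α * γ⁻¹ = MulAut.congr (homEquiv hχ hr) α := by
          refine MulEquiv.ext fun z => ?_
          obtain ⟨x, rfl⟩ := (homEquiv hχ hr).surjective z
          apply Subtype.ext
          rw [congr_apply hχ hr, hval]
          have e : homEquiv hχ hr x = γ (homEquiv hχ₀ hr₀ x) := Subtype.ext (hval x)
          rw [e, MulAut.mul_apply, MulAut.mul_apply, MulAut.inv_apply_self]
          congr 2
          exact Subtype.ext (congr_apply hχ₀ hr₀ α x)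
        refine ⟨MulAut.congr (homEquiv hχ₀ hr₀) α, ⟨?_, hmem⟩, e2⟩
        have h3 := (F.autGroup R').mul_mem ((F.autGroup R').mul_mem ((F.autGroup R').inv_mem hγ) hβ) hγ
        rw [MulEquiv.coe_toMonoidHom, ← e2] at h3
        simpa [mul_assoc] using h3
    rw [← e]
    exact Nat.card_congr
      (A₀.equivMapOfInjective (MulAut.conj γ).toMonoidHom (MulAut.conj γ).injective).toEquiv
  refine le_antisymm (card_pSubgroup_le (inf_le_inf_right _ (autInducedBy_le_autGroup F hR'.1))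
    (isPGroup_of_le (isPGroup_autInducedBy hS R') inf_le_left)) ?_
  rw [← hcard, ← Sylow.card_eq_multiplicity U]
  refine Nat.card_le_card_of_injective (fun t : U =>
    (⟨γ * ((t : A₀) : MulAut R') * γ⁻¹, hconj _ ⟨t, t.2, rfl⟩, hH _ (Subgroup.mem_inf.1 (t : A₀).2).2⟩ :
      ↥(autInducedBy S R' ⊓ H.map (MulAut.congr (homEquiv hχ hr)).toMonoidHom))) fun s t h => ?_
  exact Subtype.ext (Subtype.ext (mul_left_cancel (mul_right_cancel
    (congrArg (fun z : ↥(autInducedBy S R' ⊓ H.map (MulAut.congr (homEquiv hχ hr)).toMonoidHom) =>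
      (z : MulAut R')) h))))

/-- The extension step for a receptive `Q` with `Aut_S ∩ K` Sylow. -/
theorem exists_kNorm_extension (hS : IsPGroup p S) {Q : Subgroup Ω} {K : Subgroup (MulAut Q)}
    (hQ : F.IsReceptive Q) (hK : SylowIn p (F.autGroup Q ⊓ K) (autInducedBy S Q ⊓ K))
    {ξ : Q →* Ω} (hξ : ξ ∈ F.Hom Q) :
    ∃ a ∈ F.autGroup Q ⊓ K, ∃ N : Subgroup Ω, kNorm S ξ K ≤ N ∧ ∃ (hN : ξ.range ≤ N), ∃ ψ ∈ F.Hom N,
      ∀ y : Q, ψ ⟨ξ y, hN ⟨y, rfl⟩⟩ = (a y : Ω) := by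
  haveI := finite_sub hQ.1
  haveI : Finite ξ.range := finite_sub (range_le_base hξ)
  set e := homEquiv hξ rfl
  set Tk := (autInducedBy S ξ.range).comap (MulAut.congr e).toMonoidHom ⊓ K with hTk
  have hTk_p : IsPGroup p Tk := by
    refine IsPGroup.of_injective (isPGroup_autInducedBy hS ξ.range)
      (((MulAut.congr e).toMonoidHom.comp Tk.subtype).codRestrict _ fun k => k.2.1) ?_
    intro a b h
    exact Subtype.ext ((MulAut.congr e).injective
      (congrArg (fun z : autInducedBy S ξ.range => (z : MulAut ξ.range)) h))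
  have hTk_le : Tk ≤ F.autGroup Q ⊓ K := by
    rintro k ⟨hk, hkK⟩
    refine ⟨?_, hkK⟩
    have h1 := autInducedBy_le_autGroup F (range_le_base hξ) hk
    rw [← map_congr_autGroup hξ rfl] at h1
    obtain ⟨k', hk', e'⟩ := h1
    rwa [(MulAut.congr e).injective e'] at hk'
  obtain ⟨R₀, hR₀⟩ := exists_sylow_of_card hK.1 hK.2
  obtain ⟨a, ha, hconj⟩ := exists_conj_le_sylow R₀ hR₀ hTk_le hTk_p
  obtain ⟨ξi, hξi, hξiQ, hξl, -⟩ := exists_inv hξ rfl
  obtain ⟨τ, hτ, hτr, hτa⟩ := exists_hom_of_aut hQ.1 ha.1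
  obtain ⟨φ₀, hφ₀, heφ₀⟩ := exists_comp hξi hτ fun z => hξiQ.le ⟨z, rfl⟩
  have hφ₀val : ∀ (y : Q) (h : ξ y ∈ ξ.range), φ₀ ⟨ξ y, h⟩ = (a y : Ω) := by
    intro y h
    rw [heφ₀, hτa]
    congr 2
    exact Subtype.ext (hξl y h)
  have hr : φ₀.range = Q := by
    refine range_eq_of_mem hφ₀ ?_ (card_range hξ).ge
    rintro ⟨_, y, rfl⟩
    erw [hφ₀val y ⟨y, rfl⟩]; exact SetLike.coe_mem _
  obtain ⟨ψ, hψ, heψ⟩ := hQ.2 _ φ₀ hφ₀ hr
  refine ⟨a, ha, extender S ξ.range φ₀, ?_, le_extender (range_le_base hξ) (apply_mem hφ₀), ψ, hψ,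
    fun y => (heψ _ ⟨y, rfl⟩ _).trans (hφ₀val y _)⟩
  rintro g ⟨hg, k, hk, hgk⟩
  have hgn : g ∈ Subgroup.normalizer (ξ.range : Set Ω) := mem_normalizer_of_conj_mem fun z hz => by
    obtain ⟨y, rfl⟩ := hz
    rw [hgk]; exact ⟨_, rfl⟩
  have hkT : k ∈ Tk := by
    refine ⟨mem_autInducedBy.2 ⟨g, hg, fun z => ?_⟩, hk⟩
    obtain ⟨y, rfl⟩ := e.surjective z
    rw [MulEquiv.coe_toMonoidHom, congr_apply hξ rfl, homEquiv_coe, hgk]
  obtain ⟨h, hh, hhe⟩ := mem_autInducedBy.1 (hconj k hkT).1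
  refine mem_extender_of ⟨hg, hgn⟩ hh ?_
  rintro ⟨_, y, rfl⟩ hx
  erw [hφ₀val y ⟨y, rfl⟩]
  have h2 := hhe (a y)
  rw [MulAut.mul_apply, MulAut.mul_apply, MulAut.inv_apply_self] at h2
  rw [← h2, ← hφ₀val (k y) ⟨_, rfl⟩]
  exact congrArg φ₀ (Subtype.ext (hgk y))

variable {Q T : Subgroup Ω} {K : Subgroup (MulAut Q)} {E : FusionSystem T}

/-- Second step: if `R = P Q` is receptive with `Aut_S ∩ H` Sylow, then `P` is fully automized in the system. -/
theorem kSystem_fullyAutomized (hQ : Q ≤ S) (hT : T = kNorm S Q.subtype K)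
    (hE : ∀ P, E.Hom P = kHom F K P) {P : Subgroup Ω} (hP : P ≤ T)
    (hsyl : SylowIn p (F.autGroup (P ⊔ Q) ⊓ stabK P K (R := P ⊔ Q) le_sup_right)
      (autInducedBy S (P ⊔ Q) ⊓ stabK P K (R := P ⊔ Q) le_sup_right)) :
    E.IsFullyAutomized p P := by
  subst hT
  have hPS : P ≤ S := hP.trans (kNorm_le _ _)
  have hR : P ⊔ Q ≤ S := sup_le hPS hQ
  haveI := finite_sub hPS
  haveI := finite_sub hR
  set H := stabK P K (R := P ⊔ Q) le_sup_right
  set A := F.autGroup (P ⊔ Q) ⊓ H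
  have hPres : ∀ (α : MulAut ↥(P ⊔ Q)), α ∈ A → ∀ x : P,
      ((α (Subgroup.inclusion le_sup_left x) : ↥(P ⊔ Q)) : Ω) ∈ P := fun α hα x => (hα.2.1 _).1 x.2
  -- restriction to `P`
  let res : A → MulAut P := fun α =>
    { toFun := fun x => ⟨_, hPres α α.2 x⟩
      invFun := fun x => ⟨_, hPres _ (A.inv_mem α.2) x⟩
      left_inv := fun x => Subtype.ext (by
        show ((((α : MulAut _)⁻¹) (Subgroup.inclusion le_sup_left _) : ↥(P ⊔ Q)) : Ω) = x
        have e : Subgroup.inclusion (le_sup_left : P ≤ P ⊔ Q) ⟨_, hPres α α.2 x⟩ =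
            (α : MulAut _) (Subgroup.inclusion le_sup_left x) := Subtype.ext rfl
        rw [e, MulAut.inv_apply_self]; rfl)
      right_inv := fun x => Subtype.ext (by
        show (((α : MulAut _) (Subgroup.inclusion le_sup_left _) : ↥(P ⊔ Q)) : Ω) = x
        have e : Subgroup.inclusion (le_sup_left : P ≤ P ⊔ Q) ⟨_, hPres _ (A.inv_mem α.2) x⟩ =
            (α : MulAut _)⁻¹ (Subgroup.inclusion le_sup_left x) := Subtype.ext rfl
        rw [e, MulAut.apply_inv_self]; rfl)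
      map_mul' := fun x y => Subtype.ext (by simp) }
  have hres_mem : ∀ α : A, res α ∈ E.autGroup P := by
    intro α
    obtain ⟨φ, hφ, -, hφα⟩ := exists_hom_of_aut hR α.2.1
    obtain ⟨k, hk, hkα⟩ := α.2.2.2
    obtain ⟨φP, hφP, heP⟩ := exists_restrict hφ (le_sup_left : P ≤ P ⊔ Q)
    refine mem_autGroup_of_hom (φ := φP) ?_ fun x => ?_
    · rw [hE]
      refine ⟨hφP, hP, fun x => hP ?_, φ, hφ, fun x => (heP x).symm, k, hk, fun y => ?_⟩
      · rw [heP, hφα]; exact hPres α α.2 x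
      · rw [hφα, hkα]; rfl
    · rw [heP, hφα]; rfl
  let ρ : A →* E.autGroup P := MonoidHom.mk' (fun α => ⟨res α, hres_mem α⟩) fun a b =>
    Subtype.ext (MulEquiv.ext fun x => Subtype.ext rfl)
  have hρ : Function.Surjective ρ := by
    rintro ⟨α, hα⟩
    obtain ⟨φ, hφ, hφP, hφα⟩ := exists_hom_of_aut hP hα
    rw [hE] at hφ
    obtain ⟨-, -, -, ψ, hψ, he, k, hk, hek⟩ := hφ
    have hψr : ψ.range = P ⊔ Q := by
      have h1 : ψ.range = ((P.subgroupOf (P ⊔ Q)).map ψ) ⊔ ((Q.subgroupOf (P ⊔ Q)).map ψ) := by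
        rw [← Subgroup.map_sup, ← Subgroup.subgroupOf_sup le_sup_left le_sup_right, Subgroup.subgroupOf_self,
          ← MonoidHom.range_eq_map]
      have h2 : (P.subgroupOf (P ⊔ Q)).map ψ = P := by
        rw [map_subgroupOf_eq_range le_sup_left]
        conv_rhs => rw [← hφP]
        exact congrArg _ (MonoidHom.ext he)
      have h3 : (Q.subgroupOf (P ⊔ Q)).map ψ = Q := by
        rw [map_subgroupOf_eq_range le_sup_right]
        ext z
        exact ⟨by rintro ⟨y, rfl⟩; exact (hek y).symm ▸ (k y).2,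
          fun hz => ⟨k⁻¹ ⟨z, hz⟩, (hek _).trans (by rw [MulAut.apply_inv_self])⟩⟩
      rw [h1, h2, h3]
    refine ⟨⟨homEquiv hψ hψr, homEquiv_mem_autGroup hψ hψr, mem_stabK.2 ⟨fun x => ?_, k, hk, fun y => ?_⟩⟩,
      Subtype.ext (MulEquiv.ext fun x => Subtype.ext ?_)⟩
    · rw [homEquiv_coe]
      refine ⟨fun hx => ?_, fun hx => ?_⟩
      · rw [show ψ x = φ ⟨x, hx⟩ from he ⟨x, hx⟩, hφα]; exact SetLike.coe_mem _
      · obtain ⟨w, hw⟩ := hφP.ge hx
        rw [← F.injective_of_mem hψ ((he w).trans hw)]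
        exact w.2
    · exact Subtype.ext (hek y)
    · exact (he x).trans (hφα x)
  obtain ⟨R₀, hR₀⟩ := exists_sylow_of_card hsyl.1 hsyl.2
  refine ⟨hP, R₀.mapSurjective hρ, ?_⟩
  rw [Sylow.coe_mapSurjective, hR₀]
  ext α
  rw [Subgroup.mem_subgroupOf, mem_autInducedBy]
  constructor
  · rintro ⟨β, hβ, rfl⟩
    obtain ⟨g, hg, hge⟩ := mem_autInducedBy.1 (Subgroup.mem_subgroupOf.1 hβ).1
    obtain ⟨k, hk, hkβ⟩ := (Subgroup.mem_subgroupOf.1 hβ).2.2
    exact ⟨g, ⟨hg, k, hk, fun y => (hge _).symm.trans (congrArg Subtype.val (hkβ y))⟩, fun x => hge _⟩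
  · rintro ⟨g, ⟨hg, k, hk, hgk⟩, hge⟩
    have hgn : g ∈ Subgroup.normalizer ((P ⊔ Q : Subgroup Ω) : Set Ω) := by
      rw [Subgroup.mem_normalizer_iff_map_conj_eq, Subgroup.map_sup,
        Subgroup.mem_normalizer_iff_map_conj_eq.1 (mem_normalizer_of_aut hge),
        Subgroup.mem_normalizer_iff_map_conj_eq.1 (mem_normalizer_of_aut fun y => (hgk y).symm)]
    set β : MulAut ↥(P ⊔ Q) := (P ⊔ Q).normalizerMonoidHom ⟨g, hgn⟩
    have hβB : β ∈ autInducedBy S (P ⊔ Q) := mem_autInducedBy.2 ⟨g, hg, fun _ => rfl⟩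
    have hβH : β ∈ H :=
      mem_stabK.2 ⟨fun x => (mem_normalizer_of_aut hge) x, k, hk, fun y => Subtype.ext (hgk y)⟩
    exact ⟨⟨β, autInducedBy_le_autGroup F hR hβB, hβH⟩, Subgroup.mem_subgroupOf.2 ⟨hβB, hβH⟩,
      Subtype.ext (MulEquiv.ext fun x => Subtype.ext (hge x).symm)⟩

/-- Second step: such a `P` is receptive in the system. -/
theorem kSystem_receptive (hS : IsPGroup p S) (hQ : Q ≤ S) (hT : T = kNorm S Q.subtype K)
    (hE : ∀ P, E.Hom P = kHom F K P) {P : Subgroup Ω} (hP : P ≤ T) (hrec : F.IsReceptive (P ⊔ Q))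
    (hsyl : SylowIn p (F.autGroup (P ⊔ Q) ⊓ stabK P K (R := P ⊔ Q) le_sup_right)
      (autInducedBy S (P ⊔ Q) ⊓ stabK P K (R := P ⊔ Q) le_sup_right)) :
    E.IsReceptive P := by
  subst hT
  refine ⟨hP, fun P₁ φ hφE hr => ?_⟩
  have hφ' := hφE
  rw [hE] at hφ'
  obtain ⟨hφ, hP₁, hφT, ψ, hψ, he, k₀, hk₀, hek⟩ := hφ'
  have hPS : P ≤ S := hP.trans (kNorm_le _ _)
  have hR : P ⊔ Q ≤ S := sup_le hPS hQ
  haveI := finite_sub hPS
  haveI := finite_sub hR
  haveI := finite_sub hQ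
  haveI := finite_sub (src_le hψ)
  have hψP : (P₁.subgroupOf (P₁ ⊔ Q)).map ψ = P := by
    rw [map_subgroupOf_eq_range le_sup_left, ← hr]
    exact congrArg _ (MonoidHom.ext he)
  have hψr : ψ.range = P ⊔ Q := by
    have h1 : ψ.range = ((P₁.subgroupOf (P₁ ⊔ Q)).map ψ) ⊔ ((Q.subgroupOf (P₁ ⊔ Q)).map ψ) := by
      rw [← Subgroup.map_sup, ← Subgroup.subgroupOf_sup le_sup_left le_sup_right, Subgroup.subgroupOf_self,
        ← MonoidHom.range_eq_map]
    have h3 : (Q.subgroupOf (P₁ ⊔ Q)).map ψ = Q := by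
      rw [map_subgroupOf_eq_range le_sup_right]
      ext z
      exact ⟨by rintro ⟨y, rfl⟩; exact (hek y).symm ▸ (k₀ y).2,
        fun hz => ⟨k₀⁻¹ ⟨z, hz⟩, (hek _).trans (by rw [MulAut.apply_inv_self])⟩⟩
    rw [h1, hψP, h3]
  set H := stabK P K (R := P ⊔ Q) le_sup_right
  set A := F.autGroup (P ⊔ Q) ⊓ H with hA
  set B := autInducedBy S (P ⊔ Q) ⊓ H with hB
  set N := extender (kNorm S Q.subtype K) P₁ φ
  have hNn : ∀ g ∈ N, g ∈ Subgroup.normalizer ((P₁ ⊔ Q : Subgroup Ω) : Set Ω) := fun g hg => by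
    rw [Subgroup.mem_normalizer_iff_map_conj_eq, Subgroup.map_sup,
      Subgroup.mem_normalizer_iff_map_conj_eq.1 (mem_extender.1 hg).2.1,
      Subgroup.mem_normalizer_iff_map_conj_eq.1 (mem_normalizer_of_kNorm (mem_extender.1 hg).1)]
  have hNS : N ≤ S := fun g hg => (mem_extender.1 hg).1.1
  -- the transported action of `N` on `P ⊔ Q`
  let act : N →* MulAut ↥(P ⊔ Q) :=
    (MulAut.congr (homEquiv hψ hψr)).toMonoidHom.comp
      ((P₁ ⊔ Q).normalizerMonoidHom.comp (N.subtype.codRestrict _ fun g => hNn g g.2))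
  have hact : ∀ (g : N) (x : ↥(P₁ ⊔ Q)) (h : (g : Ω) * x * (g : Ω)⁻¹ ∈ P₁ ⊔ Q),
      ((act g (homEquiv hψ hψr x) : ↥(P ⊔ Q)) : Ω) = ψ ⟨g * x * (g : Ω)⁻¹, h⟩ := by
    intro g x h
    exact congr_apply hψ hψr _ x
  -- automorphisms fixing `P` pointwise
  let L : Subgroup (MulAut ↥(P ⊔ Q)) :=
    { carrier := {α | α ∈ A ∧ ∀ x : ↥(P ⊔ Q), (x : Ω) ∈ P → α x = x}
      one_mem' := ⟨A.one_mem, fun _ _ => rfl⟩
      mul_mem' := fun {a b} ha hb => ⟨A.mul_mem ha.1 hb.1, fun x hx => by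
        rw [MulAut.mul_apply, hb.2 x hx, ha.2 x hx]⟩
      inv_mem' := fun {a} ha => ⟨A.inv_mem ha.1, fun x hx => by
        conv_lhs => rw [← ha.2 x hx]
        rw [MulAut.inv_apply_self]⟩ }
  have hBA : B ≤ A := inf_le_inf_right _ (autInducedBy_le_autGroup F hR)
  have hLA : L ≤ A := fun α hα => hα.1
  have hnorm : B ≤ Subgroup.normalizer (L : Set (MulAut ↥(P ⊔ Q))) := by
    refine Subgroup.le_normalizer_iff.2 fun b hb l hl => ⟨A.mul_mem (A.mul_mem (hBA hb) hl.1) (A.inv_mem (hBA hb)), fun x hx => ?_⟩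
    have h' : (b⁻¹ x : Ω) ∈ P := ((H.inv_mem hb.2).1 x).1 hx
    rw [MulAut.mul_apply, MulAut.mul_apply, hl.2 _ h', MulAut.apply_inv_self]
  set M := B ⊔ L with hM
  have hMA : M ≤ A := sup_le hBA hLA
  have hactM : ∀ g : N, act g ∈ M := by
    intro g
    obtain ⟨hgT, hgP₁, h, hh, hhe⟩ := mem_extender.1 g.2
    have hhP : h ∈ Subgroup.normalizer (P : Set Ω) := mem_normalizer_of_conj_mem fun z hz => by
      obtain ⟨x, rfl⟩ := hr.ge hz
      rw [← hhe x (conj_mem_of_normalizer hgP₁ x.2)]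
      exact hr.le ⟨_, rfl⟩
    obtain ⟨kh, hkh, hhk⟩ := hh.2
    have hhn : h ∈ Subgroup.normalizer ((P ⊔ Q : Subgroup Ω) : Set Ω) := by
      rw [Subgroup.mem_normalizer_iff_map_conj_eq, Subgroup.map_sup,
        Subgroup.mem_normalizer_iff_map_conj_eq.1 hhP,
        Subgroup.mem_normalizer_iff_map_conj_eq.1 (mem_normalizer_of_kNorm hh)]
    set β : MulAut ↥(P ⊔ Q) := (P ⊔ Q).normalizerMonoidHom ⟨h, hhn⟩
    have hβ : β ∈ B := ⟨mem_autInducedBy.2 ⟨h, hh.1, fun _ => rfl⟩,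
      mem_stabK.2 ⟨fun x => hhP x, kh, hkh, fun y => Subtype.ext (hhk y)⟩⟩
    have hgA : act g ∈ A := by
      refine ⟨congr_mem_autGroup hψ hψr (autInducedBy_le_autGroup F (src_le hψ)
        (mem_autInducedBy.2 ⟨g, hNS g.2, fun _ => rfl⟩)), ?_⟩
      obtain ⟨kg, hkg, hgk⟩ := hgT.2
      have h1 : (P₁ ⊔ Q).normalizerMonoidHom ⟨g, hNn g g.2⟩ ∈ stabK P₁ K (R := P₁ ⊔ Q) le_sup_right :=
        mem_stabK.2 ⟨fun x => hgP₁ x, kg, hkg, fun y => Subtype.ext (hgk y)⟩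
      have h2 : act g ∈ (stabK P₁ K (R := P₁ ⊔ Q) le_sup_right).map
          (MulAut.congr (homEquiv hψ hψr)).toMonoidHom := ⟨_, h1, rfl⟩
      rwa [stabK_map le_sup_left le_sup_right le_sup_right hψ hψr hk₀ hek hψP] at h2
    have hl : β⁻¹ * act g ∈ L := by
      refine ⟨A.mul_mem (A.inv_mem (hBA hβ)) hgA, fun x hx => ?_⟩
      obtain ⟨w, hw⟩ := hr.ge hx
      have hxe : x = homEquiv hψ hψr (Subgroup.inclusion le_sup_left w) :=
        Subtype.ext ((hw.symm.trans (he w).symm))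
      apply β.injective
      rw [MulAut.mul_apply, MulAut.apply_inv_self]
      apply Subtype.ext
      rw [hxe, hact g _ ((hNn g g.2 _).1 (SetLike.coe_mem _))]
      have e2 : ψ ⟨(g : Ω) * w * (g : Ω)⁻¹, (hNn g g.2 _).1 (SetLike.coe_mem (Subgroup.inclusion (le_sup_left : P₁ ≤ P₁ ⊔ Q) w))⟩ =
          φ ⟨_, conj_mem_of_normalizer hgP₁ w.2⟩ := he ⟨_, conj_mem_of_normalizer hgP₁ w.2⟩
      refine e2.trans ((hhe w _).trans ?_)
      show h * φ w * h⁻¹ = h * ψ _ * h⁻¹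
      rw [he]
    rw [show act g = β * (β⁻¹ * act g) by rw [mul_inv_cancel_left]]
    exact Subgroup.mul_mem_sup hβ hl
  -- `B` is Sylow in `M`
  obtain ⟨R₀, hR₀⟩ : ∃ R₀ : Sylow p M, (R₀ : Subgroup M) = B.subgroupOf M := by
    refine exists_sylow_of_card le_sup_left (le_antisymm (card_pSubgroup_le le_sup_left
      (isPGroup_of_le (isPGroup_autInducedBy hS (P ⊔ Q)) inf_le_left)) ?_)
    rw [hsyl.2]
    exact Nat.pow_le_pow_right (Fact.out (p := p.Prime)).pos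
      ((Nat.factorization_le_iff_dvd Nat.card_pos.ne' Nat.card_pos.ne').2
        (Subgroup.card_dvd_of_le hMA) p)
  have hNp : IsPGroup p N := isPGroup_of_le hS hNS
  have hact_p : IsPGroup p act.range :=
    hNp.of_surjective act.rangeRestrict act.rangeRestrict_surjective
  obtain ⟨m, hm, hconj⟩ := exists_conj_le_sylow R₀ hR₀ (T := act.range)
    (by rintro _ ⟨g, rfl⟩; exact hactM g) hact_p
  rw [← SetLike.mem_coe, show ((M : Subgroup _) : Set (MulAut ↥(P ⊔ Q))) = (B : Set _) * (L : Set _) from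
    Subgroup.coe_mul_of_left_le_normalizer_right B L hnorm] at hm
  obtain ⟨s, hs, l, hl, rfl⟩ := hm
  obtain ⟨kl, hkl, hlk⟩ := hl.1.2.2
  obtain ⟨τ, hτ, hτr, hτl⟩ := exists_hom_of_aut hR hl.1.1
  obtain ⟨ψ', hψ', heψ'⟩ := exists_comp hψ hτ fun x => hψr.le ⟨x, rfl⟩
  have hψ'val : ∀ x, ψ' x = l (homEquiv hψ hψr x) := fun x => by rw [heψ', hτl]; rfl
  have hψ'r : ψ'.range = P ⊔ Q :=
    range_eq_of_mem hψ' (fun x => by rw [hψ'val]; exact SetLike.coe_mem _) (isConj_card ⟨ψ, hψ, hψr⟩).le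
  obtain ⟨χ₀, hχ₀, heχ₀⟩ := hrec.2 _ ψ' hψ' hψ'r
  have hNQ : N ⊔ Q ≤ extender S (P₁ ⊔ Q) ψ' := by
    refine sup_le (fun g hg => ?_)
      ((le_sup_right : Q ≤ P₁ ⊔ Q).trans (le_extender (src_le hψ) (apply_mem hψ')))
    have h1 : l * act ⟨g, hg⟩ * l⁻¹ ∈ B := by
      have h2 := hconj (act ⟨g, hg⟩) ⟨⟨g, hg⟩, rfl⟩
      have := B.mul_mem (B.mul_mem (B.inv_mem hs) h2) hs
      convert this using 1
      group
    obtain ⟨h, hh, hhe⟩ := mem_autInducedBy.1 h1.1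
    refine mem_extender_of ⟨hNS hg, hNn g hg⟩ hh fun x hx => ?_
    have h3 := hhe (l (homEquiv hψ hψr x))
    rw [MulAut.mul_apply, MulAut.mul_apply, MulAut.inv_apply_self] at h3
    rw [hψ'val, hψ'val, ← h3]
    congr 2
    exact Subtype.ext (hact ⟨g, hg⟩ x hx).symm
  obtain ⟨χ, hχ, heχ⟩ := exists_restrict hχ₀ hNQ
  have hP₁N : P₁ ≤ N := le_extender hP₁ hφT
  have hQval : ∀ y : Q, χ (Subgroup.inclusion le_sup_right y) = ((kl * k₀) y : Q) := by
    intro y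
    refine (heχ _).trans ((heχ₀ (y : Ω) ((le_sup_right : Q ≤ P₁ ⊔ Q) y.2) _).trans ?_)
    rw [hψ'val]
    have e : homEquiv hψ hψr ⟨y, (le_sup_right : Q ≤ P₁ ⊔ Q) y.2⟩ = Subgroup.inclusion le_sup_right (k₀ y) :=
      Subtype.ext (hek y)
    rw [e, hlk]; rfl
  have hkk : kl * k₀ ∈ K := K.mul_mem hkl hk₀
  generalize kl * k₀ = kk at hQval hkk
  obtain ⟨θ, hθ, heθ⟩ := exists_restrict hχ (le_sup_left : N ≤ N ⊔ Q)
  have hθT : ∀ g : N, θ g ∈ kNorm S Q.subtype K := by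
    intro g
    obtain ⟨kg, hkg, hgk⟩ := (mem_extender.1 g.2).1.2
    refine ⟨apply_mem hθ g, kk * kg * kk⁻¹, K.mul_mem (K.mul_mem hkk hkg) (K.inv_mem hkk), fun y => ?_⟩
    obtain ⟨z, rfl⟩ := kk.surjective y
    simp only [MulAut.mul_apply, MulAut.inv_apply_self]
    show θ g * (kk z : Ω) * (θ g)⁻¹ = (kk (kg z) : Ω)
    rw [← hQval z, heθ, ← hQval, ← map_inv, ← map_mul, ← map_mul]
    exact congrArg χ (Subtype.ext (hgk z))
  refine ⟨θ, ?_, fun x hx hxN => ?_⟩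
  · rw [hE]
    exact ⟨hθ, fun g hg => (mem_extender.1 hg).1, hθT, χ, hχ, fun g => (heθ g).symm,
      kk, hkk, hQval⟩
  · rw [heθ, heχ, heχ₀ x ((le_sup_left : P₁ ≤ P₁ ⊔ Q) hx) _, hψ'val]
    have e : ((homEquiv hψ hψr ⟨x, (le_sup_left : P₁ ≤ P₁ ⊔ Q) hx⟩ : ↥(P ⊔ Q)) : Ω) = φ ⟨x, hx⟩ :=
      (homEquiv_coe _ _ _).trans (he ⟨x, hx⟩)
    rw [hl.2 _ (e ▸ hr.le ⟨_, rfl⟩)]
    exact e

/-- `N_F^K(Q)` is saturated when `Q` is receptive and `Aut_S^K(Q)` is Sylow in `Aut_F^K(Q)`. -/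
theorem kSystem_isSaturated (hS : IsPGroup p S) (hF : F.IsSaturated p) (hQ : F.IsReceptive Q)
    (hK : SylowIn p (F.autGroup Q ⊓ K) (autInducedBy S Q ⊓ K)) (hT : T = kNorm S Q.subtype K)
    (hE : ∀ P, E.Hom P = kHom F K P) : E.IsSaturated p := by
  intro P hP
  have hPS : P ≤ S := hP.trans (hT.le.trans (kNorm_le _ _))
  have hR : P ⊔ Q ≤ S := sup_le hPS hQ.1
  haveI := finite_sub hQ.1
  obtain ⟨R', χ, hχ, hr', hR'rec, hR'syl⟩ :=
    exists_receptive_sylow_conj hS hF hR (stabK P K (R := P ⊔ Q) le_sup_right)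
  obtain ⟨ξ, hξ, heξ⟩ := exists_restrict hχ (le_sup_right : Q ≤ P ⊔ Q)
  obtain ⟨a, ha, N, hGN, hξN, ψ, hψ, heψ⟩ := exists_kNorm_extension hS hQ hK hξ
  have hPk : ∀ x : P, ∃ k ∈ K, ∀ y : Q, (x : Ω) * y * (x : Ω)⁻¹ = (k y : Ω) := fun x => by
    obtain ⟨k, hk, h⟩ := (hT.le (hP x.2)).2
    exact ⟨k, hk, h⟩
  have hχN : ∀ z, χ z ∈ N := by
    rintro ⟨z, hz⟩
    have : P ⊔ Q ≤ (N.comap χ).map (P ⊔ Q).subtype := by
      refine sup_le (fun x hx => ⟨Subgroup.inclusion le_sup_left ⟨x, hx⟩, hGN ?_, rfl⟩)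
        (fun y hy => ⟨Subgroup.inclusion le_sup_right ⟨y, hy⟩, hξN ⟨⟨y, hy⟩, heξ _⟩, rfl⟩)
      obtain ⟨k, hk, hxk⟩ := hPk ⟨x, hx⟩
      refine ⟨apply_mem hχ _, k, hk, fun y => ?_⟩
      rw [heξ, heξ, ← map_inv, ← map_mul, ← map_mul]
      exact congrArg χ (Subtype.ext (hxk y))
    obtain ⟨w, hw, hwz⟩ := this hz
    rwa [show w = ⟨z, hz⟩ from Subtype.ext hwz] at hw
  obtain ⟨ω, hω, heω⟩ := exists_comp hχ hψ hχN
  have hωQ : ∀ y : Q, ω (Subgroup.inclusion le_sup_right y) = (a y : Ω) := fun y => by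
    rw [heω, ← heψ y]
    exact congrArg ψ (Subtype.ext (heξ y).symm)
  set P'' := (P.subgroupOf (P ⊔ Q)).map ω with hP''
  have hωr : ω.range = P'' ⊔ Q := by
    have h1 : ω.range = P'' ⊔ ((Q.subgroupOf (P ⊔ Q)).map ω) := by
      rw [hP'', ← Subgroup.map_sup, ← Subgroup.subgroupOf_sup le_sup_left le_sup_right, Subgroup.subgroupOf_self,
        ← MonoidHom.range_eq_map]
    have h3 : (Q.subgroupOf (P ⊔ Q)).map ω = Q := by
      rw [map_subgroupOf_eq_range le_sup_right]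
      ext z
      exact ⟨by rintro ⟨y, rfl⟩; exact (hωQ y).symm ▸ (a y).2,
        fun hz => ⟨a⁻¹ ⟨z, hz⟩, (hωQ _).trans (by rw [MulAut.apply_inv_self])⟩⟩
    rw [h1, h3]
  obtain ⟨ωP, hωP, heωP⟩ := exists_restrict hω (le_sup_left : P ≤ P ⊔ Q)
  have hωPT : ∀ x : P, ωP x ∈ T := by
    intro x
    obtain ⟨k, hk, hxk⟩ := hPk x
    rw [hT]
    refine ⟨apply_mem hωP x, a * k * a⁻¹, K.mul_mem (K.mul_mem ha.2 hk) (K.inv_mem ha.2), fun y => ?_⟩
    obtain ⟨z, rfl⟩ := a.surjective y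
    simp only [MulAut.mul_apply, MulAut.inv_apply_self]
    show ωP x * (a z : Ω) * (ωP x)⁻¹ = (a (k z) : Ω)
    rw [heωP, ← hωQ, ← hωQ, ← map_inv, ← map_mul, ← map_mul]
    exact congrArg ω (Subtype.ext (hxk z))
  have hωPr : ωP.range = P'' := by
    rw [hP'', map_subgroupOf_eq_range le_sup_left]
    exact congrArg _ (MonoidHom.ext heωP)
  have hP''T : P'' ≤ T := hωPr ▸ (by rintro _ ⟨x, rfl⟩; exact hωPT x)
  have hconjE : E.IsConj P P'' := by
    refine ⟨ωP, ?_, hωPr⟩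
    rw [hE]
    exact ⟨hωP, hP.trans hT.le, fun x => hT.le (hωPT x), ω, hω, fun x => (heωP x).symm, a, ha.2, hωQ⟩
  -- `P'' ⊔ Q` is receptive
  have hR'' : F.IsConj (P ⊔ Q) (P'' ⊔ Q) := ⟨ω, hω, hωr⟩
  have hR''S : P'' ⊔ Q ≤ S := isConj_le_right hR''
  haveI := finite_sub hR
  haveI := finite_sub hR''S
  haveI : Finite (centralizerIn S (P'' ⊔ Q)) := finite_sub (centralizerIn_le _)
  have hR''rec : F.IsReceptive (P'' ⊔ Q) := by
    refine receptive_of_fullyCentralized hS hF ⟨hR''S, fun U hU => ?_⟩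
    refine le_trans (card_centralizerIn_le_of_receptive hR'rec
      (isConj_trans (isConj_symm hU) (isConj_trans (isConj_symm hR'') ⟨χ, hχ, hr'⟩))) ?_
    have hc : ∀ c ∈ centralizerIn S R', c ∈ kNorm S ξ K := fun c hc =>
      ⟨hc.1, 1, K.one_mem, fun y => (mem_centralizerIn'.1 hc).2 _ (hr'.le ⟨_, (heξ y).symm⟩)⟩
    refine Nat.card_le_card_of_injective (fun c : centralizerIn S R' =>
      (⟨ψ ⟨c, hGN (hc c c.2)⟩, apply_mem hψ _, ?_⟩ : centralizerIn S (P'' ⊔ Q))) ?_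
    · intro z hz
      obtain ⟨w, rfl⟩ := hωr.ge hz
      rw [heω, ← map_mul, ← map_mul]
      exact congrArg ψ (Subtype.ext ((mem_centralizerIn.1 c.2).2 _ (hr'.le ⟨w, rfl⟩)))
    · intro c d h
      exact Subtype.ext (congrArg (fun z : N => (z : Ω)) (F.injective_of_mem hψ
        (congrArg (fun z : centralizerIn S (P'' ⊔ Q) => (z : Ω)) h)))
  -- and the Sylow condition transports
  have hmap := stabK_map (P := P) le_sup_left le_sup_right (le_sup_right : Q ≤ P'' ⊔ Q) hω hωr ha.2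
    hωQ hP''.symm
  have hsyl : SylowIn p (F.autGroup (P'' ⊔ Q) ⊓ stabK P'' K (R := P'' ⊔ Q) le_sup_right)
      (autInducedBy S (P'' ⊔ Q) ⊓ stabK P'' K (R := P'' ⊔ Q) le_sup_right) := by
    refine ⟨inf_le_inf_right _ (autInducedBy_le_autGroup F hR''S),
      le_antisymm (card_pSubgroup_le (inf_le_inf_right _ (autInducedBy_le_autGroup F hR''S))
        (isPGroup_of_le (isPGroup_autInducedBy hS _) inf_le_left)) ?_⟩
    set H := stabK P K (R := P ⊔ Q) le_sup_right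
    have c1 : Nat.card ↥(F.autGroup (P'' ⊔ Q) ⊓ stabK P'' K (R := P'' ⊔ Q) le_sup_right) =
        Nat.card ↥(F.autGroup R' ⊓ H.map (MulAut.congr (homEquiv hχ hr')).toMonoidHom) := by
      rw [← hmap, ← map_congr_autGroup hω hωr, ← map_congr_autGroup hχ hr',
        ← Subgroup.map_inf _ _ _ (MulAut.congr (homEquiv hω hωr)).injective,
        ← Subgroup.map_inf _ _ _ (MulAut.congr (homEquiv hχ hr')).injective]
      exact (Nat.card_congr (Subgroup.equivMapOfInjective _ _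
          (MulAut.congr (homEquiv hω hωr)).injective).toEquiv).symm.trans
        (Nat.card_congr (Subgroup.equivMapOfInjective _ _
          (MulAut.congr (homEquiv hχ hr')).injective).toEquiv)
    rw [c1, ← hR'syl.2]
    refine Nat.card_le_card_of_injective
      (fun β : ↥(autInducedBy S R' ⊓ H.map (MulAut.congr (homEquiv hχ hr')).toMonoidHom) =>
        (⟨MulAut.congr (homEquiv hω hωr) ((MulAut.congr (homEquiv hχ hr')).symm β), ?_, ?_⟩ :
          ↥(autInducedBy S (P'' ⊔ Q) ⊓ stabK P'' K (R := P'' ⊔ Q) le_sup_right))) ?_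
    · obtain ⟨hβS, h₀, hh₀, e₀⟩ := β.2
      obtain ⟨g, hg, hge⟩ := mem_autInducedBy.1 hβS
      rw [← e₀] at hge ⊢
      rw [MulEquiv.coe_toMonoidHom, MulEquiv.symm_apply_apply]
      obtain ⟨k₀, hk₀, hk₀e⟩ := hh₀.2
      have hge' : ∀ z, χ (h₀ z) = g * χ z * g⁻¹ := fun z => by
        have := hge (homEquiv hχ hr' z)
        rw [MulEquiv.coe_toMonoidHom, congr_apply] at this
        exact this
      have hgG : g ∈ kNorm S ξ K := ⟨hg, k₀, hk₀, fun y => by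
        rw [heξ, heξ, ← hge']
        exact congrArg χ (hk₀e y)⟩
      refine mem_autInducedBy.2 ⟨ψ ⟨g, hGN hgG⟩, apply_mem hψ _, fun w => ?_⟩
      obtain ⟨z, rfl⟩ := (homEquiv hω hωr).surjective w
      rw [congr_apply, homEquiv_coe, heω, heω, ← map_inv, ← map_mul, ← map_mul]
      exact congrArg ψ (Subtype.ext (hge' z))
    · obtain ⟨-, h₀, hh₀, e₀⟩ := β.2
      rw [← e₀, MulEquiv.coe_toMonoidHom, MulEquiv.symm_apply_apply, ← hmap]
      exact ⟨h₀, hh₀, rfl⟩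
    · intro β γ h
      exact Subtype.ext ((MulAut.congr (homEquiv hχ hr')).symm.injective
        ((MulAut.congr (homEquiv hω hωr)).injective
          (congrArg (fun z : ↥(autInducedBy S (P'' ⊔ Q) ⊓ stabK P'' K (R := P'' ⊔ Q) le_sup_right) =>
            (z : MulAut ↥(P'' ⊔ Q))) h)))
  exact ⟨P'', hconjE, kSystem_fullyAutomized hQ.1 hT hE hP''T hsyl,
    kSystem_receptive hS hQ.1 hT hE hP''T hR''rec hsyl⟩

theorem normalizerSystem_isSaturated (hS : IsPGroup p S) (hF : F.IsSaturated p) {Q : Subgroup Ω}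
    (hQ : F.IsFullyNormalized Q) {E : FusionSystem (normalizerIn S Q)} (hE : F.IsNormalizerSystem Q E) :
    E.IsSaturated p := by
  refine kSystem_isSaturated (K := (⊤ : Subgroup (MulAut Q))) hS hF (receptive_of_fullyNormalized hS hF hQ)
    ?_ (kNorm_top S Q).symm fun P => (hE P).trans (normalizerHom_eq F Q P)
  rw [inf_top_eq, inf_top_eq]
  exact sylowIn_of_isFullyAutomized (fullyAutomized_of_fullyNormalized hS hF hQ)

theorem centralizerSystem_isSaturated (hS : IsPGroup p S) (hF : F.IsSaturated p) {Q : Subgroup Ω}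
    (hQ : F.IsFullyCentralized Q) {E : FusionSystem (centralizerIn S Q)}
    (hE : F.IsCentralizerSystem Q E) : E.IsSaturated p := by
  refine kSystem_isSaturated (K := (⊥ : Subgroup (MulAut Q))) hS hF (receptive_of_fullyCentralized hS hF hQ)
    ?_ (kNorm_bot S Q).symm fun P => (hE P).trans (centralizerHom_eq F Q P)
  rw [inf_bot_eq, inf_bot_eq]
  exact ⟨le_rfl, by simp⟩

end Saturated

theorem exists_normalizerSystem (F : FusionSystem S) {Q : Subgroup Ω} (hQ : Q ≤ S) :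
    ∃ E : FusionSystem (normalizerIn S Q), F.IsNormalizerSystem Q E := by
  obtain ⟨E, hE⟩ := exists_kSystem F hQ ⊤ (kNorm_top S Q).symm
  exact ⟨E, fun P => (hE P).trans (normalizerHom_eq F Q P).symm⟩

theorem exists_centralizerSystem (F : FusionSystem S) {Q : Subgroup Ω} (hQ : Q ≤ S) :
    ∃ E : FusionSystem (centralizerIn S Q), F.IsCentralizerSystem Q E := by
  obtain ⟨E, hE⟩ := exists_kSystem F hQ ⊥ (kNorm_bot S Q).symm
  exact ⟨E, fun P => (hE P).trans (centralizerHom_eq F Q P).symm⟩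

end Cfsg.Agent.Lib.FS
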