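/-
Reduction of control statements for a characteristic functor `W` to systems with a centric normal subgroup.
-/
import Cfsg.Agent.Lib.FusionSystem.Factor
import Cfsg.Agent.Lib.FusionSystem.FactorSaturated
import Cfsg.Agent.Lib.FusionSystem.Normalizer
import Cfsg.Agent.Lib.FusionSystem.NormalFacts
import Cfsg.Agent.Lib.FusionP3.Induction
import Cfsg.Agent.Lib.FusionP3.StronglyClosed
import Cfsg.Agent.Lib.FusionAlperin.Join
import Cfsg.Agent.Lib.FusionAlperin.Model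
set_option autoImplicit false
set_option linter.style.haveILetI false
set_option linter.unusedSectionVars false

namespace Cfsg.Agent.Lib.FS.Control

open Cfsg Cfsg.FusionSystem Cfsg.Agent.Lib Cfsg.Agent.Lib.FS

universe u

variable {Ω : Type u} [Group Ω] {S : Subgroup Ω}

/-! ### The functor inside the ambient group -/

/-- `W(S)` inside the ambient group. -/
def wOf (W : ∀ (Q : Type u) [Group Q], Subgroup Q) (S : Subgroup Ω) : Subgroup Ω := (W ↥S).map S.subtype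

variable {W : ∀ (Q : Type u) [Group Q], Subgroup Q} {p : ℕ}

theorem wOf_le (S : Subgroup Ω) : wOf W S ≤ S := Subgroup.map_subtype_le _

theorem wOf_ne_bot (hW1 : ∀ (Q : Type u) [Group Q] [Finite Q], IsPGroup p Q → Nontrivial Q → W Q ≠ ⊥)
    [Finite S] (hS : IsPGroup p S) (h : S ≠ ⊥) : wOf W S ≠ ⊥ := fun e =>
  hW1 ↥S hS (S.nontrivial_iff_ne_bot.2 h) ((Subgroup.map_eq_bot_iff_of_injective _ S.subtype_injective).1 e)

theorem normalizer_le_normalizer_wOf
    (hW2 : ∀ (Q R : Type u) [Group Q] [Group R] [Finite Q], IsPGroup p Q → ∀ φ : Q ≃* R,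
      (W Q).map φ.toMonoidHom = W R)
    [Finite S] (hS : IsPGroup p S) :
    Subgroup.normalizer (S : Set Ω) ≤ Subgroup.normalizer (wOf W S : Set Ω) := by
  intro g hg
  haveI : Finite (wOf W S) := finite_sub (S := S) (wOf_le S)
  refine mem_normalizer_of_conj_mem ?_
  rintro _ ⟨x, hx, rfl⟩
  exact ⟨S.normalizerMonoidHom ⟨g, hg⟩ x, (hW2 ↥S ↥S hS _).le ⟨x, hx, rfl⟩, rfl⟩

theorem le_normalizer_wOf
    (hW2 : ∀ (Q R : Type u) [Group Q] [Group R] [Finite Q], IsPGroup p Q → ∀ φ : Q ≃* R,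
      (W Q).map φ.toMonoidHom = W R)
    [Finite S] (hS : IsPGroup p S) : S ≤ Subgroup.normalizer (wOf W S : Set Ω) :=
  Subgroup.le_normalizer.trans (normalizer_le_normalizer_wOf hW2 hS)

/-! ### Classes of maps -/

/-- A class of maps closed under composition and restriction inside `F`. -/
structure IsMapClass (F : FusionSystem S) (M : ∀ P : Subgroup Ω, (P →* Ω) → Prop) : Prop where
  comp : ∀ (P Q : Subgroup Ω) (φ : P →* Ω) (ψ : Q →* Ω) (χ : P →* Ω), φ ∈ F.Hom P → ψ ∈ F.Hom Q →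
    ∀ h : ∀ x, φ x ∈ Q, (∀ x, χ x = ψ ⟨φ x, h x⟩) → M P φ → M Q ψ → M P χ
  restrict : ∀ (P Q : Subgroup Ω) (φ : P →* Ω) (ψ : Q →* Ω) (h : P ≤ Q), ψ ∈ F.Hom Q →
    (∀ x : P, φ x = ψ ⟨x, h x.2⟩) → M Q ψ → M P φ

/-- Everything in `F` is in the class. -/
def AllMaps (F : FusionSystem S) (M : ∀ P : Subgroup Ω, (P →* Ω) → Prop) : Prop :=
  ∀ (P : Subgroup Ω) (φ : P →* Ω), φ ∈ F.Hom P → M P φ

/-- All maps of `N_F(U)` are in the class. -/
def NormMaps (F : FusionSystem S) (U : Subgroup Ω) (M : ∀ P : Subgroup Ω, (P →* Ω) → Prop) : Prop :=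
  ∀ (P : Subgroup Ω) (φ : P →* Ω), φ ∈ F.normalizerHom U P → M P φ

theorem IsMapClass.of_sub {T : Subgroup Ω} {F : FusionSystem S} {E : FusionSystem T}
    {M : ∀ P : Subgroup Ω, (P →* Ω) → Prop} (hM : IsMapClass F M) (hE : ∀ P, E.Hom P ⊆ F.Hom P) :
    IsMapClass E M :=
  ⟨fun P Q φ ψ χ hφ hψ => hM.comp P Q φ ψ χ (hE P hφ) (hE Q hψ),
    fun P Q φ ψ h hψ => hM.restrict P Q φ ψ h (hE Q hψ)⟩

theorem normalizerHom_sub {T : Subgroup Ω} {F : FusionSystem S} {E : FusionSystem T} (hTS : T ≤ S)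
    (hE : ∀ P, E.Hom P ⊆ F.Hom P) (U P : Subgroup Ω) : E.normalizerHom U P ⊆ F.normalizerHom U P := by
  rintro φ ⟨h1, h2, h3, ψ, hψ, he, hU⟩
  exact ⟨hE P h1, h2.trans (inf_le_inf_right _ hTS), fun x => inf_le_inf_right _ hTS (h3 x), ψ, hE _ hψ, he, hU⟩

variable {F : FusionSystem S} [Finite S] [Fact p.Prime] {M : ∀ P : Subgroup Ω, (P →* Ω) → Prop}

/-- The identity of `Q` lies in `N_F(U)` for `U` normal in `S`. -/
theorem subtype_mem_normalizerHom {Q U : Subgroup Ω} (hQ : Q ≤ S) (hU : U ≤ S)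
    (hn : S ≤ Subgroup.normalizer (U : Set Ω)) : Q.subtype ∈ F.normalizerHom U Q := by
  haveI := finite_sub hU
  exact ⟨subtype_mem F hQ, le_inf hQ (hQ.trans hn), fun x => ⟨hQ x.2, hn (hQ x.2)⟩, _,
    subtype_mem F (sup_le hQ hU), fun x => rfl,
    map_subgroupOf_eq_of_mapsTo (subtype_mem F (sup_le hQ hU)) le_sup_right fun x hx => hx⟩

/-- Automorphisms of `Q` lie in `N_F(Q)`. -/
theorem aut_mem_normalizerHom {Q : Subgroup Ω} (hQ : Q ≤ S) {α : MulAut Q} (hα : α ∈ F.autGroup Q) :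
    Q.subtype.comp α.toMonoidHom ∈ F.normalizerHom Q Q := by
  haveI := finite_sub hQ
  obtain ⟨ψ, hψ, e⟩ := exists_restrict ((mem_autGroup hQ).1 hα) (sup_le le_rfl le_rfl : Q ⊔ Q ≤ Q)
  refine ⟨(mem_autGroup hQ).1 hα, le_normalizerIn hQ, fun x => le_normalizerIn hQ (α x).2, ψ, hψ,
    fun x => e _, map_subgroupOf_eq_of_mapsTo hψ le_sup_right fun x hx => ?_⟩
  rw [e]
  exact (α _).2

/-- Maps with large source are in the class once the large automorphisms are. -/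
theorem maps_large (hS : IsPGroup p S) (hF : F.IsSaturated p) (hM : IsMapClass F M) (n : ℕ)
    (h : ∀ Q : Subgroup Ω, F.IsFullyNormalized Q → n < Nat.card Q → ∀ α ∈ F.autGroup Q,
      M Q (Q.subtype.comp α.toMonoidHom))
    {P : Subgroup Ω} {φ : P →* Ω} (hφ : φ ∈ F.Hom P) (hn : n < Nat.card P) : M P φ := by
  refine FusionP3.Induction.hom_induction hS hF (M := fun P φ => n < Nat.card P → M P φ) ?_ ?_ ?_ P φ hφ hn
  · intro P Q φ ψ χ hφ hψ hv hχ h₁ h₂ hlt
    haveI := finite_sub (src_le hψ)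
    exact hM.comp P Q φ ψ χ hφ hψ hv hχ (h₁ hlt) (h₂ (lt_of_lt_of_le hlt (card_le_of_hom hφ hv)))
  · intro P Q φ ψ hle hψ he h₁ hlt
    haveI := finite_sub (src_le hψ)
    exact hM.restrict P Q φ ψ hle hψ he (h₁ (lt_of_lt_of_le hlt (Subgroup.card_le_of_le hle)))
  · intro Q hQ _ _ α hα _ hlt
    exact h Q hQ hlt α hα

/-- The reduction when no nontrivial subgroup is normal in `F`. -/
theorem maps_of_core_eq_bot (hS : IsPGroup p S) (hF : F.IsSaturated p)
    (hW1 : ∀ (Q : Type u) [Group Q] [Finite Q], IsPGroup p Q → Nontrivial Q → W Q ≠ ⊥)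
    (hW2 : ∀ (Q R : Type u) [Group Q] [Group R] [Finite Q], IsPGroup p Q → ∀ φ : Q ≃* R,
      (W Q).map φ.toMonoidHom = W R)
    (hM : IsMapClass F M) (hcore : F.core = ⊥) (hN : NormMaps F (wOf W S) M)
    (hrec : ∀ H : Subgroup Ω, F.IsFullyNormalized H →
      ∀ E : FusionSystem (normalizerIn S H), F.IsNormalizerSystem H E →
        (Nat.card (normalizerIn S H) < Nat.card S ∨ ¬ F.IsNormal H) →
        NormMaps E (wOf W (normalizerIn S H)) M → AllMaps E M) :
    AllMaps F M := by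
  suffices hA : ∀ k : ℕ, ∀ H : Subgroup Ω, H ≠ ⊥ → F.IsFullyNormalized H →
      Nat.card S - Nat.card (normalizerIn S H) ≤ k → NormMaps F H M by
    intro P φ hφ
    refine FusionP3.Induction.hom_induction hS hF hM.comp hM.restrict (fun Q hQ hc _ α hα _ => ?_) P φ hφ
    by_cases hQb : Q = ⊥
    · subst hQb
      have hSb : S = ⊥ := by
        rw [eq_bot_iff]
        intro s hs
        exact hc.2 ⊥ (isConj_refl F hQ.1) (mem_centralizerIn.2 ⟨hs, fun x hx => by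
          rw [Subgroup.mem_bot.1 hx, one_mul, mul_one]⟩)
      have hid : (⊥ : Subgroup Ω).subtype ∈ F.normalizerHom (wOf W S) ⊥ :=
        subtype_mem_normalizerHom hQ.1 (wOf_le S) (le_normalizer_wOf hW2 hS)
      have e : (⊥ : Subgroup Ω).subtype.comp α.toMonoidHom = (⊥ : Subgroup Ω).subtype :=
        MonoidHom.ext fun x => (Subgroup.mem_bot.1 (α x).2).trans (Subgroup.mem_bot.1 x.2).symm
      rw [e]; exact hN _ _ hid
    · exact hA _ Q hQb hQ le_rfl _ _ (aut_mem_normalizerHom hQ.1 hα)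
  intro k
  induction k using Nat.strong_induction_on with
  | _ k ih =>
    intro H hH hHn hk
    set R := normalizerIn S H with hR
    obtain ⟨E, hE⟩ : ∃ E : FusionSystem R, F.IsNormalizerSystem H E := exists_normalizerSystem F hHn.1
    have hsub : ∀ P, E.Hom P ⊆ F.Hom P := fun P φ hφ => ((hE P).le hφ).1
    have hnn : ¬ F.IsNormal H := fun h => hH (le_bot_iff.1 (hcore ▸ le_core_of_isNormal h))
    have hRS : R ≤ S := normalizerIn_le H
    suffices hall : AllMaps E M from fun P φ hφ => hall P φ ((hE P).ge hφ)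
    refine hrec H hHn E hE (Or.inr hnn) ?_
    rcases hRS.lt_or_eq with hlt | heq
    swap
    · intro P φ hφ
      rw [show wOf W R = wOf W S by rw [heq]] at hφ
      exact hN P φ (normalizerHom_sub hRS hsub _ _ hφ)
    haveI : Finite R := finite_sub hRS
    have hRp : IsPGroup p R := isPGroup_of_le hS hRS
    set U := wOf W R with hUdef
    have hUR : U ≤ R := wOf_le R
    have hUS : U ≤ S := hUR.trans hRS
    have hUne : U ≠ ⊥ := wOf_ne_bot hW1 hRp fun e =>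
      hH (le_bot_iff.1 (e ▸ le_normalizerIn hHn.1))
    have hgrow : Nat.card R < Nat.card (normalizerIn S U) := by
      have h1 : R < normalizerIn S R := FusionP3.Induction.lt_normalizerIn hS hlt
      have h2 : normalizerIn S R ≤ normalizerIn S U :=
        inf_le_inf_left _ (normalizer_le_normalizer_wOf hW2 hRp)
      haveI : Finite (normalizerIn S U) := finite_sub (normalizerIn_le U)
      haveI : Finite (normalizerIn S R) := finite_sub (normalizerIn_le R)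
      exact lt_of_lt_of_le (lt_of_le_of_ne (Subgroup.card_le_of_le h1.le) fun e =>
        h1.ne (Subgroup.eq_of_le_of_card_ge h1.le e.ge)) (Subgroup.card_le_of_le h2)
    obtain ⟨U', hUU', hU'n⟩ := exists_isFullyNormalized F hUS
    obtain ⟨φ, hφ, hφN, hφU⟩ := exists_normalizer_map hS hF hU'n hUU'
    have hU'ne : U' ≠ ⊥ := fun e => hUne (Subgroup.card_eq_one.1 (by
      rw [← isConj_card hUU', e, Subgroup.card_bot]))
    have hcardU' : Nat.card R < Nat.card (normalizerIn S U') :=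
      lt_of_lt_of_le hgrow (by haveI := finite_sub (S := S) (normalizerIn_le U'); exact card_le_of_hom hφ hφN)
    have hcard : Nat.card (normalizerIn S U') ≤ Nat.card S := Subgroup.card_le_of_le (normalizerIn_le U')
    have hU'M : NormMaps F U' M := ih _ (by omega) U' hU'ne hU'n le_rfl
    have hbig : ∀ {P : Subgroup Ω} {χ : P →* Ω}, χ ∈ F.Hom P → Nat.card R < Nat.card P → M P χ := by
      intro P χ hχ hlt'
      refine maps_large hS hF hM (Nat.card R) (fun Q hQ hQlt α hα => ?_) hχ hlt'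
      haveI := finite_sub hQ.1
      have h1 : Nat.card Q ≤ Nat.card (normalizerIn S Q) := by
        haveI := finite_sub (S := S) (normalizerIn_le Q)
        exact Subgroup.card_le_of_le (le_normalizerIn hQ.1)
      have h2 : Nat.card (normalizerIn S Q) ≤ Nat.card S := Subgroup.card_le_of_le (normalizerIn_le Q)
      have hQb : Q ≠ ⊥ := fun e => by
        rw [e, Subgroup.card_bot] at hQlt
        have : 0 < Nat.card R := Nat.card_pos
        omega
      exact ih _ (by omega) Q hQb hQ le_rfl _ _ (aut_mem_normalizerHom hQ.1 hα)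
    intro P χ hχ
    obtain ⟨hχE, hPN, hχN, ψ, hψE, hψe, hψU⟩ := hχ
    have hPNS : P ≤ normalizerIn S U := hPN.trans (inf_le_inf_right _ hRS)
    have hUN : U ≤ normalizerIn S U := le_normalizerIn hUS
    have hψval : ∀ b, ψ b ∈ normalizerIn S U := by
      rintro ⟨b, hb⟩
      have : P ⊔ U ≤ ((normalizerIn S U).comap ψ).map (P ⊔ U).subtype :=
        sup_le (fun x hx => ⟨Subgroup.inclusion le_sup_left ⟨x, hx⟩,
            (by show ψ _ ∈ normalizerIn S U; rw [hψe]; exact inf_le_inf_right _ hRS (hχN _)), rfl⟩)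
          (fun y hy => ⟨Subgroup.inclusion le_sup_right ⟨y, hy⟩,
            hUN (hψU.le ⟨_, Subgroup.mem_subgroupOf.2 hy, rfl⟩), rfl⟩)
      obtain ⟨w, hw, hwz⟩ := this hb
      rwa [show w = ⟨b, hb⟩ from Subtype.ext hwz] at hw
    obtain ⟨ζ, hζ, hζN, hζl, -⟩ := exists_inv hφ rfl
    have hζv : ∀ y : φ.range, ζ y ∈ normalizerIn S U := fun y => hζN.le ⟨y, rfl⟩
    obtain ⟨φP, hφP, eφP⟩ := exists_restrict hφ hPNS
    set P' := φP.range with hP'
    have hBle : P' ⊔ U' ≤ φ.range := sup_le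
      (by rintro _ ⟨x, rfl⟩; exact ⟨_, (eφP x).symm⟩)
      (by rw [← hφU]; rintro _ ⟨x, -, rfl⟩; exact ⟨x, rfl⟩)
    obtain ⟨ζB, hζB, eζB⟩ := exists_restrict hζ hBle
    have hζBv : ∀ y, ζB y ∈ P ⊔ U := by
      rintro ⟨y, hy⟩
      have : P' ⊔ U' ≤ ((P ⊔ U).subgroupOf (normalizerIn S U)).map φ := sup_le
        (by rintro _ ⟨x, rfl⟩
            exact ⟨⟨x, hPNS x.2⟩, Subgroup.mem_subgroupOf.2 (Subgroup.mem_sup_left x.2), (eφP x).symm⟩)
        (by rw [← hφU]; rintro _ ⟨x, hx, rfl⟩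
            exact ⟨x, Subgroup.mem_subgroupOf.2 (Subgroup.mem_sup_right (Subgroup.mem_subgroupOf.1 hx)), rfl⟩)
      obtain ⟨w, hw, hwy⟩ := this hy
      rw [eζB]
      have := hζl w ⟨w, rfl⟩
      rw [show (⟨_, hBle hy⟩ : φ.range) = ⟨φ w, ⟨w, rfl⟩⟩ from Subtype.ext hwy.symm]
      rw [this]
      exact Subgroup.mem_subgroupOf.1 hw
    obtain ⟨τ, hτ, eτ⟩ := exists_comp hζB (hsub _ hψE) hζBv
    obtain ⟨ψ', hψ', eψ'⟩ := exists_comp hτ hφ (fun y => by rw [eτ]; exact hψval _)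
    obtain ⟨χ', hχ', eχ'⟩ := exists_restrict hψ' (le_sup_left : P' ≤ P' ⊔ U')
    have hP'N : P' ≤ normalizerIn S U' := by
      rintro _ ⟨x, rfl⟩; rw [eφP]; exact hφN _
    have hχ'v : ∀ y, χ' y ∈ normalizerIn S U' := fun y => by rw [eχ', eψ']; exact hφN _
    have hχ'M : M P' χ' := by
      refine hU'M P' χ' ⟨hχ', hP'N, hχ'v, ψ', hψ', fun x => (eχ' x).symm, ?_⟩
      haveI := finite_sub hU'n.1
      refine map_subgroupOf_eq_of_mapsTo hψ' le_sup_right fun y hy => ?_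
      rw [eψ']
      refine hφU.le ⟨_, Subgroup.mem_subgroupOf.2 ?_, rfl⟩
      show τ y ∈ U
      rw [eτ]
      refine hψU.le ⟨_, Subgroup.mem_subgroupOf.2 ?_, rfl⟩
      show ζB y ∈ U
      obtain ⟨w, hw, hwy⟩ := hφU.ge hy
      rw [eζB, show (⟨(y : Ω), hBle y.2⟩ : φ.range) = ⟨φ w, ⟨w, rfl⟩⟩ from Subtype.ext hwy.symm, hζl w ⟨w, rfl⟩]
      exact hw
    -- `χ = φ⁻¹ ∘ χ' ∘ φ`
    have hbigφ : M _ φ := hbig hφ hgrow
    have hbigζ : M _ ζ := hbig hζ (by rw [card_range hφ]; exact hgrow)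
    have hMφP : M P φP := hM.restrict P _ φP φ hPNS hφ eφP hbigφ
    obtain ⟨σ, hσ, eσ⟩ := exists_comp hφP hχ' (fun x => ⟨x, rfl⟩)
    have hMσ : M P σ := hM.comp P P' φP χ' σ hφP hχ' (fun x => ⟨x, rfl⟩) eσ hMφP hχ'M
    have hkey : ∀ x : P, σ x = φ ⟨χ x, inf_le_inf_right _ hRS (hχN x)⟩ := by
      intro x
      rw [eσ, eχ', eψ']
      refine congrArg φ (Subtype.ext ?_)
      show τ _ = χ x
      rw [eτ, ← hψe x]
      refine congrArg ψ (Subtype.ext ?_)
      show ζB _ = (x : Ω)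
      rw [eζB]
      refine Eq.trans ?_ (hζl ⟨x, hPNS x.2⟩ ⟨_, rfl⟩)
      exact congrArg ζ (Subtype.ext (eφP x))
    have hσv : ∀ x : P, σ x ∈ φ.range := fun x => ⟨_, (hkey x).symm⟩
    refine hM.comp P _ σ ζ χ hσ hζ hσv (fun x => ?_) hMσ hbigζ
    refine (Eq.trans ?_ (hζl ⟨χ x, inf_le_inf_right _ hRS (hχN x)⟩ ⟨_, rfl⟩)).symm
    exact congrArg ζ (Subtype.ext (hkey x))

/-- The decomposition along a normal subgroup `U`: `F` is generated by `N_F(U C_S(U))` and the maps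
centralizing `U`. -/
theorem maps_of_decomp (hS : IsPGroup p S) (hF : F.IsSaturated p) (hM : IsMapClass F M) {U : Subgroup Ω}
    (hU : F.IsNormal U) (hD : NormMaps F (U ⊔ centralizerIn S U) M)
    (hC : ∀ (P : Subgroup Ω) (φ : P →* Ω), φ ∈ F.Hom P → U ≤ P →
      (∀ x : P, (x : Ω) ∈ U → φ x = x) → M P φ) :
    AllMaps F M := by
  intro P φ hφ
  refine FusionP3.Induction.hom_induction hS hF hM.comp hM.restrict (fun Q hQn hc hr α hα big => ?_) P φ hφ
  have hQS := hQn.1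
  haveI := finite_sub hQS
  have hUQ : U ≤ Q := isNormal_le_centricRadical hS hU hc hr
  have hUn := isNormal_le_normalizer hU
  haveI : Finite (MulAut Q) := Finite.of_injective (fun f : MulAut Q => (f : Q → Q)) DFunLike.coe_injective
  set A := F.autGroup Q
  have hAU : ∀ a ∈ A, ∀ x : Q, (x : Ω) ∈ U → ((a x : Q) : Ω) ∈ U := by
    intro a ha x hx
    obtain ⟨ψ, hψ, -, e⟩ := exists_hom_of_aut hQS ha
    rw [← e]; exact isNormal_apply_mem hU hψ hx
  let N : Subgroup A :=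
    { carrier := {b | ∀ x : Q, (x : Ω) ∈ U → (b : MulAut Q) x = x}
      one_mem' := fun x _ => rfl
      mul_mem' := fun {a b} ha hb x hx => by
        show (a : MulAut Q) ((b : MulAut Q) x) = x
        rw [hb x hx, ha x hx]
      inv_mem' := fun {a} ha x hx => by
        show (a : MulAut Q)⁻¹ x = x
        conv_lhs => rw [← ha x hx]
        exact MulAut.inv_apply_self _ _ x }
  haveI : N.Normal := by
    refine ⟨fun b hb a x hx => ?_⟩
    show (a : MulAut Q) ((b : MulAut Q) ((a : MulAut Q)⁻¹ x)) = x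
    rw [hb _ (hAU _ (A.inv_mem a.2) x hx), MulAut.apply_inv_self]
  obtain ⟨-, R, hR⟩ := fullyAutomized_of_fullyNormalized hS hF hQn
  have hmem : (⟨α, hα⟩ : A) ∈ ((Subgroup.normalizer (((R : Subgroup A) ⊓ N : Subgroup A) : Set A) ⊔ N :
      Subgroup A) : Set A) := by
    rw [FusionP3.StronglyClosed.normalizer_inf_sup_eq_top R N]; exact Subgroup.mem_top _
  rw [Subgroup.mul_normal] at hmem
  obtain ⟨b, hb, a₀, ha₀, hab⟩ := hmem
  have hab' : ∀ x : Q, α x = (b : MulAut Q) ((a₀ : MulAut Q) x) := fun x =>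
    (congrArg (fun c : A => (c : MulAut Q) x) hab).symm
  have hMa₀ : M Q (Q.subtype.comp (a₀ : MulAut Q).toMonoidHom) :=
    hC _ _ ((mem_autGroup hQS).1 a₀.2) hUQ fun x hx => congrArg Subtype.val (ha₀ x hx)
  refine hM.comp Q Q _ (Q.subtype.comp (b : MulAut Q).toMonoidHom) _ ((mem_autGroup hQS).1 a₀.2)
    ((mem_autGroup hQS).1 b.2) (fun x => ((a₀ : MulAut Q) x).2) (fun x => congrArg Subtype.val (hab' x)) hMa₀ ?_
  set W₀ := ((R : Subgroup A) ⊓ N).map A.subtype ⊔ Inn Q with hW₀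
  have hInn : Inn Q ≤ autInducedBy S Q := inn_le_autInducedBy hQS
  have hW₀le : W₀ ≤ autInducedBy S Q := by
    refine sup_le ?_ hInn
    rintro _ ⟨c, hc, rfl⟩
    exact Subgroup.mem_subgroupOf.1 (hR ▸ hc.1)
  have hW₀n : ∀ w ∈ W₀, (b : MulAut Q) * w * (b : MulAut Q)⁻¹ ∈ W₀ := by
    intro w hw
    have h1 : W₀ ≤ W₀.comap (MulAut.conj (b : MulAut Q)).toMonoidHom := by
      refine sup_le ?_ ?_
      · rintro _ ⟨c, hc, rfl⟩
        exact Subgroup.mem_sup_left ⟨b * c * b⁻¹, conj_mem_of_normalizer hb hc, rfl⟩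
      · rintro _ ⟨g, rfl⟩
        refine Subgroup.mem_sup_right ⟨(b : MulAut Q) g, ?_⟩
        refine MulEquiv.ext fun x => ?_
        show (b : MulAut Q) g * x * ((b : MulAut Q) g)⁻¹ = (b : MulAut Q) (g * (b : MulAut Q)⁻¹ x * g⁻¹)
        rw [map_mul, map_mul, map_inv, MulAut.apply_inv_self]
    exact h1 hw
  set Q₁ := FusionP3.Induction.preimageAut S Q W₀ with hQ₁
  obtain ⟨ψ, hψ, hψe⟩ : ∃ ψ ∈ F.Hom Q₁, ∀ (x : Ω) (hx : x ∈ Q) (hxR : x ∈ Q₁),
      ψ ⟨x, hxR⟩ = (((b : MulAut Q) ⟨x, hx⟩ : Q) : Ω) := FusionP3.Induction.exists_extend_preimage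
    (receptive_of_fullyNormalized hS hF hQn) hW₀le b.2 hW₀n
  have hQQ₁ : Q ≤ Q₁ := FusionP3.Induction.le_preimageAut hQS le_sup_right
  rcases hQQ₁.lt_or_eq with hlt | heq
  · haveI : Finite Q₁ := finite_sub (S := S) ((FusionP3.Induction.preimageAut_le Q W₀).trans (normalizerIn_le Q))
    refine hM.restrict Q Q₁ _ ψ hQQ₁ hψ (fun x => (hψe x x.2 (hQQ₁ x.2)).symm) (big Q₁ ?_ ψ hψ)
    exact lt_of_le_of_ne (Subgroup.card_le_of_le hQQ₁) fun e => hlt.ne (Subgroup.eq_of_le_of_card_ge hQQ₁ e.ge)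
  · -- here `C_S(U) ≤ Q`
    have hCN : ∀ c ∈ centralizerIn S U, c ∈ Subgroup.normalizer (Q : Set Ω) → c ∈ Q := by
      intro c hc hcn
      rw [heq]
      refine ⟨⟨hc.1, hcn⟩, Q.normalizerMonoidHom ⟨c, hcn⟩, Subgroup.mem_sup_left ?_, fun x => rfl⟩
      have hA : Q.normalizerMonoidHom ⟨c, hcn⟩ ∈ autInducedBy S Q := mem_autInducedBy.2 ⟨c, hc.1, fun _ => rfl⟩
      refine ⟨⟨_, autInducedBy_le_autGroup F hQS hA⟩, ⟨?_, fun x hx => Subtype.ext ?_⟩, rfl⟩
      · rw [hR]; exact hA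
      · show c * (x : Ω) * c⁻¹ = x
        rw [← (mem_centralizerIn.1 hc).2 x hx]; group
    have hnC : Q ≤ Subgroup.normalizer (centralizerIn S U : Set Ω) := fun q hq => by
      haveI := finite_sub (S := S) (centralizerIn_le U)
      refine mem_normalizer_of_conj_mem fun c hc => ⟨S.mul_mem (S.mul_mem (hQS hq) hc.1) (S.inv_mem (hQS hq)), ?_⟩
      intro x hx
      have h := hc.2 _ (conj_inv_mem_of_normalizer (hUn (hQS hq)) hx)
      calc x * (q * c * q⁻¹) = q * ((q⁻¹ * x * q) * c) * q⁻¹ := by group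
        _ = _ := by rw [h]; group
    have hCQ : centralizerIn S U ≤ Q := by
      by_contra hnot
      set B := Q ⊔ centralizerIn S U with hB
      have hBS : B ≤ S := sup_le hQS (centralizerIn_le U)
      haveI := finite_sub hBS
      have hQB : Q < B := lt_of_le_of_ne le_sup_left fun e => hnot (e ▸ le_sup_right)
      obtain ⟨g, hg, hgQ⟩ := Set.exists_of_ssubset
        (FusionP3.Induction.lt_normalizerIn (isPGroup_of_le hS hBS) hQB)
      have hg1 : g ∈ ((Q ⊔ centralizerIn S U : Subgroup Ω) : Set Ω) := hg.1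
      rw [Subgroup.coe_mul_of_left_le_normalizer_right Q _ hnC] at hg1
      obtain ⟨q, hq, c, hc, rfl⟩ := hg1
      have hcn : c ∈ Subgroup.normalizer (Q : Set Ω) := by
        have := (Subgroup.normalizer (Q : Set Ω)).mul_mem
          ((Subgroup.normalizer (Q : Set Ω)).inv_mem (Subgroup.le_normalizer hq)) hg.2
        rwa [inv_mul_cancel_left] at this
      exact hgQ (Q.mul_mem hq (hCN c hc hcn))
    set D := U ⊔ centralizerIn S U with hDdef
    have hDQ : D ≤ Q := sup_le hUQ hCQ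
    have hDS : D ≤ S := hDQ.trans hQS
    haveI := finite_sub hDS
    have hSD : S ≤ Subgroup.normalizer (D : Set Ω) := fun s hs => by
      have h1 : D ≤ D.comap (MulAut.conj s).toMonoidHom := by
        refine sup_le (fun x hx => Subgroup.mem_sup_left (conj_mem_of_normalizer (hUn hs) hx))
          (fun c hc => Subgroup.mem_sup_right ⟨S.mul_mem (S.mul_mem hs hc.1) (S.inv_mem hs), fun x hx => ?_⟩)
        have h := hc.2 _ (conj_inv_mem_of_normalizer (hUn hs) hx)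
        show x * (s * c * s⁻¹) = s * c * s⁻¹ * x
        calc x * (s * c * s⁻¹) = s * ((s⁻¹ * x * s) * c) * s⁻¹ := by group
          _ = _ := by rw [h]; group
      exact mem_normalizer_of_conj_mem fun x hx => h1 hx
    have hβ := (mem_autGroup hQS).1 b.2
    obtain ⟨ψ', hψ', eψ'⟩ := exists_restrict hβ (sup_le le_rfl hDQ : Q ⊔ D ≤ Q)
    refine hD Q _ ⟨hβ, le_inf hQS (hQS.trans hSD), fun x => ⟨apply_mem hβ x, hSD (apply_mem hβ x)⟩, ψ', hψ',
      fun x => eψ' _, map_subgroupOf_eq_of_mapsTo hψ' le_sup_right fun y hy => ?_⟩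
    rw [eψ']
    have hDU : D ≤ (D.comap (Q.subtype.comp (b : MulAut Q).toMonoidHom)).map Q.subtype := by
      refine sup_le (fun x hx => ⟨⟨x, hUQ hx⟩, Subgroup.mem_sup_left (hAU _ b.2 ⟨x, hUQ hx⟩ hx), rfl⟩)
        (fun c hc => ⟨⟨c, hCQ hc⟩, Subgroup.mem_sup_right ⟨hQS (SetLike.coe_mem _), fun x hx => ?_⟩, rfl⟩)
      have h := hc.2 _ (hAU _ (A.inv_mem b.2) ⟨x, hUQ hx⟩ hx)
      have h' : (b : MulAut Q)⁻¹ ⟨x, hUQ hx⟩ * ⟨c, hCQ hc⟩ = ⟨c, hCQ hc⟩ * (b : MulAut Q)⁻¹ ⟨x, hUQ hx⟩ :=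
        Subtype.ext h
      have h'' := congrArg (b : MulAut Q) h'
      rw [map_mul, map_mul, MulAut.apply_inv_self] at h''
      exact congrArg Subtype.val h''
    obtain ⟨w, hw, hwy⟩ := hDU hy
    rwa [show (⟨(y : Ω), (sup_le le_rfl hDQ : Q ⊔ D ≤ Q) y.2⟩ : Q) = w from Subtype.ext hwy.symm]

/-! ### The subsystem of maps acting on `U` as `S` does -/

/-- For `U` normal in `F`: a saturated subsystem over `S` of the maps inducing elements of `Aut_S(U)` on `U`. -/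
theorem exists_kBase (hS : IsPGroup p S) (hF : F.IsSaturated p) {U : Subgroup Ω} (hU : F.IsNormal U) :
    ∃ K : FusionSystem S, K.IsSaturated p ∧ K.IsSubsystemOf F ∧
      (∀ (P : Subgroup Ω) (φ : P →* Ω), φ ∈ K.Hom P → ∃ ψ ∈ K.Hom (P ⊔ U),
        (∀ x : P, ψ (Subgroup.inclusion le_sup_left x) = φ x) ∧
        ∃ g ∈ S, ∀ x : U, ψ (Subgroup.inclusion le_sup_right x) = g * (x : Ω) * g⁻¹) ∧
      ∀ (P : Subgroup Ω) (φ : P →* Ω), φ ∈ F.Hom P → U ≤ P →
        (∃ g ∈ S, ∀ x : P, (x : Ω) ∈ U → φ x = g * (x : Ω) * g⁻¹) → φ ∈ K.Hom P := by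
  have hUS := hU.1
  haveI := finite_sub hUS
  haveI : Finite (MulAut U) := Finite.of_injective (fun f : MulAut U => (f : U → U)) DFunLike.coe_injective
  set A := autInducedBy S U with hA
  have hT : S = kNorm S U.subtype A := by
    refine le_antisymm (fun s hs => ?_) (kNorm_le _ _)
    have hn := isNormal_le_normalizer hU hs
    exact ⟨hs, U.normalizerMonoidHom ⟨s, hn⟩, mem_autInducedBy.2 ⟨s, hs, fun _ => rfl⟩, fun _ => rfl⟩
  obtain ⟨K, hK⟩ := exists_kSystem F hUS A hT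
  have hAle : A ≤ F.autGroup U := autInducedBy_le_autGroup F hUS
  refine ⟨K, kSystem_isSaturated hS hF (receptive_of_fullyNormalized hS hF
    (FusionAlperin.Model.fullyNormalized_of_normal hU)) ?_ hT hK, fun P φ h => ((hK P).le h).1, ?_, ?_⟩
  · rw [inf_eq_right.2 hAle, show autInducedBy S U ⊓ A = A from inf_idem _]
    obtain ⟨k, hk⟩ := IsPGroup.iff_card.1 (isPGroup_autInducedBy hS U)
    exact ⟨le_rfl, by rw [hk, Nat.factorization_pow, Finsupp.smul_apply,
      Nat.Prime.factorization_self Fact.out, smul_eq_mul, mul_one]⟩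
  · intro P φ hφ
    obtain ⟨-, hP, hv, ψ, hψ, he, k, hk, hek⟩ := (hK P).le hφ
    obtain ⟨g, hg, hgk⟩ := mem_autInducedBy.1 hk
    obtain ⟨ψ', hψ', e'⟩ := exists_restrict hψ (sup_le le_rfl le_sup_right : (P ⊔ U) ⊔ U ≤ P ⊔ U)
    refine ⟨ψ, (hK _).ge ⟨hψ, ?_, ?_, ψ', hψ', fun x => e' _, k, hk, fun y => (e' _).trans (hek y)⟩, he, g, hg,
      fun x => (hek x).trans (hgk x)⟩
    · exact (src_le hψ).trans hT.le
    · exact fun x => hT.le (apply_mem hψ x)
  · rintro P φ hφ hUP ⟨g, hg, hge⟩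
    obtain ⟨ψ, hψ, e⟩ := exists_restrict hφ (sup_le le_rfl hUP : P ⊔ U ≤ P)
    refine (hK P).ge ⟨hφ, (src_le hφ).trans hT.le, fun x => hT.le (apply_mem hφ x), ψ, hψ, fun x => e _,
      U.normalizerMonoidHom ⟨g, isNormal_le_normalizer hU hg⟩, mem_autInducedBy.2 ⟨g, hg, fun _ => rfl⟩,
      fun y => ?_⟩
    rw [e]; exact hge _ y.2

/-! ### Measure -/

/-- The number of maps of a system. -/
noncomputable def homCount {T : Subgroup Ω} (F : FusionSystem T) : ℕ :=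
  Nat.card (Σ P : {P : Subgroup Ω // P ≤ T}, F.Hom P.1)

theorem homCount_lt {T : Subgroup Ω} {E : FusionSystem T} (hT : T = S) (hsub : ∀ P, E.Hom P ⊆ F.Hom P)
    (h : ∃ P φ, φ ∈ F.Hom P ∧ φ ∉ E.Hom P) : homCount E < homCount F := by
  subst hT
  haveI := finite_subgroups_le (S := T)
  haveI : ∀ P : {P : Subgroup Ω // P ≤ T}, Finite (F.Hom P.1) := fun P => by
    haveI := finite_sub P.2
    exact Finite.of_injective (fun φ : F.Hom P.1 => fun x => (⟨φ.1 x, apply_mem φ.2 x⟩ : T))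
      fun a b hab => Subtype.ext (MonoidHom.ext fun x => congrArg Subtype.val (congrFun hab x))
  obtain ⟨P, φ, hφ, hn⟩ := h
  haveI : ∀ P : {P : Subgroup Ω // P ≤ T}, Finite (E.Hom P.1) := fun P =>
    Finite.of_injective (fun φ : E.Hom P.1 => (⟨φ.1, hsub _ φ.2⟩ : F.Hom P.1)) fun a b hab =>
      Subtype.ext (congrArg (fun z : F.Hom P.1 => z.1) hab)
  haveI := Fintype.ofFinite (Σ P : {P : Subgroup Ω // P ≤ T}, E.Hom P.1)
  haveI := Fintype.ofFinite (Σ P : {P : Subgroup Ω // P ≤ T}, F.Hom P.1)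
  rw [homCount, homCount, Nat.card_eq_fintype_card, Nat.card_eq_fintype_card]
  refine Fintype.card_lt_of_injective_of_notMem
    (f := fun x : Σ P : {P : Subgroup Ω // P ≤ T}, E.Hom P.1 =>
      (⟨x.1, x.2.1, hsub _ x.2.2⟩ : Σ P : {P : Subgroup Ω // P ≤ T}, F.Hom P.1))
    (b := ⟨⟨P, src_le hφ⟩, φ, hφ⟩) ?_ ?_
  · rintro ⟨a, x, hx⟩ ⟨b, y, hy⟩ hab
    obtain ⟨rfl, h'⟩ := Sigma.mk.inj_iff.1 hab
    have := congrArg Subtype.val (eq_of_heq h')
    subst this; rfl
  · rintro ⟨⟨a, x, hx⟩, hab⟩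
    obtain ⟨rfl, h'⟩ := Sigma.mk.inj_iff.1 hab
    have h'' : x = φ := congrArg Subtype.val (eq_of_heq h')
    exact hn (h'' ▸ hx)

/-- A subgroup with `N_F(H) = F` is normal. -/
theorem isNormal_of_all {H : Subgroup Ω} (hH : H ≤ S) (h : ∀ P, F.Hom P ⊆ F.normalizerHom H P) :
    F.IsNormal H :=
  ⟨hH, fun P φ hφ => (h P hφ).2.2.2⟩

theorem normalizerSystem_lt {H : Subgroup Ω} (hH : H ≤ S) {E : FusionSystem (normalizerIn S H)}
    (hE : F.IsNormalizerSystem H E)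
    (h : Nat.card (normalizerIn S H) < Nat.card S ∨ ¬ F.IsNormal H) :
    Nat.card (normalizerIn S H) < Nat.card S ∨
      (normalizerIn S H = S ∧ homCount E < homCount F) := by
  by_cases hlt : Nat.card (normalizerIn S H) < Nat.card S
  · exact Or.inl hlt
  have heq : normalizerIn S H = S :=
    Subgroup.eq_of_le_of_card_ge (normalizerIn_le H) (not_lt.1 hlt)
  refine Or.inr ⟨heq, homCount_lt heq (fun P φ hφ => ((hE P).le hφ).1) ?_⟩
  by_contra hcon
  push_neg at hcon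
  exact (h.resolve_left hlt) (isNormal_of_all hH fun P φ hφ => (hE P).le (hcon P φ hφ))

/-! ### Lifting from a factor system -/

variable {Ω' : Type u} [Group Ω'] {S' : Subgroup Ω'} {θ : S →* Ω'} {F' : FusionSystem S'}

/-- Maps of `N_{F/U}(W')` lift to maps of `N_F(X)`, `X` the preimage of `W'`. -/
theorem normalizerHom_lift {U : Subgroup Ω} (hS : IsPGroup p S) (hF : F.IsSaturated p) (hU : F.StronglyClosed U)
    (hF' : F.IsFactorSystem U θ F') {W' : Subgroup Ω'} (hW' : W' ≤ S')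
    (hX : S ≤ Subgroup.normalizer (preimageAlong θ W' : Set Ω))
    {P' : Subgroup Ω'} {φ' : P' →* Ω'} (hφ' : φ' ∈ F'.normalizerHom W' P') :
    ∃ φ ∈ F.normalizerHom (preimageAlong θ W') (preimageAlong θ P'), InducedAlong θ φ φ' := by
  obtain ⟨h1, -, -, ψ', hψ', he, hW⟩ := hφ'
  obtain ⟨hP', -⟩ := (hF'.2.2.2 P' φ').1 h1
  obtain ⟨-, ψ, hψ, hind⟩ := (hF'.2.2.2 _ ψ').1 hψ'
  obtain ⟨hPS, hv, hmemP, e⟩ := hind
  set X := preimageAlong θ W' with hXdef
  have hXS : X ≤ S := preimageAlong_le θ W'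
  have hPP : preimageAlong θ P' ≤ preimageAlong θ (P' ⊔ W') :=
    Subgroup.map_mono (Subgroup.comap_mono le_sup_left)
  have hXP : X ≤ preimageAlong θ (P' ⊔ W') := Subgroup.map_mono (Subgroup.comap_mono le_sup_right)
  obtain ⟨φ, hφ, eφ⟩ := exists_restrict hψ hPP
  obtain ⟨τ, hτ, eτ⟩ := exists_restrict hψ (sup_le hPP hXP : preimageAlong θ P' ⊔ X ≤ _)
  have hPS' := preimageAlong_le θ P'
  have hmem : ∀ x : ↥(preimageAlong θ P'), θ ⟨x, hPS' x.2⟩ ∈ P' := by
    rintro ⟨_, s, hs, rfl⟩; exact hs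
  haveI := finite_sub hXS
  refine ⟨φ, ⟨hφ, le_inf hPS' (hPS'.trans hX), fun x => ⟨apply_mem hφ x, hX (apply_mem hφ x)⟩, τ, hτ,
    fun x => (eτ _).trans (eφ x).symm, map_subgroupOf_eq_of_mapsTo hτ le_sup_right fun y hy => ?_⟩, ?_⟩
  · obtain ⟨s, hs, hse⟩ := hy
    refine ⟨⟨τ y, apply_mem hτ y⟩, ?_, rfl⟩
    show θ ⟨τ y, apply_mem hτ y⟩ ∈ W'
    have h2 := e ⟨(y : Ω), (sup_le hPP hXP : preimageAlong θ P' ⊔ X ≤ _) y.2⟩
    rw [show (⟨τ y, apply_mem hτ y⟩ : S) = ⟨ψ ⟨(y : Ω), (sup_le hPP hXP : preimageAlong θ P' ⊔ X ≤ _) y.2⟩, hv _⟩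
      from Subtype.ext (eτ y), ← h2]
    refine hW.le ⟨_, Subgroup.mem_subgroupOf.2 ?_, rfl⟩
    show θ ⟨(y : Ω), _⟩ ∈ W'
    rw [show (⟨(y : Ω), hPS ((sup_le hPP hXP : preimageAlong θ P' ⊔ X ≤ _) y.2)⟩ : S) = s from Subtype.ext hse.symm]
    exact hs
  · refine ⟨hPS', apply_mem hφ, hmem, fun x => ?_⟩
    rw [← he]
    refine Eq.trans (Eq.trans ?_ (e ⟨(x : Ω), hPP x.2⟩)) ?_
    · exact congrArg ψ' (Subtype.ext rfl)
    · exact congrArg θ (Subtype.ext (eφ x).symm)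

/-- Data of the factor system by a strongly closed subgroup, over the top subgroup of the quotient. -/
theorem exists_factor (hS : IsPGroup p S) (hF : F.IsSaturated p) {U : Subgroup Ω} (hU : F.StronglyClosed U)
    (hne : U ≠ ⊥) :
    ∃ (Ω' : Type u) (_ : Group Ω') (θ : S →* Ω') (F' : FusionSystem (⊤ : Subgroup Ω')),
      Function.Surjective θ ∧ (∀ s : S, θ s = 1 ↔ (s : Ω) ∈ U) ∧
      Finite (⊤ : Subgroup Ω') ∧ IsPGroup p (⊤ : Subgroup Ω') ∧ F'.IsSaturated p ∧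
      F.IsFactorSystem U θ F' ∧ Nat.card (⊤ : Subgroup Ω') < Nat.card S := by
  haveI hn : (U.subgroupOf S).Normal := ⟨fun n hn g => Subgroup.mem_subgroupOf.2
    (conj_mem_of_normalizer (stronglyClosed_le_normalizer hU g.2) (Subgroup.mem_subgroupOf.1 hn))⟩
  let θ := QuotientGroup.mk' (U.subgroupOf S)
  have hker : ∀ s : S, θ s = 1 ↔ (s : Ω) ∈ U := fun s =>
    (QuotientGroup.eq_one_iff s).trans Subgroup.mem_subgroupOf
  have hsurj : Function.Surjective θ := QuotientGroup.mk'_surjective _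
  have hr : θ.range = ⊤ := MonoidHom.range_eq_top.2 hsurj
  obtain ⟨F', hF'⟩ := exists_factorSystem hU θ hker hr
  haveI : Finite (⊤ : Subgroup (S ⧸ U.subgroupOf S)) := inferInstance
  refine ⟨_, inferInstance, θ, F', hsurj, hker, inferInstance, isPGroup_image hS hr,
    factor_isSaturated hS hF hU hF', hF', ?_⟩
  rw [Subgroup.card_top, Subgroup.card_eq_card_quotient_mul_card_subgroup (U.subgroupOf S)]
  refine lt_mul_of_one_lt_right Nat.card_pos ?_
  rw [Nat.card_congr (Subgroup.subgroupOfEquivOfLe hU.1).toEquiv]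
  haveI := finite_sub hU.1
  exact U.one_lt_card_iff_ne_bot.2 hne

end Cfsg.Agent.Lib.FS.Control
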