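import Mathlib
import Cfsg.Agent.Lib.FusionSystem.FactorSaturated
import Cfsg.Agent.Lib.FusionSystem.Group

/-!
Systems realized by a finite group: saturation, and models give constrained systems.
-/

set_option autoImplicit false
set_option linter.style.haveILetI false
set_option linter.unusedSectionVars false

namespace Cfsg.Agent.Lib.FS

open Cfsg Cfsg.FusionSystem

variable {Ω : Type*} [Group Ω] {S : Subgroup Ω} [Finite S] {p : ℕ} [Fact p.Prime] {F : FusionSystem S}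
variable {G : Type*} [Group G] [Finite G] {ι : S →* G}

theorem stronglyClosed_bot {E : Type*} [Group E] {T : Subgroup E} (H : FusionSystem T) :
    H.StronglyClosed ⊥ :=
  ⟨bot_le, fun R hR φ _ x => Subgroup.mem_bot.2 (by
    rw [show x = 1 from Subtype.ext (Subgroup.mem_bot.1 (hR x.2)), map_one])⟩

/-- A realized system is the factor of the fusion system of the group by the trivial subgroup. -/
theorem realized_factor (h : F.IsRealizedBy ι) (T : Sylow p G) (hT : (T : Subgroup G) = ι.range) :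
    ∃ θ : (T : Subgroup G) →* Ω, (∀ (s : S) (hs : ι s ∈ (T : Subgroup G)), θ ⟨ι s, hs⟩ = s) ∧
      (groupFusionSystem (T : Subgroup G)).IsFactorSystem ⊥ θ F := by
  let e : S ≃* (T : Subgroup G) := (MonoidHom.ofInjective h.1).trans (MulEquiv.subgroupCongr hT.symm)
  let θ : (T : Subgroup G) →* Ω := S.subtype.comp e.symm.toMonoidHom
  have hθ : ∀ (s : S) (hs : ι s ∈ (T : Subgroup G)), θ ⟨ι s, hs⟩ = s := fun s hs => by
    show ((e.symm ⟨ι s, hs⟩ : S) : Ω) = s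
    rw [show (⟨ι s, hs⟩ : (T : Subgroup G)) = e s from rfl, MulEquiv.symm_apply_apply]
  have hm : ∀ s : S, ι s ∈ (T : Subgroup G) := fun s => hT.ge ⟨s, rfl⟩
  refine ⟨θ, hθ, bot_le, fun t => ?_, ?_, fun P φ => ?_⟩
  · show ((e.symm t : S) : Ω) = 1 ↔ (t : G) ∈ (⊥ : Subgroup G)
    rw [Subgroup.mem_bot]
    constructor
    · intro h1
      have h2 : e.symm t = 1 := Subtype.ext h1
      rw [show t = 1 by simpa using congrArg e h2]
      rfl
    · intro h1
      rw [show t = 1 from Subtype.ext h1, map_one]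
      rfl
  · ext x
    exact ⟨by rintro ⟨t, rfl⟩; exact SetLike.coe_mem _, fun hx => ⟨e ⟨x, hx⟩, hθ ⟨x, hx⟩ (hm _)⟩⟩
  constructor
  · intro hφ
    have hP := src_le hφ
    obtain ⟨g, hg⟩ := (h.2 P hP φ (apply_mem hφ)).1 hφ
    refine ⟨hP, conjHom (preimageAlong θ P) g, ?_⟩
    have hconj : ∀ x ∈ preimageAlong θ P, g * x * g⁻¹ ∈ (T : Subgroup G) := by
      intro x hx
      obtain ⟨hxT, hxP⟩ := mem_preimageAlong.1 hx
      obtain ⟨s, rfl⟩ := hT.le hxT
      rw [hθ s] at hxP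
      rw [← show ι ⟨φ ⟨s, hxP⟩, apply_mem hφ _⟩ = g * ι s * g⁻¹ from hg ⟨s, hxP⟩]
      exact hm _
    have hmem := conjHom_mem_group (preimageAlong_le θ P) hconj
    refine ⟨hmem, inducedAlong_preimage hmem fun t ht => ?_⟩
    obtain ⟨s, hs⟩ := hT.le t.2
    have hts : t = ⟨ι s, hm s⟩ := Subtype.ext hs.symm
    subst hts
    have hsP : (s : Ω) ∈ P := by rw [← hθ s (hm s)]; exact ht
    rw [show (⟨θ ⟨ι s, hm s⟩, ht⟩ : P) = ⟨s, hsP⟩ from Subtype.ext (hθ s (hm s))]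
    have e1 := hg ⟨s, hsP⟩
    refine (hθ ⟨φ ⟨s, hsP⟩, apply_mem hφ _⟩ (hm _)).symm.trans ?_
    exact congrArg θ (Subtype.ext (e1.trans rfl))
  · rintro ⟨hP, ψ, hψ, hind⟩
    obtain ⟨-, -, g, hg⟩ := mem_groupHom.1 hψ
    have hpre : ∀ x : P, ι ⟨x, hP x.2⟩ ∈ preimageAlong θ P := fun x =>
      mem_preimageAlong.2 ⟨hm _, by rw [hθ]; exact x.2⟩
    have key : ∀ x : P, φ x = θ ⟨ψ ⟨_, hpre x⟩, apply_mem hψ _⟩ := fun x => by
      rw [← inducedAlong_apply hind ⟨_, hpre x⟩ (hm _) (by rw [hθ]; exact x.2) (apply_mem hψ _)]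
      exact congrArg φ (Subtype.ext (hθ ⟨x, hP x.2⟩ (hm _)).symm)
    have hv : ∀ x : P, φ x ∈ S := fun x => (key x).symm ▸ SetLike.coe_mem _
    refine (h.2 P hP φ hv).2 ⟨g, fun x => ?_⟩
    rw [← show ψ ⟨_, hpre x⟩ = g * ι ⟨x, hP x.2⟩ * g⁻¹ from hg _]
    have : (⟨φ x, hv x⟩ : S) = e.symm ⟨ψ ⟨_, hpre x⟩, apply_mem hψ _⟩ := Subtype.ext (key x)
    rw [this]
    exact congrArg Subtype.val (e.apply_symm_apply ⟨ψ ⟨_, hpre x⟩, apply_mem hψ _⟩)

theorem isSaturated_of_realized (h : F.IsRealizedBy ι) (T : Sylow p G) (hT : (T : Subgroup G) = ι.range) :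
    F.IsSaturated p := by
  obtain ⟨θ, -, hfac⟩ := realized_factor h T hT
  exact factor_isSaturated T.isPGroup' (isSaturated_group T) (stronglyClosed_bot _) hfac

theorem isConstrained_of_isModel (hM : F.IsModel p G ι) : F.IsConstrained p := by
  obtain ⟨-, h, ⟨T, hT⟩, hC⟩ := hM
  set O := pCore p G
  have hOT : O ≤ ι.range := hT ▸ Cores.pCore_le_sylow T
  set Q := (O.comap ι).map S.subtype with hQ
  have hQS : Q ≤ S := Subgroup.map_subtype_le _
  have hmemQ : ∀ s : S, (s : Ω) ∈ Q ↔ ι s ∈ O := fun s =>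
    ⟨by rintro ⟨t, ht, hte⟩; rw [← Subtype.ext hte]; exact ht, fun hs => ⟨s, hs, rfl⟩⟩
  haveI := finite_sub hQS
  have hNorm : F.IsNormal Q := by
    refine ⟨hQS, fun P φ hφ => ?_⟩
    have hP := src_le hφ
    obtain ⟨g, hg⟩ := (h.2 P hP φ (apply_mem hφ)).1 hφ
    have hle : P ⊔ Q ≤ ((ι.range.comap ((MulAut.conj g).toMonoidHom.comp ι)).map S.subtype) := by
      refine sup_le (fun x hx => ⟨⟨x, hP hx⟩, ⟨_, hg ⟨x, hx⟩⟩, rfl⟩) ?_
      rintro _ ⟨s, hs, rfl⟩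
      exact ⟨s, hOT (Subgroup.Normal.conj_mem inferInstance _ (show ι s ∈ O from hs) g), rfl⟩
    let f : ↥(P ⊔ Q) →* ι.range :=
      (((MulAut.conj g).toMonoidHom.comp ι).comp (Subgroup.inclusion (sup_le hP hQS))).codRestrict _
        fun x => by
          obtain ⟨s, hs, hse⟩ := hle x.2
          show (MulAut.conj g) (ι _) ∈ ι.range
          rw [show Subgroup.inclusion (sup_le hP hQS) x = s from Subtype.ext hse.symm]
          exact hs
    let ψ : ↥(P ⊔ Q) →* Ω := S.subtype.comp ((MonoidHom.ofInjective h.1).symm.toMonoidHom.comp f)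
    have hψι : ∀ (x : ↥(P ⊔ Q)) (hx : ψ x ∈ S),
        ι ⟨ψ x, hx⟩ = g * ι ⟨x, sup_le hP hQS x.2⟩ * g⁻¹ := fun x hx =>
      congrArg Subtype.val ((MonoidHom.ofInjective h.1).apply_symm_apply (f x))
    have hψ : ψ ∈ F.Hom (P ⊔ Q) :=
      (h.2 _ (sup_le hP hQS) ψ fun x => SetLike.coe_mem _).2 ⟨g, fun x => hψι x _⟩
    refine ⟨ψ, hψ, fun x => ?_, map_subgroupOf_eq_of_mapsTo hψ le_sup_right fun x hx => ?_⟩
    · exact congrArg Subtype.val (h.1 ((hψι _ (SetLike.coe_mem _)).trans (hg x).symm) :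
        (⟨ψ (Subgroup.inclusion le_sup_left x), SetLike.coe_mem _⟩ : S) = ⟨φ x, apply_mem hφ x⟩)
    · refine (hmemQ ⟨ψ x, apply_mem hψ x⟩).2 ?_
      rw [hψι x]
      exact Subgroup.Normal.conj_mem inferInstance _ ((hmemQ ⟨x, sup_le hP hQS x.2⟩).1 hx) g
  refine ⟨isSaturated_of_realized h T hT, Q, hNorm, hQS, fun R hR => ?_⟩
  obtain ⟨φ, hφ, rfl⟩ := hR
  have hr : φ.range = Q := range_eq_of_mem hφ (fun x => isNormal_apply_mem hNorm hφ x.2) le_rfl
  rw [hr]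
  intro c hc
  refine (hmemQ ⟨c, hc.1⟩).2 (hC fun o ho => ?_)
  obtain ⟨s, rfl⟩ := hOT ho
  rw [← map_mul, ← map_mul]
  exact congrArg ι (Subtype.ext ((mem_centralizerIn.1 hc).2 s ((hmemQ s).2 ho)))

end Cfsg.Agent.Lib.FS
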