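/-
Models of constrained fusion systems: uniqueness and automorphisms fixing the Sylow subgroup.
-/
import Cfsg.Agent.Lib.FusionSystem.Realized
import Cfsg.Agent.Lib.FusionSystem.Agree
import Cfsg.Agent.Lib.FusionSystem.NormalFacts
import Cfsg.Agent.Lib.FusionAlperin.Join
import Cfsg.Agent.Lib.FusionAlperin.Complement
set_option autoImplicit false

namespace Cfsg.Agent.Lib.FS

open Cfsg Cfsg.FusionSystem Cfsg.Agent.Lib

section Aut

variable {S₀ G : Type*} [Group S₀] [Group G] [Finite G] {p : ℕ} [Fact p.Prime]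

/-- An automorphism of a group of characteristic `p` fixing a Sylow subgroup pointwise. -/
theorem conj_of_fix_sylow (T : Sylow p G)
    (hC : Subgroup.centralizer ((pCore p G : Subgroup G) : Set G) ≤ pCore p G)
    (ψ : G ≃* G) (hψ : ∀ x ∈ (T : Subgroup G), ψ x = x) :
    ∃ z ∈ (T : Subgroup G), (∀ x ∈ (T : Subgroup G), z * x = x * z) ∧ ∀ g : G, ψ g = z * g * z⁻¹ := by
  classical
  set O := pCore p G with hO
  have hOT : O ≤ T := Cores.pCore_le_sylow T
  set V : Subgroup G := O ⊓ Subgroup.centralizer (O : Set G) with hV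
  haveI hVn : V.Normal := by rw [hV]; infer_instance
  let _ : CommGroup V :=
    { (inferInstance : Group V) with mul_comm := fun u v => Subtype.ext (v.2.2 u u.2.1) }
  have hfmem : ∀ g : G, ψ g * g⁻¹ ∈ V := by
    intro g
    have h1 : ψ g * g⁻¹ ∈ Subgroup.centralizer (O : Set G) := by
      intro x hx
      have hy : g⁻¹ * x * g ∈ O := by
        have := (inferInstance : O.Normal).conj_mem x hx g⁻¹
        rwa [inv_inv] at this
      have e : ψ g * (g⁻¹ * x * g) * (ψ g)⁻¹ = x := by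
        conv_rhs => rw [← hψ x (hOT hx)]
        conv_lhs => rw [← hψ _ (hOT hy)]
        simp only [map_mul, map_inv]
        group
      calc x * (ψ g * g⁻¹) = ψ g * (g⁻¹ * x * g) * (ψ g)⁻¹ * (ψ g * g⁻¹) := by rw [e]
        _ = _ := by group
    exact ⟨hC h1, h1⟩
  let f : G → V := fun g => ⟨ψ g * g⁻¹, hfmem g⟩
  let act : G → V →* V := fun g => ((MulAut.conjNormal g : MulAut V) : V ≃* V).toMonoidHom
  have hcoc : ∀ g h, f (g * h) = f g * act g (f h) := by
    intro g h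
    apply Subtype.ext
    show ψ (g * h) * (g * h)⁻¹ = ψ g * g⁻¹ * (MulAut.conjNormal g (f h) : V)
    rw [MulAut.conjNormal_apply, map_mul]
    show _ = ψ g * g⁻¹ * (g * (ψ h * h⁻¹) * g⁻¹)
    group
  have hfT : ∀ g, ∀ x ∈ (T : Subgroup G), f (g * x) = f g := by
    intro g x hx
    apply Subtype.ext
    show ψ (g * x) * (g * x)⁻¹ = ψ g * g⁻¹
    rw [map_mul, hψ x hx]; group
  let fq : G ⧸ (T : Subgroup G) → V := fun q => Quotient.liftOn' q f (by
    intro x y hxy
    rw [QuotientGroup.leftRel_apply] at hxy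
    have := hfT x _ hxy
    rwa [mul_inv_cancel_left, eq_comm] at this)
  have : Fintype (G ⧸ (T : Subgroup G)) := Fintype.ofFinite _
  let w : V := ∏ q, fq q
  set n := Fintype.card (G ⧸ (T : Subgroup G)) with hn
  have hw : ∀ g, w = f g ^ n * act g w := by
    intro g
    have e : w = ∏ q, fq (g • q) :=
      (Fintype.prod_equiv (MulAction.toPerm g) (fun q => fq (g • q)) fq (fun _ => rfl)).symm
    rw [map_prod, hn, show f g ^ Fintype.card (G ⧸ (T : Subgroup G)) = ∏ _q : G ⧸ (T : Subgroup G), f g by simp,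
      ← Finset.prod_mul_distrib]
    conv_lhs => rw [e]
    refine Finset.prod_congr rfl fun q _ => ?_
    induction q using QuotientGroup.induction_on with
    | H x => exact hcoc g x
  have hco : (Nat.card V).Coprime n := by
    obtain ⟨k, hk⟩ := IsPGroup.iff_card.1 (T.isPGroup'.to_le (inf_le_left.trans hOT) : IsPGroup p V)
    have hidx := T.not_dvd_index
    rw [Subgroup.index, Nat.card_eq_fintype_card] at hidx
    rw [hk]
    exact Nat.Coprime.pow_left k ((Fact.out : p.Prime).coprime_iff_not_dvd.2 hidx)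
  let e := powCoprime hco
  obtain ⟨z, hzw⟩ : ∃ z : V, z ^ n = w := ⟨e.symm w, e.apply_symm_apply w⟩
  have hz : ∀ g, z = f g * act g z := by
    intro g
    apply e.injective
    show z ^ n = (f g * act g z) ^ n
    rw [mul_pow, ← map_pow, hzw]
    exact hw g
  have hzg : ∀ g : G, ψ g = (z : G) * g * (z : G)⁻¹ := by
    intro g
    have h := congrArg Subtype.val (hz g)
    change (z : G) = ψ g * g⁻¹ * ((MulAut.conjNormal g z : V) : G) at h
    rw [MulAut.conjNormal_apply] at h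
    calc ψ g = ψ g * g⁻¹ * (g * (z : G) * g⁻¹) * g * (z : G)⁻¹ := by group
      _ = _ := by rw [← h]
  refine ⟨z, hOT z.2.1, fun x hx => ?_, hzg⟩
  have h := hzg x
  rw [hψ x hx] at h
  conv_rhs => rw [h]
  group

end Aut

variable {Ω : Type*} [Group Ω] {S : Subgroup Ω} [Finite S] {p : ℕ} [Fact p.Prime] {F : FusionSystem S}
variable {G : Type*} [Group G] [Finite G] {ι : S →* G}

theorem model_pCore_le_range (hM : F.IsModel p G ι) : pCore p G ≤ ι.range := by
  obtain ⟨-, -, ⟨T, hT⟩, -⟩ := hM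
  exact hT ▸ Cores.pCore_le_sylow T

/-- Preimages of normal subgroups inside the Sylow image are normal in a realised system. -/
theorem isNormal_of_realized_normal (h : F.IsRealizedBy ι) {O : Subgroup G} [O.Normal] (hOT : O ≤ ι.range) :
    F.IsNormal ((O.comap ι).map S.subtype) := by
  set Q := (O.comap ι).map S.subtype with hQ
  have hQS : Q ≤ S := Subgroup.map_subtype_le _
  haveI := finite_sub hQS
  have hmemQ : ∀ s : S, (s : Ω) ∈ Q ↔ ι s ∈ O := fun s =>
    ⟨by rintro ⟨t, ht, hte⟩; rw [← Subtype.ext hte]; exact ht, fun hs => ⟨s, hs, rfl⟩⟩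
  refine ⟨hQS, fun P φ hφ => ?_⟩
  have hP := src_le hφ
  obtain ⟨g, hg⟩ := (h.2 P hP φ (apply_mem hφ)).1 hφ
  have hle : P ⊔ Q ≤ ((ι.range.comap ((MulAut.conj g).toMonoidHom.comp ι)).map S.subtype) := by
    refine sup_le (fun x hx => ⟨⟨x, hP hx⟩, ⟨_, hg ⟨x, hx⟩⟩, rfl⟩) ?_
    rintro _ ⟨s, hs, rfl⟩
    exact ⟨s, hOT (Subgroup.Normal.conj_mem inferInstance _ (show ι s ∈ O from hs) g), rfl⟩
  let f : ↥(P ⊔ Q) →* ι.range :=
    (((MulAut.conj g).toMonoidHom.comp ι).comp (Subgroup.inclusion (sup_le hP hQS))).codRestrict _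
      fun x => by
        obtain ⟨s, hs, hse⟩ := hle x.2
        show (MulAut.conj g) (ι _) ∈ ι.range
        rw [show Subgroup.inclusion (sup_le hP hQS) x = s from Subtype.ext hse.symm]
        exact hs
  let ψ : ↥(P ⊔ Q) →* Ω := S.subtype.comp ((MonoidHom.ofInjective h.1).symm.toMonoidHom.comp f)
  have hψι : ∀ (x : ↥(P ⊔ Q)) (hx : ψ x ∈ S),
      ι ⟨ψ x, hx⟩ = g * ι ⟨x, sup_le hP hQS x.2⟩ * g⁻¹ := fun x hx =>
    congrArg Subtype.val ((MonoidHom.ofInjective h.1).apply_symm_apply (f x))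
  have hψ : ψ ∈ F.Hom (P ⊔ Q) :=
    (h.2 _ (sup_le hP hQS) ψ fun x => SetLike.coe_mem _).2 ⟨g, fun x => hψι x _⟩
  refine ⟨ψ, hψ, fun x => ?_, map_subgroupOf_eq_of_mapsTo hψ le_sup_right fun x hx => ?_⟩
  · exact congrArg Subtype.val (h.1 ((hψι _ (SetLike.coe_mem _)).trans (hg x).symm) :
      (⟨ψ (Subgroup.inclusion le_sup_left x), SetLike.coe_mem _⟩ : S) = ⟨φ x, apply_mem hφ x⟩)
  · refine (hmemQ ⟨ψ x, apply_mem hψ x⟩).2 ?_
    rw [hψι x]
    exact Subgroup.Normal.conj_mem inferInstance _ ((hmemQ ⟨x, sup_le hP hQS x.2⟩).1 hx) g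

/-- In a model, `O_p(G)` corresponds to `O_p(F)`. -/
theorem model_pCore_eq (hM : F.IsModel p G ι) :
    pCore p G = (F.core.subgroupOf S).map ι := by
  have hR := model_pCore_le_range hM
  obtain ⟨-, h, ⟨T, hT⟩, hC⟩ := hM
  have hle : ((pCore p G).comap ι).map S.subtype ≤ F.core :=
    le_core_of_isNormal (isNormal_of_realized_normal h hR)
  have hle' : pCore p G ≤ (F.core.subgroupOf S).map ι := by
    intro o ho
    obtain ⟨s, rfl⟩ := hR ho
    exact ⟨s, hle ⟨s, ho, rfl⟩, rfl⟩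
  refine le_antisymm hle' ?_
  have hn : ((F.core.subgroupOf S).map ι).Normal := by
    refine ⟨?_⟩
    rintro _ ⟨q, hq, rfl⟩ g
    obtain ⟨hRS, hRF⟩ := isNormal_of_realized_normal h (O := pCore p G) hR
    set R := ((pCore p G).comap ι).map S.subtype with hRdef
    have hconj : ∀ r : R, g * ι ⟨r, hRS r.2⟩ * g⁻¹ ∈ pCore p G := by
      rintro ⟨_, s, hs, rfl⟩
      exact (inferInstance : (pCore p G).Normal).conj_mem (ι s) hs g
    let f : R →* ι.range :=
      (((MulAut.conj g).toMonoidHom.comp ι).comp (Subgroup.inclusion hRS)).codRestrict _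
        fun r => hR (hconj r)
    let φ : R →* Ω := S.subtype.comp ((MonoidHom.ofInjective h.1).symm.toMonoidHom.comp f)
    have hφι : ∀ (x : R) (hx : φ x ∈ S), ι ⟨φ x, hx⟩ = g * ι ⟨x, hRS x.2⟩ * g⁻¹ := fun x hx =>
      congrArg Subtype.val ((MonoidHom.ofInjective h.1).apply_symm_apply (f x))
    have hφ : φ ∈ F.Hom R :=
      (h.2 _ hRS φ fun x => SetLike.coe_mem _).2 ⟨g, fun x => hφι x _⟩
    obtain ⟨ψ, hψ, hψP, -⟩ := (FusionAlperin.Join.isNormal_core F).2 R φ hφ
    obtain ⟨g', hg'⟩ := (h.2 _ (src_le hψ) ψ (apply_mem hψ)).1 hψ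
    have hc : g⁻¹ * g' ∈ Subgroup.centralizer ((pCore p G : Subgroup G) : Set G) := by
      intro o ho
      obtain ⟨s, rfl⟩ := hR ho
      have hs : (s : Ω) ∈ R := ⟨s, ho, rfl⟩
      have e1 := hg' (Subgroup.inclusion le_sup_left ⟨(s : Ω), hs⟩)
      have e2 : (⟨ψ (Subgroup.inclusion le_sup_left ⟨(s : Ω), hs⟩), apply_mem hψ _⟩ : S) =
          ⟨φ ⟨(s : Ω), hs⟩, apply_mem hφ _⟩ := Subtype.ext (hψP _)
      rw [e2, hφι] at e1
      change g * ι s * g⁻¹ = g' * ι s * g'⁻¹ at e1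
      calc ι s * (g⁻¹ * g') = g⁻¹ * (g * ι s * g⁻¹) * g' := by group
        _ = g⁻¹ * (g' * ι s * g'⁻¹) * g' := by rw [e1]
        _ = _ := by group
    obtain ⟨r, hr, hre⟩ := hle' (hC hc)
    have hg : g = g' * (ι r)⁻¹ := by rw [hre]; group
    have hq' : ((r⁻¹ * q * r : S) : Ω) ∈ F.core :=
      F.core.mul_mem (F.core.mul_mem (F.core.inv_mem hr) hq) hr
    have e1 := hg' (Subgroup.inclusion le_sup_right ⟨_, hq'⟩)
    refine ⟨⟨_, apply_mem hψ _⟩,
      isNormal_apply_mem (FusionAlperin.Join.isNormal_core F) hψ (x := Subgroup.inclusion le_sup_right (⟨_, hq'⟩ : F.core)) hq', ?_⟩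
    rw [e1, hg]
    show g' * ι (r⁻¹ * q * r) * g'⁻¹ = _
    simp only [map_mul, map_inv]
    group
  exact Cores.le_pCore ((isPGroup_of_sylow_range h T hT).map _)
where
  isPGroup_of_sylow_range (h : F.IsRealizedBy ι) (T : Sylow p G) (hT : (T : Subgroup G) = ι.range) :
      IsPGroup p (F.core.subgroupOf S) :=
    ((T.isPGroup'.of_equiv (MulEquiv.subgroupCongr hT)).of_equiv (MonoidHom.ofInjective h.1).symm).to_subgroup _

theorem model_normal_core (hM : F.IsModel p G ι) : ((F.core.subgroupOf S).map ι).Normal := by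
  rw [← model_pCore_eq hM]; infer_instance

theorem model_centralizer_core (hM : F.IsModel p G ι) {g : G}
    (hg : ∀ s : S, (s : Ω) ∈ F.core → g * ι s = ι s * g) : ∃ s : S, (s : Ω) ∈ F.core ∧ ι s = g := by
  have h : g ∈ Subgroup.centralizer ((pCore p G : Subgroup G) : Set G) := by
    intro o ho
    rw [SetLike.mem_coe, model_pCore_eq hM] at ho
    obtain ⟨s, hs, rfl⟩ := ho
    exact (hg s hs).symm
  have := hM.2.2.2 h
  rw [model_pCore_eq hM] at this
  exact this

variable {G₂ : Type*} [Group G₂] [Finite G₂] {ι₂ : S →* G₂}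

/-- Any two models are related by an injective homomorphism compatible with the Sylow embeddings. -/
theorem exists_model_hom (hS : IsPGroup p S) (h₁ : F.IsModel p G ι) (h₂ : F.IsModel p G₂ ι₂) :
    ∃ φ : G →* G₂, Function.Injective φ ∧ ∀ x : S, φ (ι x) = ι₂ x := by
  classical
  have hn₁ := model_normal_core h₁
  have hn₂ := model_normal_core h₂
  obtain ⟨-, hR₁, ⟨T, hT⟩, -⟩ := id h₁
  obtain ⟨-, hR₂, -, -⟩ := id h₂
  set Q := F.core with hQ
  let M : Subgroup (G × G₂) :=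
    { carrier := {m | ∀ q q' : S, (q : Ω) ∈ Q → (q' : Ω) ∈ Q →
        m.1 * ι q * m.1⁻¹ = ι q' → m.2 * ι₂ q * m.2⁻¹ = ι₂ q'}
      one_mem' := by
        intro q q' _ _ h
        simp only [Prod.fst_one, Prod.snd_one, one_mul, inv_one, mul_one] at h ⊢
        rw [hR₁.1 h]
      mul_mem' := by
        intro a b ha hb q q' hq hq' h
        obtain ⟨r, hr, hre⟩ := hn₁.conj_mem _ ⟨q, hq, rfl⟩ b.1
        have h2 := hb q r hq hr hre.symm
        have h1 := ha r q' hr hq' (by rw [← h, hre, Prod.fst_mul]; group)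
        rw [← h1, ← h2, Prod.snd_mul]
        group
      inv_mem' := by
        intro a ha q q' hq hq' h
        have h1 := ha q' q hq' hq (by rw [← h, Prod.fst_inv]; group)
        rw [← h1, Prod.snd_inv]
        group }
  let π : M →* G := (MonoidHom.fst G G₂).comp M.subtype
  set P := ι.range with hP
  let eι := MonoidHom.ofInjective hR₁.1
  have hmem : ∀ x : S, ((ι x, ι₂ x) : G × G₂) ∈ M := by
    intro x q q' _ _ h
    have h' : ι (x * q * x⁻¹) = ι q' := by rw [map_mul, map_mul, map_inv]; exact h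
    rw [← hR₁.1 h', map_mul, map_mul, map_inv]
  let sS : S →* M := (ι.prod ι₂).codRestrict M hmem
  let s : P →* M := sS.comp eι.symm.toMonoidHom
  have hs : ∀ x : P, π (s x) = x := fun x => congrArg Subtype.val (eι.apply_symm_apply x)
  have hs2 : ∀ (x : P) (r : S), ι r = x → s x = sS r := fun x r h => by
    show sS (eι.symm x) = sS r
    rw [MulEquiv.symm_apply_eq eι |>.2 (Subtype.ext h.symm : x = eι r)]
  have hst : FusionAlperin.Complement.IsStable π P s := by
    intro a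
    let D : Subgroup Ω := (P.comap ((MulAut.conj a).toMonoidHom.comp ι)).map S.subtype
    have hDS : D ≤ S := Subgroup.map_subtype_le _
    have hD : ∀ x : D, a * ι ⟨x, hDS x.2⟩ * a⁻¹ ∈ P := by
      rintro ⟨_, x, hx, rfl⟩; exact hx
    let f : D →* P :=
      (((MulAut.conj a).toMonoidHom.comp ι).comp (Subgroup.inclusion hDS)).codRestrict _ hD
    let φ : D →* Ω := S.subtype.comp (eι.symm.toMonoidHom.comp f)
    have hφι : ∀ (x : D) (hx : φ x ∈ S), ι ⟨φ x, hx⟩ = a * ι ⟨x, hDS x.2⟩ * a⁻¹ := fun x _ =>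
      congrArg Subtype.val (eι.apply_symm_apply (f x))
    have hφ : φ ∈ F.Hom D :=
      (hR₁.2 _ hDS φ fun x => SetLike.coe_mem _).2 ⟨a, fun x => hφι x _⟩
    obtain ⟨b, hb⟩ := (hR₂.2 D hDS φ (apply_mem hφ)).1 hφ
    have hQD : ∀ q : S, (q : Ω) ∈ Q → (q : Ω) ∈ D := by
      intro q hq
      obtain ⟨r, -, hre⟩ := hn₁.conj_mem _ ⟨q, hq, rfl⟩ a
      exact ⟨q, ⟨r, hre⟩, rfl⟩
    have hab : ((a, b) : G × G₂) ∈ M := by
      intro q q' hq _ h
      have e := hb ⟨q, hQD q hq⟩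
      rw [show (⟨φ ⟨q, hQD q hq⟩, apply_mem hφ _⟩ : S) = q' from hR₁.1 ((hφι _ _).trans h)] at e
      exact e.symm
    refine ⟨⟨_, hab⟩, rfl, fun x hx => ?_⟩
    obtain ⟨r, hr⟩ := x.2
    obtain ⟨r', hr'⟩ := hx
    rw [hs2 x r hr, hs2 _ r' hr']
    refine Subtype.ext (Prod.ext ?_ ?_)
    · show a * ι r * a⁻¹ = ι r'
      rw [hr, hr']
    · show b * ι₂ r * b⁻¹ = ι₂ r'
      have hrD : (r : Ω) ∈ D := ⟨r, ⟨r', by show ι r' = a * ι r * a⁻¹; rw [hr, hr']⟩, rfl⟩
      have e := hb ⟨r, hrD⟩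
      rw [show (⟨φ ⟨r, hrD⟩, apply_mem hφ _⟩ : S) = r' from
        hR₁.1 ((hφι _ _).trans (by rw [hr']; exact congrArg (fun z => a * z * a⁻¹) hr))] at e
      exact e.symm
  have hker : ∀ u : M, π u = 1 → ∃ z : S, (z : Ω) ∈ Q ∧ (∀ q : S, (q : Ω) ∈ Q → z * q = q * z) ∧
      (u : G × G₂) = (1, ι₂ z) := by
    intro u hu
    have h1 : ∀ q : S, (q : Ω) ∈ Q → (u : G × G₂).2 * ι₂ q = ι₂ q * (u : G × G₂).2 := by
      intro q hq
      have := u.2 q q hq hq (by rw [show (u : G × G₂).1 = 1 from hu]; group)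
      exact mul_inv_eq_iff_eq_mul.1 this
    obtain ⟨z, hz, hze⟩ := model_centralizer_core h₂ h1
    exact ⟨z, hz, fun q hq => hR₂.1 (by rw [map_mul, map_mul, hze]; exact h1 q hq),
      Prod.ext hu hze.symm⟩
  have hVp : IsPGroup p π.ker := by
    intro u
    obtain ⟨z, -, -, he⟩ := hker u u.2
    obtain ⟨k, hk⟩ := hS z
    refine ⟨k, Subtype.ext (Subtype.ext ?_)⟩
    show (u : G × G₂) ^ (p ^ k) = 1
    rw [he, Prod.pow_mk, one_pow, ← map_pow, hk, map_one]
    rfl
  haveI : Finite π.ker := inferInstance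
  have hidx : ¬ p ∣ P.index := by
    have := T.not_dvd_index
    rwa [hT] at this
  have hco : (Nat.card π.ker).Coprime P.index := by
    obtain ⟨k, hk⟩ := IsPGroup.iff_card.1 hVp
    rw [hk]
    exact Nat.Coprime.pow_left k ((Fact.out : p.Prime).coprime_iff_not_dvd.2 hidx)
  obtain ⟨σ, hσπ, hσs⟩ := FusionAlperin.Complement.exists_section_extending (π := π) (P := P) (s := s)
    (fun u v hu hv => by
      obtain ⟨z, hz, hzc, hze⟩ := hker u hu
      obtain ⟨w, hw, -, hwe⟩ := hker v hv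
      apply Subtype.ext
      rw [Subgroup.coe_mul, Subgroup.coe_mul, hze, hwe, Prod.mk_mul_mk, Prod.mk_mul_mk, ← map_mul, ← map_mul,
        hzc w hw])
    (fun u hu => ⟨((powCoprime hco).symm ⟨u, hu⟩ : π.ker), ((powCoprime hco).symm ⟨u, hu⟩).2,
      congrArg Subtype.val ((powCoprime hco).apply_symm_apply ⟨u, hu⟩)⟩)
    (fun u v hu hv h => congrArg Subtype.val
      ((powCoprime hco).injective (Subtype.ext h : powCoprime hco ⟨u, hu⟩ = powCoprime hco ⟨v, hv⟩)))
    hs hst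
  refine ⟨(MonoidHom.snd G G₂).comp (M.subtype.comp σ), ?_, fun x => ?_⟩
  · rw [injective_iff_map_eq_one]
    intro g hg
    change (σ g : G × G₂).2 = 1 at hg
    have hg1 : (σ g : G × G₂).1 = g := hσπ g
    obtain ⟨z, hz, hze⟩ := model_centralizer_core h₁ (g := g) fun q hq => by
      obtain ⟨r, hr, hre⟩ := hn₁.conj_mem _ ⟨q, hq, rfl⟩ g
      have := (σ g).2 q r hq hr (by rw [hg1]; exact hre.symm)
      rw [hg, one_mul, inv_one, mul_one] at this
      rw [← hR₂.1 this] at hre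
      exact mul_inv_eq_iff_eq_mul.1 hre.symm
    have e := hσs ⟨g, z, hze⟩
    rw [hs2 _ z hze] at e
    have : ι₂ z = 1 := by
      rw [← hg]
      exact (congrArg (fun m : M => (m : G × G₂).2) e).symm
    rw [← map_one ι₂] at this
    rw [← hze, hR₂.1 this, map_one]
  · have e := hσs ⟨ι x, x, rfl⟩
    rw [hs2 _ x rfl] at e
    exact congrArg (fun m : M => (m : G × G₂).2) e

end Cfsg.Agent.Lib.FS
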