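/-
Control of the centre and of the focal subgroup by `N_F(W(S))`.
-/
import Cfsg.Agent.Lib.FusionSystem.Control
import Cfsg.Agent.Lib.FusionSystem.ModelUnique
import Cfsg.Agent.Lib.FusionP3.Transfer
import Mathlib.GroupTheory.Focal
import Mathlib.GroupTheory.Abelianization.Defs
import Mathlib.GroupTheory.Nilpotent
set_option autoImplicit false
set_option linter.style.haveILetI false
set_option linter.unusedSectionVars false

namespace Cfsg.Agent.Lib.FS.Control

open Cfsg Cfsg.FusionSystem Cfsg.Agent.Lib Cfsg.Agent.Lib.FS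

universe u

variable {Ω : Type u} [Group Ω] {S : Subgroup Ω} [Finite S] {p : ℕ} [Fact p.Prime] {F : FusionSystem S}
variable {W : ∀ (Q : Type u) [Group Q], Subgroup Q}

theorem isFullyNormalized_of_le_normalizer {X : Subgroup Ω} (hX : X ≤ S)
    (hn : S ≤ Subgroup.normalizer (X : Set Ω)) : F.IsFullyNormalized X :=
  ⟨hX, fun Q _ => by
    rw [show normalizerIn S X = S from inf_eq_left.2 hn]
    exact Subgroup.card_le_of_le (normalizerIn_le Q)⟩

/-- Conjugation in a realising group gives a map of the system. -/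
theorem exists_map_of_conj {G : Type*} [Group G] {ι : S →* G} (h : F.IsRealizedBy ι) {B : Subgroup Ω}
    (hB : B ≤ S) (g : G) (hg : ∀ x : B, g * ι ⟨x, hB x.2⟩ * g⁻¹ ∈ ι.range) :
    ∃ φ ∈ F.Hom B, ∀ (x : B) (hx : φ x ∈ S), ι ⟨φ x, hx⟩ = g * ι ⟨x, hB x.2⟩ * g⁻¹ := by
  let f : B →* ι.range :=
    (((MulAut.conj g).toMonoidHom.comp ι).comp (Subgroup.inclusion hB)).codRestrict _ hg
  let φ : B →* Ω := S.subtype.comp ((MonoidHom.ofInjective h.1).symm.toMonoidHom.comp f)
  have hφι : ∀ (x : B) (hx : φ x ∈ S), ι ⟨φ x, hx⟩ = g * ι ⟨x, hB x.2⟩ * g⁻¹ := fun x _ =>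
    congrArg Subtype.val ((MonoidHom.ofInjective h.1).apply_symm_apply (f x))
  exact ⟨φ, (h.2 B hB φ fun x => SetLike.coe_mem _).2 ⟨g, fun x => hφι x _⟩, hφι⟩

theorem wOf_sylow (hW2 : ∀ (Q R : Type u) [Group Q] [Group R] [Finite Q], IsPGroup p Q → ∀ φ : Q ≃* R,
      (W Q).map φ.toMonoidHom = W R)
    (hS : IsPGroup p S) {G : Type u} [Group G] {ι : S →* G} (hι : Function.Injective ι) :
    wOf W ι.range = (W ↥S).map ι := by
  rw [wOf, ← hW2 ↥S ↥ι.range hS (MonoidHom.ofInjective hι), Subgroup.map_map]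
  rfl

/-- Conjugation by an element normalising `ι (W S)` gives maps of `N_F(W S)`. -/
theorem mem_normalizerHom_of_conj
    (hW2 : ∀ (Q R : Type u) [Group Q] [Group R] [Finite Q], IsPGroup p Q → ∀ φ : Q ≃* R,
      (W Q).map φ.toMonoidHom = W R)
    (hS : IsPGroup p S) {G : Type u} [Group G] {ι : S →* G} (h : F.IsRealizedBy ι) {x : S} {g : G}
    (hg : g ∈ Subgroup.normalizer (((W ↥S).map ι : Subgroup G) : Set G))
    (hx : g * ι x * g⁻¹ ∈ ι.range) :
    ∃ φ ∈ F.normalizerHom (wOf W S) (Subgroup.zpowers (x : Ω)), ∀ hxS : φ ⟨x, Subgroup.mem_zpowers _⟩ ∈ S,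
      ι ⟨φ ⟨x, Subgroup.mem_zpowers _⟩, hxS⟩ = g * ι x * g⁻¹ := by
  set P := Subgroup.zpowers (x : Ω) with hP
  have hPS : P ≤ S := Subgroup.zpowers_le.2 x.2
  have hB : P ⊔ wOf W S ≤ S := sup_le hPS (wOf_le S)
  have hgW : ∀ w : S, w ∈ W ↥S → g * ι w * g⁻¹ ∈ (W ↥S).map ι := fun w hw =>
    conj_mem_of_normalizer hg ⟨w, hw, rfl⟩
  have hval : ∀ b : ↥(P ⊔ wOf W S), g * ι ⟨b, hB b.2⟩ * g⁻¹ ∈ ι.range := by
    rintro ⟨b, hb⟩
    have hle : P ⊔ wOf W S ≤ (ι.range.comap ((MulAut.conj g).toMonoidHom.comp ι)).map S.subtype := by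
      refine sup_le (Subgroup.zpowers_le.2 ⟨x, hx, rfl⟩) ?_
      rintro _ ⟨w, hw, rfl⟩
      obtain ⟨v, -, hv⟩ := hgW w hw
      exact ⟨w, ⟨v, hv⟩, rfl⟩
    obtain ⟨w, hw, hwb⟩ := hle hb
    rwa [show (⟨b, hB hb⟩ : S) = w from Subtype.ext hwb.symm]
  obtain ⟨ψ, hψ, eψ⟩ := exists_map_of_conj h hB g hval
  obtain ⟨φ, hφ, eφ⟩ := exists_restrict hψ (le_sup_left : P ≤ P ⊔ wOf W S)
  have hn := le_normalizer_wOf hW2 hS
  haveI : Finite (wOf W S) := finite_sub (S := S) (wOf_le S)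
  refine ⟨φ, ⟨hφ, le_inf hPS (hPS.trans hn), fun y => ⟨apply_mem hφ y, hn (apply_mem hφ y)⟩, ψ, hψ,
    fun y => (eφ y).symm, map_subgroupOf_eq_of_mapsTo hψ le_sup_right fun b hb => ?_⟩, fun hxS => ?_⟩
  · obtain ⟨w, hw, hwb⟩ := hb
    obtain ⟨v, hv, hve⟩ := hgW w hw
    refine ⟨v, hv, congrArg Subtype.val (h.1 ?_ : v = ⟨ψ b, apply_mem hψ b⟩)⟩
    rw [eψ, hve, show (⟨(b : Ω), hB b.2⟩ : S) = w from Subtype.ext hwb.symm]
  · rw [show (⟨φ ⟨x, Subgroup.mem_zpowers _⟩, hxS⟩ : S) = ⟨ψ _, apply_mem hψ _⟩ from Subtype.ext (eφ _), eψ]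

/-- A normal subgroup is centric once it contains its centralizer in `S`. -/
theorem isCentric_of_isNormal {U : Subgroup Ω} (hU : F.IsNormal U) (h : centralizerIn S U ≤ U) :
    F.IsCentric U := by
  haveI := finite_sub hU.1
  refine ⟨hU.1, fun R ⟨φ, hφ, hr⟩ => ?_⟩
  have : φ.range = U := range_eq_of_mem hφ (fun x => isNormal_apply_mem hU hφ x.2) le_rfl
  rw [← hr, this]; exact h

/-- A subgroup containing a Sylow subgroup and all elements of order prime to `p` is everything. -/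
theorem eq_top_of_sylow_le {A : Type*} [Group A] [Finite A] (R : Sylow p A) {H : Subgroup A}
    (hR : (R : Subgroup A) ≤ H) (h : ∀ a : A, ¬ p ∣ orderOf a → a ∈ H) : H = ⊤ := by
  refine eq_top_iff.2 fun a _ => ?_
  set e := (orderOf a).factorization p
  set r := orderOf a / p ^ e
  have her : p ^ e * r = orderOf a := Nat.ordProj_mul_ordCompl_eq_self (orderOf a) p
  have hpr : ¬ p ∣ r := Nat.not_dvd_ordCompl Fact.out (orderOf_pos a).ne'
  let L : Subgroup A := Subgroup.closure {x | ¬ p ∣ orderOf x}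
  have hLH : L ≤ H := (Subgroup.closure_le _).2 h
  haveI : L.Normal := by
    refine ⟨fun x hx g => ?_⟩
    have hle : L ≤ L.comap (MulAut.conj g).toMonoidHom := (Subgroup.closure_le _).2 fun y hy =>
      Subgroup.subset_closure (show ¬ p ∣ orderOf ((MulAut.conj g) y) from by rwa [MulEquiv.orderOf_eq])
    exact hle hx
  have h1 : a ^ p ^ e ∈ L := Subgroup.subset_closure (show ¬ p ∣ orderOf (a ^ p ^ e) from fun hd =>
    hpr (hd.trans (orderOf_dvd_of_pow_eq_one (by rw [← pow_mul, her, pow_orderOf_eq_one]))))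
  have hT : IsPGroup p (Subgroup.zpowers (a ^ r)) := by
    rintro ⟨b, j, rfl⟩
    refine ⟨e, Subtype.ext ?_⟩
    show ((a ^ r) ^ j) ^ p ^ e = 1
    rw [← zpow_natCast, ← zpow_mul, mul_comm, zpow_mul, zpow_natCast, ← pow_mul, mul_comm, her,
      pow_orderOf_eq_one, one_zpow]
  obtain ⟨Q, hQ⟩ := hT.exists_le_sylow
  obtain ⟨g, hg⟩ := MulAction.exists_smul_eq A Q R
  have h2 : g * a ^ r * g⁻¹ ∈ H := hR (by
    rw [← hg, Sylow.coe_subgroup_smul]
    exact Subgroup.smul_mem_pointwise_smul _ (MulAut.conj g) _ (hQ (Subgroup.mem_zpowers _)))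
  -- `H` contains a conjugate of `a^r` and the normal subgroup `L` with `p`-group quotient
  have hg' : ∀ x : A, x ^ p ^ (orderOf x).factorization p ∈ L := fun x => by
    refine Subgroup.subset_closure fun hd => Nat.not_dvd_ordCompl Fact.out (orderOf_pos x).ne' (hd.trans ?_)
    refine orderOf_dvd_of_pow_eq_one ?_
    rw [← pow_mul, Nat.ordProj_mul_ordCompl_eq_self, pow_orderOf_eq_one]
  have hA : IsPGroup p (A ⧸ L) := fun x => by
    induction x using QuotientGroup.induction_on with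
    | H x => exact ⟨_, by rw [← QuotientGroup.mk_pow]; exact (QuotientGroup.eq_one_iff _).2 (hg' x)⟩
  have hR' : ((R : Subgroup A).map (QuotientGroup.mk' L)) = ⊤ := by
    have hsurj := QuotientGroup.mk'_surjective L
    have := (R.mapSurjective hsurj)
    obtain ⟨T, hT⟩ : ∃ T : Sylow p (A ⧸ L), (T : Subgroup (A ⧸ L)) = (R : Subgroup A).map (QuotientGroup.mk' L) :=
      ⟨R.mapSurjective hsurj, rfl⟩
    rw [← hT]
    exact Subgroup.card_eq_iff_eq_top _ |>.1 (T.card_eq_multiplicity.trans (by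
      obtain ⟨k, hk⟩ := IsPGroup.iff_card.1 hA
      rw [hk, Nat.factorization_pow, Finsupp.smul_apply, Nat.Prime.factorization_self Fact.out,
        smul_eq_mul, mul_one]))
  obtain ⟨y, hy, hye⟩ := hR'.ge (Subgroup.mem_top (a : A ⧸ L))
  have h3 : y⁻¹ * a ∈ L := QuotientGroup.eq.1 hye
  have := H.mul_mem (hR hy) (hLH h3)
  rwa [mul_inv_cancel_left] at this

/-! ### The centre -/

/-- The maps fixing `z`. -/
def Fixes (z : Ω) (P : Subgroup Ω) (φ : P →* Ω) : Prop := ∀ x : P, (x : Ω) = z → φ x = z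

theorem isMapClass_fixes (F : FusionSystem S) (z : Ω) : IsMapClass F (Fixes z) := by
  refine ⟨?_, ?_⟩
  · intro P Q φ ψ χ _ _ hv hχ h₁ h₂ x hx
    rw [hχ]; exact h₂ _ (h₁ x hx)
  · intro P Q φ ψ hle _ he h x hx
    rw [he]; exact h _ hx

theorem fixes_all (hW1 : ∀ (Q : Type u) [Group Q] [Finite Q], IsPGroup p Q → Nontrivial Q → W Q ≠ ⊥)
    (hW2 : ∀ (Q R : Type u) [Group Q] [Group R] [Finite Q], IsPGroup p Q → ∀ φ : Q ≃* R,
      (W Q).map φ.toMonoidHom = W R)
    (hC : ∀ (G : Type u) [Group G] [Finite G] (P : Sylow p G), pCore p G ⊓ Subgroup.center G =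
      pCore p G ⊓ (Subgroup.center ↥(Subgroup.normalizer (wOf W (P : Subgroup G) : Set G))).map
        (Subgroup.normalizer (wOf W (P : Subgroup G) : Set G)).subtype) :
    ∀ (n m : ℕ) {Ω : Type u} [Group Ω] {S : Subgroup Ω} [Finite S] (F : FusionSystem S),
      Nat.card S = n → homCount F = m → IsPGroup p S → F.IsSaturated p →
      ∀ z ∈ S, (∀ x ∈ S, x * z = z * x) → NormMaps F (wOf W S) (Fixes z) → AllMaps F (Fixes z) := by
  intro n
  induction n using Nat.strong_induction_on with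
  | _ n ihn =>
  intro m
  induction m using Nat.strong_induction_on with
  | _ m ihm =>
  intro Ω _ S _ F hn hm hS hF z hzS hzc hN
  have IH : ∀ (T : Subgroup Ω) (E : FusionSystem T), IsPGroup p T → E.IsSaturated p →
      (Nat.card T < Nat.card S ∨ (T = S ∧ homCount E < homCount F)) → z ∈ T → T ≤ S →
      NormMaps E (wOf W T) (Fixes z) → AllMaps E (Fixes z) := by
    intro T E hT hE hlt hzT hTS h
    haveI := finite_sub hTS
    rcases hlt with hlt | ⟨rfl, hlt⟩
    · exact ihn _ (hn ▸ hlt) _ E rfl rfl hT hE z hzT (fun x hx => hzc x (hTS hx)) h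
    · exact ihm _ (hm ▸ hlt) E hn rfl hT hE z hzT (fun x hx => hzc x hx) h
  have hM := isMapClass_fixes F z
  have hzn : ∀ H : Subgroup Ω, H ≤ S → z ∈ normalizerIn S H := fun H hH => ⟨hzS, by
    haveI := finite_sub hH
    refine mem_normalizer_of_conj_mem fun x hx => ?_
    rw [← hzc x (hH hx), mul_inv_cancel_right]; exact hx⟩
  -- systems of normalizers of subgroups which are not normal
  have hsys : ∀ H : Subgroup Ω, H ≤ S → S ≤ Subgroup.normalizer (H : Set Ω) → ¬ F.IsNormal H →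
      NormMaps F H (Fixes z) := by
    intro H hH hSH hnn
    obtain ⟨E, hE⟩ := exists_normalizerSystem F hH
    have heq : normalizerIn S H = S := inf_eq_left.2 hSH
    have hall := IH _ E (isPGroup_of_le hS (normalizerIn_le H))
      (normalizerSystem_isSaturated hS hF (isFullyNormalized_of_le_normalizer hH hSH) hE)
      (normalizerSystem_lt hH hE (Or.inr hnn)) (hzn H hH) (normalizerIn_le H) (fun P φ hφ => hN P φ (by
        rw [show wOf W (normalizerIn S H) = wOf W S by rw [heq]] at hφ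
        exact normalizerHom_sub (normalizerIn_le H) (fun P φ h => ((hE P).le h).1) _ _ hφ))
    exact fun P φ hφ => hall P φ ((hE P).ge hφ)
  by_cases hcore : F.core = ⊥
  · refine maps_of_core_eq_bot hS hF hW1 hW2 hM hcore hN fun H hH E hE hlt hNE => ?_
    exact IH _ E (isPGroup_of_le hS (normalizerIn_le H)) (normalizerSystem_isSaturated hS hF hH hE)
      (normalizerSystem_lt hH.1 hE hlt) (hzn H hH.1) (normalizerIn_le H) hNE
  set U := F.core with hUdef
  have hU : F.IsNormal U := FusionAlperin.Join.isNormal_core F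
  by_cases hcen : centralizerIn S U ≤ U
  · -- constrained: read the centre in a model
    obtain ⟨G, _, ι, hM'⟩ := FusionAlperin.Model.exists_model_of_constrained hS
      (⟨hF, U, hU, isCentric_of_isNormal hU hcen⟩ : F.IsConstrained p)
    obtain ⟨hfin, hr, ⟨T, hT⟩, hCO⟩ := id hM'
    haveI := hfin
    have hW' : wOf W (T : Subgroup G) = (W ↥S).map ι := by rw [hT]; exact wOf_sylow hW2 hS hr.1
    have hzO : ι ⟨z, hzS⟩ ∈ pCore p G := hCO fun o ho => by
      obtain ⟨s, rfl⟩ := model_pCore_le_range hM' ho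
      rw [← map_mul, ← map_mul]
      exact congrArg ι (Subtype.ext (hzc s s.2))
    have hTN : ι ⟨z, hzS⟩ ∈ Subgroup.normalizer (wOf W (T : Subgroup G) : Set G) := by
      haveI : Finite (T : Subgroup G) := inferInstance
      exact le_normalizer_wOf hW2 T.isPGroup' (hT.ge ⟨_, rfl⟩)
    have hmem : ι ⟨z, hzS⟩ ∈ pCore p G ⊓ Subgroup.center G := by
      rw [hC G T]
      refine ⟨hzO, ⟨⟨_, hTN⟩, Subgroup.mem_center_iff.2 fun g => Subtype.ext ?_, rfl⟩⟩
      show (g : G) * ι ⟨z, hzS⟩ = ι ⟨z, hzS⟩ * g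
      have hgmem : (g : G) ∈ Subgroup.normalizer (((W ↥S).map ι : Subgroup G) : Set G) := hW' ▸ g.2
      have hrange : (g : G) * ι ⟨z, hzS⟩ * (g : G)⁻¹ ∈ ι.range :=
        model_pCore_le_range hM' ((inferInstance : (pCore p G).Normal).conj_mem _ hzO g)
      obtain ⟨φ, hφ, eφ⟩ := mem_normalizerHom_of_conj hW2 hS hr hgmem hrange
      have e := hN _ φ hφ ⟨z, Subgroup.mem_zpowers _⟩ rfl
      have e' := eφ (apply_mem hφ.1 _)
      rw [show (⟨φ ⟨z, Subgroup.mem_zpowers _⟩, apply_mem hφ.1 _⟩ : S) = ⟨z, hzS⟩ from Subtype.ext e] at e'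
      exact (mul_inv_eq_iff_eq_mul.1 e'.symm)
    intro P φ hφ x hx
    obtain ⟨g, hg⟩ := (hr.2 P (src_le hφ) φ (apply_mem hφ)).1 hφ
    have e := hg x
    rw [show (⟨(x : Ω), src_le hφ x.2⟩ : S) = ⟨z, hzS⟩ from Subtype.ext hx,
      Subgroup.mem_center_iff.1 hmem.2 g, mul_inv_cancel_right] at e
    exact congrArg Subtype.val (hr.1 e)
  -- `U C_S(U)` is not normal
  set D := U ⊔ centralizerIn S U with hD
  have hDS : D ≤ S := sup_le hU.1 (centralizerIn_le U)
  have hUn := isNormal_le_normalizer hU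
  have hDn : NormMaps F D (Fixes z) := by
    refine hsys D hDS (fun s hs => ?_) fun h => hcen (le_sup_right.trans (le_core_of_isNormal h))
    haveI := finite_sub hDS
    have h1 : D ≤ D.comap (MulAut.conj s).toMonoidHom := by
      refine sup_le (fun x hx => Subgroup.mem_sup_left (conj_mem_of_normalizer (hUn hs) hx))
        (fun c hc => Subgroup.mem_sup_right ⟨S.mul_mem (S.mul_mem hs hc.1) (S.inv_mem hs), fun x hx => ?_⟩)
      have h := hc.2 _ (conj_inv_mem_of_normalizer (hUn hs) hx)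
      show x * (s * c * s⁻¹) = s * c * s⁻¹ * x
      calc x * (s * c * s⁻¹) = s * ((s⁻¹ * x * s) * c) * s⁻¹ := by group
        _ = _ := by rw [h]; group
    exact mem_normalizer_of_conj_mem fun x hx => h1 hx
  obtain ⟨K, hKs, hKsub, hKext, hKmem⟩ := exists_kBase hS hF hU
  by_cases hKF : ∃ P φ, φ ∈ F.Hom P ∧ φ ∉ K.Hom P
  · refine maps_of_decomp hS hF hM hU hDn fun P φ hφ hUP hfix => ?_
    refine IH S K hS hKs (Or.inr ⟨rfl, homCount_lt rfl hKsub hKF⟩) hzS le_rfl
      (fun P φ h => hN P φ (normalizerHom_sub le_rfl hKsub _ _ h)) P φ (hKmem P φ hφ hUP ⟨1, S.one_mem, fun x hx => ?_⟩)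
    rw [hfix x hx]; group
  push_neg at hKF
  -- the factor system
  obtain ⟨Ω', _, θ, F', hθ, hker, hfin', hp', hsat', hfac, hlt'⟩ :=
    exists_factor hS hF (isNormal_stronglyClosed hU) hcore
  haveI := hfin'
  have hall' : AllMaps F' (Fixes (θ ⟨z, hzS⟩)) := by
    refine ihn _ (hn ▸ hlt') _ F' rfl rfl hp' hsat' _ (Subgroup.mem_top _) (fun x _ => ?_) ?_
    · obtain ⟨s, rfl⟩ := hθ x
      rw [← map_mul, ← map_mul]
      exact congrArg θ (Subtype.ext (hzc s s.2))
    intro P' φ' hφ' x' hx'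
    by_cases htop : (⊤ : Subgroup Ω') = ⊥
    · have h1 : ∀ y : Ω', y = 1 := fun y => Subgroup.mem_bot.1 (htop ▸ Subgroup.mem_top y)
      rw [h1 (φ' x'), h1 (θ ⟨z, hzS⟩)]
    set X := preimageAlong θ (wOf W (⊤ : Subgroup Ω')) with hX
    have hXS : X ≤ S := preimageAlong_le θ _
    have hXn : S ≤ Subgroup.normalizer (X : Set Ω) := fun s hs => by
      haveI := finite_sub hXS
      refine mem_normalizer_of_conj_mem ?_
      rintro _ ⟨x, hx, rfl⟩
      refine ⟨⟨s, hs⟩ * x * (⟨s, hs⟩ : S)⁻¹, ?_, rfl⟩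
      show θ _ ∈ wOf W ⊤
      rw [map_mul, map_mul, map_inv]
      exact conj_mem_of_normalizer (le_normalizer_wOf hW2 hp' (Subgroup.mem_top _)) hx
    have hXnn : ¬ F.IsNormal X := by
      intro h
      refine wOf_ne_bot hW1 hp' htop (le_bot_iff.1 fun y hy => ?_)
      obtain ⟨s, rfl⟩ := hθ y
      exact Subgroup.mem_bot.2 ((hker s).2 (le_core_of_isNormal h ⟨s, hy, rfl⟩))
    obtain ⟨φ, hφ, hind⟩ := normalizerHom_lift hS hF (isNormal_stronglyClosed hU) hfac le_top hXn hφ'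
    obtain ⟨hP, hv, hm', e⟩ := hind
    have hzP : z ∈ preimageAlong θ P' := ⟨⟨z, hzS⟩, by show θ _ ∈ P'; rw [← hx']; exact x'.2, rfl⟩
    have h2 := hsys X hXS hXn hXnn _ φ hφ ⟨z, hzP⟩ rfl
    have h3 := e ⟨z, hzP⟩
    rw [show (⟨φ ⟨z, hzP⟩, hv _⟩ : S) = ⟨z, hzS⟩ from Subtype.ext h2] at h3
    exact (congrArg φ' (Subtype.ext hx')).trans h3
  intro P φ hφ
  refine FusionP3.Induction.hom_induction hS hF hM.comp hM.restrict (fun Q hQn hc hr α hα _ => ?_) P φ hφ
  intro x hx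
  show (α x : Ω) = z
  have hQS := hQn.1
  haveI := finite_sub hQS
  haveI : Finite (MulAut Q) := Finite.of_injective (fun f : MulAut Q => (f : Q → Q)) DFunLike.coe_injective
  have hUQ : U ≤ Q := isNormal_le_centricRadical hS hU hc hr
  set A := F.autGroup Q
  let A₀ : Subgroup A :=
    { carrier := {a | (a : MulAut Q) x = x}
      one_mem' := rfl
      mul_mem' := fun {a b} ha hb => by
        show (a : MulAut Q) ((b : MulAut Q) x) = x
        rw [show (b : MulAut Q) x = x from hb, show (a : MulAut Q) x = x from ha]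
      inv_mem' := fun {a} ha => by
        show (a : MulAut Q)⁻¹ x = x
        conv_lhs => rw [← (show (a : MulAut Q) x = x from ha)]
        exact MulAut.inv_apply_self _ _ x }
  obtain ⟨-, R, hR⟩ := fullyAutomized_of_fullyNormalized hS hF hQn
  have htop : A₀ = ⊤ := by
    refine eq_top_of_sylow_le R (fun a ha => ?_) fun a ha => ?_
    · rw [hR, Subgroup.mem_subgroupOf, mem_autInducedBy] at ha
      obtain ⟨g, hg, hga⟩ := ha
      refine Subtype.ext ?_
      rw [hga, hx, hzc g hg, mul_inv_cancel_right]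
    -- elements of order prime to `p`
    obtain ⟨ψ, hψ, -, eψ⟩ := exists_hom_of_aut hQS a.2
    obtain ⟨ψ', hψ', eψ', g, hg, eg⟩ := hKext Q ψ (hKF Q ψ hψ)
    have hU' : ∀ u : Q, (u : Ω) ∈ U → (((a : MulAut Q) u : Q) : Ω) = g * u * g⁻¹ := fun u hu => by
      rw [← eψ, ← eψ']
      exact (congrArg ψ' (Subtype.ext rfl)).trans (eg ⟨u, hu⟩)
    obtain ⟨k, hk⟩ := hS ⟨g, hg⟩
    have hg1 : g ^ p ^ k = 1 := congrArg Subtype.val hk
    have hpow : ∀ (j : ℕ) (u : Q), (u : Ω) ∈ U → (((((a : MulAut Q)) ^ j) u : Q) : Ω) = g ^ j * u * (g ^ j)⁻¹ := by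
      intro j
      induction j with
      | zero => intro u _; simp
      | succ j ih =>
        intro u hu
        rw [pow_succ, MulAut.mul_apply, ih _ ?_, hU' u hu, pow_succ]
        · group
        · rw [hU' u hu]; exact conj_mem_of_normalizer (isNormal_le_normalizer hU hg) hu
    have hpk : ∀ u : Q, (u : Ω) ∈ U → ((a : MulAut Q) ^ p ^ k) u = u := fun u hu => Subtype.ext (by
      rw [hpow _ u hu, hg1, inv_one, mul_one, one_mul])
    have hfix : ∀ u : Q, (u : Ω) ∈ U → (a : MulAut Q) u = u := by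
      intro u hu
      have hco : (orderOf a).Coprime (p ^ k) :=
        ((Nat.Prime.coprime_iff_not_dvd Fact.out).2 ha).symm.pow_right k
      obtain ⟨m', hm'⟩ := exists_pow_eq_self_of_coprime (x := a) (n := p ^ k) hco.symm
      have e : ((a : MulAut Q) ^ p ^ k) ^ m' = (a : MulAut Q) := congrArg Subtype.val hm'
      rw [← e]
      clear e hm'
      induction m' with
      | zero => simp
      | succ j ih => rw [pow_succ, MulAut.mul_apply, hpk u hu, ih]
    -- `z` moves inside `z U`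
    have hzU : (x : Ω)⁻¹ * (((a : MulAut Q) x : Q) : Ω) ∈ U := by
      obtain ⟨φ', hφ', hQ, hv, hm', e⟩ :=
        (factor_isSurjectiveMorphism hS hF (isNormal_stronglyClosed hU) hfac).1.2 Q ψ hψ
      have h1 := hall' _ φ' hφ' ⟨_, hm' x⟩ (congrArg θ (Subtype.ext hx))
      rw [e x] at h1
      refine (hker (⟨x, hQ x.2⟩⁻¹ * ⟨(((a : MulAut Q) x : Q) : Ω), hQS (SetLike.coe_mem _)⟩)).1 ?_
      rw [map_mul, map_inv, show (⟨(((a : MulAut Q) x : Q) : Ω), hQS (SetLike.coe_mem _)⟩ : S) = ⟨ψ x, hv x⟩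
        from Subtype.ext (eψ x).symm, h1, show (⟨(x : Ω), hQ x.2⟩ : S) = ⟨z, hzS⟩ from Subtype.ext hx,
        inv_mul_cancel]
    set u : Q := x⁻¹ * (a : MulAut Q) x with hu
    have hiter : ∀ j : ℕ, ((a : MulAut Q) ^ j) x = x * u ^ j := by
      intro j
      induction j with
      | zero => simp
      | succ j ih =>
        rw [pow_succ', MulAut.mul_apply, ih, map_mul, map_pow, hfix u hzU, pow_succ' u,
          show (a : MulAut Q) x = x * u by rw [hu, mul_inv_cancel_left], mul_assoc]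
    have hu1 : u ^ orderOf a = 1 := by
      have h1 := hiter (orderOf a)
      rw [← SubmonoidClass.coe_pow, pow_orderOf_eq_one] at h1
      exact mul_left_cancel (h1.symm.trans (mul_one x).symm)
    obtain ⟨l, hl⟩ := isPGroup_of_le hS hQS u
    have hu2 : u = 1 := by
      rw [← pow_one u, ← (((Nat.Prime.coprime_iff_not_dvd Fact.out).2 ha).pow_left l)]
      exact pow_gcd_eq_one.2 ⟨hl, hu1⟩
    show (a : MulAut Q) x = x
    exact (inv_mul_eq_one.1 hu2).symm
  have h := (htop ▸ Subgroup.mem_top _ : (⟨α, hα⟩ : A) ∈ A₀)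
  exact (congrArg Subtype.val (h : α x = x)).trans hx

/-! ### The focal subgroup -/

/-- The maps moving elements within `X`. -/
def MovesIn (X : Subgroup Ω) (P : Subgroup Ω) (φ : P →* Ω) : Prop := ∀ x : P, (x : Ω)⁻¹ * φ x ∈ X

theorem isMapClass_movesIn (F : FusionSystem S) (X : Subgroup Ω) : IsMapClass F (MovesIn X) := by
  refine ⟨?_, ?_⟩
  · intro P Q φ ψ χ _ _ hv hχ h₁ h₂ x
    have := X.mul_mem (h₁ x) (h₂ ⟨φ x, hv x⟩)
    rw [hχ]
    convert this using 1
    group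
  · intro P Q φ ψ hle _ he h x
    rw [he]; exact h ⟨x, hle x.2⟩

end Cfsg.Agent.Lib.FS.Control
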