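/-
`F_{S ∩ H}(H)` for a normal subgroup `H` of `G` is a normal subsystem of `F_S(G)`.
-/
import Cfsg.Agent.Lib.FusionSystem.Realized
set_option autoImplicit false

namespace Cfsg.Agent.Lib.FS

open Cfsg Cfsg.FusionSystem
open scoped Pointwise

variable {G : Type*} [Group G]

theorem fusionSystemOfSubgroup_realizedBy (H T : Subgroup G) (hTH : T ≤ H) :
    (fusionSystemOfSubgroup H T hTH).IsRealizedBy (Subgroup.inclusion hTH) := by
  refine ⟨Subgroup.inclusion_injective hTH, fun P hP φ hφ => ⟨?_, ?_⟩⟩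
  · rintro ⟨-, -, g, hg, e⟩
    exact ⟨⟨g, hg⟩, fun x => Subtype.ext (e x)⟩
  · rintro ⟨g, e⟩
    exact ⟨hP, hφ, g, g.2, fun x => congrArg Subtype.val (e x)⟩

theorem fusionSystemOfSubgroup_autGroup {H T Q : Subgroup G} (hTH : T ≤ H) (hQ : Q ≤ T) :
    (fusionSystemOfSubgroup H T hTH).autGroup Q = autInducedBy H Q := by
  ext α
  rw [mem_autGroup hQ, mem_autInducedBy]
  constructor
  · rintro ⟨-, -, g, hgH, hg⟩; exact ⟨g, hgH, hg⟩
  · rintro ⟨g, hgH, hg⟩; exact ⟨hQ, fun x => hQ (α x).2, g, hgH, hg⟩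

variable [Finite G] {p : ℕ} [Fact p.Prime]

/-- A Sylow subgroup meets a normal subgroup in a Sylow subgroup. -/
theorem exists_sylow_inf_normal (S : Sylow p G) (H : Subgroup G) [H.Normal] :
    ∃ R : Sylow p H, (R : Subgroup H) = ((S : Subgroup G) ⊓ H).subgroupOf H := by
  set D : Sylow p H := default
  refine exists_sylow_of_card_ge inf_le_right (isPGroup_of_le S.isPGroup' inf_le_left) D ?_
  obtain ⟨Q, hQ⟩ := (D.isPGroup'.map H.subtype).exists_le_sylow
  obtain ⟨g, hg⟩ := MulAction.exists_smul_eq G Q S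
  refine Nat.card_le_card_of_injective (fun t : D =>
    (⟨g * ((t : H) : G) * g⁻¹, ?_, ‹H.Normal›.conj_mem _ (t : H).2 g⟩ : ↥((S : Subgroup G) ⊓ H))) ?_
  · rw [← hg]
    exact Subgroup.smul_mem_pointwise_smul _ (MulAut.conj g) _ (hQ ⟨t, t.2, rfl⟩)
  · intro s t h
    exact Subtype.ext (Subtype.ext (mul_left_cancel (mul_right_cancel
      (congrArg (fun z : ↥((S : Subgroup G) ⊓ H) => (z : G)) h))))

theorem fusionSystemOfSubgroup_isSaturated {H T : Subgroup G} (hTH : T ≤ H)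
    (R : Sylow p H) (hR : (R : Subgroup H) = T.subgroupOf H) :
    (fusionSystemOfSubgroup H T hTH).IsSaturated p :=
  isSaturated_of_realized (fusionSystemOfSubgroup_realizedBy H T hTH) R
    (by rw [hR, Subgroup.inclusion_range])

/-- The sylow intersection is strongly closed, so fully normalised. -/
theorem stronglyClosed_inf_normal (S : Sylow p G) (H : Subgroup G) [hH : H.Normal] :
    (groupFusionSystem (S : Subgroup G)).StronglyClosed ((S : Subgroup G) ⊓ H) := by
  refine ⟨inf_le_left, fun R hR φ hφ x => ⟨hφ.2.1 x, ?_⟩⟩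
  obtain ⟨g, hg⟩ := hφ.2.2
  show φ x ∈ H
  rw [hg]
  exact hH.conj_mem _ (hR x.2).2 g

theorem invariant_inf_normal (S : Sylow p G) (H : Subgroup G) [hH : H.Normal] :
    (fusionSystemOfSubgroup H ((S : Subgroup G) ⊓ H) inf_le_right).IsInvariantIn
      (groupFusionSystem (S : Subgroup G)) := by
  set T := (S : Subgroup G) ⊓ H with hT
  have hTS : T ≤ S := inf_le_left
  refine ⟨fun P φ h => ?_, stronglyClosed_inf_normal S H, ?_, ?_⟩
  · exact ⟨h.1.trans hTS, fun x => hTS (h.2.1 x), h.2.2.imp fun g hg => hg.2⟩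
  · intro P hPT φ hφ α hα
    rw [group_autGroup hTS, mem_autInducedBy] at hα
    obtain ⟨g, -, hg⟩ := hα
    obtain ⟨-, hφT, h, hh, hφh⟩ := hφ
    set P' := (P.subgroupOf T).map (T.subtype.comp α.toMonoidHom) with hP'
    have key : ∀ (x : P), g * h * g⁻¹ * ((α ⟨x, hPT x.2⟩ : T) : G) * (g * h * g⁻¹)⁻¹ =
        ((α ⟨φ x, hφT x⟩ : T) : G) := by
      intro x
      rw [hg, hg]; show g * h * g⁻¹ * (g * (x : G) * g⁻¹) * _ = g * φ x * g⁻¹
      rw [hφh]; group
    refine ⟨conjHom P' (g * h * g⁻¹), ⟨?_, ?_, g * h * g⁻¹, hH.conj_mem _ hh g, fun _ => rfl⟩, ?_⟩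
    · rintro _ ⟨y, -, rfl⟩; exact (α y).2
    · rintro ⟨_, y, hy, rfl⟩
      show g * h * g⁻¹ * ((α y : T) : G) * (g * h * g⁻¹)⁻¹ ∈ T
      have := key ⟨y, hy⟩
      rw [show (⟨((⟨(y : G), hy⟩ : P) : G), hPT hy⟩ : T) = y from rfl] at this
      rw [this]
      exact (α _).2
    · intro x hφx hαx
      exact key x
  · intro P hPT φ hφ
    obtain ⟨-, hφS, g, hg⟩ := hφ
    obtain ⟨R, hR⟩ := exists_sylow_inf_normal S H
    have hmap : (R : Subgroup H).map H.subtype = T := by
      rw [hR, Subgroup.map_subgroupOf_eq_of_le]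
      exact inf_le_right
    have hG : g ∈ ((Subgroup.normalizer (T : Set G) ⊔ H : Subgroup G) : Set G) := by
      have := Sylow.normalizer_sup_eq_top R
      rw [hmap] at this
      rw [this]; exact Subgroup.mem_top g
    rw [Subgroup.mul_normal] at hG
    obtain ⟨n, hn, h, hh, rfl⟩ := hG
    have hn' : ∀ x ∈ T, n * x * n⁻¹ ∈ T := fun x hx => conj_mem_of_normalizer hn hx
    have hφT : ∀ x : P, h * (x : G) * h⁻¹ ∈ T := by
      intro x
      have hxT : φ x ∈ T := ⟨hφS x, by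
        show φ x ∈ H
        rw [hg]; exact hH.conj_mem _ (hPT x.2).2 _⟩
      have := conj_inv_mem_of_normalizer hn hxT
      rw [hg] at this
      convert this using 1
      group
    obtain ⟨α, hα⟩ : ∃ α : MulAut T, ∀ x : T, ((α x : T) : G) = n * x * n⁻¹ := by
      refine ⟨{ toFun := fun x => ⟨n * x * n⁻¹, hn' x x.2⟩
                invFun := fun x => ⟨n⁻¹ * x * n, conj_inv_mem_of_normalizer hn x.2⟩
                left_inv := fun x => Subtype.ext (by show n⁻¹ * (n * (x : G) * n⁻¹) * n = x; group)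
                right_inv := fun x => Subtype.ext (by show n * (n⁻¹ * (x : G) * n) * n⁻¹ = x; group)
                map_mul' := fun x y => Subtype.ext (by
                  show n * ((x : G) * y) * n⁻¹ = n * x * n⁻¹ * (n * y * n⁻¹); group) }, fun x => rfl⟩
    refine ⟨α, ?_, conjHom P h, ⟨hPT, hφT, h, hh, fun _ => rfl⟩, fun x hx => ?_⟩
    · rw [group_autGroup hTS, mem_autInducedBy]; exact ⟨n, trivial, hα⟩
    · rw [hα, hg]
      show n * h * (x : G) * (n * h)⁻¹ = n * (h * (x : G) * h⁻¹) * n⁻¹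
      group

theorem isNormalIn_inf_normal (S : Sylow p G) (H : Subgroup G) [hH : H.Normal] :
    (fusionSystemOfSubgroup H ((S : Subgroup G) ⊓ H) inf_le_right).IsNormalIn
      (groupFusionSystem (S : Subgroup G)) p := by
  obtain ⟨R, hR⟩ := exists_sylow_inf_normal S H
  refine ⟨⟨fusionSystemOfSubgroup_isSaturated _ R hR, isSaturated_group S,
    invariant_inf_normal S H⟩, fun α hα => ?_⟩
  set T := (S : Subgroup G) ⊓ H with hT
  have hTS : T ≤ S := inf_le_left
  rw [fusionSystemOfSubgroup_autGroup inf_le_right le_rfl, mem_autInducedBy] at hα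
  obtain ⟨h, hhH, hα⟩ := hα
  have hhN : h ∈ Subgroup.normalizer (T : Set G) := mem_normalizer_of_aut hα
  set C := centralizerIn (S : Subgroup G) T with hC
  set Z := Subgroup.centralizer (T : Set G) with hZ
  have hnorm : (S : Subgroup G) ≤ Subgroup.normalizer (T : Set G) :=
    stronglyClosed_le_normalizer (stronglyClosed_inf_normal S H)
  have hfc : ∃ Q : Sylow p ↥Z, (Q : Subgroup _) = C.subgroupOf Z := by
    refine sylow_centralizer_of_normalizer S ?_
    refine exists_sylow_of_card_ge inf_le_right (isPGroup_of_le S.isPGroup' inf_le_left) default ?_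
    rw [show normalizerIn (S : Subgroup G) T = S from inf_eq_left.2 hnorm]
    have hd := ((default : Sylow p ↥(Subgroup.normalizer (T : Set G))).isPGroup'.map
      (Subgroup.normalizer (T : Set G)).subtype)
    obtain ⟨U, hU⟩ := hd.exists_le_sylow
    calc Nat.card (default : Sylow p ↥(Subgroup.normalizer (T : Set G)))
        = Nat.card ((default : Sylow p ↥(Subgroup.normalizer (T : Set G))).map
          (Subgroup.normalizer (T : Set G)).subtype : Subgroup G) :=
          Nat.card_congr (Subgroup.equivMapOfInjective _ _ (Subgroup.subtype_injective _)).toEquiv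
      _ ≤ Nat.card U := Subgroup.card_le_of_le hU
      _ = Nat.card S := by rw [Sylow.card_eq_multiplicity, Sylow.card_eq_multiplicity]
  obtain ⟨Q, hQ⟩ := hfc
  set K := H ⊓ Z with hK
  have hCK : C ≤ Subgroup.normalizer (K : Set G) := fun c hc =>
    mem_normalizer_of_conj_mem fun x hx =>
      ⟨hH.conj_mem _ hx.1 c, Z.mul_mem (Z.mul_mem hc.2 hx.2) (Z.inv_mem hc.2)⟩
  set D := K ⊔ C with hD
  have hDZ : D ≤ Z := sup_le inf_le_right inf_le_right
  have hQD : (C.subgroupOf D).map D.subtype = C := Subgroup.map_subgroupOf_eq_of_le le_sup_right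
  obtain ⟨Q', hQ'⟩ : ∃ Q' : Sylow p ↥D, (Q' : Subgroup _) = C.subgroupOf D := by
    refine exists_sylow_of_card_ge le_sup_right (isPGroup_of_le S.isPGroup' inf_le_left) default ?_
    have h1 := ((default : Sylow p ↥D).isPGroup'.map (Subgroup.inclusion hDZ)).exists_le_sylow
    obtain ⟨U, hU⟩ := h1
    calc Nat.card (default : Sylow p ↥D)
        = Nat.card ((default : Sylow p ↥D).map (Subgroup.inclusion hDZ) : Subgroup Z) :=
          Nat.card_congr (Subgroup.equivMapOfInjective _ _ (Subgroup.inclusion_injective _)).toEquiv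
      _ ≤ Nat.card U := Subgroup.card_le_of_le hU
      _ = Nat.card Q := by rw [Sylow.card_eq_multiplicity, Sylow.card_eq_multiplicity]
      _ = Nat.card C := by
          rw [hQ]; exact Nat.card_congr (Subgroup.subgroupOfEquivOfLe inf_le_right).toEquiv
  have hdiff : ∀ c ∈ C, c⁻¹ * (h * c * h⁻¹) ∈ K := fun c hc =>
    ⟨by
      rw [show c⁻¹ * (h * c * h⁻¹) = c⁻¹ * h * c * h⁻¹ by group]
      refine H.mul_mem ?_ (H.inv_mem hhH)
      have := hH.conj_mem _ hhH c⁻¹
      rwa [inv_inv] at this,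
    Z.mul_mem (Z.inv_mem hc.2) (conj_normalizer_centralizer hhN hc.2)⟩
  obtain ⟨d, hd, hdC⟩ := exists_conj_le_sylow Q' hQ' (T := C.map (MulAut.conj h).toMonoidHom)
    (by
      rintro _ ⟨c, hc, rfl⟩
      show h * c * h⁻¹ ∈ D
      rw [show h * c * h⁻¹ = c * (c⁻¹ * (h * c * h⁻¹)) by group]
      exact D.mul_mem (le_sup_right (a := K) hc) (le_sup_left (b := C) (hdiff c hc)))
    ((isPGroup_of_le S.isPGroup' inf_le_left).map _)
  have hd' : d ∈ ((C ⊔ K : Subgroup G) : Set G) := by rw [sup_comm]; exact hd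
  rw [Subgroup.coe_mul_of_left_le_normalizer_right C K hCK] at hd'
  obtain ⟨c₀, hc₀, k, hk, rfl⟩ := hd'
  set h' := k * h with hh'
  have hh'H : h' ∈ H := H.mul_mem hk.1 hhH
  have hC' : ∀ c ∈ C, h' * c * h'⁻¹ ∈ C := by
    intro c hc
    have h1 := hdC _ ⟨c, hc, rfl⟩
    change c₀ * k * (h * c * h⁻¹) * (c₀ * k)⁻¹ ∈ C at h1
    have h2 := C.mul_mem (C.mul_mem (C.inv_mem hc₀) h1) hc₀
    rwa [show c₀⁻¹ * (c₀ * k * (h * c * h⁻¹) * (c₀ * k)⁻¹) * c₀ = h' * c * h'⁻¹ by
      rw [hh']; group] at h2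
  have hT' : ∀ x ∈ T, h' * x * h'⁻¹ = h * x * h⁻¹ := by
    intro x hx
    have := hk.2 _ (conj_mem_of_normalizer hhN hx)
    rw [hh', show k * h * x * (k * h)⁻¹ = k * (h * x * h⁻¹) * k⁻¹ by group, ← this]
    group
  have hh'N : h' ∈ Subgroup.normalizer ((T ⊔ C : Subgroup G) : Set G) := by
    have hm : (T ⊔ C).map (MulAut.conj h').toMonoidHom ≤ T ⊔ C := by
      rw [Subgroup.map_sup]
      refine sup_le_sup ?_ ?_
      · rintro _ ⟨x, hx, rfl⟩
        show h' * x * h'⁻¹ ∈ T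
        rw [hT' x hx]; exact conj_mem_of_normalizer hhN hx
      · rintro _ ⟨c, hc, rfl⟩; exact hC' c hc
    exact mem_normalizer_of_conj_mem fun x hx => hm ⟨x, hx, rfl⟩
  have hTC : T ⊔ C ≤ S := sup_le hTS inf_le_left
  refine ⟨(MulAut.conjNormal (H := (T ⊔ C).subgroupOf (Subgroup.normalizer ((T ⊔ C : Subgroup G) : Set G)))
    ⟨h', hh'N⟩).trans (MulEquiv.refl _) |> fun e =>
    ((Subgroup.subgroupOfEquivOfLe Subgroup.le_normalizer).symm.trans e).trans
      (Subgroup.subgroupOfEquivOfLe Subgroup.le_normalizer), ?_, ?_, ?_⟩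
  · rw [group_autGroup hTC, mem_autInducedBy]
    exact ⟨h', trivial, fun x => rfl⟩
  · intro x
    rw [hα]
    exact hT' x x.2
  · intro c hc
    show (c : G)⁻¹ * (h' * (c : G) * h'⁻¹) ∈ T ⊓ Subgroup.centralizer (T : Set G)
    have h1 : (c : G)⁻¹ * (h' * (c : G) * h'⁻¹) ∈ C := C.mul_mem (C.inv_mem hc) (hC' c hc)
    refine ⟨⟨h1.1, ?_⟩, h1.2⟩
    rw [show (c : G)⁻¹ * (h' * (c : G) * h'⁻¹) = (c : G)⁻¹ * h' * c * h'⁻¹ by group]
    refine H.mul_mem ?_ (H.inv_mem hh'H)
    have := hH.conj_mem _ hh'H (c : G)⁻¹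
    rwa [inv_inv] at this

end Cfsg.Agent.Lib.FS
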