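import Mathlib
import Cfsg.Agent.Lib.FusionSystem.Group
import Cfsg.Agent.Lib.FusionP3.Tate

/-!
The hyperfocal subgroup theorem for groups: `hyp(F_S(G)) = S ⊓ O^p(G)`.
-/

set_option autoImplicit false
set_option linter.style.haveILetI false
set_option linter.unusedSectionVars false

namespace Cfsg.Agent.Lib.FS

open Cfsg Cfsg.FusionSystem
open scoped commutatorElement Pointwise

variable {G : Type*} [Group G] [Finite G] {p : ℕ} [Fact p.Prime]

/-- An automorphism of order prime to `p` is induced by an element of order prime to `p`. -/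
theorem exists_coprime_preimage {P : Subgroup G} {α : MulAut P}
    (hα : α ∈ autInducedBy ⊤ P) (hco : (orderOf α).Coprime p) :
    ∃ (n : G) (hn : n ∈ Subgroup.normalizer (P : Set G)), (orderOf n).Coprime p ∧
      P.normalizerMonoidHom ⟨n, hn⟩ = α := by
  obtain ⟨g, -, hg⟩ := mem_autInducedBy.1 hα
  set g' : Subgroup.normalizer (P : Set G) := ⟨g, mem_normalizer_of_aut hg⟩
  set f := P.normalizerMonoidHom
  have hfg : f g' = α := MulEquiv.ext fun x => Subtype.ext (hg x).symm
  obtain ⟨a, b, -, -, hab, habc, ⟨k, hk⟩, hb⟩ :=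
    Transfer.PResidual.exists_pPart_mul_pPrimePart (p := p) g' (isOfFinOrder_of_finite g')
  refine ⟨b, b.2, by rwa [Subgroup.orderOf_coe], ?_⟩
  have hfb : (orderOf (f b)).Coprime p := hb.coprime_dvd_left (orderOf_map_dvd f b)
  have hfa : f a = 1 := by
    have hc : Commute (f a) (f b) := Commute.map habc f
    have e : f a = α * (f b)⁻¹ := by rw [← hfg, ← hab, map_mul, mul_inv_cancel_right]
    have hc2 : Commute α (f b)⁻¹ := by
      rw [← hfg, ← hab, map_mul]
      exact (hc.mul_left (Commute.refl _)).inv_right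
    have h1 : orderOf (f a) ∣ orderOf α * orderOf (f b) := by
      rw [e, ← orderOf_inv (f b)]
      exact hc2.orderOf_mul_dvd_mul_orderOf
    have h2 : orderOf (f a) ∣ p ^ k := orderOf_dvd_of_pow_eq_one (by rw [← map_pow, hk, map_one])
    exact orderOf_eq_one_iff.1 (Nat.eq_one_of_dvd_coprimes
      ((hco.mul_left hfb).pow_right k) h1 h2)
  rw [← hfg, ← hab, map_mul, hfa, one_mul]

theorem hyperfocal_group_le (S : Subgroup G) {K : Subgroup G}
    (h : ∀ P : Subgroup G, P ≤ S → ∀ n ∈ Subgroup.normalizer (P : Set G), (orderOf n).Coprime p →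
      ∀ x ∈ P, x⁻¹ * (n * x * n⁻¹) ∈ K) :
    (groupFusionSystem S).hyperfocalSubgroup p ≤ K := by
  refine (Subgroup.closure_le _).2 ?_
  rintro _ ⟨P, α, x, hP, hα, rfl⟩
  refine Subgroup.closure_induction (p := fun (α : (groupFusionSystem S).autGroup P) _ =>
    ∀ x : P, (x : G)⁻¹ * ((α : MulAut P) x : P) ∈ K) ?_ ?_ ?_ ?_ hα x
  · intro a ha x
    have ha' : (a : MulAut P) ∈ autInducedBy ⊤ P := group_autGroup hP ▸ a.2
    obtain ⟨n, hn, hco, he⟩ := exists_coprime_preimage ha' (by rwa [Subgroup.orderOf_coe])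
    rw [← he]
    exact h P hP n hn hco x x.2
  · intro x; simp
  · intro a b _ _ ha hb x
    have := K.mul_mem (hb x) (ha ((b : MulAut P) x))
    simpa [mul_assoc] using this
  · intro a _ ha x
    have h1 := K.inv_mem (ha (((a⁻¹ : (groupFusionSystem S).autGroup P) : MulAut P) x))
    simpa using h1

theorem mem_hyperfocal_group {S P : Subgroup G} (hP : P ≤ S) {n x : G}
    (hn : n ∈ Subgroup.normalizer (P : Set G)) (hco : (orderOf n).Coprime p) (hx : x ∈ P) :
    x⁻¹ * (n * x * n⁻¹) ∈ (groupFusionSystem S).hyperfocalSubgroup p := by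
  have hmem : P.normalizerMonoidHom ⟨n, hn⟩ ∈ (groupFusionSystem S).autGroup P :=
    (group_autGroup hP).ge (mem_autInducedBy.2 ⟨n, trivial, fun _ => rfl⟩)
  refine Subgroup.subset_closure ⟨P, ⟨_, hmem⟩, ⟨x, hx⟩, hP, Subgroup.subset_closure ?_, rfl⟩
  show (orderOf _).Coprime p
  rw [Subgroup.orderOf_mk]
  refine Nat.Coprime.coprime_dvd_left ((orderOf_map_dvd P.normalizerMonoidHom _).trans ?_) hco
  rw [Subgroup.orderOf_mk]

theorem exists_sylow_inf_normal_hyp (S : Sylow p G) (N : Subgroup G) [N.Normal] :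
    ∃ T : Sylow p N, (T : Subgroup N) = ((S : Subgroup G) ⊓ N).subgroupOf N := by
  refine exists_sylow_of_card_ge inf_le_right (isPGroup_of_le S.isPGroup' inf_le_left) default ?_
  obtain ⟨U, hU⟩ := ((default : Sylow p N).isPGroup'.map N.subtype).exists_le_sylow
  obtain ⟨g, hg⟩ := MulAction.exists_smul_eq G U S
  refine Nat.card_le_card_of_injective (fun t : (default : Sylow p N) =>
    (⟨g * ((t : N) : G) * g⁻¹, ?_, Subgroup.Normal.conj_mem inferInstance _ (t : N).2 g⟩ :
      ↥((S : Subgroup G) ⊓ N))) fun s t h => Subtype.ext (Subtype.ext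
        (mul_left_cancel (mul_right_cancel (congrArg (fun z : ↥((S : Subgroup G) ⊓ N) => (z : G)) h))))
  rw [← hg, Sylow.coe_subgroup_smul]
  exact Subgroup.smul_mem_pointwise_smul _ (MulAut.conj g) _ (hU ⟨t, t.2, rfl⟩)

theorem coprime_of_abelian_pResidual {A : Type*} [CommGroup A] (h : pResidual p A = ⊤) (a : A) :
    (orderOf a).Coprime p := by
  have ha : a ∈ pResidual p A := by rw [h]; trivial
  refine Subgroup.closure_induction (p := fun a _ => (orderOf a).Coprime p)
    (fun x hx => hx) ?_ ?_ ?_ ha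
  · simp
  · exact fun x y _ _ hx hy =>
      (hx.mul_left hy).coprime_dvd_left (Commute.all x y).orderOf_mul_dvd_mul_orderOf
  · exact fun x _ hx => by rwa [orderOf_inv]

/-- In a group generated by its elements of order prime to `p` a Sylow subgroup lies in the derived group. -/
theorem sylow_le_commutator (h : pResidual p G = ⊤) (T : Sylow p G) : (T : Subgroup G) ≤ commutator G := by
  intro x hx
  have hsurj : Function.Surjective (Abelianization.of (G := G)) := QuotientGroup.mk'_surjective _
  have hA : pResidual p (Abelianization G) = ⊤ := by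
    rw [← Transfer.PResidual.map_pResidual_of_surjective _ hsurj, h, Subgroup.map_top_of_surjective _ hsurj]
  rw [← Abelianization.ker_of, MonoidHom.mem_ker, ← orderOf_eq_one_iff]
  obtain ⟨k, hk⟩ := T.isPGroup' ⟨x, hx⟩
  exact Nat.eq_one_of_dvd_coprimes ((coprime_of_abelian_pResidual hA _).pow_right k) dvd_rfl
    ((orderOf_map_dvd _ x).trans (orderOf_dvd_of_pow_eq_one (congrArg Subtype.val hk)))

theorem eq_top_of_commutator_eq {Q : Type*} [Group Q] [Group.IsNilpotent Q] (h : commutator Q = ⊤) :
    Subsingleton Q := by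
  obtain ⟨n, hn⟩ := Subgroup.nilpotent_iff_lowerCentralSeries.1 ‹Group.IsNilpotent Q›
  have : ∀ m, (⊤ : Subgroup Q).lowerCentralSeries m = ⊤ := by
    intro m
    induction m with
    | zero => rfl
    | succ m ih => rw [Subgroup.lowerCentralSeries_succ, ih, ← _root_.commutator_def, h]
  rw [this n] at hn
  exact (Subgroup.subsingleton_iff).1 (subsingleton_of_bot_eq_top hn.symm)

theorem hyperfocal_group (S : Sylow p G) :
    (groupFusionSystem (S : Subgroup G)).hyperfocalSubgroup p = (S : Subgroup G) ⊓ pResidual p G := by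
  haveI : (pResidual p G).Normal := Transfer.PResidual.pResidual_normal
  refine le_antisymm (hyperfocal_group_le _ fun P hP n hn hco x hx =>
    ⟨(S : Subgroup G).mul_mem ((S : Subgroup G).inv_mem (hP hx)) (hP (conj_mem_of_normalizer hn hx)), ?_⟩) ?_
  · have h1 : n ∈ pResidual p G := Transfer.PResidual.mem_pResidual hco
    have h2 := (pResidual p G).mul_mem (Subgroup.Normal.conj_mem inferInstance n h1 x⁻¹) ((pResidual p G).inv_mem h1)
    simpa [mul_assoc] using h2
  set N := pResidual p G with hN
  obtain ⟨T, hT⟩ := exists_sylow_inf_normal_hyp S N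
  set E := groupFusionSystem (T : Subgroup N)
  have hTS : ∀ t : N, t ∈ (T : Subgroup N) → (t : G) ∈ (S : Subgroup G) := fun t ht => by
    rw [hT] at ht; exact ht.1
  have hTp : IsPGroup p (T : Subgroup N) := T.isPGroup'
  -- the focal subgroup of `F_T(N)` is `T`
  have hfoc : E.focalSubgroup = (T : Subgroup N) := by
    refine le_antisymm (FusionP3.Tate.focal_le E) ?_
    have h1 : (T : Subgroup N) ≤ (T : Subgroup N).focalSubgroup := by
      rw [← Subgroup.commutator_inf_eq_focalSubgroup]
      exact le_inf (sylow_le_commutator Transfer.PResidual.pResidual_pResidual T) le_rfl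
    refine h1.trans ?_
    rw [Subgroup.focalSubgroup_def, Subgroup.closure_le]
    rintro g ⟨hg, x, hx, u, rfl⟩
    have hy : u * x⁻¹ * u⁻¹ ∈ (T : Subgroup N) := by
      have := (T : Subgroup N).mul_mem ((T : Subgroup N).inv_mem hx) hg
      simpa [commutatorElement_def, mul_assoc] using this
    have hmem : conjHom (Subgroup.zpowers x⁻¹) u ∈ E.Hom (Subgroup.zpowers x⁻¹) := by
      refine conjHom_mem_group (Subgroup.zpowers_le.2 (inv_mem hx)) fun w hw => ?_
      obtain ⟨i, rfl⟩ := Subgroup.mem_zpowers_iff.1 hw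
      rw [← conj_zpow]
      exact zpow_mem hy i
    have h2 := FusionP3.Tate.focal_gen_mem hmem ⟨x⁻¹, Subgroup.mem_zpowers _⟩
    simpa [commutatorElement_def, mul_assoc] using h2
  -- hence so is the hyperfocal subgroup
  have hsup := FusionP3.Tate.focal_eq_sup hTp (isSaturated_group T)
  rw [hfoc] at hsup
  have hle := FusionP3.Tate.hyperfocal_le E p
  haveI : ((E.hyperfocalSubgroup p).subgroupOf (T : Subgroup N)).Normal :=
    ⟨fun n hn g => Subgroup.mem_subgroupOf.2
      (FusionP3.Tate.hyperfocal_conj_mem g.2 (Subgroup.mem_subgroupOf.1 hn))⟩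
  set H := (E.hyperfocalSubgroup p).subgroupOf (T : Subgroup N) with hH
  have hTE : (T : Subgroup N) ≤ E.hyperfocalSubgroup p := by
    haveI : Group.IsNilpotent (T : Subgroup N) := hTp.isNilpotent
    have htop : H ⊔ commutator (T : Subgroup N) = ⊤ := by
      apply Subgroup.map_injective (T : Subgroup N).subtype_injective
      rw [Subgroup.map_sup, hH, Subgroup.map_subgroupOf_eq_of_le hle, ← MonoidHom.range_eq_map,
        Subgroup.range_subtype]
      exact hsup.symm
    have hcom : commutator ((T : Subgroup N) ⧸ H) = ⊤ := by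
      have hs : Function.Surjective (QuotientGroup.mk' H) := QuotientGroup.mk'_surjective _
      have h1 := congrArg (Subgroup.map (QuotientGroup.mk' H)) htop
      rw [Subgroup.map_sup, QuotientGroup.map_mk'_self, bot_sup_eq, Subgroup.map_top_of_surjective _ hs,
        _root_.commutator_def, Subgroup.map_commutator, Subgroup.map_top_of_surjective _ hs] at h1
      rw [_root_.commutator_def]; exact h1
    haveI := eq_top_of_commutator_eq hcom
    intro t ht
    exact Subgroup.mem_subgroupOf.1 ((QuotientGroup.eq_one_iff (⟨t, ht⟩ : (T : Subgroup N))).1 (Subsingleton.elim _ _))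
  have hEF : E.hyperfocalSubgroup p ≤
      ((groupFusionSystem (S : Subgroup G)).hyperfocalSubgroup p).comap N.subtype := by
    refine hyperfocal_group_le _ fun P hP n hn hco x hx => ?_
    refine mem_hyperfocal_group (P := P.map N.subtype) ?_ ?_ (by rwa [Subgroup.orderOf_coe]) ⟨x, hx, rfl⟩
    · rintro _ ⟨y, hy, rfl⟩; exact hTS y (hP hy)
    · exact Subgroup.le_normalizer_map N.subtype ⟨n, hn, rfl⟩
  rintro x ⟨hxS, hxN⟩
  exact hEF (hTE (show (⟨x, hxN⟩ : N) ∈ (T : Subgroup N) by rw [hT]; exact ⟨hxS, hxN⟩))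

end Cfsg.Agent.Lib.FS
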