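import Mathlib
import Cfsg.Agent.Lib.FusionSystem.Normalizer
import Cfsg.Agent.Lib.FusionSystem.Normal
import Cfsg.Agent.Lib.FusionP3.Induction

/-!
A normal subsystem `E` over `T` is centralised by the focal subgroup of `C_F(T)`.

The key observation: for `Q ≤ T` and `Q' = η(Q)` fully normalised in `F`, the automorphisms of `Q C_S(Q)` moving
`C_S(Q)` within cosets of `Z(Q)` cover the normal closure of `Aut_T(Q)` in `Aut_E(Q)`, and such an automorphism of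
order prime to `p` fixes the focal subgroup of `C_F(Q)` pointwise.
-/

set_option autoImplicit false
set_option linter.style.haveILetI false
set_option linter.unusedSectionVars false

namespace Cfsg.Agent.Lib.FS.NormalCentralizer

open Cfsg Cfsg.FusionSystem Cfsg.Agent.Lib Cfsg.Agent.Lib.FS

section Abstract

variable {H : Type*} [Group H] {p : ℕ} [hp : Fact p.Prime]

/-- An element moved by `β` within an abelian invariant `p`-subgroup `Z` has a translate fixed by `β`,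
if `β` has order prime to `p`. -/
theorem exists_fixed_translate {Z : Subgroup H} [Finite Z] (hZp : IsPGroup p Z)
    (hZc : ∀ a ∈ Z, ∀ b ∈ Z, a * b = b * a) (β : MulAut H) (hβZ : ∀ z ∈ Z, β z ∈ Z) {n : ℕ}
    (hn : β ^ n = 1) (hpn : ¬ p ∣ n) {c : H} (hc : c⁻¹ * β c ∈ Z) : ∃ z ∈ Z, β (c * z) = c * z := by
  letI : CommGroup Z :=
    { (inferInstance : Group Z) with mul_comm := fun a b => Subtype.ext (hZc a a.2 b b.2) }
  let b : Z →* Z := MonoidHom.mk' (fun z => ⟨β z, hβZ z z.2⟩) fun x y => Subtype.ext (map_mul β (x : H) y)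
  set d : Z := ⟨_, hc⟩ with hd
  have hmem : ∀ i : ℕ, c⁻¹ * (β ^ i) c ∈ Z := by
    intro i
    induction i with
    | zero => simp
    | succ i ih =>
      have h : c⁻¹ * β c * β (c⁻¹ * (β ^ i) c) ∈ Z := Z.mul_mem hc (hβZ _ ih)
      rw [map_mul, map_inv, mul_assoc c⁻¹, mul_inv_cancel_left] at h
      rwa [pow_succ', MulAut.mul_apply]
  let e : ℕ → Z := fun i => ⟨_, hmem i⟩
  have hs : ∀ i, e (i + 1) = d * b (e i) := fun i => Subtype.ext (by
    show c⁻¹ * (β ^ (i + 1)) c = c⁻¹ * β c * β (c⁻¹ * (β ^ i) c)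
    rw [map_mul, map_inv, mul_assoc c⁻¹, mul_inv_cancel_left, pow_succ', MulAut.mul_apply])
  set W := ∏ i ∈ Finset.range n, e i with hW
  have he0 : e 0 = 1 := Subtype.ext (by simp [e])
  have hen : e n = 1 := Subtype.ext (by simp [e, hn])
  have hshift : ∏ i ∈ Finset.range n, e (i + 1) = W := by
    have h1 := Finset.prod_range_succ' e n
    rw [Finset.prod_range_succ, hen, he0, mul_one, mul_one] at h1
    exact h1.symm
  have hbW : d ^ n * b W = W := by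
    rw [hW, map_prod]
    conv_rhs => rw [← hW, ← hshift]
    simp_rw [hs]
    rw [Finset.prod_mul_distrib, Finset.prod_const, Finset.card_range]
  obtain ⟨k, hk⟩ := IsPGroup.iff_card.1 hZp
  have hcop : (Nat.card Z).Coprime n := by
    rw [hk]
    exact Nat.Coprime.pow_left k ((hp.out.coprime_iff_not_dvd).2 hpn)
  set z := (powCoprime hcop).symm W with hz
  refine ⟨z, z.2, ?_⟩
  have h2 : d * b z = z := by
    apply (powCoprime hcop).injective
    show (d * b z) ^ n = z ^ n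
    have hzW : z ^ n = W := (powCoprime hcop).apply_symm_apply W
    rw [mul_pow, ← map_pow, hzW, hbW]
  have h3 := congrArg (fun w : Z => c * (w : H)) h2
  change c * (c⁻¹ * β c * β (z : H)) = c * (z : H) at h3
  rw [mul_assoc, mul_inv_cancel_left, ← map_mul] at h3
  exact h3

/-- An element of a `p`-group is a power of each of its powers with exponent prime to `p`. -/
theorem mem_zpowers_pow {a : H} {e n : ℕ} (ha : a ^ p ^ e = 1) (hn : ¬ p ∣ n) :
    a ∈ Subgroup.zpowers (a ^ n) := by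
  have hcop : n.Coprime (orderOf a) := Nat.Coprime.coprime_dvd_right (orderOf_dvd_of_pow_eq_one ha)
    (Nat.Coprime.pow_right e ((hp.out.coprime_iff_not_dvd).2 hn).symm)
  obtain ⟨m, hm⟩ := exists_pow_eq_self_of_coprime hcop
  exact ⟨(m : ℤ), by
    show (a ^ n) ^ (m : ℤ) = a
    rw [zpow_natCast]; exact hm⟩

/-- A finite group is generated by a Sylow subgroup and the elements of order prime to `p`. -/
theorem closure_prime_to_sup_sylow [Finite H] (R : Sylow p H) :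
    Subgroup.closure {x : H | ¬ p ∣ orderOf x} ⊔ (R : Subgroup H) = ⊤ := by
  set K := Subgroup.closure {x : H | ¬ p ∣ orderOf x} with hK
  have hKn : K.Normal := ⟨fun x hx g => by
    refine Subgroup.closure_induction (p := fun x _ => g * x * g⁻¹ ∈ K) (fun y hy => ?_) (by simp) ?_ ?_ hx
    · refine Subgroup.subset_closure ?_
      show ¬ p ∣ orderOf (g * y * g⁻¹)
      rwa [show g * y * g⁻¹ = MulAut.conj g y from rfl, MulEquiv.orderOf_eq]
    · intro a b _ _ ha hb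
      rw [show g * (a * b) * g⁻¹ = g * a * g⁻¹ * (g * b * g⁻¹) by group]
      exact K.mul_mem ha hb
    · intro a _ ha
      rw [show g * a⁻¹ * g⁻¹ = (g * a * g⁻¹)⁻¹ by group]
      exact K.inv_mem ha⟩
  haveI := hKn
  have hq : IsPGroup p (H ⧸ K) := by
    intro x
    obtain ⟨g, rfl⟩ := QuotientGroup.mk_surjective x
    obtain ⟨k, m, hm, hkm⟩ := Nat.exists_eq_pow_mul_and_not_dvd (orderOf_pos g).ne' p hp.out.ne_one
    refine ⟨k, ?_⟩
    rw [← QuotientGroup.mk_pow, QuotientGroup.eq_one_iff]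
    refine Subgroup.subset_closure fun h => hm ?_
    rwa [orderOf_pow' g (pow_ne_zero _ hp.out.ne_zero), hkm,
      Nat.gcd_eq_right (dvd_mul_right _ _), Nat.mul_div_cancel_left _ (pow_pos hp.out.pos _)] at h
  set R' := R.mapSurjective (QuotientGroup.mk'_surjective K)
  have htop : (R' : Subgroup (H ⧸ K)) = ⊤ :=
    (R'.3 (hq.of_equiv Subgroup.topEquiv.symm) le_top).symm
  rw [eq_top_iff]
  intro h _
  obtain ⟨r, hr, hrh⟩ : (QuotientGroup.mk' K h) ∈ (R' : Subgroup (H ⧸ K)) := htop ▸ Subgroup.mem_top _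
  have hk : h * r⁻¹ ∈ K := by
    rw [← QuotientGroup.eq_one_iff, QuotientGroup.mk_mul, QuotientGroup.mk_inv]
    rw [show (↑r : H ⧸ K) = ↑h from hrh, mul_inv_cancel]
  rw [show h = h * r⁻¹ * r by group]
  exact Subgroup.mul_mem_sup hk hr

/-- An element whose image has order prime to `p` has a power of order prime to `p` with the same image. -/
theorem exists_pow_prime_to {K : Type*} [Group K] [Finite H] {x : H} {b : K} (hb : ¬ p ∣ orderOf b) :
    ∃ n : ℕ, b ^ n = b ∧ ¬ p ∣ orderOf (x ^ n) := by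
  obtain ⟨k, m, hm, hkm⟩ := Nat.exists_eq_pow_mul_and_not_dvd (orderOf_pos x).ne' p hp.out.ne_one
  have hcop : (p ^ k).Coprime (orderOf b) :=
    Nat.Coprime.pow_left k ((hp.out.coprime_iff_not_dvd).2 hb)
  obtain ⟨n, hn0, hn1⟩ := Nat.chineseRemainder hcop 0 1
  refine ⟨n, ?_, ?_⟩
  · conv_rhs => rw [← pow_one b]
    exact pow_eq_pow_iff_modEq.2 hn1
  · obtain ⟨t, ht⟩ := Nat.modEq_zero_iff_dvd.1 hn0
    refine fun h => hm (h.trans (orderOf_dvd_of_pow_eq_one ?_))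
    rw [← pow_mul, ht, mul_right_comm, ← hkm, pow_mul, pow_orderOf_eq_one, one_pow]

end Abstract

variable {Ω : Type*} [Group Ω] {S T : Subgroup Ω} [Finite S] {p : ℕ} [hp : Fact p.Prime]
  {F : FusionSystem S} {E : FusionSystem T}

/-- `P`-stabilising automorphisms moving elements within cosets of a central subgroup `Z` fixed pointwise. -/
def stab (P : Subgroup Ω) (Z : Subgroup P) : Subgroup (MulAut P) where
  carrier := {k | (∀ w ∈ Z, k w = w) ∧ ∀ y : P, y⁻¹ * k y ∈ Z}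
  one_mem' := ⟨fun _ _ => rfl, fun y => by rw [MulAut.one_apply, inv_mul_cancel]; exact Z.one_mem⟩
  mul_mem' := by
    rintro k l ⟨hk1, hk2⟩ ⟨hl1, hl2⟩
    refine ⟨fun w hw => by rw [MulAut.mul_apply, hl1 w hw, hk1 w hw], fun y => ?_⟩
    have h := Z.mul_mem (hl2 y) (hk2 (l y))
    rw [MulAut.mul_apply]
    rwa [show y⁻¹ * l y * ((l y)⁻¹ * k (l y)) = y⁻¹ * k (l y) by group] at h
  inv_mem' := by
    rintro k ⟨hk1, hk2⟩
    refine ⟨fun w hw => ?_, fun y => ?_⟩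
    · conv_lhs => rw [← hk1 w hw]
      exact MulAut.inv_apply_self _ k w
    · have h := Z.inv_mem (hk2 (k⁻¹ y))
      rw [MulAut.apply_inv_self, mul_inv_rev, inv_inv] at h
      exact h

omit [Finite S] in
theorem isPGroup_stab {P : Subgroup Ω} [Finite P] {Z : Subgroup P} (hP : IsPGroup p P) :
    IsPGroup p (stab P Z) := by
  obtain ⟨m, hm⟩ := IsPGroup.iff_card.1 hP
  intro k
  have hk := k.2
  have hpow : ∀ (i : ℕ) (y : P), ((k : MulAut P) ^ i) y = y * (y⁻¹ * (k : MulAut P) y) ^ i := by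
    intro i
    induction i with
    | zero => simp
    | succ i ih =>
      intro y
      rw [pow_succ', MulAut.mul_apply, ih, map_mul, map_pow, hk.1 _ (hk.2 y),
        pow_succ' (y⁻¹ * (k : MulAut P) y), ← mul_assoc y, mul_inv_cancel_left]
  refine ⟨m, Subtype.ext (MulEquiv.ext fun y => ?_)⟩
  show ((k : MulAut P) ^ p ^ m) y = y
  rw [hpow, ← hm, pow_card_eq_one', mul_one]

/-- An automorphism of order prime to `p` of `Q C_S(Q)` moving `C_S(Q)` within cosets of `Z(Q)` fixes the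
focal subgroup of `C_F(Q)` pointwise. -/
theorem focal_centralizer_fixed (hS : IsPGroup p S) (hF : F.IsSaturated p) {Q : Subgroup Ω}
    (hQ : F.IsFullyNormalized Q) {β : MulAut ↥(Q ⊔ centralizerIn S Q)}
    (hβ : β ∈ F.autGroup (Q ⊔ centralizerIn S Q))
    (hβQ : ∀ x : ↥(Q ⊔ centralizerIn S Q), (x : Ω) ∈ Q → (β x : Ω) ∈ Q)
    (hβC : ∀ x : ↥(Q ⊔ centralizerIn S Q), (x : Ω) ∈ centralizerIn S Q → (x : Ω)⁻¹ * β x ∈ Q)
    (hord : ¬ p ∣ orderOf β) {D : FusionSystem (centralizerIn S Q)} (hD : F.IsCentralizerSystem Q D)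
    {y : Ω} (hy : y ∈ D.focalSubgroup) :
    y ∈ centralizerIn S Q ∧ ∀ h : y ∈ Q ⊔ centralizerIn S Q, (β ⟨y, h⟩ : Ω) = y := by
  have hQS : Q ≤ S := hQ.1
  haveI := finite_sub hQS
  have hCS : (centralizerIn S Q) ≤ S := centralizerIn_le Q
  haveI := finite_sub hCS
  have hRS : (Q ⊔ centralizerIn S Q : Subgroup Ω) ≤ S := sup_le hQS hCS
  haveI := finite_sub hRS
  set n := orderOf β with hn
  let Fix : Subgroup Ω :=
    { carrier := {y | y ∈ (centralizerIn S Q) ∧ ∀ h : y ∈ (Q ⊔ centralizerIn S Q : Subgroup Ω), (β ⟨y, h⟩ : Ω) = y}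
      one_mem' := ⟨(centralizerIn S Q).one_mem, fun h => by rw [show (⟨1, h⟩ : (Q ⊔ centralizerIn S Q : Subgroup Ω)) = 1 from rfl, map_one]; rfl⟩
      mul_mem' := by
        rintro a b ⟨ha, ha'⟩ ⟨hb, hb'⟩
        refine ⟨(centralizerIn S Q).mul_mem ha hb, fun h => ?_⟩
        have haR : a ∈ (Q ⊔ centralizerIn S Q : Subgroup Ω) := (le_sup_right : (centralizerIn S Q) ≤ (Q ⊔ centralizerIn S Q : Subgroup Ω)) ha
        have hbR : b ∈ (Q ⊔ centralizerIn S Q : Subgroup Ω) := (le_sup_right : (centralizerIn S Q) ≤ (Q ⊔ centralizerIn S Q : Subgroup Ω)) hb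
        rw [show (⟨a * b, h⟩ : (Q ⊔ centralizerIn S Q : Subgroup Ω)) = ⟨a, haR⟩ * ⟨b, hbR⟩ from rfl, map_mul, Subgroup.coe_mul, ha', hb']
      inv_mem' := by
        rintro a ⟨ha, ha'⟩
        refine ⟨(centralizerIn S Q).inv_mem ha, fun h => ?_⟩
        have haR : a ∈ (Q ⊔ centralizerIn S Q : Subgroup Ω) := (le_sup_right : (centralizerIn S Q) ≤ (Q ⊔ centralizerIn S Q : Subgroup Ω)) ha
        rw [show (⟨a⁻¹, h⟩ : (Q ⊔ centralizerIn S Q : Subgroup Ω)) = (⟨a, haR⟩ : (Q ⊔ centralizerIn S Q : Subgroup Ω))⁻¹ from rfl, map_inv, Subgroup.coe_inv, ha'] }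
  suffices hfoc : D.focalSubgroup ≤ Fix from hfoc hy
  have hDS : D.IsSaturated p := centralizerSystem_isSaturated hS hF
    (isFullyCentralized_of_receptive (receptive_of_fullyNormalized hS hF hQ)) hD
  have hCp : IsPGroup p (centralizerIn S Q) := isPGroup_of_le hS hCS
  have key := FusionP3.Induction.hom_induction hCp hDS
    (M := fun P φ => ∀ x : P, (x : Ω)⁻¹ * φ x ∈ Fix) ?_ ?_ ?_
  · refine (Subgroup.closure_le _).2 ?_
    rintro _ ⟨P, φ, x, hφ, rfl⟩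
    exact key P φ hφ x
  · intro P P' φ ψ χ _ _ h he h1 h2 x
    have := Fix.mul_mem (h1 x) (h2 ⟨φ x, h x⟩)
    rw [he]
    rwa [mul_assoc, mul_inv_cancel_left] at this
  · intro P P' φ ψ h _ he h1 x
    rw [he]
    exact h1 ⟨x, h x.2⟩
  intro P hPn hPc hPr u hu _
  have hPC : P ≤ (centralizerIn S Q) := hPn.1
  have hPR : P ≤ (Q ⊔ centralizerIn S Q : Subgroup Ω) := hPC.trans le_sup_right
  haveI := finite_sub (hPC.trans hCS)
  -- `Z(Q) ≤ P`
  have hZP : ∀ z, z ∈ Q → z ∈ (centralizerIn S Q) → z ∈ P := fun z hzQ hzC =>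
    hPc.2 P (isConj_refl D hPC) (mem_centralizerIn.2 ⟨hzC, fun y hy =>
      ((mem_centralizerIn.1 (hPC hy)).2 z hzQ).symm⟩)
  set Zs := (Q.subgroupOf (Q ⊔ centralizerIn S Q : Subgroup Ω) ⊓ (centralizerIn S Q).subgroupOf (Q ⊔ centralizerIn S Q : Subgroup Ω)) with hZs
  set ZP := Q.subgroupOf P with hZP'
  -- `β` stabilises `P`
  have hmove : ∀ (x : Ω) (hxR : x ∈ (Q ⊔ centralizerIn S Q : Subgroup Ω)), x ∈ (centralizerIn S Q) → x⁻¹ * β ⟨x, hxR⟩ ∈ Q ∧ x⁻¹ * β ⟨x, hxR⟩ ∈ (centralizerIn S Q) := by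
    intro x hxR hxC
    refine ⟨hβC ⟨x, hxR⟩ hxC, ?_⟩
    refine mem_centralizerIn'.2 ⟨S.mul_mem (S.inv_mem (hCS hxC)) (hRS (β ⟨x, hxR⟩).2), fun q hq => ?_⟩
    obtain ⟨q', hq'⟩ : ∃ q' : (Q ⊔ centralizerIn S Q : Subgroup Ω), (q' : Ω) ∈ Q ∧ (β q' : Ω) = q := by
      have hr : ∀ w : (Q ⊔ centralizerIn S Q : Subgroup Ω), (w : Ω) ∈ Q → ((β⁻¹) w : Ω) ∈ Q := by
        intro w hw
        have hpow : ∀ i : ℕ, ((β ^ i) w : Ω) ∈ Q := by
          intro i
          induction i with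
          | zero => exact hw
          | succ i ih => rw [pow_succ', MulAut.mul_apply]; exact hβQ _ ih
        rw [show β⁻¹ = β ^ (orderOf β - 1) by
          rw [inv_eq_iff_mul_eq_one, ← pow_succ', Nat.sub_add_cancel (orderOf_pos β), pow_orderOf_eq_one]]
        exact hpow _
      have hqR : q ∈ (Q ⊔ centralizerIn S Q : Subgroup Ω) := (le_sup_left : Q ≤ (Q ⊔ centralizerIn S Q : Subgroup Ω)) hq
      exact ⟨β⁻¹ ⟨q, hqR⟩, hr _ hq, congrArg Subtype.val (MulAut.apply_inv_self _ β _)⟩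
    have hcomm : ⟨x, hxR⟩ * q' = q' * ⟨x, hxR⟩ :=
      Subtype.ext ((mem_centralizerIn.1 hxC).2 q' hq'.1).symm
    have h1 := congrArg (fun w : (Q ⊔ centralizerIn S Q : Subgroup Ω) => (β w : Ω)) hcomm
    simp only [map_mul, Subgroup.coe_mul, hq'.2] at h1
    have h2 := (mem_centralizerIn'.1 ((centralizerIn S Q).inv_mem hxC)).2 q hq
    calc x⁻¹ * (β ⟨x, hxR⟩ : Ω) * q * (x⁻¹ * (β ⟨x, hxR⟩ : Ω))⁻¹
        = x⁻¹ * ((β ⟨x, hxR⟩ : Ω) * q * (β ⟨x, hxR⟩ : Ω)⁻¹) * x⁻¹⁻¹ := by group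
      _ = q := by rw [h1, mul_inv_cancel_right, h2]
  -- translate into fixed elements
  have hfixed : ∀ x : P, ∃ z ∈ ZP, ((β ⟨(x * z : P), hPR (x * z : P).2⟩ : (Q ⊔ centralizerIn S Q : Subgroup Ω)) : Ω) = ((x * z : P) : Ω) := by
    intro x
    have hcomm : ∀ a ∈ Zs, ∀ b ∈ Zs, a * b = b * a := fun a ha b hb =>
      Subtype.ext ((mem_centralizerIn.1 hb.2).2 a ha.1)
    have hβZ : ∀ z ∈ Zs, β z ∈ Zs := by
      rintro z ⟨hzQ, hzC⟩
      replace hzC : (z : Ω) ∈ centralizerIn S Q := hzC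
      refine ⟨hβQ z hzQ, ?_⟩
      have := (centralizerIn S Q).mul_mem hzC (hmove z z.2 hzC).2
      rwa [mul_inv_cancel_left] at this
    obtain ⟨z, hz, he⟩ := exists_fixed_translate
      (((isPGroup_of_le hS hRS).to_subgroup Zs)) hcomm β hβZ (pow_orderOf_eq_one β) hord
      (c := ⟨x, hPR x.2⟩) (hmove x (hPR x.2) (hPC x.2))
    exact ⟨⟨z, hZP _ hz.1 hz.2⟩, hz.1, congrArg Subtype.val he⟩
  -- restriction of `β` to `P`
  have hmaps : ∀ x : P, (β ⟨x, hPR x.2⟩ : Ω) ∈ P := by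
    intro x
    have h := P.mul_mem x.2 (hZP _ (hmove x (hPR x.2) (hPC x.2)).1 (hmove x (hPR x.2) (hPC x.2)).2)
    rwa [mul_inv_cancel_left] at h
  obtain ⟨ψβ, hψβ, heβ⟩ := exists_restrict ((mem_autGroup hRS).1 hβ) hPR
  have hψr : ψβ.range = P := range_eq_of_mem hψβ (fun x => (heβ x).symm ▸ hmaps x) le_rfl
  set βP : MulAut P := homEquiv hψβ hψr with hβP
  have hβPe : ∀ x : P, (βP x : Ω) = β ⟨x, hPR x.2⟩ := heβ
  have huQ : ∀ z ∈ ZP, u z = z := by
    intro z hz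
    obtain ⟨-, -, -, τ, hτ, he, hfix⟩ := (hD P).le ((mem_autGroup hPC).1 hu)
    apply Subtype.ext
    show (u z : Ω) = z
    rw [show (u z : Ω) = τ (Subgroup.inclusion le_sup_left z) from (he z).symm,
      show Subgroup.inclusion le_sup_left z = Subgroup.inclusion le_sup_right ⟨(z : Ω), hz⟩ from rfl, hfix]
  -- elements of `Aut_D(P)` fix `Z(Q)`, so the stabiliser is a normal `p`-subgroup
  have hfixAll : ∀ a ∈ D.autGroup P, ∀ z ∈ ZP, a z = z := by
    intro a ha z hz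
    obtain ⟨-, -, -, τ, hτ, he, hfix⟩ := (hD P).le ((mem_autGroup hPC).1 ha)
    apply Subtype.ext
    show (a z : Ω) = z
    rw [show (a z : Ω) = τ (Subgroup.inclusion le_sup_left z) from (he z).symm,
      show Subgroup.inclusion le_sup_left z = Subgroup.inclusion le_sup_right ⟨(z : Ω), hz⟩ from rfl, hfix]
  set K := stab P ZP ⊓ D.autGroup P with hK
  have hKp : IsPGroup p K :=
    (isPGroup_stab (isPGroup_of_le hS (hPC.trans hCS))).of_injective (Subgroup.inclusion inf_le_left)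
      (Subgroup.inclusion_injective _)
  have hKinn : K ≤ Inn P := by
    refine le_inn_of_radical hPr inf_le_right ?_ hKp
    rintro a ha k ⟨⟨hk1, hk2⟩, hk⟩
    refine ⟨⟨fun w hw => ?_, fun y => ?_⟩, (D.autGroup P).mul_mem ((D.autGroup P).mul_mem ha hk) ((D.autGroup P).inv_mem ha)⟩
    · rw [MulAut.mul_apply, MulAut.mul_apply, hfixAll _ (inv_mem ha) w hw, hk1 w hw, hfixAll a ha w hw]
    · have h := hk2 (a⁻¹ y)
      have h2 := hfixAll a ha _ h
      rw [map_mul, map_inv, MulAut.apply_inv_self] at h2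
      rw [MulAut.mul_apply, MulAut.mul_apply, h2]
      exact h
  -- the commutator of `β` and `u`
  set k : MulAut P := βP * u * βP⁻¹ * u⁻¹ with hk
  have hkK : k ∈ K := by
    refine ⟨⟨fun w hw => ?_, fun y => ?_⟩, ?_⟩
    · have hw' : βP⁻¹ w ∈ ZP := by
        show ((βP⁻¹ w : P) : Ω) ∈ Q
        have hpow : ∀ i : ℕ, ((βP ^ i) w : Ω) ∈ Q := by
          intro i
          induction i with
          | zero => exact hw
          | succ i ih => rw [pow_succ', MulAut.mul_apply, hβPe]; exact hβQ _ ih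
        rw [show βP⁻¹ = βP ^ (orderOf βP - 1) by
          rw [inv_eq_iff_mul_eq_one, ← pow_succ', Nat.sub_add_cancel (orderOf_pos βP), pow_orderOf_eq_one]]
        exact hpow _
      rw [hk, MulAut.mul_apply, MulAut.mul_apply, MulAut.mul_apply, hfixAll _ (inv_mem hu) w hw,
        huQ _ hw', MulAut.apply_inv_self]
    · set w := u⁻¹ y with hw
      set v := βP⁻¹ w with hv
      have hz : v⁻¹ * w ∈ ZP := by
        rw [show w = βP v from (MulAut.apply_inv_self _ βP w).symm]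
        show ((v⁻¹ * βP v : P) : Ω) ∈ Q
        rw [Subgroup.coe_mul, Subgroup.coe_inv, hβPe]
        exact (hmove v (hPR v.2) (hPC v.2)).1
      have e1 : u v = y * (v⁻¹ * w)⁻¹ := by
        have e2 := huQ _ hz
        rw [map_mul, map_inv, show u w = y from MulAut.apply_inv_self _ u y] at e2
        rw [← e2, mul_inv_rev, inv_inv, mul_inv_cancel_left]
      show y⁻¹ * k y ∈ ZP
      rw [hk, MulAut.mul_apply, MulAut.mul_apply, MulAut.mul_apply, ← hw, ← hv, e1, map_mul, ← mul_assoc]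
      refine ZP.mul_mem ?_ ?_
      · show ((y⁻¹ * βP y : P) : Ω) ∈ Q
        rw [Subgroup.coe_mul, Subgroup.coe_inv, hβPe]
        exact (hmove y (hPR y.2) (hPC y.2)).1
      · show ((βP (v⁻¹ * w)⁻¹ : P) : Ω) ∈ Q
        rw [hβPe]
        exact hβQ _ (Q.inv_mem hz)
    · -- `k` is a map of the centralizer system
      obtain ⟨-, -, -, τ, hτ, he, hfix⟩ := (hD P).le ((mem_autGroup hPC).1 hu)
      have hPQR : (P ⊔ Q) ≤ (Q ⊔ centralizerIn S Q : Subgroup Ω) := sup_le hPR le_sup_left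
      haveI := finite_sub (hPQR.trans hRS)
      obtain ⟨σ, hσ, heσ⟩ := exists_restrict ((mem_autGroup hRS).1 hβ) hPQR
      have hgen : ∀ {χ : ↥(P ⊔ Q) →* Ω}, (∀ x : P, χ (Subgroup.inclusion le_sup_left x) ∈ (P ⊔ Q)) →
          (∀ x : Q, χ (Subgroup.inclusion le_sup_right x) ∈ (P ⊔ Q)) → ∀ w, χ w ∈ (P ⊔ Q) := by
        intro χ h1 h2 w
        have : (P ⊔ Q) ≤ ((P ⊔ Q).comap χ).map (P ⊔ Q).subtype :=
          sup_le (fun x hx => ⟨Subgroup.inclusion le_sup_left ⟨x, hx⟩, h1 _, rfl⟩)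
            (fun x hx => ⟨Subgroup.inclusion le_sup_right ⟨x, hx⟩, h2 _, rfl⟩)
        obtain ⟨w', hw', he'⟩ := this w.2
        rwa [← Subtype.ext he']
      have hσm : ∀ w, σ w ∈ (P ⊔ Q) := hgen (fun x => by rw [heσ]; exact (le_sup_left : P ≤ (P ⊔ Q)) (hmaps x))
        fun x => by rw [heσ]; exact (le_sup_right : Q ≤ (P ⊔ Q)) (hβQ _ x.2)
      have hτm : ∀ w, τ w ∈ (P ⊔ Q) := hgen (fun x => by rw [he]; exact (le_sup_left : P ≤ (P ⊔ Q)) (u x).2)
        fun x => by rw [hfix]; exact (le_sup_right : Q ≤ (P ⊔ Q)) x.2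
      set a : MulAut ↥(P ⊔ Q) := homEquiv hσ (range_eq_of_mem hσ hσm le_rfl) with hadef
      set t : MulAut ↥(P ⊔ Q) := homEquiv hτ (range_eq_of_mem hτ hτm le_rfl) with htdef
      have haP : ∀ x : P, a (Subgroup.inclusion le_sup_left x) = Subgroup.inclusion le_sup_left (βP x) :=
        fun x => Subtype.ext ((heσ _).trans (hβPe x).symm)
      have htP : ∀ x : P, t (Subgroup.inclusion le_sup_left x) = Subgroup.inclusion le_sup_left (u x) :=
        fun x => Subtype.ext (he x)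
      have hainv : ∀ x : P,
          a⁻¹ (Subgroup.inclusion le_sup_left x) = Subgroup.inclusion le_sup_left (βP⁻¹ x) := fun x => by
        apply a.injective
        rw [MulAut.apply_inv_self, haP, MulAut.apply_inv_self]
      have htinv : ∀ x : P,
          t⁻¹ (Subgroup.inclusion le_sup_left x) = Subgroup.inclusion le_sup_left (u⁻¹ x) := fun x => by
        apply t.injective
        rw [MulAut.apply_inv_self, htP, MulAut.apply_inv_self]
      have hcomp : ∀ x : P, (a * t * a⁻¹ * t⁻¹) (Subgroup.inclusion le_sup_left x) =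
          Subgroup.inclusion le_sup_left (k x) := fun x => by
        show a (t (a⁻¹ (t⁻¹ (Subgroup.inclusion le_sup_left x)))) = _
        rw [htinv, hainv, htP, haP]
        rfl
      have haA := homEquiv_mem_autGroup hσ (range_eq_of_mem hσ hσm le_rfl)
      have htA := homEquiv_mem_autGroup hτ (range_eq_of_mem hτ hτm le_rfl)
      show k ∈ D.autGroup P
      rw [mem_autGroup hPC]
      refine (hD P).ge ?_
      have hPS : P ≤ S := hPC.trans hCS
      obtain ⟨ρ, hρ, heρ⟩ := exists_restrict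
        ((mem_autGroup (hPQR.trans hRS)).1 (mul_mem (mul_mem (mul_mem haA htA) (inv_mem haA)) (inv_mem htA)))
        (le_sup_left : P ≤ (P ⊔ Q))
      refine ⟨hom_congr hρ fun x => ?_, hPC, fun x => hPC (k x).2,
        _, (mem_autGroup (hPQR.trans hRS)).1 (mul_mem (mul_mem (mul_mem haA htA) (inv_mem haA)) (inv_mem htA)),
        fun x => ?_, fun x => ?_⟩
      · rw [heρ]
        show (k x : Ω) = ((a * t * a⁻¹ * t⁻¹) (Subgroup.inclusion le_sup_left x) : Ω)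
        rw [hcomp]
        rfl
      · show ((a * t * a⁻¹ * t⁻¹) (Subgroup.inclusion le_sup_left x) : Ω) = (k x : Ω)
        rw [hcomp]
        rfl
      · show ((a * t * a⁻¹ * t⁻¹) (Subgroup.inclusion le_sup_right x) : Ω) = x
        have htQ : ∀ y : ↥(P ⊔ Q), (y : Ω) ∈ Q → t y = y := fun y hy => Subtype.ext (hfix ⟨y, hy⟩)
        have htQi : t⁻¹ (Subgroup.inclusion le_sup_right x) = Subgroup.inclusion le_sup_right x := by
          apply t.injective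
          rw [MulAut.apply_inv_self, htQ _ x.2]
        have haQ : ((a⁻¹ (Subgroup.inclusion le_sup_right x)) : Ω) ∈ Q := by
          have hpow : ∀ i : ℕ, ((a ^ i) (Subgroup.inclusion le_sup_right x) : Ω) ∈ Q := by
            intro i
            induction i with
            | zero => exact x.2
            | succ i ih =>
              rw [pow_succ', MulAut.mul_apply]
              show σ _ ∈ Q
              rw [heσ]; exact hβQ _ ih
          rw [show a⁻¹ = a ^ (orderOf a - 1) by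
            rw [inv_eq_iff_mul_eq_one, ← pow_succ', Nat.sub_add_cancel (orderOf_pos a), pow_orderOf_eq_one]]
          exact hpow _
        rw [MulAut.mul_apply, MulAut.mul_apply, MulAut.mul_apply, htQi, htQ _ haQ, MulAut.apply_inv_self]
        rfl
  obtain ⟨a, ha⟩ := hKinn hkK
  -- reduce to fixed elements
  intro x
  obtain ⟨z, hz, hx0⟩ := hfixed x
  set x0 := x * z with hx0d
  have hyx : (x : Ω)⁻¹ * (u x : Ω) = (x0 : Ω)⁻¹ * (u x0 : Ω) := by
    have hc : ∀ w : P, (w : Ω) * z = z * w := fun w =>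
      ((mem_centralizerIn.1 (hPC w.2)).2 z hz).symm
    rw [hx0d, map_mul, huQ z hz, Subgroup.coe_mul, Subgroup.coe_mul, mul_inv_rev]
    calc (x : Ω)⁻¹ * (u x : Ω) = (z : Ω)⁻¹ * ((x : Ω)⁻¹ * (u x : Ω) * z) := by
          rw [show (x : Ω)⁻¹ * (u x : Ω) * (z : Ω) = z * ((x : Ω)⁻¹ * (u x : Ω)) from hc (x⁻¹ * u x),
            inv_mul_cancel_left]
      _ = _ := by group
  show (x : Ω)⁻¹ * (u x : Ω) ∈ Fix
  rw [hyx]
  have hxF : (x0 : Ω) ∈ Fix := ⟨hPC x0.2, fun _ => hx0⟩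
  refine Fix.mul_mem (Fix.inv_mem hxF) ⟨hPC (u x0).2, fun h => ?_⟩
  -- `u x₀` is fixed
  obtain ⟨za, hza, ha0⟩ := hfixed a
  set a0 := a * za with ha0d
  set v := u x0 with hvd
  have hconj : βP v = a0 * v * a0⁻¹ := by
    have e1 : βP x0 = x0 := Subtype.ext ((hβPe x0).trans hx0)
    have e2 : k v = βP v := by
      rw [hk, MulAut.mul_apply, MulAut.mul_apply, MulAut.mul_apply, hvd, MulAut.inv_apply_self,
        show βP⁻¹ x0 = x0 from by rw [← e1, MulAut.inv_apply_self, e1]]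
    rw [← e2, ← ha]
    apply Subtype.ext
    show (a : Ω) * v * (a : Ω)⁻¹ = ((a : Ω) * za) * v * ((a : Ω) * za)⁻¹
    have hcz : (za : Ω) * v = v * za := (mem_centralizerIn.1 (hPC v.2)).2 za hza
    rw [mul_assoc (a : Ω) (za : Ω), hcz]; group
  have ha0fix : βP a0 = a0 := Subtype.ext ((hβPe a0).trans ha0)
  have hpow : ∀ i : ℕ, (βP ^ i) v = a0 ^ i * v * (a0 ^ i)⁻¹ := by
    intro i
    induction i with
    | zero => simp
    | succ i ih =>
      rw [pow_succ', MulAut.mul_apply, ih, map_mul, map_mul, map_inv, map_pow, ha0fix, hconj]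
      group
  have hβn : (βP ^ n) v = v := by
    have hrel : ∀ (i : ℕ) (w : P), ((βP ^ i) w : Ω) = ((β ^ i) ⟨w, hPR w.2⟩ : Ω) := by
      intro i
      induction i with
      | zero => intro w; rfl
      | succ i ih =>
        intro w
        rw [pow_succ', pow_succ', MulAut.mul_apply, MulAut.mul_apply, hβPe]
        exact congrArg (fun r : (Q ⊔ centralizerIn S Q : Subgroup Ω) => (β r : Ω)) (Subtype.ext (ih w))
    apply Subtype.ext
    rw [hrel, hn, pow_orderOf_eq_one]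
    rfl
  obtain ⟨e, he⟩ := (isPGroup_of_le hS (hPC.trans hCS)) a0
  have hcen : a0 ∈ Subgroup.centralizer ({v} : Set P) := by
    have h1 : a0 ^ n ∈ Subgroup.centralizer ({v} : Set P) := by
      rw [Subgroup.mem_centralizer_singleton_iff]
      have h2 := hpow n
      rw [hβn] at h2
      exact (eq_mul_inv_iff_mul_eq.1 h2).symm
    exact (Subgroup.zpowers_le.2 h1) (mem_zpowers_pow he hord)
  rw [Subgroup.mem_centralizer_singleton_iff] at hcen
  rw [← hβPe, hconj, hcen, mul_inv_cancel_right]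

/-- `φ` extends to a map of `F` fixing `Y` pointwise. -/
def Fixes (F : FusionSystem S) (Y P : Subgroup Ω) (φ : P →* Ω) : Prop :=
  ∃ ψ ∈ F.Hom (P ⊔ Y), (∀ x : P, ψ (Subgroup.inclusion le_sup_left x) = φ x) ∧
    ∀ y : Y, ψ (Subgroup.inclusion le_sup_right y) = y

omit [Finite S] hp in
/-- A map on a join with values on both factors in `R` has all values in `R`. -/
theorem mapsTo_sup {A B R : Subgroup Ω} {χ : ↥(A ⊔ B) →* Ω}
    (h1 : ∀ x : A, χ (Subgroup.inclusion le_sup_left x) ∈ R)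
    (h2 : ∀ x : B, χ (Subgroup.inclusion le_sup_right x) ∈ R) (w : ↥(A ⊔ B)) : χ w ∈ R := by
  have : A ⊔ B ≤ (R.comap χ).map (A ⊔ B).subtype :=
    sup_le (fun x hx => ⟨Subgroup.inclusion le_sup_left ⟨x, hx⟩, h1 _, rfl⟩)
      (fun x hx => ⟨Subgroup.inclusion le_sup_right ⟨x, hx⟩, h2 _, rfl⟩)
  obtain ⟨w', hw', he'⟩ := this w.2
  rwa [← Subtype.ext he']

omit [Finite S] hp in
theorem Fixes.comp {Y P R : Subgroup Ω} {φ : P →* Ω} {ψ : R →* Ω} {χ : P →* Ω}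
    (h : ∀ x, φ x ∈ R) (he : ∀ x, χ x = ψ ⟨φ x, h x⟩) (h1 : Fixes F Y P φ) (h2 : Fixes F Y R ψ) :
    Fixes F Y P χ := by
  obtain ⟨a, ha, ha1, ha2⟩ := h1
  obtain ⟨b, hb, hb1, hb2⟩ := h2
  obtain ⟨c, hc, hce⟩ := exists_comp ha hb (mapsTo_sup
    (fun x => by rw [ha1]; exact (le_sup_left : R ≤ R ⊔ Y) (h x))
    (fun y => by rw [ha2]; exact (le_sup_right : Y ≤ R ⊔ Y) y.2))
  refine ⟨c, hc, fun x => ?_, fun y => ?_⟩
  · rw [hce, he, ← hb1]
    exact congrArg b (Subtype.ext (ha1 x))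
  · rw [hce, ← hb2 y]
    exact congrArg b (Subtype.ext (ha2 y))

omit [Finite S] hp in
theorem Fixes.restrict {Y P R : Subgroup Ω} {φ : P →* Ω} {ψ : R →* Ω} (h : P ≤ R)
    (he : ∀ x : P, φ x = ψ ⟨x, h x.2⟩) (h2 : Fixes F Y R ψ) : Fixes F Y P φ := by
  obtain ⟨b, hb, hb1, hb2⟩ := h2
  obtain ⟨c, hc, hce⟩ := exists_restrict hb (sup_le_sup_right h Y)
  refine ⟨c, hc, fun x => ?_, fun y => ?_⟩
  · rw [hce, he, ← hb1]; rfl
  · rw [hce, ← hb2 y]; rfl

omit [Finite S] hp in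
theorem conj_centralizer {P : Subgroup Ω} {a c : Ω} (ha : a ∈ Subgroup.normalizer (P : Set Ω))
    (hc : c ∈ Subgroup.centralizer (P : Set Ω)) : a * c * a⁻¹ ∈ Subgroup.centralizer (P : Set Ω) := by
  intro x hx
  have h := congrArg (fun t => a * t * a⁻¹) (hc _ (conj_inv_mem_of_normalizer ha hx))
  group at h ⊢
  exact h

/-- Transport along a map `η : N_S(Q) → N_S(Q')` of `C_F(T)`'s focal subgroup into that of `C_F(Q')`. -/
theorem map_focal_mem {D : FusionSystem (centralizerIn S T)} (hD : F.IsCentralizerSystem T D)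
    {Q Q' : Subgroup Ω} (hQT : Q ≤ T) {η : ↥(normalizerIn S Q) →* Ω} (hη : η ∈ F.Hom (normalizerIn S Q))
    (hQ' : (Q.subgroupOf (normalizerIn S Q)).map η = Q') {D' : FusionSystem (centralizerIn S Q')}
    (hD' : F.IsCentralizerSystem Q' D') {y : Ω} (hy : y ∈ D.focalSubgroup) :
    ∀ hyN : y ∈ normalizerIn S Q, η ⟨y, hyN⟩ ∈ D'.focalSubgroup := by
  have hCN : centralizerIn S T ≤ normalizerIn S Q :=
    (centralizerIn_anti hQT).trans (centralizerIn_le_normalizerIn Q)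
  suffices h : D.focalSubgroup ≤ (D'.focalSubgroup.comap η).map (normalizerIn S Q).subtype by
    intro hyN
    obtain ⟨w, hw, he⟩ := h hy
    rwa [← show w = (⟨y, hyN⟩ : normalizerIn S Q) from Subtype.ext he]
  refine (Subgroup.closure_le _).2 ?_
  rintro _ ⟨P, φ, x, hφ, rfl⟩
  obtain ⟨-, hPC, hφC, τ, hτ, heτ, hfix⟩ := (hD P).le hφ
  have hQS : Q ≤ S := le_trans (fun x hx => (le_sup_right : T ≤ P ⊔ T) (hQT hx)) (src_le hτ)
  have hPN : P ≤ normalizerIn S Q := hPC.trans hCN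
  have hQN : Q ≤ normalizerIn S Q := le_normalizerIn hQS
  have hPQN : P ⊔ Q ≤ normalizerIn S Q := sup_le hPN hQN
  obtain ⟨τ', hτ', heτ'⟩ := exists_restrict hτ (sup_le_sup_left hQT P : P ⊔ Q ≤ P ⊔ T)
  have hτP : ∀ z : P, τ' (Subgroup.inclusion le_sup_left z) = φ z := fun z => by
    rw [heτ', ← heτ z]; rfl
  have hτQ : ∀ z : Q, τ' (Subgroup.inclusion le_sup_right z) = z := fun z => by
    rw [heτ', show (z : Ω) = ((⟨z, hQT z.2⟩ : T) : Ω) from rfl, ← hfix]; rfl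
  have hτ'N : ∀ w, τ' w ∈ normalizerIn S Q :=
    mapsTo_sup (fun z => by rw [hτP]; exact hCN (hφC z)) (fun z => by rw [hτQ]; exact hQN z.2)
  obtain ⟨η₁, hη₁, heη₁⟩ := exists_restrict hη hPQN
  obtain ⟨ηi, hηi, -, hl, -⟩ := exists_inv hη₁ rfl
  set P' := (P.subgroupOf (normalizerIn S Q)).map η with hP'
  have hηQ : ∀ q : Ω, ∀ hq : q ∈ normalizerIn S Q, q ∈ Q → η ⟨q, hq⟩ ∈ Q' := fun q hq hqQ =>
    hQ' ▸ ⟨⟨q, hq⟩, hqQ, rfl⟩
  have hcen : ∀ c : Ω, ∀ hc : c ∈ normalizerIn S Q, c ∈ centralizerIn S T →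
      η ⟨c, hc⟩ ∈ centralizerIn S Q' := by
    intro c hc hcT
    refine mem_centralizerIn.2 ⟨apply_mem hη _, ?_⟩
    rw [← hQ']
    rintro _ ⟨⟨q, hq⟩, hqQ, rfl⟩
    rw [← map_mul, ← map_mul]
    exact congrArg η (Subtype.ext ((mem_centralizerIn.1 hcT).2 q (hQT hqQ)))
  have hsrc : P' ⊔ Q' ≤ η₁.range := by
    refine sup_le ?_ ?_
    · rintro _ ⟨⟨z, hz⟩, hzP, rfl⟩
      exact ⟨⟨z, (le_sup_left : P ≤ P ⊔ Q) hzP⟩, heη₁ _⟩
    · rw [← hQ']
      rintro _ ⟨⟨z, hz⟩, hzQ, rfl⟩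
      exact ⟨⟨z, (le_sup_right : Q ≤ P ⊔ Q) hzQ⟩, heη₁ _⟩
  obtain ⟨ηi', hηi', heηi'⟩ := exists_restrict hηi hsrc
  obtain ⟨c₁, hc₁, hec₁⟩ := exists_comp hηi' hτ' fun w => by
    obtain ⟨v, hv⟩ := hsrc w.2
    rw [heηi', show (⟨(w : Ω), hsrc w.2⟩ : η₁.range) = ⟨η₁ v, ⟨v, rfl⟩⟩ from Subtype.ext hv.symm]
    exact (hl v ⟨v, rfl⟩).symm ▸ v.2
  obtain ⟨χ, hχ, heχ⟩ := exists_comp hc₁ hη fun w => by rw [hec₁]; exact hτ'N _
  have hval : ∀ v : ↥(P ⊔ Q), ∀ hv : η₁ v ∈ P' ⊔ Q',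
      χ ⟨η₁ v, hv⟩ = η ⟨τ' v, hτ'N v⟩ := by
    intro v hv
    rw [heχ]
    refine congrArg η (Subtype.ext ?_)
    show c₁ _ = τ' v
    rw [hec₁]
    refine congrArg τ' (Subtype.ext ?_)
    show ηi' _ = (v : Ω)
    rw [heηi']
    exact hl v _
  obtain ⟨χP, hχP, heχP⟩ := exists_restrict hχ (le_sup_left : P' ≤ P' ⊔ Q')
  have hχPval : ∀ z : P, ∀ hz : η ⟨z, hPN z.2⟩ ∈ P', χP ⟨_, hz⟩ = η ⟨φ z, hCN (hφC z)⟩ := by
    intro z hz
    have hz' : η₁ (Subgroup.inclusion le_sup_left z) = η ⟨z, hPN z.2⟩ := heη₁ _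
    rw [heχP, show (⟨η ⟨(z : Ω), hPN z.2⟩, (le_sup_left : P' ≤ P' ⊔ Q') hz⟩ : ↥(P' ⊔ Q')) =
      ⟨η₁ (Subgroup.inclusion le_sup_left z), hz'.symm ▸ (le_sup_left : P' ≤ P' ⊔ Q') hz⟩ from
        Subtype.ext hz'.symm, hval]
    exact congrArg η (Subtype.ext (hτP z))
  have hP'mem : ∀ z : P, η ⟨z, hPN z.2⟩ ∈ P' := fun z => ⟨⟨z, hPN z.2⟩, z.2, rfl⟩
  have hχD : χP ∈ D'.Hom P' := by
    refine (hD' P').ge ⟨hχP, ?_, ?_, χ, hχ, fun z => (heχP z).symm, ?_⟩
    · rintro _ ⟨⟨z, hz⟩, hzP, rfl⟩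
      exact hcen z hz (hPC hzP)
    · rintro ⟨_, ⟨⟨z, hz⟩, hzP, rfl⟩⟩
      rw [hχPval ⟨z, hzP⟩ (hP'mem ⟨z, hzP⟩)]
      exact hcen _ _ (hφC _)
    · intro z
      obtain ⟨⟨q, hq⟩, hqQ, he⟩ := hQ'.ge z.2
      have e1 : η₁ (Subgroup.inclusion le_sup_right ⟨q, hqQ⟩) = (z : Ω) := (heη₁ _).trans he
      rw [show (Subgroup.inclusion le_sup_right z : ↥(P' ⊔ Q')) =
        ⟨η₁ (Subgroup.inclusion le_sup_right ⟨q, hqQ⟩), e1.symm ▸ (le_sup_right : Q' ≤ P' ⊔ Q') z.2⟩ from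
          Subtype.ext e1.symm, hval, ← he]
      exact congrArg η (Subtype.ext (hτQ ⟨q, hqQ⟩))
  refine ⟨⟨(x : Ω)⁻¹ * φ x, mul_mem (inv_mem (hPN x.2)) (hCN (hφC x))⟩, ?_, rfl⟩
  show η _ ∈ D'.focalSubgroup
  refine Subgroup.subset_closure ⟨P', χP, ⟨_, hP'mem x⟩, hχD, ?_⟩
  rw [hχPval x (hP'mem x), show (⟨(x : Ω)⁻¹ * φ x, mul_mem (inv_mem (hPN x.2)) (hCN (hφC x))⟩ :
    normalizerIn S Q) = ⟨x, hPN x.2⟩⁻¹ * ⟨φ x, hCN (hφC x)⟩ from rfl, map_mul, map_inv]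

/-- The lifts of `b` along `η` moving `C_S(Q')` within cosets of `Q'`. -/
def IsLift (S : Subgroup Ω) {Q : Subgroup Ω} (Q' : Subgroup Ω) (η : ↥(normalizerIn S Q) →* Ω)
    (b : MulAut Q) (β : MulAut ↥(Q' ⊔ centralizerIn S Q')) : Prop :=
  (∀ (x : Q) (hx : (x : Ω) ∈ normalizerIn S Q) (hx' : ((b x : Q) : Ω) ∈ normalizerIn S Q)
      (h : η ⟨x, hx⟩ ∈ Q' ⊔ centralizerIn S Q'),
      (β ⟨η ⟨x, hx⟩, h⟩ : Ω) = η ⟨(b x : Q), hx'⟩) ∧
    ∀ c : ↥(Q' ⊔ centralizerIn S Q'), (c : Ω) ∈ centralizerIn S Q' → (c : Ω)⁻¹ * β c ∈ Q'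

theorem IsLift.mul {Q Q' : Subgroup Ω} {η : ↥(normalizerIn S Q) →* Ω}
    (hQS : Q ≤ S) (hQ' : (Q.subgroupOf (normalizerIn S Q)).map η = Q')
    (_hηS : ∀ w, η w ∈ S) {a b : MulAut Q} {α β : MulAut ↥(Q' ⊔ centralizerIn S Q')}
    (ha : IsLift S Q' η a α) (hb : IsLift S Q' η b β) : IsLift S Q' η (a * b) (α * β) := by
  have hmem : ∀ (w : ↥(normalizerIn S Q)), (w : Ω) ∈ Q → η w ∈ Q' := fun w hw => hQ' ▸ ⟨w, hw, rfl⟩
  have hαQ : ∀ w : ↥(Q' ⊔ centralizerIn S Q'), (w : Ω) ∈ Q' → (α w : Ω) ∈ Q' := by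
    intro w hw
    obtain ⟨⟨q, hq⟩, hqQ, he⟩ := hQ'.ge hw
    have hq2 : ((a ⟨q, hqQ⟩ : Q) : Ω) ∈ normalizerIn S Q := le_normalizerIn hQS (a ⟨q, hqQ⟩).2
    have h' : η ⟨q, hq⟩ ∈ Q' ⊔ centralizerIn S Q' := he ▸ w.2
    rw [show w = (⟨η ⟨q, hq⟩, h'⟩ : ↥(Q' ⊔ centralizerIn S Q')) from Subtype.ext he.symm,
      ha.1 ⟨q, hqQ⟩ hq hq2 h']
    exact hmem _ (a ⟨q, hqQ⟩).2
  refine ⟨fun x hx hx' h => ?_, fun c hc => ?_⟩
  · have hbx : ((b x : Q) : Ω) ∈ normalizerIn S Q := le_normalizerIn hQS (b x).2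
    have h2 : η ⟨(b x : Q), hbx⟩ ∈ Q' ⊔ centralizerIn S Q' :=
      (le_sup_left : Q' ≤ Q' ⊔ _) (hmem _ (b x).2)
    rw [MulAut.mul_apply, show β ⟨η ⟨x, hx⟩, h⟩ = (⟨η ⟨(b x : Q), hbx⟩, h2⟩ : ↥(Q' ⊔ centralizerIn S Q'))
      from Subtype.ext (hb.1 x hx hbx h)]
    exact ha.1 (b x) hbx hx' h2
  · set z : Ω := (c : Ω)⁻¹ * β c with hz
    have hzQ : z ∈ Q' := hb.2 c hc
    have hzR : z ∈ Q' ⊔ centralizerIn S Q' := (le_sup_left : Q' ≤ Q' ⊔ _) hzQ
    have e : β c = c * ⟨z, hzR⟩ := Subtype.ext (by rw [Subgroup.coe_mul]; exact (mul_inv_cancel_left _ _).symm)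
    rw [MulAut.mul_apply, e, map_mul, Subgroup.coe_mul, ← mul_assoc]
    exact Q'.mul_mem (ha.2 c hc) (hαQ ⟨z, hzR⟩ hzQ)

/-- Elements of `C_S(T)` which lie in the focal subgroup of `C_F(T)` or are centralised by `E` one at a time are
centralised simultaneously. -/
theorem fixes_of (hS : IsPGroup p S) (hE : E.IsNormalIn F p)
    {D : FusionSystem (centralizerIn S T)} (hD : F.IsCentralizerSystem T D) {s : Set Ω}
    (hs : ∀ y ∈ s, y ∈ centralizerIn S T ∧ (y ∈ D.focalSubgroup ∨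
      ∀ (P : Subgroup Ω) (φ : P →* Ω), φ ∈ E.Hom P → Fixes F (Subgroup.zpowers y) P φ)) :
    ∀ (P : Subgroup Ω) (φ : P →* Ω), φ ∈ E.Hom P → Fixes F (Subgroup.closure s) P φ := by
  obtain ⟨⟨hEs, hF, hsub, hsc, -, hfrat⟩, hext⟩ := hE
  have hTS : T ≤ S := hsc.1
  haveI := finite_sub hTS
  have hTp : IsPGroup p T := isPGroup_of_le hS hTS
  set Y := Subgroup.closure s with hY
  have hYC : Y ≤ centralizerIn S T := (Subgroup.closure_le _).2 fun y hy => (hs y hy).1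
  have hYS : Y ≤ S := hYC.trans (centralizerIn_le T)
  haveI := finite_sub hYS
  refine FusionP3.Induction.hom_induction hTp hEs ?_ ?_ ?_
  · exact fun P R φ ψ χ _ _ h he h1 h2 => Fixes.comp h he h1 h2
  · exact fun P R φ ψ h _ he h2 => Fixes.restrict h he h2
  intro Q hQn hQc hQr b₀ hb₀ big
  have hQT : Q ≤ T := hQn.1
  have hQS : Q ≤ S := hQT.trans hTS
  haveI := finite_sub hQS
  have hYQ : Q ⊔ Y ≤ normalizerIn S Q := sup_le (le_normalizerIn hQS)
    ((hYC.trans (centralizerIn_anti hQT)).trans (centralizerIn_le_normalizerIn Q))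
  set B := E.autGroup Q with hB
  have hBF : B ≤ F.autGroup Q := fun a ha => (mem_autGroup hQS).2 (hsub Q ((mem_autGroup hQT).1 ha))
  -- conjugations by elements of `T` fix `Y`
  have hTfix : ∀ a ∈ autInducedBy T Q, Fixes F Y Q (Q.subtype.comp a.toMonoidHom) := by
    intro a ha
    obtain ⟨g, hg, he⟩ := mem_autInducedBy.1 ha
    refine ⟨conjHom _ g, F.conj_mem (hYQ.trans (normalizerIn_le Q)) (hTS hg),
      fun x => (he x).symm, fun y => ?_⟩
    show g * (y : Ω) * g⁻¹ = y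
    rw [(mem_centralizerIn.1 (hYC y.2)).2 g hg, mul_inv_cancel_right]
  let G : Subgroup (MulAut Q) :=
    { carrier := {a | a ∈ B ∧ Fixes F Y Q (Q.subtype.comp a.toMonoidHom)}
      one_mem' := ⟨one_mem _, hTfix 1 (one_mem _)⟩
      mul_mem' := fun {a c} ha hc =>
        ⟨B.mul_mem ha.1 hc.1, Fixes.comp (fun x => (c x).2) (fun x => rfl) hc.2 ha.2⟩
      inv_mem' := fun {a} ha => by
        refine ⟨B.inv_mem ha.1, ?_⟩
        have hpow : ∀ i : ℕ, a ^ i ∈ B ∧ Fixes F Y Q (Q.subtype.comp (a ^ i).toMonoidHom) := by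
          intro i
          induction i with
          | zero => rw [pow_zero]; exact ⟨one_mem _, hTfix 1 (one_mem _)⟩
          | succ i ih =>
            rw [pow_succ]
            exact ⟨B.mul_mem ih.1 ha.1, Fixes.comp (fun x => (a x).2) (fun x => rfl) ha.2 ih.2⟩
        rw [show a⁻¹ = a ^ (orderOf a - 1) by
          rw [inv_eq_iff_mul_eq_one, ← pow_succ', Nat.sub_add_cancel (orderOf_pos a), pow_orderOf_eq_one]]
        exact (hpow _).2 }
  suffices hBG : B ≤ G from (hBG hb₀).2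
  have hTA : autInducedBy T Q ≤ B := autInducedBy_le_autGroup E hQT
  obtain ⟨Rs, hRs⟩ := (fullyAutomized_of_fullyNormalized hTp hEs hQn).2
  -- the transport `η`
  obtain ⟨Q', hQ'n, η, hη, hηQ, hηT, hcase⟩ : ∃ Q' : Subgroup Ω, F.IsFullyNormalized Q' ∧
      ∃ η ∈ F.Hom (normalizerIn S Q), (Q.subgroupOf (normalizerIn S Q)).map η = Q' ∧
        (∀ t ∈ T, t ∈ centralizerIn S Q' → t ∈ Q') ∧
        (Q = T → Q' = T ∧ ∀ w, η w = w) := by
    rcases eq_or_ne Q T with hQ | hQ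
    · subst hQ
      refine ⟨Q, ⟨hQS, fun R _ => ?_⟩, _, subtype_mem F (normalizerIn_le Q),
        map_subgroupOf_eq_of_mapsTo (subtype_mem F (normalizerIn_le Q)) (le_normalizerIn hQS) fun x hx => hx,
        fun t ht _ => ht, fun _ => ⟨rfl, fun w => rfl⟩⟩
      haveI := finite_sub (normalizerIn_le (S := S) Q)
      exact Subgroup.card_le_of_le fun g hg => ⟨hg.1, stronglyClosed_le_normalizer hsc hg.1⟩
    · obtain ⟨Q', hQQ', hn⟩ := exists_isFullyNormalized F hQS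
      obtain ⟨η, hη, -, hηQ⟩ := exists_normalizer_map hS hF hn hQQ'
      refine ⟨Q', hn, η, hη, hηQ, fun t ht htC => ?_, fun h => absurd h hQ⟩
      obtain ⟨η₁, hη₁, heη₁⟩ := exists_restrict hη (le_normalizerIn hQS)
      obtain ⟨α, hα, φ₀, hφ₀, heα⟩ := hfrat Q hQT η₁ hη₁
      set t₀ : T := α⁻¹ ⟨t, ht⟩ with ht₀
      have hαt : (α t₀ : Ω) = t := congrArg Subtype.val (MulAut.apply_inv_self _ α ⟨t, ht⟩)
      have ht₀C : (t₀ : Ω) ∈ centralizerIn T φ₀.range := by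
        refine mem_centralizerIn.2 ⟨t₀.2, ?_⟩
        rintro _ ⟨x, rfl⟩
        have hxT : φ₀ x ∈ T := apply_mem hφ₀ x
        have e1 : η₁ x ∈ Q' := hηQ ▸ ⟨⟨x, le_normalizerIn hQS x.2⟩, x.2, (heη₁ x).symm⟩
        have h2 := (mem_centralizerIn.1 htC).2 _ e1
        rw [heα x hxT, ← hαt, ← Subgroup.coe_mul, ← Subgroup.coe_mul, ← map_mul, ← map_mul] at h2
        exact congrArg Subtype.val (α.injective (Subtype.ext h2) : (⟨φ₀ x, hxT⟩ : T) * t₀ = t₀ * ⟨φ₀ x, hxT⟩)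
      obtain ⟨x, hx⟩ := hQc.2 φ₀.range ⟨φ₀, hφ₀, rfl⟩ ht₀C
      have hxT : φ₀ x ∈ T := apply_mem hφ₀ x
      have e2 : η₁ x = t := by
        rw [heα x hxT, show (⟨φ₀ x, hxT⟩ : T) = t₀ from Subtype.ext hx, hαt]
      rw [← e2, ← hηQ]
      exact ⟨⟨x, le_normalizerIn hQS x.2⟩, x.2, (heη₁ x).symm⟩
  have hQ'S : Q' ≤ S := hQ'n.1
  set C' := centralizerIn S Q' with hC'
  have hR'S : Q' ⊔ centralizerIn S Q' ≤ S := sup_le hQ'S (centralizerIn_le Q')
  haveI := finite_sub hR'S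
  haveI := finite_sub hQ'S
  have hηS : ∀ w, η w ∈ S := apply_mem hη
  have hmemQ' : ∀ (w : ↥(normalizerIn S Q)), (w : Ω) ∈ Q → η w ∈ Q' := fun w hw => hηQ ▸ ⟨w, hw, rfl⟩
  have hQ'T : Q' ≤ T := by
    rw [← hηQ]
    rintro _ ⟨w, hw, rfl⟩
    exact stronglyClosed_apply_mem hsc hη (hQT hw)
  -- elements with a lift
  let B0 : Subgroup (MulAut Q) :=
    { carrier := {a | a ∈ B ∧ ∃ β ∈ F.autGroup (Q' ⊔ centralizerIn S Q'), IsLift S Q' η a β}
      one_mem' := ⟨one_mem _, 1, one_mem _, fun x hx hx' h => rfl, fun c _ => by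
        show (c : Ω)⁻¹ * c ∈ Q'
        rw [inv_mul_cancel]; exact Q'.one_mem⟩
      mul_mem' := fun {a c} ha hc => by
        obtain ⟨hab, α, hα, hla⟩ := ha
        obtain ⟨hcb, γ, hγ, hlc⟩ := hc
        exact ⟨B.mul_mem hab hcb, α * γ, mul_mem hα hγ, hla.mul hQS hηQ hηS hlc⟩
      inv_mem' := fun {a} ha => by
        obtain ⟨hab, α, hα, hla⟩ := ha
        have hpow : ∀ i : ℕ, ∃ β ∈ F.autGroup (Q' ⊔ centralizerIn S Q'), IsLift S Q' η (a ^ (i + 1)) β := by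
          intro i
          induction i with
          | zero => rw [zero_add, pow_one]; exact ⟨α, hα, hla⟩
          | succ i ih =>
            obtain ⟨β, hβ, hlb⟩ := ih
            rw [pow_succ]
            exact ⟨β * α, mul_mem hβ hα, hlb.mul hQS hηQ hηS hla⟩
        refine ⟨B.inv_mem hab, ?_⟩
        rw [show a⁻¹ = a ^ (2 * orderOf a - 2 + 1) by
          have h0 := orderOf_pos a
          rw [inv_eq_iff_mul_eq_one, ← pow_succ', show 2 * orderOf a - 2 + 1 + 1 = orderOf a * 2 by omega,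
            pow_mul, pow_orderOf_eq_one, one_pow]]
        exact hpow _ }
  have hB0B : B0 ≤ B := fun a ha => ha.1
  -- `Aut_T(Q)` lifts
  have hT0 : autInducedBy T Q ≤ B0 := by
    intro a ha
    obtain ⟨g, hg, he⟩ := mem_autInducedBy.1 ha
    have hgN : g ∈ normalizerIn S Q := ⟨hTS hg, mem_normalizer_of_aut he⟩
    set g' := η ⟨g, hgN⟩ with hg'
    have hg'T : g' ∈ T := stronglyClosed_apply_mem hsc hη (x := ⟨g, hgN⟩) hg
    have hg'N : g' ∈ Subgroup.normalizer (Q' : Set Ω) := by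
      refine mem_normalizer_of_conj_mem fun q hq => ?_
      obtain ⟨w, hw, rfl⟩ := hηQ.ge hq
      rw [← map_inv, ← map_mul, ← map_mul]
      exact hmemQ' _ (conj_mem_of_normalizer hgN.2 hw)
    have hg'R : g' ∈ Subgroup.normalizer ((Q' ⊔ centralizerIn S Q' : Subgroup Ω) : Set Ω) := by
      refine mem_normalizer_of_conj_mem fun y hy => ?_
      have : Q' ⊔ centralizerIn S Q' ≤
          (Q' ⊔ centralizerIn S Q').comap (MulAut.conj g').toMonoidHom := by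
        refine sup_le (fun q hq => ?_) fun c hc => ?_
        · exact (le_sup_left : Q' ≤ Q' ⊔ _) (conj_mem_of_normalizer hg'N hq)
        · refine (le_sup_right : _ ≤ Q' ⊔ centralizerIn S Q') ?_
          exact ⟨S.mul_mem (S.mul_mem (hTS hg'T) hc.1) (S.inv_mem (hTS hg'T)),
            conj_centralizer hg'N hc.2⟩
      exact this hy
    refine ⟨hTA ha, (Q' ⊔ centralizerIn S Q').normalizerMonoidHom ⟨g', hg'R⟩,
      autInducedBy_le_autGroup F hR'S (mem_autInducedBy.2 ⟨g', hTS hg'T, fun _ => rfl⟩),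
      fun x hx hx' h => ?_, fun c hc => ?_⟩
    · show g' * η ⟨x, hx⟩ * g'⁻¹ = _
      rw [hg', ← map_inv, ← map_mul, ← map_mul]
      exact congrArg η (Subtype.ext (he x).symm)
    · show (c : Ω)⁻¹ * (g' * c * g'⁻¹) ∈ Q'
      refine hηT _ ?_ (C'.mul_mem (C'.inv_mem hc) ⟨S.mul_mem (S.mul_mem (hTS hg'T) hc.1)
        (S.inv_mem (hTS hg'T)), conj_centralizer hg'N hc.2⟩)
      rw [show (c : Ω)⁻¹ * (g' * c * g'⁻¹) = (c : Ω)⁻¹ * g' * (c : Ω)⁻¹⁻¹ * g'⁻¹ by group]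
      exact T.mul_mem (conj_mem_of_normalizer (stronglyClosed_le_normalizer hsc (S.inv_mem hc.1)) hg'T)
        (T.inv_mem hg'T)
  -- every automorphism has some lift
  have hlift : ∀ a ∈ B, ∃ β ∈ F.autGroup (Q' ⊔ centralizerIn S Q'),
      (∀ (x : Q) (hx : (x : Ω) ∈ normalizerIn S Q) (hx' : ((a x : Q) : Ω) ∈ normalizerIn S Q)
        (h : η ⟨x, hx⟩ ∈ Q' ⊔ centralizerIn S Q'), (β ⟨η ⟨x, hx⟩, h⟩ : Ω) = η ⟨(a x : Q), hx'⟩) ∧
      (∀ w : ↥(Q' ⊔ centralizerIn S Q'), (w : Ω) ∈ Q' → (β w : Ω) ∈ Q') ∧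
      ∀ w : ↥(Q' ⊔ centralizerIn S Q'), (w : Ω) ∈ C' → (β w : Ω) ∈ C' := by
    intro a ha
    obtain ⟨η₁, hη₁, heη₁⟩ := exists_restrict hη (le_normalizerIn hQS)
    have hr : η₁.range = Q' := by
      rw [← hηQ]
      ext z
      exact ⟨fun ⟨x, hx⟩ => ⟨⟨x, le_normalizerIn hQS x.2⟩, x.2, (heη₁ x).symm.trans hx⟩,
        fun ⟨w, hw, he⟩ => ⟨⟨w, hw⟩, (heη₁ _).trans he⟩⟩
    set a' := MulAut.congr (homEquiv hη₁ hr) a with ha'
    have ha'F := congr_mem_autGroup hη₁ hr (hBF ha)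
    have hrec := receptive_of_fullyNormalized hS hF hQ'n
    obtain ⟨σ, hσ, heσ⟩ := hrec.2 Q' _ ((mem_autGroup hQ'S).1 ha'F) (by
      rw [MonoidHom.range_comp, MonoidHom.range_eq_top.2 a'.surjective, ← MonoidHom.range_eq_map,
        Subgroup.range_subtype])
    have hle : Q' ⊔ centralizerIn S Q' ≤ extender S Q' (Q'.subtype.comp a'.toMonoidHom) :=
      sup_le (le_extender hQ'S fun x => hQ'S (a' x).2) (centralizerIn_le_extender Q' _)
    obtain ⟨σ₁, hσ₁, heσ₁⟩ := exists_restrict hσ hle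
    have hσQ : ∀ (w : ↥(Q' ⊔ centralizerIn S Q')) (hw : (w : Ω) ∈ Q'), σ₁ w = a' ⟨w, hw⟩ := fun w hw =>
      (heσ₁ w).trans (heσ w hw _)
    have hσC : ∀ w : ↥(Q' ⊔ centralizerIn S Q'), (w : Ω) ∈ C' → σ₁ w ∈ C' := by
      intro w hw
      refine mem_centralizerIn.2 ⟨apply_mem hσ₁ _, fun q hq => ?_⟩
      have hqR : ((a'⁻¹ ⟨q, hq⟩ : Q') : Ω) ∈ Q' ⊔ centralizerIn S Q' :=
        (le_sup_left : Q' ≤ Q' ⊔ _) (a'⁻¹ ⟨q, hq⟩).2
      have e : σ₁ ⟨_, hqR⟩ = q := by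
        rw [hσQ _ (a'⁻¹ ⟨q, hq⟩).2, MulAut.apply_inv_self]
      rw [← e, ← map_mul, ← map_mul]
      exact congrArg σ₁ (Subtype.ext ((mem_centralizerIn.1 hw).2 _ (a'⁻¹ ⟨q, hq⟩).2))
    have hmaps : ∀ w, σ₁ w ∈ Q' ⊔ centralizerIn S Q' := mapsTo_sup
      (fun x => by rw [hσQ _ x.2]; exact (le_sup_left : Q' ≤ Q' ⊔ _) (a' _).2)
      (fun x => (le_sup_right : _ ≤ Q' ⊔ centralizerIn S Q') (hσC _ x.2))
    refine ⟨_, homEquiv_mem_autGroup hσ₁ (range_eq_of_mem hσ₁ hmaps le_rfl), fun x hx hx' h => ?_,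
      fun w hw => by show σ₁ w ∈ Q'; rw [hσQ w hw]; exact (a' _).2, fun w hw => hσC w hw⟩
    have hxQ' : η ⟨x, hx⟩ ∈ Q' := hmemQ' _ x.2
    show σ₁ _ = _
    rw [hσQ _ hxQ', ha', show (⟨η ⟨x, hx⟩, hxQ'⟩ : Q') = homEquiv hη₁ hr x from
      Subtype.ext (heη₁ x).symm]
    show ((homEquiv hη₁ hr (a ((homEquiv hη₁ hr).symm (homEquiv hη₁ hr x))) : Q') : Ω) = _
    rw [MulEquiv.symm_apply_apply]
    exact heη₁ _
  have hnorm : ∀ a ∈ B, ∀ c ∈ B0, a * c * a⁻¹ ∈ B0 := by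
    intro a ha c hc
    obtain ⟨hcb, γ, hγ, hl1, hl2⟩ := hc
    obtain ⟨β, hβ, hb1, hbQ, hbC⟩ := hlift a ha
    refine ⟨B.mul_mem (B.mul_mem ha hcb) (B.inv_mem ha), β * γ * β⁻¹, mul_mem (mul_mem hβ hγ) (inv_mem hβ),
      fun x hx hx' h => ?_, fun w hw => ?_⟩
    · set x₀ := a⁻¹ x with hx₀
      have e : β ⟨η ⟨x₀, le_normalizerIn hQS x₀.2⟩, (le_sup_left : Q' ≤ Q' ⊔ _) (hmemQ' _ x₀.2)⟩ =
          (⟨η ⟨x, hx⟩, h⟩ : ↥(Q' ⊔ centralizerIn S Q')) := by
        apply Subtype.ext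
        rw [hb1 x₀ _ (le_normalizerIn hQS (a x₀).2) _]
        exact congrArg η (Subtype.ext (by rw [hx₀, MulAut.apply_inv_self]))
      rw [MulAut.mul_apply, MulAut.mul_apply, ← e, MulAut.inv_apply_self,
        show γ ⟨η ⟨x₀, le_normalizerIn hQS x₀.2⟩, (le_sup_left : Q' ≤ Q' ⊔ _) (hmemQ' _ x₀.2)⟩ =
          ⟨η ⟨(c x₀ : Q), le_normalizerIn hQS (c x₀).2⟩, (le_sup_left : Q' ≤ Q' ⊔ _) (hmemQ' _ (c x₀).2)⟩
          from Subtype.ext (hl1 x₀ _ _ _), hb1 (c x₀) _ (le_normalizerIn hQS (a (c x₀)).2) _]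
      rfl
    · -- `β⁻¹` maps `C_S(Q')` to itself
      have hinv : ∀ i : ℕ, ((β ^ i) w : Ω) ∈ C' := by
        intro i
        induction i with
        | zero => exact hw
        | succ i ih => rw [pow_succ', MulAut.mul_apply]; exact hbC _ ih
      have hd : (β⁻¹ w : Ω) ∈ C' := by
        rw [show β⁻¹ = β ^ (orderOf β - 1) by
          rw [inv_eq_iff_mul_eq_one, ← pow_succ', Nat.sub_add_cancel (orderOf_pos β), pow_orderOf_eq_one]]
        exact hinv _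
      set d := β⁻¹ w with hd'
      set z : ↥(Q' ⊔ centralizerIn S Q') :=
        ⟨(d : Ω)⁻¹ * γ d, (le_sup_left : Q' ≤ Q' ⊔ _) (hl2 d hd)⟩ with hz
      rw [MulAut.mul_apply, MulAut.mul_apply, ← hd',
        show γ d = d * z from Subtype.ext (mul_inv_cancel_left _ _).symm, map_mul, hd',
        MulAut.apply_inv_self, Subgroup.coe_mul, inv_mul_cancel_left]
      exact hbQ z (hl2 d hd)
  -- prime to `p` elements with a lift fix `Y`
  obtain ⟨D', hD'⟩ := exists_centralizerSystem F hQ'S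
  have hprime : ∀ a ∈ B0, ¬ p ∣ orderOf a → a ∈ G := by
    rintro a ⟨hab, β₀, hβ₀, hl0⟩ hord
    obtain ⟨n, hn, hβn⟩ := exists_pow_prime_to (x := β₀) hord
    have hlpow : ∀ i : ℕ, IsLift S Q' η (a ^ i) (β₀ ^ i) := by
      intro i
      induction i with
      | zero =>
        refine ⟨fun x hx hx' h => rfl, fun c _ => ?_⟩
        show (c : Ω)⁻¹ * c ∈ Q'
        rw [inv_mul_cancel]; exact Q'.one_mem
      | succ i ih => rw [pow_succ, pow_succ]; exact ih.mul hQS hηQ hηS hl0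
    set β := β₀ ^ n with hβdef
    have hl : IsLift S Q' η a β := by have := hlpow n; rwa [hn] at this
    have hβF : β ∈ F.autGroup (Q' ⊔ centralizerIn S Q') := pow_mem hβ₀ n
    have hβQ : ∀ w : ↥(Q' ⊔ centralizerIn S Q'), (w : Ω) ∈ Q' → (β w : Ω) ∈ Q' := by
      intro w hw
      obtain ⟨⟨q, hq⟩, hqQ, he⟩ := hηQ.ge hw
      have h' : η ⟨q, hq⟩ ∈ Q' ⊔ centralizerIn S Q' := he ▸ w.2
      rw [show w = ⟨η ⟨q, hq⟩, h'⟩ from Subtype.ext he.symm,
        hl.1 ⟨q, hqQ⟩ hq (le_normalizerIn hQS (a ⟨q, hqQ⟩).2) h']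
      exact hmemQ' _ (a ⟨q, hqQ⟩).2
    have hYN : Y ≤ normalizerIn S Q := (le_sup_right : Y ≤ Q ⊔ Y).trans hYQ
    have hηC : ∀ y : Ω, ∀ hy : y ∈ normalizerIn S Q, y ∈ centralizerIn S T → η ⟨y, hy⟩ ∈ C' := by
      intro y hy hyT
      refine mem_centralizerIn.2 ⟨hηS _, fun q hq => ?_⟩
      obtain ⟨w, hw, rfl⟩ := hηQ.ge hq
      rw [← map_mul, ← map_mul]
      exact congrArg η (Subtype.ext ((mem_centralizerIn.1 hyT).2 w (hQT hw)))
    have hone : ∀ y ∈ s, ∀ hy : y ∈ normalizerIn S Q,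
        ∀ h : η ⟨y, hy⟩ ∈ Q' ⊔ centralizerIn S Q', (β ⟨_, h⟩ : Ω) = η ⟨y, hy⟩ := by
      intro y hys hyN hwR
      rcases (hs y hys).2 with hfy | hfy
      · exact (focal_centralizer_fixed hS hF hQ'n hβF hβQ hl.2 hβn hD'
          (map_focal_mem hD hQT hη hηQ hD' hfy hyN)).2 hwR
      set w := η ⟨y, hyN⟩ with hw
      have hwC : w ∈ C' := hηC y hyN (hs y hys).1
      set e : Ω := w⁻¹ * β ⟨w, hwR⟩ with he
      have heQ : e ∈ Q' := hl.2 ⟨w, hwR⟩ hwC
      have hβwC : (β ⟨w, hwR⟩ : Ω) ∈ C' := by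
        refine mem_centralizerIn.2 ⟨hR'S (β ⟨w, hwR⟩).2, fun q hq => ?_⟩
        obtain ⟨⟨v, hv⟩, hvQ, rfl⟩ := hηQ.ge hq
        set v₀ := a⁻¹ ⟨v, hvQ⟩ with hv₀
        have e1 : β ⟨η ⟨v₀, le_normalizerIn hQS v₀.2⟩, (le_sup_left : Q' ≤ Q' ⊔ _) (hmemQ' _ v₀.2)⟩ =
            (⟨η ⟨v, hv⟩, (le_sup_left : Q' ≤ Q' ⊔ _) (hmemQ' _ hvQ)⟩ : ↥(Q' ⊔ centralizerIn S Q')) := by
          apply Subtype.ext
          rw [hl.1 v₀ _ (le_normalizerIn hQS (a v₀).2) _]
          exact congrArg η (Subtype.ext (by rw [hv₀, MulAut.apply_inv_self]))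
        have e2 := congrArg Subtype.val e1
        simp only at e2
        rw [← e2, ← Subgroup.coe_mul, ← Subgroup.coe_mul, ← map_mul, ← map_mul]
        exact congrArg (fun r : ↥(Q' ⊔ centralizerIn S Q') => (β r : Ω)) (Subtype.ext
          ((mem_centralizerIn.1 hwC).2 _ (hmemQ' _ v₀.2)))
      have hef : e ∈ D'.focalSubgroup := by
        obtain ⟨ψ, hψ, hψ1, hψ2⟩ := hfy Q (Q.subtype.comp (a⁻¹ : MulAut Q).toMonoidHom)
          ((mem_autGroup hQT).1 (B.inv_mem hab))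
        have hyQN : Q ⊔ Subgroup.zpowers y ≤ normalizerIn S Q :=
          sup_le (le_normalizerIn hQS) (Subgroup.zpowers_le.2 hyN)
        obtain ⟨η₁, hη₁, heη₁⟩ := exists_restrict hη hyQN
        obtain ⟨ηi, hηi, -, hl1, -⟩ := exists_inv hη₁ rfl
        have hval1 : ∀ q : Q, ψ (Subgroup.inclusion le_sup_left q) = ((a⁻¹ q : Q) : Ω) := hψ1
        have hψN : ∀ v, ψ v ∈ normalizerIn S Q := mapsTo_sup
          (fun q => by rw [hval1]; exact le_normalizerIn hQS (a⁻¹ q).2)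
          (fun z => by rw [hψ2]; exact Subgroup.zpowers_le.2 hyN z.2)
        obtain ⟨c₁, hc₁, hec₁⟩ := exists_comp hψ hη hψN
        have hc₁Q : ∀ q : Q, c₁ (Subgroup.inclusion le_sup_left q) =
            η ⟨((a⁻¹ q : Q) : Ω), le_normalizerIn hQS (a⁻¹ q).2⟩ := fun q => by
          rw [hec₁]; exact congrArg η (Subtype.ext (hval1 q))
        have hc₁y : ∀ z : Subgroup.zpowers y, c₁ (Subgroup.inclusion le_sup_right z) =
            η ⟨z, Subgroup.zpowers_le.2 hyN z.2⟩ := fun z => by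
          rw [hec₁]; exact congrArg η (Subtype.ext (hψ2 z))
        have hc₁R : ∀ v, c₁ v ∈ Q' ⊔ centralizerIn S Q' := mapsTo_sup
          (fun q => by rw [hc₁Q]; exact (le_sup_left : Q' ≤ Q' ⊔ _) (hmemQ' _ (a⁻¹ q).2))
          (fun z => by
            rw [hc₁y]
            refine (le_sup_right : _ ≤ Q' ⊔ centralizerIn S Q') (hηC _ _ ?_)
            exact Subgroup.zpowers_le.2 (hs y hys).1 z.2)
        obtain ⟨c₂, hc₂, hec₂⟩ := exists_comp hc₁ ((mem_autGroup hR'S).1 hβF) hc₁R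
        obtain ⟨c₃, hc₃, hec₃⟩ := exists_comp hηi hc₂ fun v => by
          obtain ⟨v', hv'⟩ := v.2
          rw [show v = (⟨η₁ v', ⟨v', rfl⟩⟩ : η₁.range) from Subtype.ext hv'.symm]
          exact (hl1 v' ⟨v', rfl⟩).symm ▸ v'.2
        have hsrc : Subgroup.zpowers w ⊔ Q' ≤ η₁.range := by
          refine sup_le (Subgroup.zpowers_le.2 ?_) ?_
          · exact ⟨Subgroup.inclusion le_sup_right ⟨y, Subgroup.mem_zpowers y⟩, heη₁ _⟩
          · rw [← hηQ]
            rintro _ ⟨⟨z, hz⟩, hzQ, rfl⟩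
            exact ⟨Subgroup.inclusion le_sup_left ⟨z, hzQ⟩, heη₁ _⟩
        obtain ⟨χ, hχ, heχ⟩ := exists_restrict hc₃ hsrc
        have hval : ∀ v : ↥(Q ⊔ Subgroup.zpowers y), ∀ hv : η₁ v ∈ Subgroup.zpowers w ⊔ Q',
            χ ⟨η₁ v, hv⟩ = c₂ v := by
          intro v hv
          rw [heχ, hec₃]
          exact congrArg c₂ (Subtype.ext (hl1 v _))
        have hχQ : ∀ q : Q', χ (Subgroup.inclusion le_sup_right q) = q := by
          intro q
          obtain ⟨⟨v, hv⟩, hvQ, hve⟩ := hηQ.ge q.2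
          have h1 : η₁ (Subgroup.inclusion le_sup_left ⟨v, hvQ⟩) = (q : Ω) := (heη₁ _).trans hve
          rw [show (Subgroup.inclusion le_sup_right q : ↥(Subgroup.zpowers w ⊔ Q')) =
            ⟨η₁ (Subgroup.inclusion le_sup_left ⟨v, hvQ⟩),
              h1.symm ▸ (le_sup_right : Q' ≤ Subgroup.zpowers w ⊔ Q') q.2⟩ from Subtype.ext h1.symm,
            hval, hec₂]
          show (β _ : Ω) = _
          rw [show (⟨c₁ (Subgroup.inclusion le_sup_left ⟨v, hvQ⟩), hc₁R _⟩ : ↥(Q' ⊔ centralizerIn S Q')) =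
            ⟨η ⟨((a⁻¹ ⟨v, hvQ⟩ : Q) : Ω), le_normalizerIn hQS (a⁻¹ ⟨v, hvQ⟩).2⟩,
              (le_sup_left : Q' ≤ Q' ⊔ _) (hmemQ' _ (a⁻¹ ⟨v, hvQ⟩).2)⟩ from Subtype.ext (hc₁Q _),
            hl.1 _ _ (le_normalizerIn hQS (a (a⁻¹ ⟨v, hvQ⟩)).2) _, ← hve]
          exact congrArg η (Subtype.ext (by rw [MulAut.apply_inv_self]))
        have hχw : ∀ hw' : w ∈ Subgroup.zpowers w ⊔ Q', χ ⟨w, hw'⟩ = β ⟨w, hwR⟩ := by
          intro hw'
          have h1 : η₁ (Subgroup.inclusion le_sup_right ⟨y, Subgroup.mem_zpowers y⟩) = w := heη₁ _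
          rw [show (⟨w, hw'⟩ : ↥(Subgroup.zpowers w ⊔ Q')) =
            ⟨η₁ (Subgroup.inclusion le_sup_right ⟨y, Subgroup.mem_zpowers y⟩), h1.symm ▸ hw'⟩ from
              Subtype.ext h1.symm, hval, hec₂]
          show (β _ : Ω) = _
          exact congrArg (fun r : ↥(Q' ⊔ centralizerIn S Q') => (β r : Ω)) (Subtype.ext (hc₁y _))
        obtain ⟨χw, hχw', heχw⟩ := exists_restrict hχ (le_sup_left : Subgroup.zpowers w ≤ _ ⊔ Q')
        refine Subgroup.subset_closure ⟨Subgroup.zpowers w, χw, ⟨w, Subgroup.mem_zpowers w⟩,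
          (hD' _).ge ⟨hχw', Subgroup.zpowers_le.2 hwC, fun v => ?_, χ, hχ, fun v => (heχw v).symm, hχQ⟩, ?_⟩
        · obtain ⟨n, hn⟩ := v.2
          rw [show v = (⟨w, Subgroup.mem_zpowers w⟩ : Subgroup.zpowers w) ^ n from Subtype.ext hn.symm,
            map_zpow]
          refine zpow_mem ?_ n
          rw [heχw, hχw]
          exact hβwC
        · rw [heχw, hχw]
      have hfe := focal_centralizer_fixed hS hF hQ'n hβF hβQ hl.2 hβn hD' hef
      have heR : e ∈ Q' ⊔ centralizerIn S Q' := (le_sup_left : Q' ≤ Q' ⊔ _) heQ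
      have hpow : ∀ i : ℕ, (β ^ i) ⟨w, hwR⟩ = ⟨w, hwR⟩ * ⟨e, heR⟩ ^ i := by
        intro i
        induction i with
        | zero => simp
        | succ i ih =>
          rw [pow_succ', MulAut.mul_apply, ih, map_mul, map_pow,
            show β ⟨e, heR⟩ = ⟨e, heR⟩ from Subtype.ext (hfe.2 heR),
            show β ⟨w, hwR⟩ = ⟨w, hwR⟩ * ⟨e, heR⟩ from Subtype.ext (mul_inv_cancel_left _ _).symm,
            mul_assoc, ← pow_succ']
      have h1 := hpow (orderOf β)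
      rw [pow_orderOf_eq_one, MulAut.one_apply, left_eq_mul] at h1
      obtain ⟨k, hk⟩ := (isPGroup_of_le hS hR'S) ⟨e, heR⟩
      have h2 := mem_zpowers_pow hk hβn
      rw [h1, Subgroup.zpowers_one_eq_bot, Subgroup.mem_bot] at h2
      have h3 : e = 1 := congrArg Subtype.val h2
      rw [he, inv_mul_eq_one] at h3
      exact h3.symm
    have hfixed : ∀ y ∈ Y, ∀ hy : y ∈ normalizerIn S Q, η ⟨y, hy⟩ ∈ C' ∧
        ∀ h : η ⟨y, hy⟩ ∈ Q' ⊔ centralizerIn S Q', (β ⟨_, h⟩ : Ω) = η ⟨y, hy⟩ := by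
      intro y hy hyN
      refine ⟨hηC y hyN (hYC hy), ?_⟩
      revert hyN
      refine Subgroup.closure_induction (p := fun y _ => ∀ hy : y ∈ normalizerIn S Q,
        ∀ h : η ⟨y, hy⟩ ∈ Q' ⊔ centralizerIn S Q', (β ⟨_, h⟩ : Ω) = η ⟨y, hy⟩) hone ?_ ?_ ?_ hy
      · intro h1 h
        rw [show (⟨η ⟨1, h1⟩, h⟩ : ↥(Q' ⊔ centralizerIn S Q')) = 1 from Subtype.ext (map_one η), map_one]
        exact (map_one η).symm
      · intro u v hu hv hu' hv' huv h
        have huN := hYN hu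
        have hvN := hYN hv
        have huR := (le_sup_right : _ ≤ Q' ⊔ centralizerIn S Q') (hηC u huN (hYC hu))
        have hvR := (le_sup_right : _ ≤ Q' ⊔ centralizerIn S Q') (hηC v hvN (hYC hv))
        rw [show (⟨η ⟨u * v, huv⟩, h⟩ : ↥(Q' ⊔ centralizerIn S Q')) = ⟨η ⟨u, huN⟩, huR⟩ * ⟨η ⟨v, hvN⟩, hvR⟩
          from Subtype.ext (map_mul η ⟨u, huN⟩ ⟨v, hvN⟩), map_mul, Subgroup.coe_mul, hu' huN huR, hv' hvN hvR]
        exact (map_mul η ⟨u, huN⟩ ⟨v, hvN⟩).symm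
      · intro u hu hu' hui h
        have huN := hYN hu
        have huR := (le_sup_right : _ ≤ Q' ⊔ centralizerIn S Q') (hηC u huN (hYC hu))
        rw [show (⟨η ⟨u⁻¹, hui⟩, h⟩ : ↥(Q' ⊔ centralizerIn S Q')) = (⟨η ⟨u, huN⟩, huR⟩)⁻¹
          from Subtype.ext (map_inv η ⟨u, huN⟩), map_inv, Subgroup.coe_inv, hu' huN huR]
        exact (map_inv η ⟨u, huN⟩).symm
    obtain ⟨σ₀, hσ₀, heσ₀⟩ := exists_restrict hη hYQ
    have hσ₀Q : ∀ x : Q, σ₀ (Subgroup.inclusion le_sup_left x) = η ⟨x, le_normalizerIn hQS x.2⟩ :=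
      fun x => heσ₀ _
    have hσ₀R : ∀ w, σ₀ w ∈ Q' ⊔ centralizerIn S Q' := mapsTo_sup
      (fun x => by rw [hσ₀Q]; exact (le_sup_left : Q' ≤ Q' ⊔ _) (hmemQ' _ x.2))
      (fun y => by rw [heσ₀]; exact (le_sup_right : _ ≤ Q' ⊔ centralizerIn S Q') (hfixed y y.2 _).1)
    obtain ⟨σ₁, hσ₁, heσ₁⟩ := exists_comp hσ₀ ((mem_autGroup hR'S).1 hβF) hσ₀R
    obtain ⟨σi, hσi, -, hli, -⟩ := exists_inv hσ₀ rfl
    have he1 : ∀ x : Q, σ₁ (Subgroup.inclusion le_sup_left x) =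
        σ₀ (Subgroup.inclusion le_sup_left (a x)) := by
      intro x
      rw [heσ₁, hσ₀Q (a x)]
      show ((β _ : ↥(Q' ⊔ centralizerIn S Q')) : Ω) = _
      exact (congrArg (fun r : ↥(Q' ⊔ centralizerIn S Q') => (β r : Ω)) (Subtype.ext (hσ₀Q x) :
        (⟨σ₀ _, hσ₀R _⟩ : ↥(Q' ⊔ centralizerIn S Q')) =
          ⟨η ⟨x, le_normalizerIn hQS x.2⟩, (le_sup_left : Q' ≤ Q' ⊔ _) (hmemQ' _ x.2)⟩)).trans
        (hl.1 x _ _ _)
    have he2 : ∀ y : Y, σ₁ (Subgroup.inclusion le_sup_right y) = σ₀ (Subgroup.inclusion le_sup_right y) := by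
      intro y
      rw [heσ₁]
      show ((β _ : ↥(Q' ⊔ centralizerIn S Q')) : Ω) = _
      have hyN : (y : Ω) ∈ normalizerIn S Q := hYQ ((le_sup_right : Y ≤ Q ⊔ Y) y.2)
      have hyR : η ⟨y, hyN⟩ ∈ Q' ⊔ centralizerIn S Q' :=
        (le_sup_right : _ ≤ Q' ⊔ centralizerIn S Q') (hfixed y y.2 hyN).1
      rw [show (⟨σ₀ (Subgroup.inclusion le_sup_right y), hσ₀R _⟩ : ↥(Q' ⊔ centralizerIn S Q')) =
        ⟨η ⟨y, hyN⟩, hyR⟩ from Subtype.ext (heσ₀ _), (hfixed y y.2 hyN).2 hyR]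
      exact (heσ₀ (Subgroup.inclusion le_sup_right y)).symm
    have hr1 : ∀ w, σ₁ w ∈ σ₀.range :=
      mapsTo_sup (fun x => ⟨_, (he1 x).symm⟩) (fun y => ⟨_, (he2 y).symm⟩)
    obtain ⟨χ, hχ, heχ⟩ := exists_comp hσ₁ hσi hr1
    refine ⟨hab, χ, hχ, fun x => ?_, fun y => ?_⟩
    · rw [heχ, show (⟨σ₁ (Subgroup.inclusion le_sup_left x), hr1 _⟩ : σ₀.range) =
        ⟨σ₀ (Subgroup.inclusion le_sup_left (a x)), ⟨_, rfl⟩⟩ from Subtype.ext (he1 x)]
      exact hli _ _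
    · rw [heχ, show (⟨σ₁ (Subgroup.inclusion le_sup_right y), hr1 _⟩ : σ₀.range) =
        ⟨σ₀ (Subgroup.inclusion le_sup_right y), ⟨_, rfl⟩⟩ from Subtype.ext (he2 y)]
      exact hli _ _
  have hRB0 : ∀ a : B, a ∈ (Rs : Subgroup B) → (a : MulAut Q) ∈ B0 := fun a ha => by
    rw [hRs] at ha; exact hT0 ha
  have hB0G : B0 ≤ G := by
    set B0' := B0.subgroupOf B with hB0'
    have hle : (Rs : Subgroup B) ≤ B0' := fun a ha => hRB0 a ha
    intro a ha
    have hgen := closure_prime_to_sup_sylow (Rs.subtype hle)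
    have key : ∀ w : B0', ((w : B) : MulAut Q) ∈ G := by
      intro w
      have hw : w ∈ Subgroup.closure {x : B0' | ¬ p ∣ orderOf x} ⊔ (Rs.subtype hle : Subgroup B0') :=
        hgen.ge (Subgroup.mem_top w)
      refine (?_ : _ ⊔ _ ≤ (G.subgroupOf B).subgroupOf B0') hw
      refine sup_le ((Subgroup.closure_le _).2 fun x hx => ?_) fun x hx => ?_
      · refine hprime _ x.2 ?_
        rwa [orderOf_injective _ B.subtype_injective, orderOf_injective _ B0'.subtype_injective]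
      · rw [Sylow.coe_subtype, Subgroup.mem_subgroupOf] at hx
        have hx' : (((x : B0') : B) : MulAut Q) ∈ autInducedBy T Q := by
          rw [hRs] at hx; exact hx
        exact ⟨hTA hx', hTfix _ hx'⟩
    exact key ⟨⟨a, hB0B ha⟩, ha⟩
  rcases eq_or_lt_of_le hQT with hQ | hQ
  · -- the base: every automorphism of `T` lifts by normality
    subst hQ
    obtain ⟨hQ'eq, hηid⟩ := hcase rfl
    subst hQ'eq
    intro a ha
    refine hB0G ⟨ha, ?_⟩
    obtain ⟨β, hβ, he, hc⟩ := hext a ha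
    refine ⟨β, hβ, fun x hx hx' h => ?_, fun c hc' => (hc c hc').1⟩
    rw [hηid ⟨(a x : Q'), hx'⟩, show (⟨η ⟨x, hx⟩, h⟩ : ↥(Q' ⊔ centralizerIn S Q')) =
      Subgroup.inclusion le_sup_left x from Subtype.ext (hηid _)]
    exact he x
  · -- Frattini argument
    haveI : (B0.subgroupOf B).Normal :=
      ⟨fun c hc a => hnorm a a.2 c hc⟩
    have htop := Sylow.normalizer_sup_eq_top' (N := B0.subgroupOf B) Rs fun a ha => hRB0 a ha
    intro a ha
    refine ((?_ : _ ⊔ _ ≤ G.subgroupOf B) (htop.ge (Subgroup.mem_top (⟨a, ha⟩ : B))) :)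
    refine sup_le (fun n hn => ?_) fun c hc => hB0G hc
    refine ⟨n.2, ?_⟩
    have hrec := receptive_of_fullyNormalized hTp hEs hQn
    obtain ⟨ψ, hψ, heψ⟩ := FusionP3.Induction.exists_extend_preimage hrec (W := autInducedBy T Q) le_rfl n.2 (by
      intro w hw
      have hw' : (⟨w, hTA hw⟩ : B) ∈ (Rs : Subgroup B) := by rw [hRs]; exact hw
      have h3 : n * ⟨w, hTA hw⟩ * n⁻¹ ∈ (Rs : Subgroup B) := (hn _).1 hw'
      rw [hRs] at h3
      exact h3)
    have hNle : normalizerIn T Q ≤ FusionP3.Induction.preimageAut T Q (autInducedBy T Q) := fun g hg =>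
      ⟨hg, Q.normalizerMonoidHom ⟨g, hg.2⟩, mem_autInducedBy.2 ⟨g, hg.1, fun _ => rfl⟩, fun _ => rfl⟩
    have hsrcψ := src_le hψ
    haveI := finite_sub (hsrcψ.trans hTS)
    have hbig := big _ (by
      refine lt_of_lt_of_le ?_ (Subgroup.card_le_of_le hNle)
      have h1 := FusionP3.Induction.lt_normalizerIn hTp hQ
      haveI := finite_sub ((normalizerIn_le (S := T) Q).trans hTS)
      refine lt_of_le_of_ne (Subgroup.card_le_of_le h1.le) fun h => h1.ne ?_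
      exact Subgroup.eq_of_le_of_card_ge h1.le h.ge) ψ hψ
    refine Fixes.restrict ((le_normalizerIn hQT).trans hNle) (fun x => ?_) hbig
    exact (heψ x x.2 _).symm

/-- Every map of a normal subsystem `E` over `T` extends fixing the focal subgroup of `C_F(T)` pointwise. -/
theorem fixes_focal (hS : IsPGroup p S) (hE : E.IsNormalIn F p)
    {D : FusionSystem (centralizerIn S T)} (hD : F.IsCentralizerSystem T D) :
    ∀ (P : Subgroup Ω) (φ : P →* Ω), φ ∈ E.Hom P → Fixes F D.focalSubgroup P φ := by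
  have hC : D.focalSubgroup ≤ centralizerIn S T := by
    refine (Subgroup.closure_le _).2 ?_
    rintro _ ⟨P, φ, x, hφ, rfl⟩
    exact mul_mem (inv_mem (src_le hφ x.2)) (apply_mem hφ x)
  have h := fixes_of hS hE hD (s := (D.focalSubgroup : Set Ω)) fun y hy => ⟨hC hy, Or.inl hy⟩
  rwa [Subgroup.closure_eq] at h

end Cfsg.Agent.Lib.FS.NormalCentralizer
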