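import Mathlib
import Cfsg.Agent.Lib.FusionSystem.Normal
import Cfsg.Agent.Lib.FusionSystem.Normalizer
import Cfsg.Agent.Lib.FusionSystem.NormalCentralizer

/-!
The centraliser system of a normal subgroup is a normal subsystem.
-/

set_option autoImplicit false
set_option linter.style.haveILetI false
set_option linter.unusedSectionVars false

namespace Cfsg.Agent.Lib.FS

open Cfsg Cfsg.FusionSystem Cfsg.Agent.Lib.FS.NormalCentralizer

variable {Ω : Type*} [Group Ω] {S : Subgroup Ω} {F : FusionSystem S}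

/-- Homomorphisms on a join agreeing on both factors are equal. -/
theorem eq_of_sup {A B : Subgroup Ω} {χ₁ χ₂ : ↥(A ⊔ B) →* Ω}
    (hA : ∀ x : A, χ₁ (Subgroup.inclusion le_sup_left x) = χ₂ (Subgroup.inclusion le_sup_left x))
    (hB : ∀ x : B, χ₁ (Subgroup.inclusion le_sup_right x) = χ₂ (Subgroup.inclusion le_sup_right x))
    (w : ↥(A ⊔ B)) : χ₁ w = χ₂ w := by
  have : A ⊔ B ≤ (χ₁.eqLocus χ₂).map (A ⊔ B).subtype :=
    sup_le (fun x hx => ⟨Subgroup.inclusion le_sup_left ⟨x, hx⟩, hA _, rfl⟩)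
      (fun x hx => ⟨Subgroup.inclusion le_sup_right ⟨x, hx⟩, hB _, rfl⟩)
  obtain ⟨w', hw', he'⟩ := this w.2
  rwa [← show w' = w from Subtype.ext he']

/-- An element normalising two subgroups normalises their join. -/
theorem mem_normalizer_sup {A B : Subgroup Ω} {g : Ω} (hA : g ∈ Subgroup.normalizer (A : Set Ω))
    (hB : g ∈ Subgroup.normalizer (B : Set Ω)) :
    g ∈ Subgroup.normalizer ((A ⊔ B : Subgroup Ω) : Set Ω) := by
  rw [Subgroup.mem_normalizer_iff_map_conj_eq] at hA hB ⊢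
  rw [Subgroup.map_sup, hA, hB]

variable [Finite S] {p : ℕ} [Fact p.Prime] {Q : Subgroup Ω}

/-- A normal subgroup is fully centralised. -/
theorem isNormal_fullyCentralized (hQ : F.IsNormal Q) : F.IsFullyCentralized Q := by
  haveI := finite_sub hQ.1
  refine ⟨hQ.1, ?_⟩
  rintro R ⟨φ, hφ, rfl⟩
  rw [range_eq_of_mem hφ (fun x => isNormal_apply_mem hQ hφ x.2) le_rfl]

/-- `C_S(Q)` is strongly closed for `Q` normal. -/
theorem stronglyClosed_centralizerIn (hQ : F.IsNormal Q) : F.StronglyClosed (centralizerIn S Q) := by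
  refine ⟨centralizerIn_le Q, fun P hP φ hφ x => ?_⟩
  obtain ⟨ψ, hψ, he, hm⟩ := hQ.2 P φ hφ
  refine mem_centralizerIn.2 ⟨apply_mem hφ x, ?_⟩
  rw [← hm]
  rintro _ ⟨w, hw, rfl⟩
  rw [← he x, ← map_mul, ← map_mul]
  exact congrArg ψ (Subtype.ext ((mem_centralizerIn.1 (hP x.2)).2 _ (Subgroup.mem_subgroupOf.1 hw)))

/-- The centraliser system of a normal subgroup is weakly normal. -/
theorem centralizerSystem_weaklyNormal (hS : IsPGroup p S) (hF : F.IsSaturated p) (hQ : F.IsNormal Q)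
    {C : FusionSystem (centralizerIn S Q)} (hC : F.IsCentralizerSystem Q C) : C.IsWeaklyNormalIn F p := by
  have hfc := isNormal_fullyCentralized hQ
  have hTsc := stronglyClosed_centralizerIn hQ
  have hQS := hQ.1
  haveI := finite_sub hQS
  set T := centralizerIn S Q with hT
  have hTS : T ≤ S := centralizerIn_le Q
  haveI := finite_sub hTS
  refine ⟨centralizerSystem_isSaturated hS hF hfc hC, hF, fun P φ hφ => ((hC P).le hφ).1, hTsc, ?_, ?_⟩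
  · intro P hPT φ hφ α hα
    obtain ⟨hφF, -, hφT, ψ, hψ, hψP, hψQ⟩ := (hC P).le hφ
    obtain ⟨a, ha, har, hae⟩ := exists_hom_of_aut hTS hα
    obtain ⟨b, hb, hbe, hbQ⟩ := hQ.2 T a ha
    have hPQ : P ⊔ Q ≤ T ⊔ Q := sup_le_sup_right hPT Q
    obtain ⟨b₁, hb₁, hb₁e⟩ := exists_restrict hb hPQ
    obtain ⟨bi, hbi, -, hl, -⟩ := exists_inv hb₁ rfl
    set P' := (P.subgroupOf T).map (T.subtype.comp α.toMonoidHom) with hP'
    have hbv : ∀ x : P, b₁ (Subgroup.inclusion le_sup_left x) = (α ⟨x, hPT x.2⟩ : T) := fun x => by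
      rw [hb₁e, ← hae, ← hbe]
      rfl
    have hsrc : P' ⊔ Q ≤ b₁.range := by
      refine sup_le ?_ ?_
      · rintro _ ⟨x, hx, rfl⟩
        exact ⟨Subgroup.inclusion le_sup_left ⟨x, hx⟩, hbv _⟩
      · intro q hq
        obtain ⟨w, hw, hwq⟩ := hbQ.ge hq
        exact ⟨Subgroup.inclusion le_sup_right ⟨w, Subgroup.mem_subgroupOf.1 hw⟩, by rw [hb₁e, ← hwq]; rfl⟩
    obtain ⟨i, hi, hie⟩ := exists_restrict hbi hsrc
    have him : ∀ w, i w ∈ P ⊔ Q := fun w => by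
      obtain ⟨v, hv⟩ := hsrc w.2
      rw [hie, show (⟨(w : Ω), hsrc w.2⟩ : b₁.range) = ⟨b₁ v, ⟨v, rfl⟩⟩ from Subtype.ext hv.symm,
        hl v ⟨v, rfl⟩]
      exact v.2
    obtain ⟨c₁, hc₁, hc₁e⟩ := exists_comp hi hψ him
    have hψm : ∀ w, ψ w ∈ T ⊔ Q := mapsTo_sup
      (fun x => by rw [hψP]; exact (le_sup_left : T ≤ T ⊔ Q) (hφT x))
      (fun y => by rw [hψQ]; exact (le_sup_right : Q ≤ T ⊔ Q) y.2)
    obtain ⟨χ₂, hχ₂, hχ₂e⟩ := exists_comp hc₁ hb fun w => by rw [hc₁e]; exact hψm _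
    have hval : ∀ (v : ↥(P ⊔ Q)) (hv : b₁ v ∈ P' ⊔ Q), χ₂ ⟨b₁ v, hv⟩ = b ⟨ψ v, hψm v⟩ := by
      intro v hv
      rw [hχ₂e]
      refine congrArg b (Subtype.ext ?_)
      show c₁ _ = ψ v
      rw [hc₁e]
      refine congrArg ψ (Subtype.ext ?_)
      show i _ = (v : Ω)
      rw [hie]
      exact hl v _
    obtain ⟨χ, hχ, hχe⟩ := exists_restrict hχ₂ (le_sup_left : P' ≤ P' ⊔ Q)
    have hχval : ∀ (x : P) (hαx : ((α ⟨x, hPT x.2⟩ : T) : Ω) ∈ P'),
        χ ⟨_, hαx⟩ = (α ⟨φ x, hφT x⟩ : T) := by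
      intro x hαx
      rw [hχe, show (⟨((α ⟨x, hPT x.2⟩ : T) : Ω), (le_sup_left : P' ≤ P' ⊔ Q) hαx⟩ : ↥(P' ⊔ Q)) =
        ⟨b₁ (Subgroup.inclusion le_sup_left x), (hbv x).symm ▸ (le_sup_left : P' ≤ P' ⊔ Q) hαx⟩ from
          Subtype.ext (hbv x).symm, hval, ← hae, ← hbe]
      exact congrArg b (Subtype.ext (hψP x))
    have hP'T : P' ≤ T := by rintro _ ⟨x, -, rfl⟩; exact (α x).2
    refine ⟨χ, (hC P').ge ⟨hχ, hP'T, ?_, χ₂, hχ₂, fun x => (hχe x).symm, ?_⟩,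
      fun x hφx hαx => hχval x hαx⟩
    · rintro ⟨_, ⟨x, hx, rfl⟩⟩
      exact (hχval ⟨x, hx⟩ ⟨x, hx, rfl⟩).symm ▸ (α _).2
    · intro q
      obtain ⟨w, hw, hwq⟩ := hbQ.ge q.2
      have e : b₁ (Subgroup.inclusion le_sup_right ⟨w, Subgroup.mem_subgroupOf.1 hw⟩) = (q : Ω) := by
        rw [hb₁e, ← hwq]; rfl
      rw [show (Subgroup.inclusion le_sup_right q : ↥(P' ⊔ Q)) =
        ⟨b₁ (Subgroup.inclusion le_sup_right ⟨w, Subgroup.mem_subgroupOf.1 hw⟩),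
          e.symm ▸ (le_sup_right : Q ≤ P' ⊔ Q) q.2⟩ from Subtype.ext e.symm, hval, ← hwq]
      exact congrArg b (Subtype.ext (hψQ ⟨w, Subgroup.mem_subgroupOf.1 hw⟩))
  · intro P hPT φ hφ
    obtain ⟨ψ, hψ, hψP, hψQ⟩ := hQ.2 P φ hφ
    obtain ⟨τ, hτ, hτe⟩ := exists_restrict hψ (le_sup_right : Q ≤ P ⊔ Q)
    have hτr : τ.range = Q := range_eq_of_mem hτ
      (fun q => by rw [hτe]; exact hψQ.le ⟨_, Subgroup.mem_subgroupOf.2 q.2, rfl⟩) le_rfl
    obtain ⟨σ, hσ, hσe⟩ := (receptive_of_fullyCentralized hS hF hfc).2 Q τ hτ hτr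
    obtain ⟨γ, hγ, hγe⟩ := exists_restrict hσ
      (sup_le (centralizerIn_le_extender Q τ) (le_extender hQS (apply_mem hτ)) :
        T ⊔ Q ≤ extender S Q τ)
    have hγQ : ∀ q : Q, γ (Subgroup.inclusion le_sup_right q) = τ q := fun q => by
      rw [hγe]; exact hσe q q.2 _
    obtain ⟨γT, hγT, hγTe⟩ := exists_restrict hγ (le_sup_left : T ≤ T ⊔ Q)
    have hγTr : γT.range = T :=
      range_eq_of_mem hγT (fun x => stronglyClosed_apply_mem hTsc hγT x.2) le_rfl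
    have hγm : ∀ w, γ w ∈ T ⊔ Q := mapsTo_sup
      (fun x => by
        rw [show γ (Subgroup.inclusion le_sup_left x) = γT x from (hγTe x).symm]
        exact (le_sup_left : T ≤ T ⊔ Q) (hγTr.le ⟨x, rfl⟩))
      (fun q => by rw [hγQ]; exact (le_sup_right : Q ≤ T ⊔ Q) (hτr.le ⟨q, rfl⟩))
    haveI := finite_sub (sup_le hTS hQS)
    obtain ⟨γi, hγi, -, hl, -⟩ := exists_inv hγ (range_eq_of_mem hγ hγm le_rfl)
    have hψm : ∀ w, ψ w ∈ T ⊔ Q := mapsTo_sup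
      (fun x => by rw [hψP]; exact (le_sup_left : T ≤ T ⊔ Q) (hTsc.2 P hPT φ hφ x))
      (fun q => (le_sup_right : Q ≤ T ⊔ Q) (hψQ.le ⟨_, Subgroup.mem_subgroupOf.2 q.2, rfl⟩))
    obtain ⟨ψ₀, hψ₀, hψ₀e⟩ := exists_comp hψ hγi hψm
    obtain ⟨φ₀, hφ₀, hφ₀e⟩ := exists_restrict hψ₀ (le_sup_left : P ≤ P ⊔ Q)
    set α : MulAut T := homEquiv hγT hγTr with hα
    have hval : ∀ x : P, φ₀ x = (α⁻¹ ⟨φ x, hTsc.2 P hPT φ hφ x⟩ : T) := by
      intro x
      set t := α⁻¹ ⟨φ x, hTsc.2 P hPT φ hφ x⟩ with ht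
      have e : γ (Subgroup.inclusion le_sup_left t) = φ x := by
        have h1 := congrArg Subtype.val (MulAut.apply_inv_self _ α ⟨φ x, hTsc.2 P hPT φ hφ x⟩)
        rw [hγe]
        refine Eq.trans ?_ h1
        exact (hγe _).symm.trans ((hγTe t).symm)
      rw [hφ₀e, hψ₀e, show (⟨ψ ⟨(x : Ω), (le_sup_left : P ≤ P ⊔ Q) x.2⟩, hψm _⟩ : ↥(T ⊔ Q)) =
        ⟨γ (Subgroup.inclusion le_sup_left t), hγm _⟩ from Subtype.ext ((hψP x).trans e.symm)]
      exact hl _ _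
    refine ⟨α, homEquiv_mem_autGroup hγT hγTr, φ₀, (hC P).ge ⟨hφ₀, hPT, fun x => by rw [hval]; exact (α⁻¹ _).2,
      ψ₀, hψ₀, fun x => (hφ₀e x).symm, fun q => ?_⟩, fun x hx => ?_⟩
    · rw [hψ₀e, show (⟨ψ (Subgroup.inclusion le_sup_right q), hψm _⟩ : ↥(T ⊔ Q)) =
        ⟨γ (Subgroup.inclusion le_sup_right q), hγm _⟩ from Subtype.ext ((hτe q).symm.trans (hγQ q).symm)]
      exact hl _ _
    · rw [show (⟨φ₀ x, hx⟩ : T) = α⁻¹ ⟨φ x, hTsc.2 P hPT φ hφ x⟩ from Subtype.ext (hval x),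
        MulAut.apply_inv_self]

/-- The centraliser system of a normal subgroup is a normal subsystem. -/
theorem centralizerSystem_isNormalIn (hS : IsPGroup p S) (hF : F.IsSaturated p) (hQ : F.IsNormal Q)
    {C : FusionSystem (centralizerIn S Q)} (hC : F.IsCentralizerSystem Q C) : C.IsNormalIn F p := by
  refine ⟨centralizerSystem_weaklyNormal hS hF hQ hC, ?_⟩
  have hQS := hQ.1
  have hTsc := stronglyClosed_centralizerIn hQ
  set T := centralizerIn S Q with hT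
  have hTS : T ≤ S := centralizerIn_le Q
  haveI := finite_sub hQS
  haveI := finite_sub hTS
  haveI := finite_sub (sup_le hTS hQS)
  intro α hα
  obtain ⟨φ, hφC, -, hφe⟩ := exists_hom_of_aut le_rfl hα
  obtain ⟨-, -, -, ψ, hψ, hψT, hψQ⟩ := (hC T).le hφC
  have hTT : ∀ x : T, ψ (Subgroup.inclusion le_sup_left x) ∈ T := fun x => by
    rw [hψT, hφe]; exact (α x).2
  have hψm : ∀ w, ψ w ∈ T ⊔ Q := mapsTo_sup (fun x => (le_sup_left : T ≤ T ⊔ Q) (hTT x))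
    (fun q => by rw [hψQ]; exact (le_sup_right : Q ≤ T ⊔ Q) q.2)
  have hψr : ψ.range = T ⊔ Q := range_eq_of_mem hψ hψm le_rfl
  have hself : ∀ R, F.IsConj (T ⊔ Q) R → R = T ⊔ Q := by
    rintro R ⟨χ, hχ, rfl⟩
    refine range_eq_of_mem hχ (mapsTo_sup ?_ ?_) le_rfl
    · exact fun x => (le_sup_left : T ≤ T ⊔ Q) (stronglyClosed_apply_mem hTsc hχ x.2)
    · exact fun x => (le_sup_right : Q ≤ T ⊔ Q) (isNormal_apply_mem hQ hχ x.2)
  have hfc : F.IsFullyCentralized (T ⊔ Q) :=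
    ⟨sup_le hTS hQS, fun R hR => by rw [hself R hR]⟩
  obtain ⟨σ, hσ, hσe⟩ := (receptive_of_fullyCentralized hS hF hfc).2 (T ⊔ Q) ψ hψ hψr
  have hnorm : ∀ g ∈ centralizerIn S T, g ∈ normalizerIn S (T ⊔ Q) := fun g hg =>
    ⟨hg.1, mem_normalizer_sup (stronglyClosed_le_normalizer hTsc hg.1) (isNormal_le_normalizer hQ hg.1)⟩
  have hle : T ⊔ centralizerIn S T ≤ extender S (T ⊔ Q) ψ := by
    refine sup_le (le_sup_left.trans (le_extender (sup_le hTS hQS) (apply_mem hψ))) fun g hg => ?_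
    refine mem_extender_of (hnorm g hg) hg.1 fun w hw => ?_
    have hgT : ∀ t ∈ T, g * t * g⁻¹ = t := (mem_centralizerIn'.1 hg).2
    have hgQ : ∀ q ∈ Q, g * q * g⁻¹ ∈ Q := fun q hq =>
      conj_mem_of_normalizer (isNormal_le_normalizer hQ hg.1) hq
    exact eq_of_sup (χ₁ := ψ.comp (((MulAut.conj g).toMonoidHom.comp (T ⊔ Q).subtype).codRestrict (T ⊔ Q)
        fun v => conj_mem_of_normalizer (hnorm g hg).2 v.2))
      (χ₂ := (MulAut.conj g).toMonoidHom.comp ψ)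
      (fun t => by
        show ψ ⟨g * (t : Ω) * g⁻¹, _⟩ = g * ψ _ * g⁻¹
        rw [hgT _ (hTT t)]
        exact congrArg ψ (Subtype.ext (hgT t t.2)))
      (fun q => by
        show ψ ⟨g * (q : Ω) * g⁻¹, _⟩ = g * ψ _ * g⁻¹
        rw [hψQ q]
        exact hψQ ⟨g * q * g⁻¹, hgQ q q.2⟩) w
  obtain ⟨β, hβ, hβe⟩ := exists_restrict hσ hle
  haveI := finite_sub (src_le hβ)
  have hQC : Q ≤ centralizerIn S T := fun q hq =>
    mem_centralizerIn.2 ⟨hQS hq, fun t ht => ((mem_centralizerIn.1 ht).2 q hq).symm⟩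
  have hβT : ∀ x : T, β (Subgroup.inclusion le_sup_left x) = α x := fun x => by
    rw [hβe]
    refine (hσe x ((le_sup_left : T ≤ T ⊔ Q) x.2) _).trans ?_
    exact (hψT x).trans (hφe x)
  have hβQ : ∀ q : Q, β ⟨q, (le_sup_right : _ ≤ T ⊔ centralizerIn S T) (hQC q.2)⟩ = q := fun q => by
    rw [hβe]
    exact (hσe q ((le_sup_right : Q ≤ T ⊔ Q) q.2) _).trans (hψQ q)
  have hβC : ∀ c : ↥(T ⊔ centralizerIn S T), (c : Ω) ∈ centralizerIn S T → β c ∈ centralizerIn S T := by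
    intro c hc
    refine mem_centralizerIn.2 ⟨apply_mem hβ c, fun t ht => ?_⟩
    have e : β (Subgroup.inclusion le_sup_left (α⁻¹ ⟨t, ht⟩)) = t := by
      rw [hβT, MulAut.apply_inv_self]
    rw [← e, ← map_mul, ← map_mul]
    exact congrArg β (Subtype.ext ((mem_centralizerIn.1 hc).2 _ (α⁻¹ ⟨t, ht⟩).2))
  have hβm : ∀ w, β w ∈ T ⊔ centralizerIn S T := mapsTo_sup
    (fun x => by rw [hβT]; exact (le_sup_left : T ≤ T ⊔ _) (α x).2)
    (fun x => (le_sup_right : _ ≤ T ⊔ centralizerIn S T) (hβC _ x.2))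
  have hr := range_eq_of_mem hβ hβm le_rfl
  refine ⟨homEquiv hβ hr, homEquiv_mem_autGroup hβ hr, hβT, fun c hc => ?_⟩
  show (c : Ω)⁻¹ * β c ∈ T ⊓ Subgroup.centralizer (T : Set Ω)
  have h1 : (c : Ω)⁻¹ * β c ∈ centralizerIn S T :=
    (centralizerIn S T).mul_mem ((centralizerIn S T).inv_mem hc) (hβC c hc)
  refine ⟨mem_centralizerIn'.2 ⟨h1.1, fun q hq => ?_⟩, h1.2⟩
  have hq' : (c : Ω) * q * (c : Ω)⁻¹ ∈ Q := conj_mem_of_normalizer (isNormal_le_normalizer hQ hc.1) hq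
  have hqR : q ∈ T ⊔ centralizerIn S T := (le_sup_right : _ ≤ T ⊔ centralizerIn S T) (hQC hq)
  have e : β (c * ⟨q, hqR⟩ * c⁻¹) = (c : Ω) * q * (c : Ω)⁻¹ := hβQ ⟨_, hq'⟩
  rw [map_mul, map_mul, map_inv, hβQ ⟨q, hq⟩] at e
  calc (c : Ω)⁻¹ * β c * q * ((c : Ω)⁻¹ * β c)⁻¹
      = (c : Ω)⁻¹ * (β c * q * (β c)⁻¹) * c := by group
    _ = (c : Ω)⁻¹ * ((c : Ω) * q * (c : Ω)⁻¹) * c := by rw [e]
    _ = q := by group

/-- The centraliser system of a normal subgroup exists as a normal subsystem. -/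
theorem exists_centralizer_normal (hS : IsPGroup p S) (hF : F.IsSaturated p) (hQ : F.IsNormal Q) :
    ∃ C : FusionSystem (centralizerIn S Q), F.IsCentralizerSystem Q C ∧ C.IsNormalIn F p := by
  obtain ⟨C, hC⟩ := exists_centralizerSystem F hQ.1
  exact ⟨C, hC, centralizerSystem_isNormalIn hS hF hQ hC⟩

end Cfsg.Agent.Lib.FS
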