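import Mathlib
import Cfsg.Agent.Lib.FusionSystem.Basic
import Cfsg.Agent.Lib.Transfer.AbelianJ

/-!
The abelian Thompson subgroup of subgroups of a finite subgroup, the ordering of subgroups by it, and quadratic
elements outside a subgroup.
-/

set_option autoImplicit false
set_option linter.style.haveILetI false
set_option linter.unusedSectionVars false

namespace Cfsg.Agent.Lib.FS.AbelianKey

open Cfsg Cfsg.FusionSystem Cfsg.Agent.Lib Cfsg.Agent.Lib.FS
open Cfsg.Agent.Lib.Transfer.AbelianJ (maxAbIn)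

variable {Ω : Type*} [Group Ω] {S U R : Subgroup Ω}

/-- The largest order of an abelian subgroup of `U`. -/
noncomputable def abRank (U : Subgroup Ω) : ℕ :=
  sSup {n | ∃ A : Subgroup Ω, A ≤ U ∧ IsMulCommutative A ∧ n = Nat.card A}

/-- The subgroup generated by the abelian subgroups of `U` of largest order. -/
def jSub (U : Subgroup Ω) : Subgroup Ω := sSup (maxAbIn U)

/-- The ordering: largest abelian order first, then the order of `jSub`. -/
noncomputable def key (S U : Subgroup Ω) : ℕ := abRank U * (Nat.card S + 1) + Nat.card (jSub U)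

theorem jSub_le (U : Subgroup Ω) : jSub U ≤ U := sSup_le fun _ hA => hA.1

theorem le_jSub {A : Subgroup Ω} (hA : A ∈ maxAbIn U) : A ≤ jSub U := le_sSup hA

theorem bddAbove [Finite U] :
    BddAbove {n | ∃ A : Subgroup Ω, A ≤ U ∧ IsMulCommutative A ∧ n = Nat.card A} :=
  ⟨Nat.card U, fun _ ⟨_, hA, _, hn⟩ => hn ▸ Subgroup.card_le_of_le hA⟩

theorem card_le_abRank [Finite U] {A : Subgroup Ω} (hA : A ≤ U) (hc : IsMulCommutative A) :
    Nat.card A ≤ abRank U :=
  le_csSup bddAbove ⟨A, hA, hc, rfl⟩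

theorem exists_maxAb (U : Subgroup Ω) [Finite U] : (maxAbIn U).Nonempty ∧
    ∃ A ∈ maxAbIn U, Nat.card A = abRank U := by
  have hne : {n | ∃ A : Subgroup Ω, A ≤ U ∧ IsMulCommutative A ∧ n = Nat.card A}.Nonempty :=
    ⟨_, ⊥, bot_le, show IsMulCommutative (⊥ : Subgroup Ω) from inferInstance, rfl⟩
  obtain ⟨A, hA, hc, hn⟩ := Nat.sSup_mem hne bddAbove
  have hmem : A ∈ maxAbIn U := ⟨hA, hc, fun B hB hBc => (card_le_abRank hB hBc).trans hn.le⟩
  exact ⟨⟨A, hmem⟩, A, hmem, hn.symm⟩

theorem card_eq_abRank [Finite U] {A : Subgroup Ω} (hA : A ∈ maxAbIn U) : Nat.card A = abRank U := by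
  obtain ⟨-, B, hB, he⟩ := exists_maxAb U
  exact le_antisymm (card_le_abRank hA.1 hA.2.1) (he ▸ hA.2.2 B hB.1 hB.2.1)

theorem mem_maxAb_of_le [Finite U] [Finite R] (h : U ≤ R) (hr : abRank U = abRank R) {A : Subgroup Ω}
    (hA : A ∈ maxAbIn U) : A ∈ maxAbIn R :=
  ⟨hA.1.trans h, hA.2.1, fun _ hB hBc => (card_le_abRank hB hBc).trans (hr ▸ card_eq_abRank hA).ge⟩

theorem abRank_mono [Finite U] [Finite R] (h : U ≤ R) : abRank U ≤ abRank R := by
  obtain ⟨-, A, hA, he⟩ := exists_maxAb U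
  exact he ▸ card_le_abRank (hA.1.trans h) hA.2.1

theorem jSub_mono [Finite U] [Finite R] (h : U ≤ R) (hr : abRank U = abRank R) : jSub U ≤ jSub R :=
  sSup_le fun _ hA => le_jSub (mem_maxAb_of_le h hr hA)

theorem key_mono [Finite S] (hUR : U ≤ R) (hR : R ≤ S) : key S U ≤ key S R := by
  haveI := finite_sub hR
  haveI := finite_sub (hUR.trans hR)
  rcases (abRank_mono hUR).lt_or_eq with h | h
  · refine le_trans ?_ (Nat.le_add_right _ _)
    calc key S U ≤ abRank U * (Nat.card S + 1) + (Nat.card S + 1) := by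
          refine Nat.add_le_add_left (le_trans ?_ (Nat.le_succ _)) _
          exact Subgroup.card_le_of_le ((jSub_le U).trans (hUR.trans hR))
      _ = (abRank U + 1) * (Nat.card S + 1) := (Nat.succ_mul _ _).symm
      _ ≤ abRank R * (Nat.card S + 1) := Nat.mul_le_mul_right _ h
  · rw [key, key, h]
    haveI := finite_sub ((jSub_le R).trans hR)
    exact Nat.add_le_add_left (Subgroup.card_le_of_le (jSub_mono hUR h)) _

theorem key_lt [Finite S] (hUR : U ≤ R) (hR : R ≤ S) (h : ∃ A ∈ maxAbIn R, ¬ A ≤ U) :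
    key S U < key S R := by
  haveI := finite_sub hR
  haveI := finite_sub (hUR.trans hR)
  obtain ⟨A, hA, hAU⟩ := h
  haveI := finite_sub ((jSub_le R).trans hR)
  rcases (abRank_mono hUR).lt_or_eq with hr | hr
  · refine lt_of_lt_of_le ?_ (Nat.le_add_right _ _)
    calc key S U < abRank U * (Nat.card S + 1) + (Nat.card S + 1) := by
          refine Nat.add_lt_add_left (Nat.lt_succ_of_le ?_) _
          exact Subgroup.card_le_of_le ((jSub_le U).trans (hUR.trans hR))
      _ = (abRank U + 1) * (Nat.card S + 1) := (Nat.succ_mul _ _).symm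
      _ ≤ abRank R * (Nat.card S + 1) := Nat.mul_le_mul_right _ hr
  · rw [key, key, hr]
    refine Nat.add_lt_add_left (lt_of_le_of_ne (Subgroup.card_le_of_le (jSub_mono hUR hr)) fun he => hAU ?_) _
    have := Subgroup.eq_of_le_of_card_ge (jSub_mono hUR hr) he.ge
    exact (le_jSub hA).trans (this.ge.trans (jSub_le U))

theorem maxAb_le_jSub [Finite S] (hUR : U ≤ R) (hR : R ≤ S) (hk : key S R ≤ key S U) {A : Subgroup Ω}
    (hA : A ∈ maxAbIn R) : A ≤ jSub U := by
  haveI := finite_sub hR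
  haveI := finite_sub (hUR.trans hR)
  have hAU : A ≤ U := by
    by_contra h
    exact absurd (key_lt hUR hR ⟨A, hA, h⟩) (not_lt.2 hk)
  exact le_jSub ⟨hAU, hA.2.1, fun B hB hBc => hA.2.2 B (hB.trans hUR) hBc⟩

theorem jSub_top_map {P : Subgroup Ω} (φ : P →* Ω) (hφ : Function.Injective φ) :
    jSub φ.range = (sSup (maxAbIn (⊤ : Subgroup P))).map φ := by
  rw [jSub, MonoidHom.range_eq_map, Transfer.AbelianJ.maxAbIn_map φ hφ, sSup_image,
    (Subgroup.gc_map_comap φ).l_sSup]

theorem map_jSub {P : Subgroup Ω} (φ : P →* Ω) (hφ : Function.Injective φ) :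
    ((jSub P).subgroupOf P).map φ = jSub φ.range := by
  have h := jSub_top_map P.subtype P.subtype_injective
  rw [P.range_subtype] at h
  rw [jSub_top_map φ hφ, h, Subgroup.subgroupOf, Subgroup.comap_map_eq_self_of_injective P.subtype_injective]

theorem key_range {P : Subgroup Ω} [Finite P] (φ : P →* Ω) (hφ : Function.Injective φ) :
    key S φ.range = key S P := by
  haveI : Finite φ.range := Finite.of_surjective φ.rangeRestrict φ.rangeRestrict_surjective
  have hP : P = (⊤ : Subgroup P).map P.subtype := by rw [← MonoidHom.range_eq_map, P.range_subtype]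
  have h1 := Transfer.AbelianJ.maxAbIn_map P.subtype P.subtype_injective (⊤ : Subgroup P)
  rw [← hP] at h1
  have h2 := Transfer.AbelianJ.maxAbIn_map φ hφ (⊤ : Subgroup P)
  rw [← MonoidHom.range_eq_map] at h2
  obtain ⟨A, hA⟩ := Transfer.AbelianJ.maxAbIn_nonempty (⊤ : Subgroup P)
  have hA1 : A.map P.subtype ∈ maxAbIn P := h1 ▸ ⟨A, hA, rfl⟩
  have hA2 : A.map φ ∈ maxAbIn φ.range := h2 ▸ ⟨A, hA, rfl⟩
  have hj1 := jSub_top_map P.subtype P.subtype_injective
  rw [P.range_subtype] at hj1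
  rw [key, key, ← card_eq_abRank hA1, ← card_eq_abRank hA2, hj1, jSub_top_map φ hφ,
    Subgroup.card_map_of_injective hφ, Subgroup.card_map_of_injective P.subtype_injective,
    Subgroup.card_map_of_injective hφ, Subgroup.card_map_of_injective P.subtype_injective]

theorem maxAb_jSub [Finite U] : maxAbIn U ⊆ maxAbIn (jSub U) := fun _ hA =>
  ⟨le_jSub hA, hA.2.1, fun B hB hBc => hA.2.2 B (hB.trans (jSub_le U)) hBc⟩

theorem jSub_jSub [Finite U] : jSub (jSub U) = jSub U :=
  le_antisymm (jSub_le _) (sSup_le_sSup maxAb_jSub)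

theorem key_jSub [Finite S] (hU : U ≤ S) : key S (jSub U) = key S U := by
  haveI := finite_sub hU
  haveI := finite_sub ((jSub_le U).trans hU)
  obtain ⟨-, A, hA, he⟩ := exists_maxAb U
  rw [key, key, jSub_jSub, ← card_eq_abRank (maxAb_jSub hA), he]

/-- If every abelian subgroup of largest order of `R` lies in `U` the keys agree. -/
theorem key_le_of_forall [Finite S] (hUR : U ≤ R) (hR : R ≤ S) (h : ∀ A ∈ maxAbIn R, A ≤ U) :
    key S R ≤ key S U := by
  rw [← key_jSub hR]
  exact key_mono (sSup_le h) (hUR.trans hR)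

/-- An element of an overgroup centralising `jSub U` lies in it or gives a larger key. -/
theorem mem_of_centralizes [Finite R] (hUR : U ≤ R) (hr : abRank R ≤ abRank U) {A : Subgroup Ω}
    (hA : A ∈ maxAbIn U) {t : Ω} (ht : t ∈ R) (hc : ∀ a ∈ A, a * t = t * a) : t ∈ A := by
  haveI := finite_sub (S := R) hUR
  set B := A ⊔ Subgroup.zpowers t with hB
  have hBR : B ≤ R := sup_le (hA.1.trans hUR) (Subgroup.zpowers_le.2 ht)
  haveI := finite_sub (S := R) hBR
  have hBc : IsMulCommutative B := LA5.Replacement.isMulCommutative_sup hA.2.1 inferInstance fun a ha b hb => by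
    obtain ⟨n, rfl⟩ := Subgroup.mem_zpowers_iff.1 hb
    exact ((show Commute a t from hc a ha).zpow_right n).eq
  have he : A = B := Subgroup.eq_of_le_of_card_ge le_sup_left
    ((card_le_abRank hBR hBc).trans (hr.trans (card_eq_abRank hA).ge))
  exact he.ge ((le_sup_right : _ ≤ B) (Subgroup.mem_zpowers t))

theorem conj_jSub_le {g : Ω} (hg : g ∈ Subgroup.normalizer (U : Set Ω)) :
    ∀ x ∈ jSub U, g * x * g⁻¹ ∈ jSub U := by
  have hU : U.map (MulAut.conj g).toMonoidHom = U := LA5.Basic.mem_normalizer_iff_conj_eq.1 hg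
  have h : jSub U ≤ (jSub U).comap (MulAut.conj g).toMonoidHom := sSup_le fun A hA => by
    rw [← Subgroup.map_le_iff_le_comap]
    refine le_jSub ?_
    have := Transfer.AbelianJ.map_mem_maxAbIn (MulAut.conj g).toMonoidHom (MulAut.conj g).injective hA
    rwa [hU] at this
  exact fun x hx => h hx

theorem normalizerIn_le_jSub [Finite S] (hU : U ≤ S) : normalizerIn S U ≤ normalizerIn S (jSub U) := by
  haveI := finite_sub ((jSub_le U).trans hU)
  exact fun g hg => ⟨hg.1, mem_normalizer_of_conj_mem (conj_jSub_le hg.2)⟩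

/-- An abelian subgroup of largest order outside `U` acting quadratically on a central subgroup `V` of `U`
normalised by `N`. -/
theorem exists_quadratic [Finite R] {p : ℕ} [Fact p.Prime] (hR : IsPGroup p R) {V : Subgroup Ω} (hUR : U ≤ R)
    (hVU : V ≤ U) (hVU' : ∀ u ∈ U, ∀ v ∈ V, u * v = v * u)
    (hVn : ∀ g ∈ R, ∀ v ∈ V, g * v * g⁻¹ ∈ V) (hA : ∃ A ∈ maxAbIn R, ¬ A ≤ U) :
    ∃ A ∈ maxAbIn R, ¬ A ≤ U ∧ ∀ a ∈ A, ∀ v ∈ V,
      a * (a * v * a⁻¹ * v⁻¹) * a⁻¹ = a * v * a⁻¹ * v⁻¹ := by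
  haveI := finite_sub (S := R) (hVU.trans hUR)
  let 𝒜 : Set (Subgroup Ω) := {A | A ∈ maxAbIn R ∧ ¬ A ≤ U}
  have hfin : 𝒜.Finite := by
    have := finite_subgroups_le (S := R)
    exact Set.Finite.subset (s := {A | A ≤ R}) (Set.finite_coe_iff.1 this) fun A hA => hA.1.1
  obtain ⟨A, ⟨hA, hAU⟩, hmax⟩ := Set.exists_max_image 𝒜
    (fun A => Nat.card (A ⊓ V : Subgroup Ω)) hfin (let ⟨A, h1, h2⟩ := hA; ⟨A, h1, h2⟩)
  refine ⟨A, hA, hAU, ?_⟩
  have hVR : V ≤ R := hVU.trans hUR
  have hVc : IsMulCommutative V :=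
    .of_setLike_mul_comm fun u hu v hv => hVU' u (hVU hu) v hv
  -- work inside `R`
  set A₀ := A.subgroupOf R with hA₀
  set V₀ := V.subgroupOf R with hV₀
  have hA0m : A₀.map R.subtype = A := Subgroup.map_subgroupOf_eq_of_le hA.1
  have hV0m : V₀.map R.subtype = V := Subgroup.map_subgroupOf_eq_of_le hVR
  have hVnorm : V₀.Normal := ⟨fun v hv g => hVn g g.2 v hv⟩
  have hmaxT : ∀ B : Subgroup R, B ∈ maxAbIn (⊤ : Subgroup R) → B.map R.subtype ∈ maxAbIn R := by
    intro B hB
    have := Transfer.AbelianJ.map_mem_maxAbIn R.subtype R.subtype_injective hB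
    rwa [← MonoidHom.range_eq_map, R.range_subtype] at this
  have hA₀max : A₀ ∈ maxAbIn (⊤ : Subgroup R) := by
    refine ⟨le_top, Transfer.AbelianJ.isMulCommutative_comap R.subtype R.subtype_injective hA.2.1,
      fun B _ hB => ?_⟩
    have h := hA.2.2 (B.map R.subtype) (Subgroup.map_subtype_le B)
      (Transfer.AbelianJ.isMulCommutative_map _ hB)
    rw [Subgroup.card_map_of_injective R.subtype_injective, ← hA0m,
      Subgroup.card_map_of_injective R.subtype_injective] at h
    exact h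
  have hV₀c : IsMulCommutative V₀ := Transfer.AbelianJ.isMulCommutative_comap R.subtype R.subtype_injective hVc
  have hVA : V₀ ≤ Subgroup.normalizer (A₀ : Set R) := by
    by_contra hn
    obtain ⟨A', hA', h1, h2, h3⟩ := Transfer.AbelianJ.exists_replacement_in
      (hR.of_equiv Subgroup.topEquiv.symm) hA₀max le_top hV₀c
      (by rw [Subgroup.normalizer_eq_top_iff.mpr hVnorm]; exact le_top) hn
    set U₀ := U.subgroupOf R with hU₀
    have hA'U : A' ≤ U₀ := by
      by_contra hc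
      have hle := hmax (A'.map R.subtype) ⟨hmaxT A' hA', fun h => hc fun x hx => h ⟨x, hx, rfl⟩⟩
      refine absurd hle (not_le.2 ?_)
      show Nat.card (A ⊓ V : Subgroup Ω) < Nat.card (A'.map R.subtype ⊓ V : Subgroup Ω)
      rw [← hA0m, ← hV0m, ← Subgroup.map_inf _ _ _ R.subtype_injective,
        ← Subgroup.map_inf _ _ _ R.subtype_injective, Subgroup.card_map_of_injective R.subtype_injective,
        Subgroup.card_map_of_injective R.subtype_injective]
      exact lt_of_le_of_ne (Subgroup.card_le_of_le h3.le) fun he =>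
        h3.ne (Subgroup.eq_of_le_of_card_ge h3.le he.ge)
    let D := (A₀ ⊓ U₀) ⊔ V₀
    have hD : IsMulCommutative D :=
      LA5.Replacement.isMulCommutative_sup
        (Transfer.AbelianJ.isMulCommutative_mono hA₀max.2.1 inf_le_left) hV₀c
        fun x hx u hu => Subtype.ext (hVU' x hx.2 u hu)
    have hA'D : A' ≤ D := by
      intro x hx
      have hx' : x ∈ ((A₀ ⊔ V₀ : Subgroup R) : Set R) := h2 hx
      rw [Subgroup.mul_normal] at hx'
      obtain ⟨a, ha, u, hu, rfl⟩ := hx'
      refine mul_mem (Subgroup.mem_sup_left ⟨ha, ?_⟩) (Subgroup.mem_sup_right hu)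
      simpa using U₀.mul_mem (hA'U hx) (U₀.inv_mem (show u ∈ U₀ from hVU hu))
    have hDeq : A' = D := Subgroup.eq_of_le_of_card_ge hA'D (hA'.2.2 D le_top hD)
    exact hn ((le_sup_right : V₀ ≤ D).trans (hDeq.ge.trans h1))
  intro a ha v hv
  have hmem : a * v * a⁻¹ * v⁻¹ ∈ A := by
    have h1 := (Subgroup.mem_normalizer_iff.1 (hVA (show (⟨v, hVR hv⟩ : R) ∈ V₀ from hv))
      ⟨a⁻¹, R.inv_mem (hA.1 ha)⟩).1 (show a⁻¹ ∈ A from A.inv_mem ha)
    have h2 : v * a⁻¹ * v⁻¹ ∈ A := h1
    simpa [mul_assoc] using A.mul_mem ha h2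
  rw [show a * (a * v * a⁻¹ * v⁻¹) = a * v * a⁻¹ * v⁻¹ * a from
    congrArg Subtype.val (hA.2.1.is_comm.comm (⟨a, ha⟩ : A) ⟨_, hmem⟩), mul_inv_cancel_right]

end Cfsg.Agent.Lib.FS.AbelianKey
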