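import Mathlib
import Cfsg.Agent.Lib.PGroups.Frattini

/-!
Crossed homomorphisms into abelian `p`-groups vanishing on a Sylow subgroup, and the norm argument for quadratic
elements (`p` odd): such a map is trivial if it vanishes on the normaliser of the subgroup generated by the
quadratic elements of the Sylow subgroup.
-/

set_option autoImplicit false
set_option linter.style.haveILetI false
set_option linter.unusedSectionVars false

namespace Cfsg.Agent.Lib.FS.CocycleNorm

open Cfsg.Agent.Lib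

variable {X V : Type*} [Group X] [CommGroup V]

/-- A crossed homomorphism. -/
def IsCrossed (ρ : X →* MulAut V) (d : X → V) : Prop := ∀ x y, d (x * y) = d x * ρ x (d y)

namespace IsCrossed

variable {ρ : X →* MulAut V} {d : X → V}

theorem one (h : IsCrossed ρ d) : d 1 = 1 := by
  have h1 := h 1 1
  rw [mul_one, map_one, MulAut.one_apply] at h1
  exact left_eq_mul.1 h1

theorem inv (h : IsCrossed ρ d) (x : X) : ρ x (d x⁻¹) = (d x)⁻¹ := by
  have h1 := h x x⁻¹
  rw [mul_inv_cancel, h.one] at h1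
  exact eq_inv_of_mul_eq_one_right h1.symm

theorem pow (h : IsCrossed ρ d) (n : ℕ) : IsCrossed ρ fun x => d x ^ n := fun x y => by
  show d (x * y) ^ n = _
  rw [h x y, mul_pow, map_pow]

/-- The elements where a crossed homomorphism vanishes. -/
def ker (h : IsCrossed ρ d) : Subgroup X where
  carrier := {x | d x = 1}
  one_mem' := h.one
  mul_mem' := fun {a b} (ha : d a = 1) (hb : d b = 1) => by
    show d (a * b) = 1
    rw [h, ha, hb, map_one, one_mul]
  inv_mem' := fun {a} (ha : d a = 1) => by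
    show d a⁻¹ = 1
    apply (ρ a).injective
    rw [h.inv, ha, inv_one, map_one]

/-- A crossed homomorphism vanishing on `P` is constant on left cosets of `P`. -/
theorem out_eq (h : IsCrossed ρ d) (P : Subgroup X) (hP : ∀ y ∈ P, d y = 1) (x : X) :
    d (x : X ⧸ P).out = d x := by
  obtain ⟨y, hy⟩ := QuotientGroup.mk_out_eq_mul P x
  rw [hy, h, hP y y.2, map_one, mul_one]

end IsCrossed

section Finite

variable [Finite X] [Finite V] {p : ℕ} [hp : Fact p.Prime]

theorem eq_one_of_pow {v : V} {n : ℕ} (hV : IsPGroup p V) (hn : ¬ p ∣ n) (h : v ^ n = 1) : v = 1 := by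
  obtain ⟨k, hk⟩ := hV v
  have hcop : (p ^ k).Coprime n := Nat.Coprime.pow_left k ((hp.out.coprime_iff_not_dvd).2 hn)
  exact orderOf_eq_one_iff.1 (Nat.eq_one_of_dvd_coprimes hcop (orderOf_dvd_of_pow_eq_one hk)
    (orderOf_dvd_of_pow_eq_one h))

theorem exists_root {n : ℕ} (hV : IsPGroup p V) (hn : ¬ p ∣ n) : ∃ m : ℕ, ∀ v : V, (v ^ n) ^ m = v := by
  obtain ⟨k, hk⟩ := IsPGroup.iff_card.1 hV
  have hcop : n.Coprime (p ^ k) := Nat.Coprime.pow_right k ((hp.out.coprime_iff_not_dvd).2 hn).symm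
  obtain ⟨m, hm⟩ := Nat.chineseRemainder hcop 0 1
  obtain ⟨t, rfl⟩ := Nat.modEq_zero_iff_dvd.1 hm.1
  refine ⟨t, fun v => ?_⟩
  conv_rhs => rw [← pow_one v]
  rw [← pow_mul, pow_eq_pow_iff_modEq]
  exact Nat.ModEq.of_dvd (hk ▸ orderOf_dvd_natCard v) hm.2

/-- A homomorphism into a `p`-group takes all values where it takes those of a Sylow `p`-subgroup. -/
theorem mem_of_fixed {ρ : X →* MulAut V} {d : X → V} (hd : IsCrossed ρ d) (hV : IsPGroup p V)
    (hfix : ∀ x y, ρ x (d y) = d y) (P : Sylow p X) (W : Subgroup V) (hP : ∀ y ∈ P, d y ∈ W) (x : X) :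
    d x ∈ W := by
  let f : X →* V := MonoidHom.mk' d fun a b => by rw [hd, hfix]
  obtain ⟨k, m, hm, hkm⟩ := Nat.exists_eq_pow_mul_and_not_dvd (orderOf_pos x).ne' p hp.out.ne_one
  have hpg : IsPGroup p (Subgroup.zpowers (x ^ m)) := by
    refine IsPGroup.of_card_dvd_pow (n := k) ?_
    rw [Nat.card_zpowers]
    exact orderOf_dvd_of_pow_eq_one (by rw [← pow_mul, mul_comm, ← hkm, pow_orderOf_eq_one])
  obtain ⟨Q, hQ⟩ := hpg.exists_le_sylow
  obtain ⟨g, hg⟩ := MulAction.exists_smul_eq X Q P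
  have h1 : g * x ^ m * g⁻¹ ∈ P := by
    rw [← hg]
    exact Subgroup.smul_mem_pointwise_smul _ (MulAut.conj g) _ (hQ (Subgroup.mem_zpowers _))
  have h2 : f (g * x ^ m * g⁻¹) ∈ W := hP _ h1
  rw [map_mul, map_mul, map_inv, mul_comm (f g), mul_inv_cancel_right, map_pow] at h2
  obtain ⟨t, ht⟩ := exists_root (p := p) hV hm
  rw [← ht (d x)]
  exact W.pow_mem h2 t

/-- A homomorphism into a `p`-group vanishing on a Sylow `p`-subgroup is trivial. -/
theorem eq_one_of_fixed {ρ : X →* MulAut V} {d : X → V} (hd : IsCrossed ρ d) (hV : IsPGroup p V)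
    (hfix : ∀ x y, ρ x (d y) = d y) (P : Sylow p X) (hP : ∀ y ∈ P, d y = 1) (x : X) : d x = 1 :=
  Subgroup.mem_bot.1 (mem_of_fixed hd hV hfix P ⊥ (fun y hy => Subgroup.mem_bot.2 (hP y hy)) x)

theorem not_dvd_index (P : Sylow p X) : ¬ p ∣ (P : Subgroup X).index := P.not_dvd_index

/-- Averaging over the cosets. -/
theorem exists_avg {ρ : X →* MulAut V} {d : X → V} (hd : IsCrossed ρ d) (P : Subgroup X)
    (hP : ∀ y ∈ P, d y = 1) :
    ∃ v : V, (∀ g, ρ g v = v * (d g ^ P.index)⁻¹) ∧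
      ∀ W : Subgroup V, (∀ g, d g ∈ W) → v ∈ W := by
  classical
  have := Fintype.ofFinite (X ⧸ P)
  refine ⟨∏ q : X ⧸ P, d q.out, fun g => ?_, fun W hn => ?_⟩
  · rw [map_prod]
    have h1 : ∀ q : X ⧸ P, ρ g (d q.out) = d (g • q).out * (d g)⁻¹ := by
      intro q
      have e : d (g • q).out = d (g * q.out) := by
        conv_lhs => rw [← QuotientGroup.out_eq' q]
        exact hd.out_eq P hP _
      rw [e, hd, mul_comm (d g), mul_inv_cancel_right]
    rw [Finset.prod_congr rfl fun q _ => h1 q, Finset.prod_mul_distrib, Finset.prod_const, Finset.card_univ,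
      Fintype.card_eq_nat_card, ← Subgroup.index_eq_card, inv_pow]
    congr 1
    exact Fintype.prod_equiv (MulAction.toPerm g) _ _ fun q => rfl
  · exact Subgroup.prod_mem _ fun q _ => hn _

/-- An equivariant product over a set without fixed points vanishes when every maximal subgroup misses an element
of vanishing norm. -/
theorem prod_eq_one_of_no_fixed {R : Type*} [Group R] [Finite R] (hR : IsPGroup p R) {Z : Type*}
    [MulAction R Z] [DecidableEq Z] (σ : R →* MulAut V) (f : Z → V) (hf : ∀ (r : R) z, f (r • z) = σ r (f z))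
    (h : ∀ R₁ : Subgroup R, R₁.Normal → R₁.index = p → ∃ a ∉ R₁,
      ∀ z : Finset Z, ∏ i ∈ Finset.range p, σ (a ^ i) (∏ y ∈ z, f y) = 1) :
    ∀ O : Finset Z, (∀ r : R, ∀ z ∈ O, r • z ∈ O) → (∀ z ∈ O, ∃ r : R, r • z ≠ z) → ∏ z ∈ O, f z = 1 := by
  classical
  have := Fintype.ofFinite R
  intro O
  induction O using Finset.strongInduction with
  | _ O ih =>
  intro hinv hfix
  rcases O.eq_empty_or_nonempty with rfl | ⟨w, hw⟩
  · simp
  have hSt : MulAction.stabilizer R w ≠ ⊤ := fun he => by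
    obtain ⟨r, hr⟩ := hfix w hw
    exact hr (show r ∈ MulAction.stabilizer R w from he ▸ Subgroup.mem_top r)
  obtain ⟨R₁, hR₁, hle⟩ := (eq_top_or_exists_le_coatom _).resolve_left hSt
  haveI := PGroups.coatom_normal hR hR₁
  have hidx := PGroups.coatom_index hR hR₁
  obtain ⟨a, haR, ha⟩ := h R₁ inferInstance hidx
  let O₀ : Finset Z := Finset.univ.image fun r : R => r • w
  let O₁ : Finset Z := (Finset.univ.filter fun r : R => r ∈ R₁).image fun r => r • w
  have hq : orderOf (a : R ⧸ R₁) = p := by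
    refine orderOf_eq_prime ?_ fun e => haR ((QuotientGroup.eq_one_iff a).mp e)
    rw [← hidx, Subgroup.index_eq_card]
    exact pow_card_eq_one'
  have hcover : ∀ r : R, ∃ i < p, ∃ r₁ ∈ R₁, r = a ^ i * r₁ := by
    intro r
    have htop : Subgroup.zpowers (a : R ⧸ R₁) = ⊤ :=
      Subgroup.eq_top_of_card_eq _ (by rw [Nat.card_zpowers, hq, ← Subgroup.index_eq_card, hidx])
    have hr : (r : R ⧸ R₁) ∈ Subgroup.zpowers (a : R ⧸ R₁) := htop ▸ Subgroup.mem_top _
    rw [mem_zpowers_iff_mem_range_orderOf, hq, Finset.mem_image] at hr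
    obtain ⟨i, hi, hie⟩ := hr
    refine ⟨i, Finset.mem_range.mp hi, (a ^ i)⁻¹ * r, QuotientGroup.eq.mp ?_,
      (mul_inv_cancel_left _ _).symm⟩
    rw [QuotientGroup.mk_pow]; exact hie
  have hdisj : Set.PairwiseDisjoint ↑(Finset.range p) fun i => O₁.image fun z => (a ^ i) • z := by
    intro i hi j hj hij
    rw [Function.onFun, Finset.disjoint_left]
    intro v hv hv'
    obtain ⟨v₁, hv₁, rfl⟩ := Finset.mem_image.mp hv
    obtain ⟨r, hr, rfl⟩ := Finset.mem_image.mp hv₁
    obtain ⟨v₂, hv₂, he⟩ := Finset.mem_image.mp hv'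
    obtain ⟨r', hr', rfl⟩ := Finset.mem_image.mp hv₂
    have hs : (a ^ j * r')⁻¹ * (a ^ i * r) ∈ R₁ := hle (by
      rw [MulAction.mem_stabilizer_iff, mul_smul, mul_smul, ← he, ← mul_smul (a ^ j) r', inv_smul_smul])
    have h1 : ((a ^ j * r' : R) : R ⧸ R₁) = ((a ^ i * r : R) : R ⧸ R₁) := QuotientGroup.eq.mpr hs
    rw [QuotientGroup.mk_mul, QuotientGroup.mk_mul, (QuotientGroup.eq_one_iff r).mpr (by simpa using hr),
      (QuotientGroup.eq_one_iff r').mpr (by simpa using hr'), mul_one, mul_one,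
      QuotientGroup.mk_pow, QuotientGroup.mk_pow] at h1
    rw [Finset.coe_range, Set.mem_Iio, ← hq] at hi hj
    exact hij (pow_injOn_Iio_orderOf hi hj h1.symm)
  have hO₀ : O₀ = (Finset.range p).biUnion fun i => O₁.image fun z => (a ^ i) • z := by
    ext v
    constructor
    · intro hv
      obtain ⟨r, -, rfl⟩ := Finset.mem_image.mp hv
      obtain ⟨i, hi, r₁, hr₁, rfl⟩ := hcover r
      exact Finset.mem_biUnion.mpr ⟨i, Finset.mem_range.mpr hi, Finset.mem_image.mpr
        ⟨r₁ • w, Finset.mem_image.mpr ⟨r₁, by simpa using hr₁, rfl⟩, (mul_smul _ _ _).symm⟩⟩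
    · intro hv
      obtain ⟨i, -, hv⟩ := Finset.mem_biUnion.mp hv
      obtain ⟨v₁, hv₁, rfl⟩ := Finset.mem_image.mp hv
      obtain ⟨r, -, rfl⟩ := Finset.mem_image.mp hv₁
      exact Finset.mem_image.mpr ⟨a ^ i * r, Finset.mem_univ _, mul_smul _ _ _⟩
  have h0 : ∏ v ∈ O₀, f v = 1 := by
    rw [hO₀, Finset.prod_biUnion hdisj]
    have he : ∀ i ∈ Finset.range p,
        ∏ v ∈ O₁.image (fun z => (a ^ i) • z), f v = σ (a ^ i) (∏ v ∈ O₁, f v) := by
      intro i _
      rw [Finset.prod_image fun _ _ _ _ e => MulAction.injective (a ^ i) e, map_prod]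
      exact Finset.prod_congr rfl fun v _ => hf _ v
    rw [Finset.prod_congr rfl he]
    exact ha O₁
  have hsub : O₀ ⊆ O := fun v hv => by
    obtain ⟨r, -, rfl⟩ := Finset.mem_image.mp hv
    exact hinv r w hw
  have hlt : O \ O₀ ⊂ O := by
    refine Finset.sdiff_ssubset hsub ⟨w, Finset.mem_image.mpr ⟨1, Finset.mem_univ _, one_smul _ _⟩⟩
  rw [← Finset.prod_sdiff hsub, h0, mul_one]
  refine ih _ hlt (fun r v hv => ?_) fun v hv => hfix v (Finset.mem_sdiff.mp hv).1
  obtain ⟨hvO, hv0⟩ := Finset.mem_sdiff.mp hv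
  refine Finset.mem_sdiff.mpr ⟨hinv r v hvO, fun hc => hv0 ?_⟩
  obtain ⟨r', -, hr'⟩ := Finset.mem_image.mp hc
  exact Finset.mem_image.mpr ⟨r⁻¹ * r', Finset.mem_univ _, by rw [mul_smul, hr', inv_smul_smul]⟩

/-- The quadratic elements on the elements of order `p`. -/
def quad (p : ℕ) (ρ : X →* MulAut V) : Set X :=
  {a | ∀ v : V, v ^ p = 1 → ρ a (ρ a v * v⁻¹) = ρ a v * v⁻¹}

theorem conj_mem_quad {ρ : X →* MulAut V} {a : X} (ha : a ∈ quad p ρ) (g : X) : g * a * g⁻¹ ∈ quad p ρ := by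
  intro v hv
  set u := ρ g⁻¹ v with hu
  have hgu : ρ g u = v := by rw [hu, ← MulAut.mul_apply, ← map_mul, mul_inv_cancel, map_one, MulAut.one_apply]
  have h := ha u (by rw [hu, ← map_pow, hv, map_one])
  have e : ∀ w, ρ (g * a * g⁻¹) (ρ g w) = ρ g (ρ a w) := fun w => by
    rw [← MulAut.mul_apply, ← map_mul, inv_mul_cancel_right, map_mul, MulAut.mul_apply]
  rw [← hgu, e, show ρ g (ρ a u) * (ρ g u)⁻¹ = ρ g (ρ a u * u⁻¹) by rw [map_mul, map_inv], e, h]

theorem norm_eq_one (hp2 : p ≠ 2) {ρ : X →* MulAut V} {a : X} (ha : a ∈ quad p ρ) {u : V}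
    (hu : u ^ p = 1) : ∏ i ∈ Finset.range p, ρ (a ^ i) u = 1 := by
  set w := ρ a u * u⁻¹ with hw
  have hwfix : ρ a w = w := ha u hu
  have hwp : w ^ p = 1 := by rw [hw, mul_pow, ← map_pow, inv_pow, hu, map_one, inv_one, mul_one]
  have hi : ∀ i : ℕ, ρ (a ^ i) u = w ^ i * u := by
    intro i
    induction i with
    | zero => simp
    | succ i ih =>
      rw [pow_succ', map_mul, MulAut.mul_apply, ih, map_mul, map_pow, hwfix, pow_succ w, mul_assoc (w ^ i),
        show w * u = ρ a u from inv_mul_cancel_right _ _]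
  rw [Finset.prod_congr rfl fun i _ => hi i, Finset.prod_mul_distrib, Finset.prod_const, Finset.card_range,
    hu, mul_one, Finset.prod_pow_eq_pow_sum]
  obtain ⟨c, hc⟩ : p ∣ ∑ i ∈ Finset.range p, i := by
    have h2 := Finset.sum_range_id_mul_two p
    refine ((hp.out.dvd_mul).1 ⟨p - 1, h2⟩).resolve_right fun h => hp2 ?_
    exact (Nat.prime_dvd_prime_iff_eq hp.out Nat.prime_two).1 h
  rw [hc, pow_mul, hwp, one_pow]

/-- An element of order `p` fixed by the normaliser of the quadratic part of a Sylow subgroup is fixed. -/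
theorem fixed_of_quad (hp2 : p ≠ 2) (hV : IsPGroup p V) {ρ : X →* MulAut V} (P : Sylow p X) {v : V}
    (hv : v ^ p = 1)
    (hN : ∀ x ∈ Subgroup.normalizer (Subgroup.closure (quad p ρ ∩ (P : Set X)) : Set X), ρ x v = v)
    (x : X) : ρ x v = v := by
  classical
  set J := Subgroup.closure (quad p ρ ∩ (P : Set X)) with hJ
  have hJP : J ≤ P := (Subgroup.closure_le _).2 Set.inter_subset_right
  have hset : ∀ g : X, (∀ a ∈ quad p ρ ∩ (P : Set X), g * a * g⁻¹ ∈ (P : Subgroup X)) →
      g ∈ Subgroup.normalizer (J : Set X) := by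
    intro g hg
    refine Subgroup.mem_normalizer_fintype fun y hy => ?_
    have hle : J ≤ J.comap (MulAut.conj g).toMonoidHom := (Subgroup.closure_le _).2 fun a ha =>
      Subgroup.subset_closure ⟨conj_mem_quad ha.1 g, hg a ha⟩
    exact hle hy
  have hPv : ∀ y ∈ (P : Subgroup X), ρ y v = v := fun y hy =>
    hN y (hset y fun a ha => (P : Subgroup X).mul_mem ((P : Subgroup X).mul_mem hy ha.2) (inv_mem hy))
  let f : X ⧸ (P : Subgroup X) → V := fun q => ρ q.out v
  have hf : ∀ y : X, f (y : X ⧸ (P : Subgroup X)) = ρ y v := by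
    intro y
    obtain ⟨z, hz⟩ := QuotientGroup.mk_out_eq_mul (P : Subgroup X) y
    show ρ _ v = _
    rw [hz, map_mul, MulAut.mul_apply, hPv z z.2]
  have hfg : ∀ (g : X) q, f (g • q) = ρ g (f q) := by
    intro g q
    induction q using QuotientGroup.induction_on with
    | H y => rw [MulAction.Quotient.smul_mk, hf, hf, smul_eq_mul, map_mul, MulAut.mul_apply]
  have := Fintype.ofFinite (X ⧸ (P : Subgroup X))
  have := Fintype.ofFinite J
  set tr := ∏ q, f q with htr
  have htrfix : ∀ g, ρ g tr = tr := fun g => by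
    rw [htr, map_prod]
    exact Fintype.prod_equiv (MulAction.toPerm g) _ _ fun q => (hfg g q).symm
  set S₀ := Finset.univ.filter fun q : X ⧸ (P : Subgroup X) => ∀ j : J, j • q = q with hS₀
  have h0 : ∀ q ∈ S₀, f q = v := by
    intro q hq
    induction q using QuotientGroup.induction_on with
    | H y =>
    rw [hS₀, Finset.mem_filter] at hq
    rw [hf]
    refine hN y ?_
    rw [← inv_mem_iff]
    refine hset _ fun a ha => ?_
    have h2 := hq.2 ⟨a, Subgroup.subset_closure ha⟩
    change ((a * y : X) : X ⧸ (P : Subgroup X)) = (y : X ⧸ (P : Subgroup X)) at h2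
    rw [QuotientGroup.eq] at h2
    have h3 := inv_mem h2
    rw [mul_inv_rev, inv_inv] at h3
    rw [inv_inv, mul_assoc]
    exact h3
  have hfp : ∀ q, f q ^ p = 1 := fun q => by
    show (ρ _ v) ^ p = 1
    rw [← map_pow, hv, map_one]
  have hJp : IsPGroup p J := P.2.to_le hJP
  have h1 : ∏ q ∈ S₀ᶜ, f q = 1 := by
    refine prod_eq_one_of_no_fixed hJp (ρ.comp J.subtype) f (fun r q => hfg r q) (fun R₁ hR₁ hidx => ?_)
      S₀ᶜ (fun r q hq => ?_) fun q hq => ?_
    · have hne : ¬ quad p ρ ∩ (P : Set X) ⊆ R₁.map J.subtype := fun hs => by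
        have htop : R₁ = ⊤ := eq_top_iff.2 fun r _ => by
          obtain ⟨r', hr', he⟩ := (Subgroup.closure_le _).2 hs r.2
          exact Subtype.ext he ▸ hr'
        rw [htop, Subgroup.index_top] at hidx
        exact hp.out.ne_one hidx.symm
      obtain ⟨a, ha, haR⟩ := Set.not_subset.1 hne
      refine ⟨⟨a, Subgroup.subset_closure ha⟩, fun h => haR ⟨_, h, rfl⟩, fun z => ?_⟩
      refine norm_eq_one hp2 ha.1 ?_
      rw [← Finset.prod_pow]
      exact Finset.prod_eq_one fun q _ => hfp q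
    · rw [hS₀, Finset.mem_compl, Finset.mem_filter] at hq ⊢
      refine fun hc => hq ⟨Finset.mem_univ _, fun j => ?_⟩
      have h4 := hc.2 (r * j * r⁻¹)
      rw [mul_smul, mul_smul, inv_smul_smul] at h4
      exact MulAction.injective r h4
    · rw [hS₀, Finset.mem_compl, Finset.mem_filter] at hq
      simpa using hq
  have htrv : tr = v ^ S₀.card := by
    rw [htr, ← Finset.prod_mul_prod_compl S₀ f, h1, mul_one, Finset.prod_congr rfl h0,
      Finset.prod_const]
  have hmod : S₀.card ≡ (P : Subgroup X).index [MOD p] := by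
    have h := hJp.card_modEq_card_fixedPoints (X ⧸ (P : Subgroup X))
    rw [← Subgroup.index_eq_card] at h
    have e : Nat.card (MulAction.fixedPoints J (X ⧸ (P : Subgroup X))) = S₀.card := by
      rw [Nat.card_eq_fintype_card, ← Set.toFinset_card]
      congr 1
      ext q
      simp [hS₀]
    rw [e] at h
    exact h.symm
  have hxv : (ρ x v * v⁻¹) ^ (P : Subgroup X).index = 1 := by
    have e : v ^ S₀.card = v ^ (P : Subgroup X).index :=
      pow_eq_pow_iff_modEq.2 (Nat.ModEq.of_dvd (orderOf_dvd_of_pow_eq_one hv) hmod)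
    rw [mul_pow, ← map_pow, inv_pow, ← e, ← htrv, htrfix, mul_inv_cancel]
  exact mul_inv_eq_one.1 (eq_one_of_pow hV (not_dvd_index P) hxv)

/-- A crossed homomorphism trivial on the normaliser of the quadratic part of a Sylow subgroup is trivial. -/
theorem eq_one_of_quad (hp2 : p ≠ 2) (hV : IsPGroup p V) {ρ : X →* MulAut V} {d : X → V}
    (hd : IsCrossed ρ d) (P : Sylow p X) (hP : ∀ y ∈ P, d y = 1)
    (hN : ∀ x ∈ Subgroup.normalizer (Subgroup.closure (quad p ρ ∩ (P : Set X)) : Set X), d x = 1)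
    (x : X) : d x = 1 := by
  obtain ⟨k, hk⟩ := IsPGroup.iff_card.1 hV
  suffices h : ∀ j, ∀ x, d x ^ p ^ (k - j) = 1 by
    have := h k x
    simpa using this
  intro j
  induction j with
  | zero =>
    intro x
    rw [Nat.sub_zero, ← hk]
    exact pow_card_eq_one'
  | succ j ih =>
    intro x
    rcases Nat.eq_zero_or_pos (k - j) with h0 | h0
    · rw [show k - (j + 1) = k - j by omega]
      exact ih x
    set e := fun y => d y ^ p ^ (k - (j + 1)) with he
    have hep : ∀ y, e y ^ p = 1 := fun y => by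
      rw [he]
      show (d y ^ p ^ (k - (j + 1))) ^ p = 1
      rw [← pow_mul, ← pow_succ, show k - (j + 1) + 1 = k - j by omega]
      exact ih y
    have hec : IsCrossed ρ e := hd.pow _
    have heP : ∀ y ∈ P, e y = 1 := fun y hy => by rw [he]; show d y ^ _ = 1; rw [hP y hy, one_pow]
    obtain ⟨v, hv, hvp⟩ := exists_avg hec (P : Subgroup X) heP
    have hvp' : v ^ p = 1 := hvp (powMonoidHom p : V →* V).ker fun g => hep g
    have hfix := fixed_of_quad hp2 hV P hvp' fun y hy => by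
      rw [hv y, he]
      show v * ((d y ^ _) ^ _)⁻¹ = v
      rw [hN y hy, one_pow, one_pow, inv_one, mul_one]
    have h1 : e x ^ (P : Subgroup X).index = 1 := by
      have h := hv x
      rw [hfix x] at h
      exact inv_eq_one.1 (left_eq_mul.1 h)
    exact eq_one_of_pow hV (not_dvd_index P) h1

/-- Transfer correction: a crossed homomorphism whose values on a Sylow subgroup are fixed and invariant under
fusion differs, after raising to the index, by a fixed-valued map from one vanishing on the Sylow subgroup. -/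
theorem exists_correction {ρ : X →* MulAut V} {d : X → V} (hd : IsCrossed ρ d) (P : Subgroup X)
    (D : Subgroup V) (hDfix : ∀ x, ∀ z ∈ D, ρ x z = z) (hPD : ∀ y ∈ P, d y ∈ D)
    (hinv : ∀ g, ∀ y ∈ P, g * y * g⁻¹ ∈ P → d (g * y * g⁻¹) = d y) :
    ∃ e : X → V, IsCrossed ρ e ∧ (∀ y ∈ P, e y = 1) ∧ ∀ x, d x ^ P.index * (e x)⁻¹ ∈ D := by
  classical
  let φ : P →* D := MonoidHom.mk' (fun y => ⟨d y, hPD y y.2⟩) fun a b => Subtype.ext (by
    show d (a * b) = _
    rw [hd, hDfix _ _ (hPD _ b.2)]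
    rfl)
  set Φ := MonoidHom.transfer φ with hΦ
  refine ⟨fun x => d x ^ P.index * (Φ x : V)⁻¹, fun x y => ?_, fun y hy => ?_, fun x => ?_⟩
  · show d (x * y) ^ P.index * (Φ (x * y) : V)⁻¹ = _
    rw [hd x y, mul_pow, map_mul, Subgroup.coe_mul, mul_inv, map_mul, map_inv (ρ x), map_pow,
      hDfix x _ (Φ y).2]
    exact mul_mul_mul_comm _ _ _ _
  · show d y ^ P.index * (Φ y : V)⁻¹ = 1
    let := P.fintypeQuotientOfFiniteIndex
    have := Fintype.ofFinite (Quotient (MulAction.orbitRel (Subgroup.zpowers y) (X ⧸ P)))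
    rw [mul_inv_eq_one, hΦ, MonoidHom.transfer_eq_prod_quotient_orbitRel_zpowers_quot, Subgroup.val_finsetProd,
      P.index_eq_sum_minimalPeriod y, ← Finset.prod_pow_eq_pow_sum]
    refine Finset.prod_congr rfl fun q _ => ?_
    set m := Function.minimalPeriod (y • ·) q.out with hm
    show d y ^ m = d (q.out.out⁻¹ * y ^ m * q.out.out)
    have h1 : d (y ^ m) = d y ^ m := by
      have := congrArg Subtype.val (map_pow φ ⟨y, hy⟩ m)
      exact this
    rw [← h1]
    have h2 := hinv q.out.out⁻¹ (y ^ m) (pow_mem hy m)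
    rw [inv_inv] at h2
    exact (h2 (QuotientGroup.out_conj_pow_minimalPeriod_mem P y q.out)).symm
  · show d x ^ P.index * (d x ^ P.index * (Φ x : V)⁻¹)⁻¹ ∈ D
    rw [mul_inv, inv_inv, mul_inv_cancel_left]
    exact (Φ x).2

end Finite

end Cfsg.Agent.Lib.FS.CocycleNorm
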