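import Mathlib
import Cfsg.Agent.Lib.FusionSystem.NormalCentralizer
import Cfsg.Agent.Lib.FusionEssential.Centric
import Cfsg.Agent.Lib.FusionSystem.Essential

/-!
The centraliser in `S` of a normal subsystem `E` over `T`, and its strong closure.
-/

set_option autoImplicit false
set_option linter.style.haveILetI false
set_option linter.unusedSectionVars false

namespace Cfsg.Agent.Lib.FS.NormalCentralizer

open Cfsg Cfsg.FusionSystem Cfsg.Agent.Lib Cfsg.Agent.Lib.FS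
open scoped Pointwise

variable {Ω : Type*} [Group Ω] {S T : Subgroup Ω} [Finite S] {p : ℕ} [hp : Fact p.Prime]
  {F : FusionSystem S} {E : FusionSystem T}

/-- `y ∈ C_S(T)` is centralised by `E`. -/
def Centralized (F : FusionSystem S) (E : FusionSystem T) (y : Ω) : Prop :=
  y ∈ centralizerIn S T ∧ ∀ (P : Subgroup Ω) (φ : P →* Ω), φ ∈ E.Hom P → Fixes F (Subgroup.zpowers y) P φ

/-- `C_S(E)`. -/
def centralizerSub (F : FusionSystem S) (E : FusionSystem T) : Subgroup Ω :=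
  Subgroup.closure {y | Centralized F E y}

omit [Finite S] hp in
theorem Fixes.mono {Y Y' P : Subgroup Ω} {φ : P →* Ω} (h : Y' ≤ Y) (hf : Fixes F Y P φ) :
    Fixes F Y' P φ := by
  obtain ⟨b, hb, hb1, hb2⟩ := hf
  obtain ⟨c, hc, hce⟩ := exists_restrict hb (sup_le_sup_left h P)
  refine ⟨c, hc, fun x => ?_, fun y => ?_⟩
  · rw [hce, ← hb1]; rfl
  · rw [hce, ← hb2 ⟨y, h y.2⟩]; rfl

omit [Finite S] hp in
theorem centralizerSub_le : centralizerSub F E ≤ centralizerIn S T :=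
  (Subgroup.closure_le _).2 fun _ hy => hy.1

theorem fixes_centralizerSub (hS : IsPGroup p S) (hE : E.IsNormalIn F p) {P : Subgroup Ω} {φ : P →* Ω}
    (hφ : φ ∈ E.Hom P) : Fixes F (centralizerSub F E) P φ := by
  obtain ⟨D, hD⟩ := exists_centralizerSystem F hE.1.2.2.2.1.1
  exact fixes_of hS hE hD (fun y hy => ⟨hy.1, Or.inr hy.2⟩) P φ hφ

theorem centralized_of_mem (hS : IsPGroup p S) (hE : E.IsNormalIn F p) {y : Ω}
    (hy : y ∈ centralizerSub F E) : Centralized F E y :=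
  ⟨centralizerSub_le hy, fun _ _ hφ => (fixes_centralizerSub hS hE hφ).mono (Subgroup.zpowers_le.2 hy)⟩

theorem centralized_of_mem_focal (hS : IsPGroup p S) (hE : E.IsNormalIn F p)
    {D : FusionSystem (centralizerIn S T)} (hD : F.IsCentralizerSystem T D) {y : Ω}
    (hy : y ∈ D.focalSubgroup) : Centralized F E y := by
  refine ⟨?_, fun P φ hφ => (fixes_focal hS hE hD P φ hφ).mono (Subgroup.zpowers_le.2 hy)⟩
  refine (Subgroup.closure_le _).2 ?_ hy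
  rintro _ ⟨P, φ, x, hφ, rfl⟩
  exact mul_mem (inv_mem (src_le hφ x.2)) (apply_mem hφ x)

omit hp in
/-- The set of centralised elements is carried to itself by maps of `F` defined on `T` and the element. -/
theorem Centralized.transport (hE : E.IsInvariantIn F) {X : Subgroup Ω} {ψ : X →* Ω}
    (hψ : ψ ∈ F.Hom X) (hTX : T ≤ X) {c : Ω} (hc : Centralized F E c) (hcX : c ∈ X) :
    Centralized F E (ψ ⟨c, hcX⟩) := by
  obtain ⟨-, hsc, hinv, -⟩ := hE
  haveI := finite_sub hsc.1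
  obtain ⟨γ₀, hγ₀, heγ₀⟩ := exists_restrict hψ hTX
  have hγr : γ₀.range = T :=
    range_eq_of_mem hγ₀ (fun t => stronglyClosed_apply_mem hsc hγ₀ t.2) le_rfl
  set γ : MulAut T := homEquiv hγ₀ hγr with hγdef
  have hγ : γ ∈ F.autGroup T := homEquiv_mem_autGroup hγ₀ hγr
  have hγe : ∀ t : T, (γ t : Ω) = ψ ⟨t, hTX t.2⟩ := heγ₀
  refine ⟨mem_centralizerIn.2 ⟨apply_mem hψ _, fun t ht => ?_⟩, fun P φ hφ => ?_⟩
  · have e : t = ψ ⟨(γ⁻¹ ⟨t, ht⟩ : T), hTX (γ⁻¹ ⟨t, ht⟩).2⟩ := by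
      rw [← hγe, MulAut.apply_inv_self]
    rw [e, ← map_mul, ← map_mul]
    exact congrArg ψ (Subtype.ext ((mem_centralizerIn.1 hc.1).2 _ (γ⁻¹ ⟨t, ht⟩).2))
  have hPT : P ≤ T := src_le hφ
  obtain ⟨χ, hχ, heχ⟩ := hinv P hPT φ hφ γ⁻¹ (inv_mem hγ)
  generalize hP₁ : (P.subgroupOf T).map (T.subtype.comp (γ⁻¹ : MulAut T).toMonoidHom) = P₁ at χ hχ heχ
  obtain ⟨τ, hτ, hτ1, hτ2⟩ := hc.2 P₁ χ hχ
  have hcle : Subgroup.zpowers c ≤ X := Subgroup.zpowers_le.2 hcX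
  have hX' : T ⊔ Subgroup.zpowers c ≤ X := sup_le hTX hcle
  obtain ⟨ψ', hψ', heψ'⟩ := exists_restrict hψ hX'
  obtain ⟨ψi, hψi, -, hl, -⟩ := exists_inv hψ' rfl
  have hsrc : P ⊔ Subgroup.zpowers (ψ ⟨c, hcX⟩) ≤ ψ'.range := by
    refine sup_le (fun x hx => ?_) (Subgroup.zpowers_le.2 ?_)
    · refine ⟨Subgroup.inclusion le_sup_left (γ⁻¹ ⟨x, hPT hx⟩), (heψ' _).trans ?_⟩
      show ψ ⟨((γ⁻¹ ⟨x, hPT hx⟩ : T) : Ω), _⟩ = x
      rw [← hγe, MulAut.apply_inv_self]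
    · exact ⟨Subgroup.inclusion le_sup_right ⟨c, Subgroup.mem_zpowers c⟩, heψ' _⟩
  obtain ⟨ψi', hψi', heψi'⟩ := exists_restrict hψi hsrc
  have hgx : ∀ x : P, ψi' (Subgroup.inclusion le_sup_left x) = ((γ⁻¹ ⟨x, hPT x.2⟩ : T) : Ω) := by
    intro x
    have e : ψ' (Subgroup.inclusion le_sup_left (γ⁻¹ ⟨(x : Ω), hPT x.2⟩)) = (x : Ω) := by
      rw [heψ']
      show ψ ⟨((γ⁻¹ ⟨(x : Ω), hPT x.2⟩ : T) : Ω), _⟩ = x
      rw [← hγe, MulAut.apply_inv_self]
    rw [heψi', show (⟨((Subgroup.inclusion le_sup_left x : ↥(P ⊔ Subgroup.zpowers (ψ ⟨c, hcX⟩))) : Ω),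
      hsrc (Subgroup.inclusion le_sup_left x).2⟩ : ψ'.range) =
        ⟨ψ' (Subgroup.inclusion le_sup_left (γ⁻¹ ⟨(x : Ω), hPT x.2⟩)), ⟨_, rfl⟩⟩ from Subtype.ext e.symm]
    exact hl _ _
  have hgy : ∀ n : ℤ, ∀ hn : ψ ⟨c, hcX⟩ ^ n ∈ Subgroup.zpowers (ψ ⟨c, hcX⟩),
      ψi' (Subgroup.inclusion le_sup_right ⟨_, hn⟩) = c ^ n := by
    intro n hn
    have e : ψ' (Subgroup.inclusion le_sup_right ⟨c ^ n, Subgroup.zpow_mem_zpowers c n⟩) =
        ψ ⟨c, hcX⟩ ^ n := by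
      rw [heψ', ← map_zpow]
      exact congrArg ψ (Subtype.ext (by simp))
    rw [heψi', show (⟨((Subgroup.inclusion le_sup_right ⟨_, hn⟩ : ↥(P ⊔ Subgroup.zpowers (ψ ⟨c, hcX⟩))) : Ω),
      hsrc (Subgroup.inclusion le_sup_right ⟨_, hn⟩).2⟩ : ψ'.range) =
        ⟨ψ' (Subgroup.inclusion le_sup_right ⟨c ^ n, Subgroup.zpow_mem_zpowers c n⟩), ⟨_, rfl⟩⟩ from
          Subtype.ext e.symm]
    exact hl _ _
  have hP₁m : ∀ x : P, ((γ⁻¹ ⟨x, hPT x.2⟩ : T) : Ω) ∈ P₁ := fun x => hP₁ ▸ ⟨⟨x, hPT x.2⟩, x.2, rfl⟩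
  obtain ⟨c₁, hc₁, hec₁⟩ := exists_comp hψi' hτ (mapsTo_sup
    (fun x => by rw [hgx]; exact (le_sup_left : P₁ ≤ P₁ ⊔ Subgroup.zpowers c) (hP₁m x))
    (fun y => by
      obtain ⟨y, hy⟩ := y
      obtain ⟨n, rfl⟩ := Subgroup.mem_zpowers_iff.1 hy
      rw [hgy]
      exact (le_sup_right : _ ≤ P₁ ⊔ Subgroup.zpowers c) (Subgroup.zpow_mem_zpowers c n)))
  have hv1 : ∀ x : P, c₁ (Subgroup.inclusion le_sup_left x) =
      ((γ⁻¹ ⟨φ x, apply_mem hφ x⟩ : T) : Ω) := by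
    intro x
    rw [hec₁, show (⟨ψi' (Subgroup.inclusion le_sup_left x), _⟩ : ↥(P₁ ⊔ Subgroup.zpowers c)) =
      Subgroup.inclusion le_sup_left ⟨((γ⁻¹ ⟨(x : Ω), hPT x.2⟩ : T) : Ω), hP₁m x⟩ from Subtype.ext (hgx x),
      hτ1, heχ x (apply_mem hφ x) (hP₁m x)]
  have hv2 : ∀ n : ℤ, ∀ hn : ψ ⟨c, hcX⟩ ^ n ∈ Subgroup.zpowers (ψ ⟨c, hcX⟩),
      c₁ (Subgroup.inclusion le_sup_right ⟨_, hn⟩) = c ^ n := by
    intro n hn
    rw [hec₁, show (⟨ψi' (Subgroup.inclusion le_sup_right ⟨_, hn⟩), _⟩ : ↥(P₁ ⊔ Subgroup.zpowers c)) =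
      Subgroup.inclusion le_sup_right ⟨c ^ n, Subgroup.zpow_mem_zpowers c n⟩ from Subtype.ext (hgy n hn),
      hτ2]
  obtain ⟨σ, hσ, heσ⟩ := exists_comp hc₁ hψ' (mapsTo_sup
    (fun x => by rw [hv1]; exact (le_sup_left : T ≤ T ⊔ Subgroup.zpowers c) (SetLike.coe_mem _))
    (fun y => by
      obtain ⟨y, hy⟩ := y
      obtain ⟨n, rfl⟩ := Subgroup.mem_zpowers_iff.1 hy
      rw [hv2]
      exact (le_sup_right : _ ≤ T ⊔ Subgroup.zpowers c) (Subgroup.zpow_mem_zpowers c n)))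
  refine ⟨σ, hσ, fun x => ?_, ?_⟩
  · rw [heσ, heψ', show (⟨((⟨c₁ (Subgroup.inclusion le_sup_left x), _⟩ : ↥(T ⊔ Subgroup.zpowers c)) : Ω), _⟩ : X) =
      ⟨((γ⁻¹ ⟨φ x, apply_mem hφ x⟩ : T) : Ω), hTX (γ⁻¹ ⟨φ x, apply_mem hφ x⟩).2⟩ from Subtype.ext (hv1 x),
      ← hγe, MulAut.apply_inv_self]
  · rintro ⟨y, hy⟩
    obtain ⟨n, rfl⟩ := Subgroup.mem_zpowers_iff.1 hy
    rw [heσ, heψ', show (⟨((⟨c₁ (Subgroup.inclusion le_sup_right ⟨_, hy⟩), _⟩ : ↥(T ⊔ Subgroup.zpowers c)) : Ω), _⟩ : X) =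
      (⟨c, hcX⟩ : X) ^ n from Subtype.ext ((hv2 n hy).trans (by simp)), map_zpow]

/-- A subgroup of `T` whose conjugates all contain their centralisers in `T`. -/
def CentricT (F : FusionSystem S) (T R : Subgroup Ω) : Prop :=
  R ≤ T ∧ ∀ R' : Subgroup Ω, F.IsConj R R' → centralizerIn T R' ≤ R'

omit hp in
theorem CentricT.mono {R R₁ : Subgroup Ω} (h : CentricT F T R) (hle : R ≤ R₁) (hR₁ : R₁ ≤ T) :
    CentricT F T R₁ := by
  refine ⟨hR₁, fun R' hR' => ?_⟩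
  obtain ⟨φ, hφ, rfl⟩ := hR'
  obtain ⟨φ', hφ', he⟩ := exists_restrict hφ hle
  have hsub : φ'.range ≤ φ.range := by rintro _ ⟨x, rfl⟩; exact ⟨_, (he x).symm⟩
  exact ((centralizerIn_anti hsub).trans (h.2 _ ⟨φ', hφ', rfl⟩)).trans hsub

/-- The intersection with `T` of a fully normalised centric radical subgroup is centric relative to `T`. -/
theorem centricT_inf (hS : IsPGroup p S) (hF : F.IsSaturated p) (hsc : F.StronglyClosed T) {P : Subgroup Ω}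
    (hPc : F.IsCentric P) (hPr : F.IsRadical p P) : CentricT F T (P ⊓ T) := by
  have hPS := hPc.1
  have hTS := hsc.1
  haveI := finite_sub hPS
  refine ⟨inf_le_right, ?_⟩
  set R := P ⊓ T with hR
  have hRS : R ≤ S := inf_le_right.trans hTS
  haveI := finite_sub hRS
  obtain ⟨R', hRR', hR'n⟩ := exists_isFullyNormalized F hRS
  -- the fully normalised conjugate
  have hmain : centralizerIn T R' ≤ R' := by
    obtain ⟨η, hη, -, hηR⟩ := exists_normalizer_map hS hF hR'n hRR'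
    have hPN : P ≤ normalizerIn S R := fun g hg => ⟨hPS hg, mem_normalizer_of_conj_mem fun y hy =>
      ⟨P.mul_mem (P.mul_mem hg hy.1) (P.inv_mem hg),
        conj_mem_of_normalizer (stronglyClosed_le_normalizer hsc (hPS hg)) hy.2⟩⟩
    obtain ⟨η₁, hη₁, heη₁⟩ := exists_restrict hη hPN
    set P' := η₁.range with hP'
    have hP'S : P' ≤ S := range_le_base hη₁
    haveI := finite_sub hP'S
    have hR'T : R' ≤ T := by
      rw [← hηR]
      rintro _ ⟨w, hw, rfl⟩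
      exact stronglyClosed_apply_mem hsc hη hw.2
    have hR'P : R' ≤ P' := by
      rw [← hηR]
      rintro _ ⟨w, hw, rfl⟩
      exact ⟨⟨w, hw.1⟩, heη₁ _⟩
    have hTP : ∀ y ∈ P', y ∈ T → y ∈ R' := by
      rintro _ ⟨x, rfl⟩ hxT
      obtain ⟨ψ, hψ, -, hl, -⟩ := exists_inv hη₁ rfl
      have hx : (x : Ω) ∈ T := by
        have := stronglyClosed_apply_mem hsc hψ (x := ⟨η₁ x, ⟨x, rfl⟩⟩) hxT
        exact (hl x ⟨x, rfl⟩).subst (motive := fun t => t ∈ T) this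
      rw [← hηR]
      exact ⟨⟨x, hPN x.2⟩, ⟨x.2, hx⟩, (heη₁ x).symm⟩
    set C := centralizerIn T R' with hC
    have hCS : C ≤ S := (centralizerIn_le R').trans hTS
    have hP'N : ∀ g ∈ P', ∀ c ∈ C, g * c * g⁻¹ ∈ C := by
      rintro _ ⟨x, rfl⟩ c hc
      refine mem_centralizerIn.2 ⟨conj_mem_of_normalizer (stronglyClosed_le_normalizer hsc (apply_mem hη₁ x))
        hc.1, ?_⟩
      have hxn : η₁ x ∈ Subgroup.normalizer (R' : Set Ω) := by
        haveI := finite_sub (hR'T.trans hTS)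
        refine mem_normalizer_of_conj_mem fun r hr => ?_
        have hrT := hR'T hr
        exact hTP _ (P'.mul_mem (P'.mul_mem ⟨x, rfl⟩ (hR'P hr)) (P'.inv_mem ⟨x, rfl⟩))
          (conj_mem_of_normalizer (stronglyClosed_le_normalizer hsc (apply_mem hη₁ x)) hrT)
      exact (conj_centralizer hxn hc.2 : _)
    by_contra hnot
    obtain ⟨v₀, hv₀, hv₀R⟩ := SetLike.not_le_iff_exists.1 hnot
    have hv₀P : v₀ ∉ P' := fun h => hv₀R (hTP v₀ h hv₀.1)
    -- an element of `C` normalising `P'` but outside it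
    obtain ⟨v, hvC, hvP, hvN⟩ : ∃ v ∈ C, v ∉ P' ∧ v ∈ Subgroup.normalizer (P' : Set Ω) := by
      have hCn : P' ≤ Subgroup.normalizer (C : Set Ω) := fun g hg =>
        haveI := finite_sub hCS
        mem_normalizer_of_conj_mem (hP'N g hg)
      set X := P' ⊔ C with hX
      have hXS : X ≤ S := sup_le hP'S hCS
      have hlt : P' < X := lt_of_le_of_ne le_sup_left fun h =>
        hv₀P (h.symm ▸ (le_sup_right : C ≤ X) hv₀)
      haveI := finite_sub hXS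
      obtain ⟨g, ⟨hgX, hgN⟩, hgP⟩ := SetLike.exists_of_lt
        (FusionP3.Induction.lt_normalizerIn (isPGroup_of_le hS hXS) hlt)
      have hgset : g ∈ (P' : Set Ω) * (C : Set Ω) := by
        rw [← Subgroup.coe_mul_of_left_le_normalizer_right P' C hCn]
        exact hgX
      obtain ⟨a, ha, c, hc, rfl⟩ := hgset
      refine ⟨c, hc, fun h => hgP (P'.mul_mem ha h), ?_⟩
      have := mul_mem (inv_mem (Subgroup.le_normalizer ha)) hgN
      simpa using this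
    set k₁ : MulAut P' := P'.normalizerMonoidHom ⟨v, hvN⟩ with hk₁
    have hk₁F : k₁ ∈ F.autGroup P' :=
      autInducedBy_le_autGroup F hP'S (mem_autInducedBy.2 ⟨v, hCS hvC, fun _ => rfl⟩)
    obtain ⟨ψ, hψ, hψP, hl, hr⟩ := exists_inv hη₁ rfl
    set k := MulAut.congr (homEquiv hψ hψP) k₁ with hk
    have hkF : k ∈ F.autGroup P := congr_mem_autGroup hψ hψP hk₁F
    set Rs := T.subgroupOf P with hRs
    set K := stab P Rs ⊓ F.autGroup P with hK
    have hkK : k ∈ K := by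
      have hkv : ∀ y : P, (k y : Ω) = ψ ⟨v * η₁ y * v⁻¹, (conj_mem_of_normalizer hvN ⟨y, rfl⟩)⟩ := by
        intro y
        have e : (homEquiv hψ hψP).symm y = ⟨η₁ y, ⟨y, rfl⟩⟩ := by
          rw [MulEquiv.symm_apply_eq]
          exact Subtype.ext (hl y _).symm
        show ((homEquiv hψ hψP (k₁ ((homEquiv hψ hψP).symm y)) : P) : Ω) = _
        rw [e]
        rfl
      refine ⟨⟨fun w hw => Subtype.ext ?_, fun y => ?_⟩, hkF⟩
      · have hwR : η₁ w ∈ R' := hηR ▸ ⟨⟨w, hPN w.2⟩, ⟨w.2, hw⟩, (heη₁ w).symm⟩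
        rw [hkv]
        have e : v * η₁ w * v⁻¹ = η₁ w := by
          rw [← (mem_centralizerIn.1 hvC).2 _ hwR, mul_inv_cancel_right]
        rw [show (⟨v * η₁ w * v⁻¹, conj_mem_of_normalizer hvN ⟨w, rfl⟩⟩ : η₁.range) = ⟨η₁ w, ⟨w, rfl⟩⟩ from
          Subtype.ext e]
        exact hl w _
      · show ((y⁻¹ * k y : P) : Ω) ∈ T
        set d : Ω := (η₁ y)⁻¹ * (v * η₁ y * v⁻¹) with hd
        have hdP : d ∈ η₁.range := η₁.range.mul_mem (η₁.range.inv_mem ⟨y, rfl⟩)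
          (conj_mem_of_normalizer hvN ⟨y, rfl⟩)
        have hdT : d ∈ T := by
          rw [hd, show (η₁ y)⁻¹ * (v * η₁ y * v⁻¹) = (η₁ y)⁻¹ * v * (η₁ y)⁻¹⁻¹ * v⁻¹ by group]
          exact T.mul_mem (conj_mem_of_normalizer
            (stronglyClosed_le_normalizer hsc (S.inv_mem (apply_mem hη₁ y))) hvC.1) (T.inv_mem hvC.1)
        have e : ((y⁻¹ * k y : P) : Ω) = ψ ⟨d, hdP⟩ := by
          rw [Subgroup.coe_mul, Subgroup.coe_inv, hkv, ← hl y ⟨y, rfl⟩, ← map_inv, ← map_mul]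
          rfl
        rw [e]
        exact stronglyClosed_apply_mem hsc hψ hdT
    have hKinn : K ≤ Inn P := by
      refine le_inn_of_radical hPr inf_le_right ?_
        ((isPGroup_stab (isPGroup_of_le hS hPS)).of_injective (Subgroup.inclusion inf_le_left)
          (Subgroup.inclusion_injective _))
      rintro a ha k' ⟨⟨hk1, hk2⟩, hk'⟩
      have hpres : ∀ b ∈ F.autGroup P, ∀ w : P, (w : Ω) ∈ T → (b w : Ω) ∈ T := fun b hb w hw =>
        stronglyClosed_apply_mem hsc ((mem_autGroup hPS).1 hb) hw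
      refine ⟨⟨fun w hw => ?_, fun y => ?_⟩,
        (F.autGroup P).mul_mem ((F.autGroup P).mul_mem ha hk') ((F.autGroup P).inv_mem ha)⟩
      · rw [MulAut.mul_apply, MulAut.mul_apply, hk1 (a⁻¹ w) (hpres _ (inv_mem ha) w hw),
          MulAut.apply_inv_self]
      · have h2 : a ((a⁻¹ y)⁻¹ * k' (a⁻¹ y)) ∈ Rs := hpres a ha _ (hk2 (a⁻¹ y))
        rw [map_mul, map_inv, MulAut.apply_inv_self] at h2
        rw [MulAut.mul_apply, MulAut.mul_apply]
        exact h2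
    obtain ⟨a, ha⟩ := hKinn hkK
    have hk₁inn : k₁ ∈ Inn P' := by
      refine ⟨(homEquiv hψ hψP).symm a, MulEquiv.ext fun w => ?_⟩
      apply (homEquiv hψ hψP).injective
      have h1 := DFunLike.congr_fun ha (homEquiv hψ hψP w)
      rw [hk, MulAut.conj_apply] at h1
      rw [MulAut.conj_apply, map_mul, map_mul, map_inv, MulEquiv.apply_symm_apply, h1]
      show homEquiv hψ hψP (k₁ ((homEquiv hψ hψP).symm (homEquiv hψ hψP w))) = _
      rw [MulEquiv.symm_apply_apply]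
    exact not_inn_of_not_mem (hPc.2 P' ⟨η₁, hη₁, rfl⟩) hP'S ⟨hCS hvC, hvN⟩ hvP hk₁inn
  intro R'' hR''
  obtain ⟨η, hη, -, hηR⟩ := exists_normalizer_map hS hF hR'n (isConj_trans (isConj_symm hR'') hRR')
  intro x hx
  have hxS : x ∈ S := hTS hx.1
  have hxN : x ∈ normalizerIn S R'' := ⟨hxS, Subgroup.centralizer_le_normalizer _ hx.2⟩
  have hmem : η ⟨x, hxN⟩ ∈ centralizerIn T R' := by
    refine mem_centralizerIn.2 ⟨stronglyClosed_apply_mem hsc hη (x := ⟨x, hxN⟩) hx.1, ?_⟩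
    rw [← hηR]
    rintro _ ⟨w, hw, rfl⟩
    rw [← map_mul, ← map_mul]
    exact congrArg η (Subtype.ext ((mem_centralizerIn.1 hx).2 w hw))
  obtain ⟨w, hw, he⟩ := hηR.ge (hmain hmem)
  exact (show (w : Ω) = x from congrArg Subtype.val (F.injective_of_mem hη he)) ▸ hw

/-- For a fully normalised `R ≤ T` with `C_T(R) ≤ R`, the group `N_T(R)` centralises the focal subgroup of
`C_F(R)`. -/
theorem commute_foc (hS : IsPGroup p S) (hF : F.IsSaturated p) (hsc : F.StronglyClosed T) {R : Subgroup Ω}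
    (hR : F.IsFullyNormalized R) (hRT : R ≤ T) (hcT : centralizerIn T R ≤ R)
    {D : FusionSystem (centralizerIn S R)} (hD : F.IsCentralizerSystem R D) {g : Ω}
    (hg : g ∈ T) (hgR : g ∈ Subgroup.normalizer (R : Set Ω)) {y : Ω} (hy : y ∈ D.focalSubgroup) :
    g * y * g⁻¹ = y := by
  have hRS : R ≤ S := hR.1
  have hTS := hsc.1
  haveI := finite_sub hRS
  have hrec := receptive_of_fullyNormalized hS hF hR
  have hDS : D.IsSaturated p := centralizerSystem_isSaturated hS hF (isFullyCentralized_of_receptive hrec) hD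
  have hCp : IsPGroup p (centralizerIn S R) := isPGroup_of_le hS (centralizerIn_le R)
  haveI := finite_sub (centralizerIn_le (S := S) R)
  have key := FusionP3.Induction.hom_induction hCp hDS
    (M := fun P φ => ∀ x : P, g * ((x : Ω)⁻¹ * φ x) * g⁻¹ = (x : Ω)⁻¹ * φ x) ?_ ?_ ?_
  · refine Subgroup.closure_induction (p := fun y _ => g * y * g⁻¹ = y) ?_ (by group) ?_ ?_ hy
    · rintro _ ⟨P, φ, x, hφ, rfl⟩
      exact key P φ hφ x
    · intro a b _ _ ha hb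
      rw [show g * (a * b) * g⁻¹ = g * a * g⁻¹ * (g * b * g⁻¹) by group, ha, hb]
    · intro a _ ha
      rw [show g * a⁻¹ * g⁻¹ = (g * a * g⁻¹)⁻¹ by group, ha]
  · intro P P' φ ψ χ _ _ h he h1 h2 x
    have e : (x : Ω)⁻¹ * χ x = (x : Ω)⁻¹ * φ x * ((φ x)⁻¹ * ψ ⟨φ x, h x⟩) := by rw [he]; group
    rw [e, show ∀ a b : Ω, g * (a * b) * g⁻¹ = g * a * g⁻¹ * (g * b * g⁻¹) from fun a b => by group,
      h1 x, h2 ⟨φ x, h x⟩]
  · intro P P' φ ψ h _ he h1 x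
    rw [he]
    exact h1 ⟨x, h x.2⟩
  intro P hPn hPc hPr u hu _
  have hPC : P ≤ centralizerIn S R := hPn.1
  have hPS : P ≤ S := hPC.trans (centralizerIn_le R)
  haveI := finite_sub hPS
  have hgS : g ∈ S := hTS hg
  have hgN : g ∈ normalizerIn S R := ⟨hgS, hgR⟩
  have hCg : ∀ c ∈ centralizerIn S R, g * c * g⁻¹ ∈ centralizerIn S R := fun c hc =>
    ⟨S.mul_mem (S.mul_mem hgS hc.1) (S.inv_mem hgS), conj_centralizer hgR hc.2⟩
  have hmove : ∀ c ∈ centralizerIn S R, c⁻¹ * (g * c * g⁻¹) ∈ R := fun c hc => by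
    refine hcT ⟨?_, ((centralizerIn S R).mul_mem ((centralizerIn S R).inv_mem hc) (hCg c hc)).2⟩
    rw [show c⁻¹ * (g * c * g⁻¹) = c⁻¹ * g * c⁻¹⁻¹ * g⁻¹ by group]
    exact T.mul_mem (conj_mem_of_normalizer (stronglyClosed_le_normalizer hsc (S.inv_mem hc.1)) hg)
      (T.inv_mem hg)
  have hZP : ∀ z, z ∈ R → z ∈ centralizerIn S R → z ∈ P := fun z hzQ hzC =>
    hPc.2 P (isConj_refl D hPC) (mem_centralizerIn.2 ⟨hzC, fun y hy =>
      ((mem_centralizerIn.1 (hPC hy)).2 z hzQ).symm⟩)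
  have hgP : ∀ x ∈ P, g * x * g⁻¹ ∈ P := fun x hx => by
    have hz := hZP _ (hmove x (hPC hx))
      ((centralizerIn S R).mul_mem ((centralizerIn S R).inv_mem (hPC hx)) (hCg x (hPC hx)))
    have := P.mul_mem hx hz
    rwa [mul_inv_cancel_left] at this
  have hgPn : g ∈ Subgroup.normalizer (P : Set Ω) := mem_normalizer_of_conj_mem hgP
  have hgW : ∀ x ∈ P ⊔ R, g * x * g⁻¹ ∈ P ⊔ R := fun x hx => by
    have : P ⊔ R ≤ (P ⊔ R).comap (MulAut.conj g).toMonoidHom :=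
      sup_le (fun a ha => (le_sup_left : P ≤ P ⊔ R) (hgP a ha))
        (fun a ha => (le_sup_right : R ≤ P ⊔ R) (conj_mem_of_normalizer hgR ha))
    exact this hx
  have hPRS : P ⊔ R ≤ S := sup_le hPS hRS
  haveI := finite_sub hPRS
  have hgWn : g ∈ Subgroup.normalizer ((P ⊔ R : Subgroup Ω) : Set Ω) := mem_normalizer_of_conj_mem hgW
  set ZP := R.subgroupOf P with hZPdef
  have hfixAll : ∀ a ∈ D.autGroup P, ∀ z ∈ ZP, a z = z := by
    intro a ha z hz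
    obtain ⟨-, -, -, τ, hτ, he, hfix⟩ := (hD P).le ((mem_autGroup hPC).1 ha)
    apply Subtype.ext
    show (a z : Ω) = z
    rw [show (a z : Ω) = τ (Subgroup.inclusion le_sup_left z) from (he z).symm,
      show Subgroup.inclusion le_sup_left z = Subgroup.inclusion le_sup_right ⟨(z : Ω), hz⟩ from rfl, hfix]
  set K := stab P ZP ⊓ D.autGroup P with hK
  have hKinn : K ≤ Inn P := by
    refine le_inn_of_radical hPr inf_le_right ?_
      ((isPGroup_stab (isPGroup_of_le hS hPS)).of_injective (Subgroup.inclusion inf_le_left)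
        (Subgroup.inclusion_injective _))
    rintro a ha k ⟨⟨hk1, hk2⟩, hk⟩
    refine ⟨⟨fun w hw => ?_, fun y => ?_⟩,
      (D.autGroup P).mul_mem ((D.autGroup P).mul_mem ha hk) ((D.autGroup P).inv_mem ha)⟩
    · rw [MulAut.mul_apply, MulAut.mul_apply, hfixAll _ (inv_mem ha) w hw, hk1 w hw, hfixAll a ha w hw]
    · have h := hk2 (a⁻¹ y)
      have h2 := hfixAll a ha _ h
      rw [map_mul, map_inv, MulAut.apply_inv_self] at h2
      rw [MulAut.mul_apply, MulAut.mul_apply, h2]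
      exact h
  -- `u` extended to `P R`
  obtain ⟨-, -, -, τ, hτ, heτ, hfix⟩ := (hD P).le ((mem_autGroup hPC).1 hu)
  have hτP : ∀ x : P, τ (Subgroup.inclusion le_sup_left x) = (u x : Ω) := heτ
  have hτW : ∀ w, τ w ∈ P ⊔ R := mapsTo_sup
    (fun x => by rw [hτP]; exact (le_sup_left : P ≤ P ⊔ R) (u x).2)
    (fun x => by rw [hfix]; exact (le_sup_right : R ≤ P ⊔ R) x.2)
  set t : MulAut ↥(P ⊔ R) := homEquiv hτ (range_eq_of_mem hτ hτW le_rfl) with ht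
  have htA : t ∈ F.autGroup (P ⊔ R) := homEquiv_mem_autGroup hτ (range_eq_of_mem hτ hτW le_rfl)
  set ĝ : MulAut ↥(P ⊔ R) := (P ⊔ R).normalizerMonoidHom ⟨g, hgWn⟩ with hĝ
  have hĝA : ĝ ∈ F.autGroup (P ⊔ R) :=
    autInducedBy_le_autGroup F hPRS (mem_autInducedBy.2 ⟨g, hgS, fun _ => rfl⟩)
  set gP : MulAut P := P.normalizerMonoidHom ⟨g, hgPn⟩ with hgPdef
  have htP : ∀ x : P, t (Subgroup.inclusion le_sup_left x) = Subgroup.inclusion le_sup_left (u x) :=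
    fun x => Subtype.ext (hτP x)
  have hĝP : ∀ x : P, ĝ (Subgroup.inclusion le_sup_left x) = Subgroup.inclusion le_sup_left (gP x) :=
    fun x => Subtype.ext rfl
  have htR : ∀ w : ↥(P ⊔ R), (w : Ω) ∈ R → t w = w := fun w hw => Subtype.ext (hfix ⟨w, hw⟩)
  set k : MulAut P := gP * u * gP⁻¹ * u⁻¹ with hk
  set k' : MulAut ↥(P ⊔ R) := ĝ * t * ĝ⁻¹ * t⁻¹ with hk'
  have htinv : ∀ x : P, t⁻¹ (Subgroup.inclusion le_sup_left x) = Subgroup.inclusion le_sup_left (u⁻¹ x) :=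
    fun x => by
      apply t.injective
      rw [MulAut.apply_inv_self, htP, MulAut.apply_inv_self]
  have hĝinv : ∀ x : P, ĝ⁻¹ (Subgroup.inclusion le_sup_left x) = Subgroup.inclusion le_sup_left (gP⁻¹ x) :=
    fun x => by
      apply ĝ.injective
      rw [MulAut.apply_inv_self, hĝP, MulAut.apply_inv_self]
  have hk'P : ∀ x : P, k' (Subgroup.inclusion le_sup_left x) = Subgroup.inclusion le_sup_left (k x) :=
    fun x => by
      show ĝ (t (ĝ⁻¹ (t⁻¹ (Subgroup.inclusion le_sup_left x)))) = _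
      rw [htinv, hĝinv, htP, hĝP]
      rfl
  have hk'R : ∀ w : ↥(P ⊔ R), (w : Ω) ∈ R → k' w = w := by
    intro w hw
    have h1 : t⁻¹ w = w := by
      apply t.injective
      rw [MulAut.apply_inv_self, htR w hw]
    have h2 : ((ĝ⁻¹ w : ↥(P ⊔ R)) : Ω) ∈ R := by
      have e : ((ĝ⁻¹ w : ↥(P ⊔ R)) : Ω) = g⁻¹ * w * g := by
        have h3 : g * ((ĝ⁻¹ w : ↥(P ⊔ R)) : Ω) * g⁻¹ = w :=
          congrArg Subtype.val (MulAut.apply_inv_self _ ĝ w)
        rw [← h3]; group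
      rw [e]
      exact conj_inv_mem_of_normalizer hgR hw
    show ĝ (t (ĝ⁻¹ (t⁻¹ w))) = w
    rw [h1, htR _ h2, MulAut.apply_inv_self]
  have hZg : ∀ z : P, z ∈ ZP → ((gP z : P) : Ω) ∈ R := fun z hz => conj_mem_of_normalizer hgR hz
  have hkK : k ∈ K := by
    refine ⟨⟨fun w hw => ?_, fun y => ?_⟩, ?_⟩
    · have h := hk'R (Subgroup.inclusion le_sup_left w) hw
      rw [hk'P] at h
      exact Subgroup.inclusion_injective _ h
    · set w := u⁻¹ y with hw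
      set v := gP⁻¹ w with hv
      have hwv : w = gP v := (MulAut.apply_inv_self _ gP w).symm
      have hz : v⁻¹ * w ∈ ZP := by
        rw [hwv]
        exact hmove v (hPC v.2)
      have e1 : u v = y * (v⁻¹ * w)⁻¹ := by
        have e2 := hfixAll u hu _ hz
        rw [map_mul, map_inv, show u w = y from MulAut.apply_inv_self _ u y] at e2
        rw [← e2, mul_inv_rev, inv_inv, mul_inv_cancel_left]
      show y⁻¹ * k y ∈ ZP
      rw [hk, MulAut.mul_apply, MulAut.mul_apply, MulAut.mul_apply, ← hw, ← hv, e1, map_mul, ← mul_assoc]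
      exact ZP.mul_mem (hmove y (hPC y.2)) (hZg _ (ZP.inv_mem hz))
    · show k ∈ D.autGroup P
      rw [mem_autGroup hPC]
      refine (hD P).ge ?_
      have hA := (mem_autGroup hPRS).1
        (show k' ∈ F.autGroup (P ⊔ R) from
          mul_mem (mul_mem (mul_mem hĝA htA) (inv_mem hĝA)) (inv_mem htA))
      refine ⟨mem_of_restrict hA le_sup_left fun x => ?_, hPC, fun x => hPC (k x).2, _, hA, fun x => ?_,
        fun x => ?_⟩
      · exact (congrArg Subtype.val (hk'P x)).symm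
      · exact congrArg Subtype.val (hk'P x)
      · exact congrArg Subtype.val (hk'R _ x.2)
  obtain ⟨a, ha⟩ := hKinn hkK
  -- `k'` is conjugation by `a`
  have haW : (a : Ω) ∈ P ⊔ R := (le_sup_left : P ≤ P ⊔ R) a.2
  have hk'a : ∀ w : ↥(P ⊔ R), (k' w : Ω) = a * w * (a : Ω)⁻¹ := by
    intro w
    let Eq : Subgroup Ω :=
      ((k' : MulAut ↥(P ⊔ R)).toMonoidHom.eqLocus (MulAut.conj (⟨(a : Ω), haW⟩ : ↥(P ⊔ R))).toMonoidHom).map
        (P ⊔ R).subtype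
    have hle : P ⊔ R ≤ Eq := by
      refine sup_le (fun x hx => ⟨Subgroup.inclusion le_sup_left ⟨x, hx⟩, Subtype.ext ?_, rfl⟩)
        (fun x hx => ⟨Subgroup.inclusion le_sup_right ⟨x, hx⟩, Subtype.ext ?_, rfl⟩)
      · show (k' _ : Ω) = (a : Ω) * x * (a : Ω)⁻¹
        rw [hk'P, ← ha]
        rfl
      · show (k' _ : Ω) = (a : Ω) * x * (a : Ω)⁻¹
        rw [hk'R _ hx, ← (mem_centralizerIn.1 (hPC a.2)).2 x hx, mul_inv_cancel_right]
        rfl
    obtain ⟨w', hw', he⟩ := hle w.2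
    have hw'' : k' w' = MulAut.conj (⟨(a : Ω), haW⟩ : ↥(P ⊔ R)) w' := hw'
    rw [← Subtype.ext he, hw'']
    rfl
  -- `P R` is centric in `F`
  have hcentric : F.IsCentric (P ⊔ R) := by
    refine ⟨hPRS, ?_⟩
    rintro _ ⟨σ, hσ, rfl⟩ x hx
    -- pull back to a map sending `R` to itself
    obtain ⟨σR, hσR, heσR⟩ := exists_restrict hσ (le_sup_right : R ≤ P ⊔ R)
    obtain ⟨η, hη, -, hηR⟩ := exists_normalizer_map hS hF hR (isConj_symm ⟨σR, hσR, rfl⟩)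
    have hsub : σ.range ≤ normalizerIn S σR.range := by
      rintro _ ⟨w, rfl⟩
      refine ⟨apply_mem hσ w, ?_⟩
      have hσRle : σR.range ≤ S := range_le_base hσR
      haveI := finite_sub hσRle
      refine mem_normalizer_of_conj_mem ?_
      rintro _ ⟨r, rfl⟩
      have hwn : (w : Ω) ∈ Subgroup.normalizer (R : Set Ω) :=
        (sup_le (hPC.trans ((centralizerIn_le_normalizerIn R).trans inf_le_right)) Subgroup.le_normalizer) w.2
      refine ⟨⟨(w : Ω) * r * (w : Ω)⁻¹, conj_mem_of_normalizer hwn r.2⟩, ?_⟩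
      rw [heσR, heσR, ← map_inv, ← map_mul, ← map_mul]
      rfl
    have hxN : x ∈ normalizerIn S σR.range := by
      refine ⟨hx.1, Subgroup.centralizer_le_normalizer _ ?_⟩
      refine Subgroup.centralizer_le ?_ hx.2
      rintro _ ⟨r, rfl⟩
      exact ⟨_, (heσR r).symm⟩
    obtain ⟨ρ, hρ, heρ⟩ := exists_comp hσ hη fun w => hsub ⟨w, rfl⟩
    have hρR : ∀ r : R, ρ (Subgroup.inclusion le_sup_right r) ∈ R := by
      intro r
      rw [heρ]
      exact hηR.le ⟨_, ⟨r, heσR r⟩, rfl⟩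
    obtain ⟨ρR, hρR', heρR⟩ := exists_restrict hρ (le_sup_right : R ≤ P ⊔ R)
    have hρRr : ρR.range = R := range_eq_of_mem hρR' (fun r => by rw [heρR]; exact hρR r) le_rfl
    have hbA : (homEquiv hρR' hρRr : MulAut R)⁻¹ ∈ F.autGroup R :=
      inv_mem (homEquiv_mem_autGroup hρR' hρRr)
    set b : MulAut R := homEquiv hρR' hρRr with hb
    obtain ⟨β, hβ, heβ⟩ := hrec.2 R _ ((mem_autGroup hRS).1 hbA) (by
      rw [MonoidHom.range_comp, MonoidHom.range_eq_top.2 (b⁻¹).surjective, ← MonoidHom.range_eq_map,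
        Subgroup.range_subtype])
    obtain ⟨β₁, hβ₁, heβ₁⟩ := exists_restrict hβ
      (sup_le (le_extender hRS fun r => hRS ((b⁻¹ : MulAut R) r).2) (centralizerIn_le_extender R _) :
        R ⊔ centralizerIn S R ≤ extender S R (R.subtype.comp (b⁻¹ : MulAut R).toMonoidHom))
    have hβR : ∀ (w : ↥(R ⊔ centralizerIn S R)) (hw : (w : Ω) ∈ R), β₁ w = (b⁻¹ : MulAut R) ⟨w, hw⟩ :=
      fun w hw => (heβ₁ w).trans (heβ w hw _)
    have hρC : ∀ z : P, ρ (Subgroup.inclusion le_sup_left z) ∈ centralizerIn S R := by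
      intro z
      refine mem_centralizerIn.2 ⟨apply_mem hρ _, fun r hr => ?_⟩
      obtain ⟨r', hr'⟩ := hρRr.ge hr
      rw [← hr', heρR, ← map_mul, ← map_mul]
      exact congrArg ρ (Subtype.ext ((mem_centralizerIn.1 (hPC z.2)).2 r' r'.2))
    have hρW : ∀ w, ρ w ∈ R ⊔ centralizerIn S R := mapsTo_sup
      (fun z => (le_sup_right : _ ≤ R ⊔ centralizerIn S R) (hρC z))
      (fun r => (le_sup_left : R ≤ R ⊔ centralizerIn S R) (hρR r))
    obtain ⟨π, hπ, heπ⟩ := exists_comp hρ hβ₁ hρW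
    have hπR : ∀ r : R, π (Subgroup.inclusion le_sup_right r) = r := by
      intro r
      have e : (⟨ρ (Subgroup.inclusion le_sup_right r), hρR r⟩ : R) = b r := Subtype.ext (heρR r).symm
      rw [heπ, hβR _ (hρR r), e, MulAut.inv_apply_self]
    obtain ⟨πP, hπP, heπP⟩ := exists_restrict hπ (le_sup_left : P ≤ P ⊔ R)
    have hβC : ∀ w : ↥(R ⊔ centralizerIn S R), (w : Ω) ∈ centralizerIn S R →
        β₁ w ∈ centralizerIn S R := by
      intro w hw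
      refine mem_centralizerIn.2 ⟨apply_mem hβ₁ _, fun r hr => ?_⟩
      have hbr : ((b ⟨r, hr⟩ : R) : Ω) ∈ R ⊔ centralizerIn S R :=
        (le_sup_left : R ≤ R ⊔ _) (b ⟨r, hr⟩).2
      have e : β₁ ⟨_, hbr⟩ = r := by
        rw [hβR _ (b ⟨r, hr⟩).2, MulAut.inv_apply_self]
      rw [← e, ← map_mul, ← map_mul]
      exact congrArg β₁ (Subtype.ext ((mem_centralizerIn.1 hw).2 _ (b ⟨r, hr⟩).2))
    have hπD : πP ∈ D.Hom P := by
      refine (hD P).ge ⟨hπP, hPC, fun z => ?_, π, hπ, fun z => (heπP z).symm, hπR⟩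
      rw [heπP, heπ]
      exact hβC _ (hρC z)
    have hcP := hPc.2 πP.range ⟨πP, hπD, rfl⟩
    -- `x` transported
    have hx' : η ⟨x, hxN⟩ ∈ centralizerIn S R := by
      refine mem_centralizerIn.2 ⟨apply_mem hη _, ?_⟩
      intro r hr
      obtain ⟨w, hw, hwe⟩ := hηR.ge hr
      obtain ⟨r', hr'⟩ := hw
      rw [← hwe, ← map_mul, ← map_mul]
      refine congrArg η (Subtype.ext ?_)
      show (w : Ω) * x = x * w
      rw [show (w : Ω) = σR r' from hr'.symm]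
      exact hx.2 _ ⟨_, (heσR r').symm⟩
    have hxR' : η ⟨x, hxN⟩ ∈ R ⊔ centralizerIn S R := (le_sup_right : _ ≤ R ⊔ centralizerIn S R) hx'
    have hx'' : β₁ ⟨_, hxR'⟩ ∈ centralizerIn (centralizerIn S R) πP.range := by
      refine mem_centralizerIn.2 ⟨hβC _ hx', ?_⟩
      rintro _ ⟨z, rfl⟩
      rw [heπP, heπ, ← map_mul, ← map_mul]
      refine congrArg β₁ (Subtype.ext ?_)
      show ρ _ * η _ = η _ * ρ _
      rw [heρ, ← map_mul, ← map_mul]
      exact congrArg η (Subtype.ext (hx.2 _ ⟨_, rfl⟩))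
    obtain ⟨z, hz⟩ := hcP hx''
    rw [heπP, heπ] at hz
    have h1 := congrArg Subtype.val (F.injective_of_mem hβ₁ hz)
    rw [show ((⟨ρ ⟨(z : Ω), _⟩, _⟩ : ↥(R ⊔ centralizerIn S R)) : Ω) = η ⟨σ ⟨(z : Ω), _⟩, _⟩ from
      heρ ⟨(z : Ω), (le_sup_left : P ≤ P ⊔ R) z.2⟩] at h1
    exact ⟨_, congrArg Subtype.val (F.injective_of_mem hη h1)⟩
  -- extend `t` to an element inducing `t ĝ t⁻¹`
  have hrecW : F.IsReceptive (P ⊔ R) :=
    receptive_of_fullyCentralized hS hF (FusionEssential.Centric.fullyCentralized_of_centric hcentric)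
  obtain ⟨ψ, hψ, heψ⟩ := hrecW.2 (P ⊔ R) _ ((mem_autGroup hPRS).1 htA) (by
    rw [MonoidHom.range_comp, MonoidHom.range_eq_top.2 t.surjective, ← MonoidHom.range_eq_map,
      Subgroup.range_subtype])
  have hgext : g ∈ extender S (P ⊔ R) ((P ⊔ R).subtype.comp t.toMonoidHom) := by
    refine mem_extender_of ⟨hgS, hgWn⟩ (h := (a : Ω)⁻¹ * g)
      (S.mul_mem (S.inv_mem (hPS a.2)) hgS) fun w hw => ?_
    show (t (ĝ w) : Ω) = (a : Ω)⁻¹ * g * (t w : Ω) * ((a : Ω)⁻¹ * g)⁻¹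
    have e2 : k' (t (ĝ w)) = ĝ (t w) := by
      show ĝ (t (ĝ⁻¹ (t⁻¹ (t (ĝ w))))) = _
      rw [MulAut.inv_apply_self, MulAut.inv_apply_self]
    have h1 := hk'a (t (ĝ w))
    rw [e2] at h1
    have h2 : g * (t w : Ω) * g⁻¹ = (a : Ω) * (t (ĝ w) : Ω) * (a : Ω)⁻¹ := h1
    calc (t (ĝ w) : Ω) = (a : Ω)⁻¹ * ((a : Ω) * (t (ĝ w) : Ω) * (a : Ω)⁻¹) * a := by group
      _ = _ := by rw [← h2]; group
  set h : Ω := ψ ⟨g, hgext⟩ with hh
  have hhT : h ∈ T := stronglyClosed_apply_mem hsc hψ (x := ⟨g, hgext⟩) hg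
  have hWext : P ⊔ R ≤ extender S (P ⊔ R) ((P ⊔ R).subtype.comp t.toMonoidHom) :=
    le_extender hPRS fun w => hPRS (t w).2
  have hconj : ∀ w : ↥(P ⊔ R), h * (t w : Ω) * h⁻¹ = (t (ĝ w) : Ω) := by
    intro w
    rw [hh, show (t w : Ω) = ψ ⟨w, hWext w.2⟩ from (heψ w w.2 _).symm, ← map_inv, ← map_mul, ← map_mul]
    exact heψ _ (hgW w w.2) _
  have hcent : ∀ w : ↥(P ⊔ R), (a : Ω) * (h * (w : Ω) * h⁻¹) * (a : Ω)⁻¹ = g * w * g⁻¹ := by
    intro w
    have h1 := hconj (t⁻¹ w)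
    rw [MulAut.apply_inv_self] at h1
    have h2 := hk'a (t (ĝ (t⁻¹ w)))
    have e2 : k' (t (ĝ (t⁻¹ w))) = ĝ w := by
      show ĝ (t (ĝ⁻¹ (t⁻¹ (t (ĝ (t⁻¹ w)))))) = _
      rw [MulAut.inv_apply_self, MulAut.inv_apply_self, MulAut.apply_inv_self]
    rw [e2] at h2
    rw [h1, ← h2]
    rfl
  set c : Ω := g⁻¹ * a * h with hc
  have hcS : c ∈ S := S.mul_mem (S.mul_mem (S.inv_mem hgS) (hPS a.2)) (hTS hhT)
  have hcW : ∀ w : ↥(P ⊔ R), c * w * c⁻¹ = w := by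
    intro w
    calc c * w * c⁻¹ = g⁻¹ * ((a : Ω) * (h * (w : Ω) * h⁻¹) * (a : Ω)⁻¹) * g := by rw [hc]; group
      _ = w := by rw [hcent]; group
  have hcC : c ∈ centralizerIn S R :=
    mem_centralizerIn'.2 ⟨hcS, fun r hr => hcW ⟨r, (le_sup_right : R ≤ P ⊔ R) hr⟩⟩
  have hcP : c ∈ P := hPc.2 P (isConj_refl D hPC) (mem_centralizerIn'.2
    ⟨hcC, fun y hy => hcW ⟨y, (le_sup_left : P ≤ P ⊔ R) hy⟩⟩)
  -- `a` acts trivially on `P`
  have hz : (a : Ω)⁻¹ * (g * c * g⁻¹) ∈ R := by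
    have e : (a : Ω)⁻¹ * (g * c * g⁻¹) = h * g⁻¹ := by rw [hc]; group
    refine hcT ⟨?_, ?_⟩
    · rw [e]; exact T.mul_mem hhT (T.inv_mem hg)
    · exact ((centralizerIn S R).mul_mem ((centralizerIn S R).inv_mem (hPC a.2)) (hCg c hcC)).2
  have hk1 : ∀ x : P, k x = x := by
    intro x
    rw [← ha]
    apply Subtype.ext
    show (a : Ω) * x * (a : Ω)⁻¹ = x
    set d := c⁻¹ * (g * c * g⁻¹) with hd
    have hdR : d ∈ R := hmove c hcC
    have hzc : ∀ r ∈ R, r * (x : Ω) = x * r := (mem_centralizerIn.1 (hPC x.2)).2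
    have hcx : c * (x : Ω) = x * c := mul_inv_eq_iff_eq_mul.1 (hcW ⟨x, (le_sup_left : P ≤ P ⊔ R) x.2⟩)
    have e : (a : Ω) = c * (d * ((a : Ω)⁻¹ * (g * c * g⁻¹))⁻¹) := by rw [hd]; group
    rw [e]
    have h3 := hzc _ (R.mul_mem hdR (R.inv_mem hz))
    rw [mul_assoc c, h3, ← mul_assoc c, hcx]
    group
  intro x
  set x' := (x : Ω)⁻¹ * (u x : Ω) with hx'
  show g * x' * g⁻¹ = x'
  set z : P := x⁻¹ * gP x with hzdef
  have hzR : z ∈ ZP := hmove x (hPC x.2)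
  have e1 : gP (u x) = u x * z := by
    have h1 := hk1 (u (gP x))
    rw [hk, MulAut.mul_apply, MulAut.mul_apply, MulAut.mul_apply, MulAut.inv_apply_self,
      MulAut.inv_apply_self] at h1
    rw [h1, show gP x = x * z from (mul_inv_cancel_left _ _).symm, map_mul, hfixAll u hu z hzR]
  have e2 : gP (x⁻¹ * u x) = x⁻¹ * u x := by
    rw [map_mul, map_inv, e1, show gP x = x * z from (mul_inv_cancel_left _ _).symm]
    have hcz : ∀ w : P, w * z = z * w := fun w =>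
      Subtype.ext ((mem_centralizerIn.1 (hPC w.2)).2 z hzR).symm
    rw [mul_inv_rev, mul_assoc z⁻¹, ← mul_assoc x⁻¹, hcz (x⁻¹ * u x), inv_mul_cancel_left]
  exact congrArg Subtype.val e2

/-- If `x` is carried to an element centralising `T` by a map fixing a `T`-centric `R ≤ C_T(x)` pointwise,
then `N_T(R)` centralises `x`. -/
theorem commute_conj (hS : IsPGroup p S) (hF : F.IsSaturated p) (hsc : F.StronglyClosed T) {R : Subgroup Ω}
    (hR : CentricT F T R) {x : Ω} (hxR : x ∈ centralizerIn S R) {v : ↥(R ⊔ Subgroup.zpowers x) →* Ω}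
    (hv : v ∈ F.Hom (R ⊔ Subgroup.zpowers x))
    (hvR : ∀ r : R, v (Subgroup.inclusion le_sup_left r) = r)
    (hvx : v (Subgroup.inclusion le_sup_right ⟨x, Subgroup.mem_zpowers x⟩) ∈ centralizerIn S T)
    {g : Ω} (hg : g ∈ T) (hgR : g ∈ Subgroup.normalizer (R : Set Ω)) : g * x = x * g := by
  have hRT := hR.1
  have hTS := hsc.1
  have hRS : R ≤ S := hRT.trans hTS
  set x₂ := v (Subgroup.inclusion le_sup_right ⟨x, Subgroup.mem_zpowers x⟩) with hx₂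
  obtain ⟨R', hRR', hR'n⟩ := exists_isFullyNormalized F hRS
  obtain ⟨η, hη, -, hηR⟩ := exists_normalizer_map hS hF hR'n hRR'
  have hR'T : R' ≤ T := by
    rw [← hηR]
    rintro _ ⟨w, hw, rfl⟩
    exact stronglyClosed_apply_mem hsc hη (hRT hw)
  obtain ⟨D, hD⟩ := exists_centralizerSystem F hR'n.1
  have hx₂R : x₂ ∈ centralizerIn S R := centralizerIn_anti hRT hvx
  have hCN := centralizerIn_le_normalizerIn (S := S) R
  have hRN : R ≤ normalizerIn S R := le_normalizerIn hRS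
  have hηC : ∀ y : Ω, ∀ hy : y ∈ normalizerIn S R, y ∈ centralizerIn S R → η ⟨y, hy⟩ ∈ centralizerIn S R' := by
    intro y hy hyR
    refine mem_centralizerIn.2 ⟨apply_mem hη _, ?_⟩
    rw [← hηR]
    rintro _ ⟨w, hw, rfl⟩
    rw [← map_mul, ← map_mul]
    exact congrArg η (Subtype.ext ((mem_centralizerIn.1 hyR).2 w hw))
  have hX : R ⊔ Subgroup.zpowers x ≤ normalizerIn S R := sup_le hRN (Subgroup.zpowers_le.2 (hCN hxR))
  obtain ⟨η₁, hη₁, heη₁⟩ := exists_restrict hη hX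
  obtain ⟨ηi, hηi, -, hl, -⟩ := exists_inv hη₁ rfl
  have hvN : ∀ w, v w ∈ normalizerIn S R := mapsTo_sup (fun r => by rw [hvR]; exact hRN r.2)
    (fun y => by
      obtain ⟨y, hy⟩ := y
      obtain ⟨n, rfl⟩ := Subgroup.mem_zpowers_iff.1 hy
      rw [show (⟨x ^ n, _⟩ : Subgroup.zpowers x) = ⟨x, Subgroup.mem_zpowers x⟩ ^ n from Subtype.ext (by simp),
        map_zpow, map_zpow]
      exact zpow_mem (hCN hx₂R) n)
  set w := η ⟨x, hCN hxR⟩ with hw
  have hsrc : Subgroup.zpowers w ⊔ R' ≤ η₁.range := by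
    refine sup_le (Subgroup.zpowers_le.2 ⟨Subgroup.inclusion le_sup_right ⟨x, Subgroup.mem_zpowers x⟩, heη₁ _⟩) ?_
    rw [← hηR]
    rintro _ ⟨⟨z, hz⟩, hzR, rfl⟩
    exact ⟨Subgroup.inclusion le_sup_left ⟨z, hzR⟩, heη₁ _⟩
  obtain ⟨ηi', hηi', heηi'⟩ := exists_restrict hηi hsrc
  obtain ⟨c₁, hc₁, hec₁⟩ := exists_comp hηi' hv fun y => by
    obtain ⟨v', hv'⟩ := hsrc y.2
    rw [heηi', show (⟨(y : Ω), hsrc y.2⟩ : η₁.range) = ⟨η₁ v', ⟨v', rfl⟩⟩ from Subtype.ext hv'.symm]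
    exact (hl v' ⟨v', rfl⟩).symm ▸ v'.2
  obtain ⟨χ, hχ, heχ⟩ := exists_comp hc₁ hη fun y => by rw [hec₁]; exact hvN _
  have hval : ∀ u : ↥(R ⊔ Subgroup.zpowers x), ∀ hu : η₁ u ∈ Subgroup.zpowers w ⊔ R',
      χ ⟨η₁ u, hu⟩ = η ⟨v u, hvN u⟩ := by
    intro u hu
    rw [heχ]
    refine congrArg η (Subtype.ext ?_)
    show c₁ _ = v u
    rw [hec₁]
    refine congrArg v (Subtype.ext ?_)
    show ηi' _ = (u : Ω)
    rw [heηi']
    exact hl u _
  have hη₁x : η₁ (Subgroup.inclusion le_sup_right ⟨x, Subgroup.mem_zpowers x⟩) = w := heη₁ _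
  have hχw : ∀ h : w ∈ Subgroup.zpowers w ⊔ R', χ ⟨w, h⟩ = η ⟨x₂, hCN hx₂R⟩ := by
    intro h
    rw [show (⟨w, h⟩ : ↥(Subgroup.zpowers w ⊔ R')) =
      ⟨η₁ (Subgroup.inclusion le_sup_right ⟨x, Subgroup.mem_zpowers x⟩), hη₁x.symm ▸ h⟩ from
        Subtype.ext hη₁x.symm, hval]
  obtain ⟨χw, hχw', heχw⟩ := exists_restrict hχ (le_sup_left : Subgroup.zpowers w ≤ _ ⊔ R')
  have hwC := hηC x (hCN hxR) hxR
  have hfoc : w⁻¹ * η ⟨x₂, hCN hx₂R⟩ ∈ D.focalSubgroup := by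
    refine Subgroup.subset_closure ⟨Subgroup.zpowers w, χw, ⟨w, Subgroup.mem_zpowers w⟩,
      (hD _).ge ⟨hχw', Subgroup.zpowers_le.2 hwC, ?_, χ, hχ, fun y => (heχw y).symm, ?_⟩, ?_⟩
    · rintro ⟨y, hyz⟩
      obtain ⟨n, rfl⟩ := Subgroup.mem_zpowers_iff.1 hyz
      rw [show (⟨w ^ n, _⟩ : Subgroup.zpowers w) = ⟨w, Subgroup.mem_zpowers w⟩ ^ n from Subtype.ext (by simp),
        map_zpow]
      refine zpow_mem ?_ n
      rw [heχw, hχw]
      exact hηC x₂ _ hx₂R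
    · intro r
      obtain ⟨⟨z, hz⟩, hzR, he⟩ := hηR.ge r.2
      have h1 : η₁ (Subgroup.inclusion le_sup_left ⟨z, hzR⟩) = (r : Ω) := (heη₁ _).trans he
      rw [show (Subgroup.inclusion le_sup_right r : ↥(Subgroup.zpowers w ⊔ R')) =
        ⟨η₁ (Subgroup.inclusion le_sup_left ⟨z, hzR⟩),
          h1.symm ▸ (le_sup_right : R' ≤ Subgroup.zpowers w ⊔ R') r.2⟩ from Subtype.ext h1.symm, hval, ← he]
      exact congrArg η (Subtype.ext (hvR ⟨z, hzR⟩))
    · rw [heχw, hχw]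
  have hgN : g ∈ normalizerIn S R := ⟨hTS hg, hgR⟩
  set g' := η ⟨g, hgN⟩ with hg'
  have hg'R : g' ∈ Subgroup.normalizer (R' : Set Ω) := by
    haveI := finite_sub hR'n.1
    refine mem_normalizer_of_conj_mem fun r hr => ?_
    obtain ⟨z, hz, rfl⟩ := hηR.ge hr
    rw [hg', ← map_inv, ← map_mul, ← map_mul]
    refine hηR.le ⟨_, ?_, rfl⟩
    show g * (z : Ω) * g⁻¹ ∈ R
    exact conj_mem_of_normalizer hgR hz
  have h1 := commute_foc hS hF hsc hR'n hR'T (hR.2 R' hRR') hD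
    (stronglyClosed_apply_mem hsc hη (x := ⟨g, hgN⟩) hg) hg'R hfoc
  rw [← map_inv η ⟨x, _⟩, ← map_mul, ← map_inv, ← map_mul, ← map_mul] at h1
  have h2 : g * (x⁻¹ * x₂) * g⁻¹ = x⁻¹ * x₂ := congrArg Subtype.val (F.injective_of_mem hη h1)
  have h3 : g * x₂ * g⁻¹ = x₂ := by rw [(mem_centralizerIn.1 hvx).2 g hg, mul_inv_cancel_right]
  have h4 : g * x⁻¹ * g⁻¹ = x⁻¹ := by
    refine mul_right_cancel (b := x₂) ?_
    calc g * x⁻¹ * g⁻¹ * x₂ = g * x⁻¹ * g⁻¹ * (g * x₂ * g⁻¹) := by rw [h3]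
      _ = g * (x⁻¹ * x₂) * g⁻¹ := by group
      _ = _ := h2
  have h5 := congrArg (fun t : Ω => x * t * g * x) h4
  group at h5 ⊢
  exact h5.symm

/-- `C_S(E)` is strongly closed. -/
theorem stronglyClosed_centralizerSub (hS : IsPGroup p S) (hE : E.IsNormalIn F p) :
    F.StronglyClosed (centralizerSub F E) := by
  have hinvE := hE.1.2.2
  obtain ⟨⟨-, hF, -, hsc, -, hfrat⟩, -⟩ := id hE
  have hTS := hsc.1
  haveI := finite_sub hTS
  have hTp : IsPGroup p T := isPGroup_of_le hS hTS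
  obtain ⟨D, hD⟩ := exists_centralizerSystem F hTS
  refine ⟨centralizerSub_le.trans (centralizerIn_le T), ?_⟩
  suffices key : ∀ (P : Subgroup Ω) (φ : P →* Ω), φ ∈ F.Hom P →
      ∀ x : P, (x : Ω) ∈ centralizerSub F E → φ x ∈ centralizerSub F E from
    fun R hR φ hφ x => key R φ hφ x (hR x.2)
  refine FusionP3.Induction.hom_induction hS hF ?_ ?_ ?_
  · intro P Q φ ψ χ _ _ h he h1 h2 x hx
    rw [he]
    exact h2 ⟨φ x, h x⟩ (h1 x hx)
  · intro P Q φ ψ h _ he h1 x hx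
    rw [he]
    exact h1 _ hx
  intro P hPn hPc hPr α hα _ c hc
  have hPS := hPn.1
  have hαhom := (mem_autGroup hPS).1 hα
  set x : Ω := ((α c : P) : Ω) with hx
  show x ∈ centralizerSub F E
  have hcC := centralized_of_mem hS hE hc
  have hxS : x ∈ S := hPS (α c).2
  set R := P ⊓ T with hR
  have hRcent : CentricT F T R := centricT_inf hS hF hsc hPc hPr
  have hxR : ∀ r ∈ R, r * x = x * r := by
    intro r hr
    set r₀ : P := α⁻¹ ⟨r, hr.1⟩ with hr₀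
    have hr₀T : (r₀ : Ω) ∈ T :=
      stronglyClosed_apply_mem hsc ((mem_autGroup hPS).1 (inv_mem hα)) hr.2
    have he : (α r₀ : Ω) = r := congrArg Subtype.val (MulAut.apply_inv_self _ α ⟨r, hr.1⟩)
    rw [← he, hx, ← Subgroup.coe_mul, ← Subgroup.coe_mul, ← map_mul, ← map_mul]
    exact congrArg (fun w : P => (α w : Ω)) (Subtype.ext ((mem_centralizerIn.1 hcC.1).2 _ hr₀T))
  -- a fully centralised conjugate
  have hcP : Subgroup.zpowers (c : Ω) ≤ P := Subgroup.zpowers_le.2 c.2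
  have hxP : Subgroup.zpowers x ≤ P := Subgroup.zpowers_le.2 (α c).2
  obtain ⟨Q, hQc, hQ⟩ := exists_isFullyCentralized F (hcP.trans hPS)
  obtain ⟨φc, hφc, hφcQ⟩ := id hQc
  have hrec := receptive_of_fullyCentralized hS hF hQ
  obtain ⟨ψ₀, hψ₀, heψ₀⟩ := hrec.2 _ φc hφc hφcQ
  obtain ⟨ψc, hψc, heψc⟩ := exists_restrict hψ₀
    (sup_le (fun t ht => centralizerIn_le_extender _ _ (mem_centralizerIn.2 ⟨hTS ht, fun y hy => by
        obtain ⟨n, rfl⟩ := hy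
        exact ((show Commute t (c : Ω) from (mem_centralizerIn.1 hcC.1).2 t ht).zpow_right n).eq.symm⟩))
      (le_extender (hcP.trans hPS) (apply_mem hφc)) :
      T ⊔ Subgroup.zpowers (c : Ω) ≤ extender S (Subgroup.zpowers (c : Ω)) φc)
  set x' : Ω := φc ⟨c, Subgroup.mem_zpowers _⟩ with hx'
  have hcsup : (c : Ω) ∈ T ⊔ Subgroup.zpowers (c : Ω) :=
    (le_sup_right : _ ≤ T ⊔ _) (Subgroup.mem_zpowers _)
  have hψcc : ψc ⟨c, hcsup⟩ = x' := (heψc _).trans (heψ₀ _ _ _)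
  have hx'C : Centralized F E x' := hψcc ▸ hcC.transport hinvE hψc le_sup_left hcsup
  obtain ⟨βx, hβx, heβx⟩ := exists_restrict ((mem_autGroup hPS).1 (inv_mem hα)) hxP
  have hβxc : ∀ w, βx w ∈ Subgroup.zpowers (c : Ω) := by
    rintro ⟨w, hwz⟩
    obtain ⟨n, rfl⟩ := Subgroup.mem_zpowers_iff.1 hwz
    rw [show (⟨x ^ n, _⟩ : Subgroup.zpowers x) = ⟨x, Subgroup.mem_zpowers x⟩ ^ n from Subtype.ext (by simp),
      map_zpow, heβx]
    refine zpow_mem ?_ n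
    show ((α⁻¹ (α c) : P) : Ω) ∈ Subgroup.zpowers (c : Ω)
    rw [MulAut.inv_apply_self]
    exact Subgroup.mem_zpowers _
  obtain ⟨φx, hφx, heφx⟩ := exists_comp hβx hφc hβxc
  have hφxx : φx ⟨x, Subgroup.mem_zpowers x⟩ = x' := by
    rw [heφx, hx']
    refine congrArg φc (Subtype.ext ?_)
    show βx _ = (c : Ω)
    rw [heβx]
    show ((α⁻¹ (α c) : P) : Ω) = c
    rw [MulAut.inv_apply_self]
  have hφxQ : φx.range = Q := by
    rw [← hφcQ]
    refine le_antisymm (fun _ ⟨w, hw⟩ => ⟨_, (heφx w).symm.trans hw⟩) ?_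
    rintro _ ⟨⟨w, n, rfl⟩, rfl⟩
    refine ⟨⟨x, Subgroup.mem_zpowers x⟩ ^ n, ?_⟩
    rw [map_zpow, hφxx, hx', ← map_zpow]
    exact congrArg φc (Subtype.ext (by simp))
  obtain ⟨ψ₁, hψ₁, heψ₁⟩ := hrec.2 _ φx hφx hφxQ
  set R₁ := centralizerIn T (Subgroup.zpowers x) with hR₁
  have hRR₁ : R ≤ R₁ := fun r hr => mem_centralizerIn.2 ⟨hr.2, fun y hy => by
    obtain ⟨n, rfl⟩ := hy
    exact ((show Commute r x from hxR r hr).zpow_right n).eq.symm⟩
  have hR₁T : R₁ ≤ T := centralizerIn_le _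
  have hR₁c : CentricT F T R₁ := hRcent.mono hRR₁ hR₁T
  have hxR₁ : x ∈ centralizerIn S R₁ := mem_centralizerIn.2 ⟨hxS, fun r hr =>
    ((mem_centralizerIn.1 hr).2 x (Subgroup.mem_zpowers x)).symm⟩
  obtain ⟨ψx, hψx, heψx⟩ := exists_restrict hψ₁
    (sup_le (fun r hr => centralizerIn_le_extender _ _ ⟨hTS hr.1, hr.2⟩)
      (le_extender (hxP.trans hPS) (apply_mem hφx)) :
      R₁ ⊔ Subgroup.zpowers x ≤ extender S (Subgroup.zpowers x) φx)
  have hψxx : ψx (Subgroup.inclusion le_sup_right ⟨x, Subgroup.mem_zpowers x⟩) = x' :=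
    (heψx _).trans ((heψ₁ _ (Subgroup.mem_zpowers x) _).trans hφxx)
  obtain ⟨ψR, hψR, heψR⟩ := exists_restrict hψx (le_sup_left : R₁ ≤ R₁ ⊔ Subgroup.zpowers x)
  obtain ⟨ψRi, hψRi, -, hlR, -⟩ := exists_inv hψR rfl
  have hR₂T : ψR.range ≤ T := by
    rintro _ ⟨r, rfl⟩
    exact stronglyClosed_apply_mem hsc hψR (hR₁T r.2)
  obtain ⟨α₁, hα₁, φ₀, hφ₀, heα₁⟩ := hfrat _ hR₂T ψRi hψRi
  obtain ⟨φ₀', hφ₀', hφ₀1, hφ₀2⟩ := hx'C.2 _ φ₀ hφ₀
  obtain ⟨β₀, hβ₀, heβ₀⟩ := (receptive_of_fullyNormalized hS hF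
    ⟨hTS, fun Q' _ => by
      rw [show normalizerIn S T = S from inf_eq_left.2 (stronglyClosed_le_normalizer hsc)]
      exact Subgroup.card_le_of_le (normalizerIn_le Q')⟩).2 T _ ((mem_autGroup hTS).1 hα₁) (by
    rw [MonoidHom.range_comp, MonoidHom.range_eq_top.2 α₁.surjective, ← MonoidHom.range_eq_map,
      Subgroup.range_subtype])
  obtain ⟨α₁', hα₁', heα₁'⟩ := exists_restrict hβ₀
    (sup_le (le_extender hTS fun t => hTS (α₁ t).2)
      (Subgroup.zpowers_le.2 (centralizerIn_le_extender T _ hx'C.1)) :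
      T ⊔ Subgroup.zpowers x' ≤ extender S T (T.subtype.comp α₁.toMonoidHom))
  obtain ⟨d₁, hd₁, hed₁⟩ := exists_comp hψx hφ₀' (mapsTo_sup
    (fun r => (le_sup_left : ψR.range ≤ ψR.range ⊔ Subgroup.zpowers x') ⟨r, heψR r⟩)
    (fun y => by
      obtain ⟨y, hy⟩ := y
      obtain ⟨n, rfl⟩ := Subgroup.mem_zpowers_iff.1 hy
      rw [show (⟨x ^ n, _⟩ : Subgroup.zpowers x) = ⟨x, Subgroup.mem_zpowers x⟩ ^ n from Subtype.ext (by simp),
        map_zpow, map_zpow, hψxx]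
      exact (le_sup_right : _ ≤ ψR.range ⊔ Subgroup.zpowers x') (Subgroup.zpow_mem_zpowers x' n)))
  have hd₁r : ∀ r : R₁, d₁ (Subgroup.inclusion le_sup_left r) = φ₀ ⟨ψR r, ⟨r, rfl⟩⟩ := by
    intro r
    rw [hed₁, ← hφ₀1]
    exact congrArg φ₀' (Subtype.ext (heψR r).symm)
  have hd₁x : d₁ (Subgroup.inclusion le_sup_right ⟨x, Subgroup.mem_zpowers x⟩) = x' := by
    rw [hed₁, show (⟨ψx (Subgroup.inclusion le_sup_right ⟨x, Subgroup.mem_zpowers x⟩), _⟩ :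
      ↥(ψR.range ⊔ Subgroup.zpowers x')) = Subgroup.inclusion le_sup_right ⟨x', Subgroup.mem_zpowers x'⟩ from
        Subtype.ext hψxx, hφ₀2]
  obtain ⟨v, hv, hev⟩ := exists_comp hd₁ hα₁' (mapsTo_sup
    (fun r => by rw [hd₁r]; exact (le_sup_left : T ≤ T ⊔ _) (apply_mem hφ₀ _))
    (fun y => by
      obtain ⟨y, hy⟩ := y
      obtain ⟨n, rfl⟩ := Subgroup.mem_zpowers_iff.1 hy
      rw [show (⟨x ^ n, _⟩ : Subgroup.zpowers x) = ⟨x, Subgroup.mem_zpowers x⟩ ^ n from Subtype.ext (by simp),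
        map_zpow, map_zpow, hd₁x]
      exact (le_sup_right : _ ≤ T ⊔ Subgroup.zpowers x') (Subgroup.zpow_mem_zpowers x' n)))
  have hvR : ∀ r : R₁, v (Subgroup.inclusion le_sup_left r) = r := by
    intro r
    rw [hev, heα₁']
    refine (heβ₀ _ (show d₁ _ ∈ T by rw [hd₁r]; exact apply_mem hφ₀ _) _).trans ?_
    show ((α₁ ⟨d₁ _, _⟩ : T) : Ω) = r
    rw [show (⟨d₁ (Subgroup.inclusion le_sup_left r), show d₁ _ ∈ T by rw [hd₁r]; exact apply_mem hφ₀ _⟩ : T) =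
      ⟨φ₀ ⟨ψR r, ⟨r, rfl⟩⟩, apply_mem hφ₀ _⟩ from Subtype.ext (hd₁r r), ← heα₁]
    exact hlR r _
  have hx'sup : x' ∈ T ⊔ Subgroup.zpowers x' := (le_sup_right : _ ≤ T ⊔ _) (Subgroup.mem_zpowers x')
  set x'' : Ω := α₁' ⟨x', hx'sup⟩ with hx''
  have hx''C : Centralized F E x'' := hx'C.transport hinvE hα₁' le_sup_left hx'sup
  have hvx : v (Subgroup.inclusion le_sup_right ⟨x, Subgroup.mem_zpowers x⟩) = x'' := by
    rw [hev]
    exact congrArg α₁' (Subtype.ext hd₁x)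
  -- `x` centralises `T`
  have hTR : T ≤ R₁ := by
    rcases eq_or_lt_of_le hR₁T with h | h
    · exact h.ge
    exfalso
    haveI := finite_sub hTS
    obtain ⟨g, ⟨hgT, hgN⟩, hgR⟩ := SetLike.exists_of_lt (FusionP3.Induction.lt_normalizerIn hTp h)
    refine hgR (mem_centralizerIn.2 ⟨hgT, fun y hy => ?_⟩)
    have hcomm := commute_conj hS hF hsc hR₁c hxR₁ hv hvR (hvx ▸ hx''C.1) hgT hgN
    obtain ⟨n, rfl⟩ := hy
    exact ((show Commute g x from hcomm).zpow_right n).eq.symm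
  have hxT : x ∈ centralizerIn S T := centralizerIn_anti hTR hxR₁
  -- a map of `C_F(T)` carries `x` to `x''`
  obtain ⟨w, hw, hew⟩ := exists_restrict hv
    (sup_le le_sup_right (hTR.trans le_sup_left) : Subgroup.zpowers x ⊔ T ≤ R₁ ⊔ Subgroup.zpowers x)
  obtain ⟨w₀, hw₀, hew₀⟩ := exists_restrict hw (le_sup_left : Subgroup.zpowers x ≤ _ ⊔ T)
  have hw₀x : w₀ ⟨x, Subgroup.mem_zpowers x⟩ = x'' := by
    rw [hew₀, hew]
    exact hvx
  have hfoc : x⁻¹ * x'' ∈ D.focalSubgroup := by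
    refine Subgroup.subset_closure ⟨Subgroup.zpowers x, w₀, ⟨x, Subgroup.mem_zpowers x⟩,
      (hD _).ge ⟨hw₀, Subgroup.zpowers_le.2 hxT, ?_, w, hw, fun y => (hew₀ y).symm, fun t => ?_⟩, ?_⟩
    · rintro ⟨y, hyz⟩
      obtain ⟨n, rfl⟩ := Subgroup.mem_zpowers_iff.1 hyz
      rw [show (⟨x ^ n, _⟩ : Subgroup.zpowers x) = ⟨x, Subgroup.mem_zpowers x⟩ ^ n from Subtype.ext (by simp),
        map_zpow, hw₀x]
      exact zpow_mem hx''C.1 n
    · rw [hew]
      exact hvR ⟨t, hTR t.2⟩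
    · rw [hw₀x]
  have h1 : x'' ∈ centralizerSub F E := Subgroup.subset_closure hx''C
  have h2 : x⁻¹ * x'' ∈ centralizerSub F E := Subgroup.subset_closure (centralized_of_mem_focal hS hE hD hfoc)
  have h3 := (centralizerSub F E).mul_mem h1 ((centralizerSub F E).inv_mem h2)
  rwa [mul_inv_rev, inv_inv, mul_inv_cancel_left] at h3

end Cfsg.Agent.Lib.FS.NormalCentralizer
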