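import Mathlib
import Cfsg.Agent.Lib.FusionSystem.NormalCentralizerClosed
import Cfsg.Agent.Lib.FusionSystem.CocycleNorm
import Cfsg.Agent.Lib.FusionSystem.Group

/-!
The local set-up for the centraliser of a normal subsystem `E` over `T`: at a fully normalised `U ≤ T` with
`U` centric relative to `T`, the group `xAut` of automorphisms of `U C_S(U)` inducing maps of `E` on `U`, moving
`C_S(U)` within cosets of `U` and fixing the focal part of `Z(U)`; the crossed homomorphism `dval` attached to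
`c ∈ C_S(T)`, with values in `Z(U)`.
-/

set_option autoImplicit false
set_option linter.style.haveILetI false
set_option linter.unusedSectionVars false

namespace Cfsg.Agent.Lib.FS.NormalCentralizer.Odd

open Cfsg Cfsg.FusionSystem Cfsg.Agent.Lib Cfsg.Agent.Lib.FS Cfsg.Agent.Lib.FS.NormalCentralizer
open Cfsg.Agent.Lib.FS.CocycleNorm (IsCrossed)
open scoped Pointwise

variable {Ω : Type*} [Group Ω] {S T : Subgroup Ω} {p : ℕ}
  {F : FusionSystem S} {E : FusionSystem T} {U : Subgroup Ω}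

/-- `U C_S(U)`. -/
abbrev hull (S U : Subgroup Ω) : Subgroup Ω := U ⊔ centralizerIn S U

/-- `Z(U)`. -/
def zSub (U : Subgroup Ω) : Subgroup Ω := U ⊓ Subgroup.centralizer (U : Set Ω)

theorem zSub_comm {a b : Ω} (ha : a ∈ zSub U) (hb : b ∈ zSub U) : a * b = b * a :=
  (Subgroup.mem_centralizer_iff.1 hb.2 a ha.1)

instance zSubCommGroup : CommGroup ↥(zSub U) :=
  { (inferInstance : Group ↥(zSub U)) with
    mul_comm := fun a b => Subtype.ext (zSub_comm a.2 b.2) }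

theorem zSub_le (U : Subgroup Ω) : zSub U ≤ U := inf_le_left

theorem zSub_le_hull {z : Ω} (hz : z ∈ zSub U) : z ∈ hull S U :=
  (le_sup_left : U ≤ hull S U) (zSub_le U hz)

theorem exists_mul {y : Ω} (hy : y ∈ hull S U) : ∃ u ∈ U, ∃ c ∈ centralizerIn S U, u * c = y := by
  have h : y ∈ ((U ⊔ centralizerIn S U : Subgroup Ω) : Set Ω) := hy
  rw [Subgroup.coe_mul_of_right_le_normalizer_left U (centralizerIn S U)
    ((centralizerIn_le_normalizerIn U).trans inf_le_right)] at h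
  obtain ⟨u, hu, c, hc, rfl⟩ := h
  exact ⟨u, hu, c, hc, rfl⟩

theorem zpowers_map_mem {x : Ω} {W : Subgroup Ω} (φ : Subgroup.zpowers x →* Ω)
    (h : φ ⟨x, Subgroup.mem_zpowers x⟩ ∈ W) (w : Subgroup.zpowers x) : φ w ∈ W := by
  obtain ⟨w, hw⟩ := w
  obtain ⟨n, rfl⟩ := Subgroup.mem_zpowers_iff.1 hw
  rw [show (⟨x ^ n, hw⟩ : Subgroup.zpowers x) = ⟨x, Subgroup.mem_zpowers x⟩ ^ n from Subtype.ext (by simp),
    map_zpow]
  exact zpow_mem h n

/-- Maps agreeing at a generator agree on the cyclic group. -/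
theorem zpowers_map_eq {x : Ω} (φ ψ : Subgroup.zpowers x →* Ω)
    (h : φ ⟨x, Subgroup.mem_zpowers x⟩ = ψ ⟨x, Subgroup.mem_zpowers x⟩) (w : Subgroup.zpowers x) :
    φ w = ψ w := by
  obtain ⟨w, hw⟩ := w
  obtain ⟨n, rfl⟩ := Subgroup.mem_zpowers_iff.1 hw
  rw [show (⟨x ^ n, hw⟩ : Subgroup.zpowers x) = ⟨x, Subgroup.mem_zpowers x⟩ ^ n from Subtype.ext (by simp),
    map_zpow, map_zpow, h]

/-- `β` restricts to `a` on `U`. -/
def Lifts (β : MulAut ↥(hull S U)) (a : MulAut U) : Prop :=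
  ∀ u : U, (β (Subgroup.inclusion le_sup_left u) : Ω) = (a u : Ω)

theorem Lifts.one : Lifts (S := S) 1 (1 : MulAut U) := fun _ => rfl

theorem Lifts.mul {β γ : MulAut ↥(hull S U)} {a b : MulAut U} (hβ : Lifts β a) (hγ : Lifts γ b) :
    Lifts (β * γ) (a * b) := by
  intro u
  rw [MulAut.mul_apply, MulAut.mul_apply,
    show γ (Subgroup.inclusion le_sup_left u) = Subgroup.inclusion le_sup_left (b u) from Subtype.ext (hγ u)]
  exact hβ _

theorem Lifts.inv {β : MulAut ↥(hull S U)} {a : MulAut U} (hβ : Lifts β a) : Lifts β⁻¹ a⁻¹ := by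
  intro u
  have h : β (Subgroup.inclusion le_sup_left (a⁻¹ u)) = Subgroup.inclusion le_sup_left u :=
    Subtype.ext ((hβ _).trans (congrArg Subtype.val (MulAut.apply_inv_self _ a u)))
  rw [← h, MulAut.inv_apply_self]
  rfl

theorem Lifts.unique {β : MulAut ↥(hull S U)} {a b : MulAut U} (ha : Lifts β a) (hb : Lifts β b) : a = b :=
  MulEquiv.ext fun u => Subtype.ext ((ha u).symm.trans (hb u))

theorem Lifts.mem {β : MulAut ↥(hull S U)} {a : MulAut U} (hβ : Lifts β a) {w : ↥(hull S U)}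
    (hw : (w : Ω) ∈ U) : (β w : Ω) ∈ U := by
  have h := hβ ⟨w, hw⟩
  rw [show Subgroup.inclusion le_sup_left (⟨(w : Ω), hw⟩ : U) = w from Subtype.ext rfl] at h
  rw [h]
  exact (a _).2

theorem Lifts.mem_zSub {β : MulAut ↥(hull S U)} {a : MulAut U} (hβ : Lifts β a) {z : Ω} (hz : z ∈ zSub U) :
    (β ⟨z, zSub_le_hull hz⟩ : Ω) ∈ zSub U := by
  refine ⟨hβ.mem (zSub_le U hz), Subgroup.mem_centralizer_iff.2 fun u hu => ?_⟩
  have h : (β (Subgroup.inclusion le_sup_left (a⁻¹ ⟨u, hu⟩)) : Ω) = u :=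
    (hβ _).trans (congrArg Subtype.val (MulAut.apply_inv_self _ a ⟨u, hu⟩))
  rw [← h, ← Subgroup.coe_mul, ← Subgroup.coe_mul, ← map_mul, ← map_mul]
  exact congrArg (fun w : ↥(hull S U) => (β w : Ω))
    (Subtype.ext (Subgroup.mem_centralizer_iff.1 hz.2 _ (a⁻¹ ⟨u, hu⟩).2))

/-- `β` moves `C_S(U)` within cosets of `U`. -/
def Moves (β : MulAut ↥(hull S U)) : Prop :=
  ∀ w : ↥(hull S U), ((β w : Ω) ∈ centralizerIn S U ↔ (w : Ω) ∈ centralizerIn S U) ∧
    ((w : Ω) ∈ centralizerIn S U → (w : Ω)⁻¹ * β w ∈ U)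

/-- An element of `Z(U)` by which some map fixing `U` moves an element of `C_S(U)`. -/
def FocZ (F : FusionSystem S) (U : Subgroup Ω) (z : Ω) : Prop :=
  z ∈ zSub U ∧ ∃ x ∈ centralizerIn S U, ∃ χ ∈ F.Hom (Subgroup.zpowers x ⊔ U),
    (∀ u : U, χ (Subgroup.inclusion le_sup_right u) = u) ∧
      χ (Subgroup.inclusion le_sup_left ⟨x, Subgroup.mem_zpowers x⟩) = x * z

/-- The automorphisms of `U C_S(U)` in `F` inducing maps of `E` on `U`, moving `C_S(U)` within cosets of `U`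
and fixing the focal part of `Z(U)`. -/
def xAut (F : FusionSystem S) (E : FusionSystem T) (U : Subgroup Ω) : Subgroup (MulAut ↥(hull S U)) where
  carrier := {β | β ∈ F.autGroup (hull S U) ∧ (∃ a ∈ E.autGroup U, Lifts β a) ∧ Moves β ∧
    ∀ z : ↥(hull S U), FocZ F U z → β z = z}
  one_mem' := ⟨one_mem _, ⟨1, one_mem _, Lifts.one⟩, fun w => ⟨Iff.rfl, fun _ => by
    show (w : Ω)⁻¹ * w ∈ U
    rw [inv_mul_cancel]; exact U.one_mem⟩, fun _ _ => rfl⟩
  mul_mem' := by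
    rintro β γ ⟨hβ, ⟨a, ha, hla⟩, hβm, hβf⟩ ⟨hγ, ⟨b, hb, hlb⟩, hγm, hγf⟩
    refine ⟨mul_mem hβ hγ, ⟨a * b, mul_mem ha hb, hla.mul hlb⟩, fun w => ⟨(hβm _).1.trans (hγm w).1, fun hw => ?_⟩,
      fun z hz => by rw [MulAut.mul_apply, hγf z hz, hβf z hz]⟩
    have hz := (hγm w).2 hw
    set z : ↥(hull S U) := ⟨(w : Ω)⁻¹ * γ w, (le_sup_left : U ≤ hull S U) hz⟩ with hzdef
    rw [MulAut.mul_apply, show γ w = w * z from Subtype.ext (mul_inv_cancel_left _ _).symm, map_mul,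
      Subgroup.coe_mul, ← mul_assoc]
    exact U.mul_mem ((hβm w).2 hw) (hla.mem hz)
  inv_mem' := by
    rintro β ⟨hβ, ⟨a, ha, hla⟩, hβm, hβf⟩
    have key : ∀ w, β (β⁻¹ w) = w := fun w => MulAut.apply_inv_self _ β w
    refine ⟨inv_mem hβ, ⟨a⁻¹, inv_mem ha, hla.inv⟩, fun w => ⟨?_, fun hw => ?_⟩, fun z hz => ?_⟩
    · conv_rhs => rw [← key w]
      exact (hβm _).1.symm
    · have h1 : ((β⁻¹ w : ↥(hull S U)) : Ω) ∈ centralizerIn S U := by
        rw [← (hβm _).1, key]; exact hw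
      have h2 := U.inv_mem ((hβm _).2 h1)
      rwa [key, mul_inv_rev, inv_inv] at h2
    · apply β.injective
      rw [key, hβf z hz]

theorem mem_xAut {β : MulAut ↥(hull S U)} : β ∈ xAut F E U ↔ β ∈ F.autGroup (hull S U) ∧
    (∃ a ∈ E.autGroup U, Lifts β a) ∧ Moves β ∧ ∀ z : ↥(hull S U), FocZ F U z → β z = z := Iff.rfl

theorem apply_zSub_mem (β : ↥(xAut F E U)) {z : Ω} (hz : z ∈ zSub U) :
    ((β : MulAut ↥(hull S U)) ⟨z, zSub_le_hull hz⟩ : Ω) ∈ zSub U := by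
  obtain ⟨a, -, hla⟩ := β.2.2.1
  exact hla.mem_zSub hz

/-- The action of `xAut` on `Z(U)`. -/
def rho (F : FusionSystem S) (E : FusionSystem T) (U : Subgroup Ω) : ↥(xAut F E U) →* MulAut ↥(zSub U) where
  toFun β :=
    { toFun := fun z => ⟨_, apply_zSub_mem β z.2⟩
      invFun := fun z => ⟨_, apply_zSub_mem β⁻¹ z.2⟩
      left_inv := fun z => Subtype.ext (congrArg Subtype.val
        (MulAut.inv_apply_self _ (β : MulAut ↥(hull S U)) ⟨(z : Ω), zSub_le_hull z.2⟩) :)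
      right_inv := fun z => Subtype.ext (congrArg Subtype.val
        (MulAut.apply_inv_self _ (β : MulAut ↥(hull S U)) ⟨(z : Ω), zSub_le_hull z.2⟩) :)
      map_mul' := fun z w => Subtype.ext (by
        show ((β : MulAut ↥(hull S U)) (⟨(z : Ω), zSub_le_hull z.2⟩ * ⟨(w : Ω), zSub_le_hull w.2⟩) : Ω) = _
        rw [map_mul]; rfl) }
  map_one' := MulEquiv.ext fun _ => Subtype.ext rfl
  map_mul' _ _ := MulEquiv.ext fun _ => Subtype.ext rfl

theorem rho_apply (β : ↥(xAut F E U)) (z : ↥(zSub U)) :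
    (rho F E U β z : Ω) = (β : MulAut ↥(hull S U)) ⟨z, zSub_le_hull z.2⟩ := rfl

theorem dval_mem (β : ↥(xAut F E U)) {c : Ω} (hc : c ∈ centralizerIn S U) :
    c⁻¹ * ((β : MulAut ↥(hull S U)) ⟨c, (le_sup_right : _ ≤ hull S U) hc⟩ : Ω) ∈ zSub U := by
  have h := β.2.2.2.1 ⟨c, (le_sup_right : _ ≤ hull S U) hc⟩
  exact ⟨h.2 hc, ((centralizerIn S U).mul_mem ((centralizerIn S U).inv_mem hc) (h.1.2 hc)).2⟩

/-- `β ↦ c⁻¹ β(c)`. -/
def dval (F : FusionSystem S) (E : FusionSystem T) {U : Subgroup Ω} {c : Ω} (hc : c ∈ centralizerIn S U)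
    (β : ↥(xAut F E U)) : ↥(zSub U) := ⟨_, dval_mem β hc⟩

theorem apply_eq (β : ↥(xAut F E U)) {c : Ω} (hc : c ∈ centralizerIn S U) :
    ((β : MulAut ↥(hull S U)) ⟨c, (le_sup_right : _ ≤ hull S U) hc⟩ : Ω) = c * dval F E hc β :=
  (mul_inv_cancel_left _ _).symm

theorem dval_crossed {c : Ω} (hc : c ∈ centralizerIn S U) :
    IsCrossed (rho F E U) (dval F E hc) := by
  intro β γ
  apply Subtype.ext
  show c⁻¹ * ((β : MulAut ↥(hull S U)) ((γ : MulAut ↥(hull S U)) ⟨c, _⟩) : Ω) = _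
  rw [show (γ : MulAut ↥(hull S U)) ⟨c, (le_sup_right : _ ≤ hull S U) hc⟩ =
    ⟨c, (le_sup_right : _ ≤ hull S U) hc⟩ * ⟨_, zSub_le_hull (dval_mem γ hc)⟩ from Subtype.ext (apply_eq γ hc),
    map_mul, Subgroup.coe_mul, ← mul_assoc]
  rfl

theorem dval_translate {c : Ω} (hc : c ∈ centralizerIn S U) (z : ↥(zSub U))
    (hcz : c * z ∈ centralizerIn S U) (β : ↥(xAut F E U)) :
    dval F E hcz β = dval F E hc β * (rho F E U β z * z⁻¹) := by
  have e : dval F E hcz β = z⁻¹ * dval F E hc β * rho F E U β z := by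
    apply Subtype.ext
    show (c * (z : Ω))⁻¹ * _ = (z : Ω)⁻¹ * (c⁻¹ * _) * (rho F E U β z : Ω)
    rw [rho_apply, show (⟨c * z, (le_sup_right : _ ≤ hull S U) hcz⟩ : ↥(hull S U)) =
      ⟨c, (le_sup_right : _ ≤ hull S U) hc⟩ * ⟨z, zSub_le_hull z.2⟩ from rfl, map_mul, Subgroup.coe_mul]
    group
  rw [e, mul_comm z⁻¹, mul_assoc, mul_comm z⁻¹]

/-- `a` fixes `c` in `F`. -/
def Good (F : FusionSystem S) (c : Ω) (U : Subgroup Ω) (a : MulAut U) : Prop :=
  Fixes F (Subgroup.zpowers c) U (U.subtype.comp a.toMonoidHom)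

theorem good_of_dval {c : Ω} (hc : c ∈ centralizerIn S U) (hUS : U ≤ S) (β : ↥(xAut F E U))
    (hd : dval F E hc β = 1) {a : MulAut U} (hla : Lifts (β : MulAut ↥(hull S U)) a) : Good F c U a := by
  have hle : U ⊔ Subgroup.zpowers c ≤ hull S U := sup_le_sup_left (Subgroup.zpowers_le.2 hc) U
  obtain ⟨ψ, hψ, he⟩ := exists_restrict ((mem_autGroup (sup_le hUS (centralizerIn_le U))).1 β.2.1) hle
  refine ⟨ψ, hψ, fun u => ?_, ?_⟩
  · rw [he]; exact hla u
  · refine zpowers_map_eq (ψ.comp (Subgroup.inclusion le_sup_right)) (Subgroup.zpowers c).subtype ?_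
    show ψ _ = c
    rw [he]
    show ((β : MulAut ↥(hull S U)) ⟨c, _⟩ : Ω) = c
    rw [apply_eq β hc, hd]
    exact mul_one c

/-- The hypotheses of the local set-up. -/
structure Loc (p : ℕ) (F : FusionSystem S) (E : FusionSystem T) (U : Subgroup Ω) : Prop where
  hS : IsPGroup p S
  normal : E.IsNormalIn F p
  fn : F.IsFullyNormalized U
  cen : CentricT F T U

namespace Loc

variable [Finite S] [hp : Fact p.Prime] (L : Loc p F E U)

include L

theorem hsc : F.StronglyClosed T := L.normal.1.2.2.2.1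
theorem hF : F.IsSaturated p := L.normal.1.2.1
theorem hEs : E.IsSaturated p := L.normal.1.1
theorem hsub : E.IsSubsystemOf F := L.normal.1.2.2.1
theorem hUT : U ≤ T := L.cen.1
theorem hUS : U ≤ S := L.fn.1
theorem hTS : T ≤ S := L.hsc.1
theorem hullS : hull S U ≤ S := sup_le L.hUS (centralizerIn_le U)
theorem finU : Finite U := finite_sub L.hUS
theorem finHull : Finite ↥(hull S U) := finite_sub L.hullS
theorem finZ : Finite ↥(zSub U) := finite_sub ((zSub_le U).trans L.hUS)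
theorem pZ : IsPGroup p ↥(zSub U) := isPGroup_of_le L.hS ((zSub_le U).trans L.hUS)

theorem finX : Finite ↥(xAut F E U) := by
  haveI := L.finHull
  infer_instance

theorem mem_U_of_hull {y : Ω} (hy : y ∈ hull S U) (hyT : y ∈ T) : y ∈ U := by
  obtain ⟨u, hu, c, hc, rfl⟩ := exists_mul hy
  refine U.mul_mem hu (L.cen.2 U (isConj_refl F L.hUS) ⟨?_, hc.2⟩)
  have h := T.mul_mem (T.inv_mem (L.hUT hu)) hyT
  rwa [inv_mul_cancel_left] at h

theorem inf_hull_eq (y : Ω) (hy : y ∈ hull S U) : y ∈ T ↔ y ∈ U :=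
  ⟨L.mem_U_of_hull hy, fun h => L.hUT h⟩

theorem aut_mem_U {β : MulAut ↥(hull S U)} (hβ : β ∈ F.autGroup (hull S U)) {w : ↥(hull S U)}
    (hw : (w : Ω) ∈ U) : (β w : Ω) ∈ U :=
  L.mem_U_of_hull (β w).2 (stronglyClosed_apply_mem L.hsc ((mem_autGroup L.hullS).1 hβ) (L.hUT hw))

theorem exists_res {β : MulAut ↥(hull S U)} (hβ : β ∈ F.autGroup (hull S U)) :
    ∃ g ∈ F.autGroup U, Lifts β g := by
  haveI := L.finU
  obtain ⟨φ, hφ, he⟩ := exists_restrict ((mem_autGroup L.hullS).1 hβ) (le_sup_left : U ≤ hull S U)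
  have hr : φ.range = U := range_eq_of_mem hφ (fun u => by rw [he]; exact L.aut_mem_U hβ u.2) le_rfl
  exact ⟨homEquiv hφ hr, homEquiv_mem_autGroup hφ hr, fun u => (he u).symm⟩

theorem aut_cent_iff {β : MulAut ↥(hull S U)} (hβ : β ∈ F.autGroup (hull S U)) (w : ↥(hull S U)) :
    (β w : Ω) ∈ centralizerIn S U ↔ (w : Ω) ∈ centralizerIn S U := by
  obtain ⟨g, -, hlg⟩ := L.exists_res hβ
  constructor
  · intro h
    refine mem_centralizerIn.2 ⟨L.hullS w.2, fun u hu => ?_⟩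
    have h1 : (g ⟨u, hu⟩ : Ω) * (β w : Ω) = β w * g ⟨u, hu⟩ := (mem_centralizerIn.1 h).2 _ (g ⟨u, hu⟩).2
    rw [← hlg, ← Subgroup.coe_mul, ← Subgroup.coe_mul, ← map_mul, ← map_mul] at h1
    exact congrArg Subtype.val (β.injective (Subtype.ext h1))
  · intro h
    refine mem_centralizerIn.2 ⟨L.hullS (β w).2, fun u hu => ?_⟩
    rw [show u = (β (Subgroup.inclusion le_sup_left (g⁻¹ ⟨u, hu⟩)) : Ω) from
      ((hlg _).trans (congrArg Subtype.val (MulAut.apply_inv_self _ g ⟨u, hu⟩))).symm, ← Subgroup.coe_mul,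
      ← Subgroup.coe_mul, ← map_mul, ← map_mul]
    exact congrArg (fun v : ↥(hull S U) => (β v : Ω))
      (Subtype.ext ((mem_centralizerIn.1 h).2 _ (g⁻¹ ⟨u, hu⟩).2))

/-- Automorphisms of `U` extend to `U C_S(U)`. -/
theorem exists_lift {g : MulAut U} (hg : g ∈ F.autGroup U) :
    ∃ β ∈ F.autGroup (hull S U), Lifts β g := by
  haveI := L.finHull
  have hle : hull S U ≤ normalizerIn S U :=
    sup_le (le_normalizerIn L.hUS) (centralizerIn_le_normalizerIn U)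
  obtain ⟨ψ, hψ, he⟩ := FusionP3.Induction.exists_extend_aut (receptive_of_fullyNormalized L.hS L.hF L.fn)
    hle hg fun y hy => by
      obtain ⟨u, hu, c, hc, rfl⟩ := exists_mul hy
      refine ⟨g ⟨u, hu⟩, L.hUS (g ⟨u, hu⟩).2, fun x hx => ?_⟩
      rw [show (⟨u * c * x * (u * c)⁻¹, hx⟩ : U) = ⟨u, hu⟩ * x * ⟨u, hu⟩⁻¹ from Subtype.ext (by
        show u * c * x * (u * c)⁻¹ = u * x * u⁻¹
        rw [mul_inv_rev, mul_assoc u c, ← (mem_centralizerIn.1 hc).2 x x.2]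
        group), map_mul, map_mul, map_inv]
      rfl
  have hu : ∀ (w : ↥(hull S U)) (hw : (w : Ω) ∈ U), ψ w = g ⟨w, hw⟩ := fun w hw => he w hw w.2
  have hC : ∀ c : centralizerIn S U, ψ (Subgroup.inclusion le_sup_right c) ∈ centralizerIn S U := by
    intro c
    refine mem_centralizerIn.2 ⟨apply_mem hψ _, fun u hu' => ?_⟩
    rw [show u = ψ (Subgroup.inclusion le_sup_left (g⁻¹ ⟨u, hu'⟩)) from
      ((hu (Subgroup.inclusion le_sup_left (g⁻¹ ⟨u, hu'⟩)) (g⁻¹ ⟨u, hu'⟩).2).trans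
        (congrArg Subtype.val (MulAut.apply_inv_self _ g ⟨u, hu'⟩))).symm,
      ← map_mul, ← map_mul]
    exact congrArg ψ (Subtype.ext ((mem_centralizerIn.1 c.2).2 _ (g⁻¹ ⟨u, hu'⟩).2))
  have hm : ∀ w, ψ w ∈ hull S U := mapsTo_sup
    (fun u => by rw [hu _ u.2]; exact (le_sup_left : U ≤ hull S U) (g _).2)
    (fun c => (le_sup_right : _ ≤ hull S U) (hC c))
  exact ⟨_, homEquiv_mem_autGroup hψ (range_eq_of_mem hψ hm le_rfl), fun u => hu _ u.2⟩

theorem focZ_mem_focal {z : Ω} (hz : FocZ F U z) {D : FusionSystem (centralizerIn S U)}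
    (hD : F.IsCentralizerSystem U D) : z ∈ D.focalSubgroup := by
  obtain ⟨hzU, x, hx, χ, hχ, hχU, hχx⟩ := hz
  obtain ⟨χx, hχx', he⟩ := exists_restrict hχ (le_sup_left : Subgroup.zpowers x ≤ _ ⊔ U)
  have hxe : χx ⟨x, Subgroup.mem_zpowers x⟩ = x * z := (he _).trans hχx
  refine Subgroup.subset_closure ⟨Subgroup.zpowers x, χx, ⟨x, Subgroup.mem_zpowers x⟩, (hD _).ge
    ⟨hχx', Subgroup.zpowers_le.2 hx, zpowers_map_mem χx ?_, χ, hχ, fun y => (he y).symm, hχU⟩, ?_⟩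
  · rw [hxe]
    exact ⟨S.mul_mem (centralizerIn_le U hx) (L.hUS (zSub_le U hzU)),
      (Subgroup.centralizer (U : Set Ω)).mul_mem hx.2 hzU.2⟩
  · rw [hxe, inv_mul_cancel_left]

theorem focZ_commute {z : Ω} (hz : FocZ F U z) {t : Ω} (ht : t ∈ normalizerIn T U) : t * z * t⁻¹ = z := by
  obtain ⟨D, hD⟩ := exists_centralizerSystem F L.hUS
  exact commute_foc L.hS L.hF L.hsc L.fn L.hUT (L.cen.2 U (isConj_refl F L.hUS)) hD ht.1 ht.2
    (L.focZ_mem_focal hz hD)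

theorem focZ_map {β : MulAut ↥(hull S U)} (hβ : β ∈ F.autGroup (hull S U)) {z : ↥(hull S U)}
    (hz : FocZ F U z) : FocZ F U (β z) := by
  obtain ⟨hzU, x, hx, χ, hχ, hχU, hχx⟩ := hz
  obtain ⟨g, -, hlg⟩ := L.exists_res hβ
  have hxh : x ∈ hull S U := (le_sup_right : _ ≤ hull S U) hx
  set x' : Ω := (β ⟨x, hxh⟩ : Ω) with hx'
  have hx'C : x' ∈ centralizerIn S U := (L.aut_cent_iff hβ _).2 hx
  have hsrc : Subgroup.zpowers x' ⊔ U ≤ hull S U :=
    sup_le ((Subgroup.zpowers_le.2 hx'C).trans le_sup_right) le_sup_left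
  obtain ⟨b, hb, heb⟩ := exists_restrict ((mem_autGroup L.hullS).1 (inv_mem hβ)) hsrc
  have hbx : b (Subgroup.inclusion le_sup_left ⟨x', Subgroup.mem_zpowers x'⟩) = x := by
    rw [heb]
    exact congrArg Subtype.val (MulAut.inv_apply_self _ β ⟨x, hxh⟩)
  have hbU : ∀ u : U, b (Subgroup.inclusion le_sup_right u) = (g⁻¹ u : U) := fun u => by
    rw [heb]; exact hlg.inv u
  have hbm : ∀ w, b w ∈ Subgroup.zpowers x ⊔ U := mapsTo_sup
    (zpowers_map_mem (b.comp (Subgroup.inclusion le_sup_left))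
      (by show b _ ∈ _; rw [hbx]; exact (le_sup_left : _ ≤ _ ⊔ U) (Subgroup.mem_zpowers x)))
    (fun u => by rw [hbU]; exact (le_sup_right : U ≤ _ ⊔ U) (g⁻¹ u).2)
  obtain ⟨c₁, hc₁, hec₁⟩ := exists_comp hb hχ hbm
  have hc₁x : c₁ (Subgroup.inclusion le_sup_left ⟨x', Subgroup.mem_zpowers x'⟩) = x * z := by
    rw [hec₁, ← hχx]
    exact congrArg χ (Subtype.ext hbx)
  have hc₁U : ∀ u : U, c₁ (Subgroup.inclusion le_sup_right u) = (g⁻¹ u : U) := fun u => by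
    rw [hec₁, ← hχU]
    exact congrArg χ (Subtype.ext (hbU u))
  have hc₁m : ∀ w, c₁ w ∈ hull S U := mapsTo_sup
    (zpowers_map_mem (c₁.comp (Subgroup.inclusion le_sup_left)) (by
      show c₁ _ ∈ _
      rw [hc₁x]
      exact mul_mem hxh z.2))
    (fun u => by rw [hc₁U]; exact (le_sup_left : U ≤ hull S U) (g⁻¹ u).2)
  obtain ⟨χ', hχ', heχ'⟩ := exists_comp hc₁ ((mem_autGroup L.hullS).1 hβ) hc₁m
  refine ⟨hlg.mem_zSub hzU, x', hx'C, χ', hχ', fun u => ?_, ?_⟩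
  · rw [heχ']
    show (β _ : Ω) = u
    rw [show (⟨c₁ (Subgroup.inclusion le_sup_right u), hc₁m _⟩ : ↥(hull S U)) =
      Subgroup.inclusion le_sup_left (g⁻¹ u) from Subtype.ext (hc₁U u), hlg, MulAut.apply_inv_self]
  · rw [heχ']
    show (β _ : Ω) = (β ⟨x, hxh⟩ : Ω) * β z
    rw [← Subgroup.coe_mul, ← map_mul]
    exact congrArg (fun v : ↥(hull S U) => (β v : Ω)) (Subtype.ext hc₁x)

/-- If a lift of `a` and a map fixing `c` both exist then the lift moves `c` by a focal element. -/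
theorem focZ_of_good {c : Ω} (hc : c ∈ centralizerIn S U) (β : ↥(xAut F E U)) {a : MulAut U}
    (hla : Lifts (β : MulAut ↥(hull S U)) a) (hg : Good F c U a) : FocZ F U (dval F E hc β) := by
  obtain ⟨b, hb, hb1, hb2⟩ := hg
  have hX : U ⊔ Subgroup.zpowers c ≤ S := src_le hb
  haveI := finite_sub hX
  have hbm : ∀ w, b w ∈ U ⊔ Subgroup.zpowers c := mapsTo_sup
    (fun u => by rw [hb1]; exact (le_sup_left : U ≤ U ⊔ _) (a u).2)
    (fun y => by rw [hb2]; exact (le_sup_right : _ ≤ U ⊔ Subgroup.zpowers c) y.2)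
  obtain ⟨bi, hbi, -, hl, -⟩ := exists_inv hb (range_eq_of_mem hb hbm le_rfl)
  have hle : Subgroup.zpowers c ⊔ U ≤ U ⊔ Subgroup.zpowers c := (sup_comm _ _).le
  obtain ⟨bi', hbi', hebi'⟩ := exists_restrict hbi hle
  have hU : ∀ u : U, bi' (Subgroup.inclusion le_sup_right u) = (a⁻¹ u : U) := fun u => by
    rw [hebi']
    have e : b (Subgroup.inclusion le_sup_left (a⁻¹ u)) = (u : Ω) :=
      (hb1 _).trans (congrArg Subtype.val (MulAut.apply_inv_self _ a u))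
    rw [show (⟨((Subgroup.inclusion le_sup_right u : ↥(Subgroup.zpowers c ⊔ U)) : Ω), hle (Subgroup.inclusion
      le_sup_right u).2⟩ : ↥(U ⊔ Subgroup.zpowers c)) = ⟨b (Subgroup.inclusion le_sup_left (a⁻¹ u)), hbm _⟩ from
        Subtype.ext e.symm]
    exact hl _ _
  have hcc : bi' (Subgroup.inclusion le_sup_left ⟨c, Subgroup.mem_zpowers c⟩) = c := by
    rw [hebi']
    have e : b (Subgroup.inclusion le_sup_right ⟨c, Subgroup.mem_zpowers c⟩) = c := hb2 _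
    rw [show (⟨((Subgroup.inclusion le_sup_left ⟨c, Subgroup.mem_zpowers c⟩ : ↥(Subgroup.zpowers c ⊔ U)) : Ω),
      hle (Subgroup.inclusion le_sup_left ⟨c, Subgroup.mem_zpowers c⟩).2⟩ : ↥(U ⊔ Subgroup.zpowers c)) =
        ⟨b (Subgroup.inclusion le_sup_right ⟨c, Subgroup.mem_zpowers c⟩), hbm _⟩ from Subtype.ext e.symm]
    exact hl _ _
  have hm : ∀ w, bi' w ∈ hull S U := mapsTo_sup
    (zpowers_map_mem (bi'.comp (Subgroup.inclusion le_sup_left))
      (by show bi' _ ∈ _; rw [hcc]; exact (le_sup_right : _ ≤ hull S U) hc))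
    (fun u => by rw [hU]; exact (le_sup_left : U ≤ hull S U) (a⁻¹ u).2)
  obtain ⟨χ, hχ, heχ⟩ := exists_comp hbi' ((mem_autGroup L.hullS).1 β.2.1) hm
  refine ⟨(dval F E hc β).2, c, hc, χ, hχ, fun u => ?_, ?_⟩
  · rw [heχ]
    show ((β : MulAut ↥(hull S U)) _ : Ω) = u
    rw [show (⟨bi' (Subgroup.inclusion le_sup_right u), hm _⟩ : ↥(hull S U)) =
      Subgroup.inclusion le_sup_left (a⁻¹ u) from Subtype.ext (hU u), hla, MulAut.apply_inv_self]
  · rw [heχ, ← apply_eq β hc]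
    exact congrArg (fun v : ↥(hull S U) => ((β : MulAut ↥(hull S U)) v : Ω)) (Subtype.ext hcc)

/-- `Aut_E(U)` is normal in `Aut_F(U)`. -/
theorem autE_normal {a g : MulAut U} (ha : a ∈ E.autGroup U) (hg : g ∈ F.autGroup U) :
    g * a * g⁻¹ ∈ E.autGroup U := by
  obtain ⟨-, -, hinv, hfrat⟩ := L.normal.1.2.2
  obtain ⟨φ, hφ, hr, he⟩ := exists_hom_of_aut L.hUS hg
  obtain ⟨γ, hγ, φ₀, hφ₀, heγ⟩ := hfrat U L.hUT φ hφ
  set a' := MulAut.congr (homEquiv hφ₀ rfl) a with ha'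
  have ha'E : a' ∈ E.autGroup φ₀.range := congr_mem_autGroup hφ₀ rfl ha
  have hUT' : φ₀.range ≤ T := range_le_base hφ₀
  obtain ⟨χ, hχ, heχ⟩ := hinv φ₀.range hUT' _ ((mem_autGroup hUT').1 ha'E) γ hγ
  have hsrc : ∀ y : U, ∃ x : φ₀.range, ((γ ⟨x, hUT' x.2⟩ : T) : Ω) = y ∧
      (homEquiv hφ₀ (rfl : φ₀.range = φ₀.range)).symm x = g⁻¹ y := by
    intro y
    refine ⟨homEquiv hφ₀ rfl (g⁻¹ y), ?_, MulEquiv.symm_apply_apply _ _⟩
    exact (heγ (g⁻¹ y) (apply_mem hφ₀ _)).symm.trans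
      ((he _).trans (congrArg Subtype.val (MulAut.apply_inv_self _ g y)))
  have hle : U ≤ (φ₀.range.subgroupOf T).map (T.subtype.comp γ.toMonoidHom) := fun y hy => by
    obtain ⟨x, hx, -⟩ := hsrc ⟨y, hy⟩
    exact ⟨⟨x, hUT' x.2⟩, x.2, hx⟩
  rw [mem_autGroup L.hUT]
  refine mem_of_restrict hχ hle fun y => ?_
  obtain ⟨x, hx, hxs⟩ := hsrc y
  have hax : ((a' x : φ₀.range) : Ω) ∈ T := hUT' (a' x).2
  have h := heχ x hax (hx.symm ▸ hle y.2)
  rw [show (⟨(y : Ω), hle y.2⟩ : ↥((φ₀.range.subgroupOf T).map (T.subtype.comp γ.toMonoidHom))) =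
    ⟨((γ ⟨x, hUT' x.2⟩ : T) : Ω), hx.symm ▸ hle y.2⟩ from Subtype.ext hx.symm, h]
  show ((g (a (g⁻¹ y)) : U) : Ω) = ((γ ⟨((a' x : φ₀.range) : Ω), hax⟩ : T) : Ω)
  rw [← he, heγ _ (apply_mem hφ₀ _), ← hxs]
  rfl

theorem autT_le_autE : autInducedBy T U ≤ E.autGroup U := autInducedBy_le_autGroup E L.hUT

/-- `U` is fully normalised in `E`. -/
theorem fnE : E.IsFullyNormalized U := by
  refine ⟨L.hUT, fun R hR => ?_⟩
  obtain ⟨φ, hφ, rfl⟩ := hR
  obtain ⟨η, hη, hηm, hηU⟩ := exists_normalizer_map L.hS L.hF L.fn (isConj_symm ⟨φ, L.hsub U hφ, rfl⟩)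
  obtain ⟨η', hη', he⟩ := exists_restrict hη
    (fun g hg => ⟨L.hTS hg.1, hg.2⟩ : normalizerIn T φ.range ≤ normalizerIn S φ.range)
  haveI := finite_sub ((normalizerIn_le (S := T) U).trans L.hTS)
  exact card_le_of_hom hη' fun x =>
    ⟨stronglyClosed_apply_mem L.hsc hη' x.2.1, by rw [he]; exact (hηm _).2⟩

theorem autE_inter_autS {a : MulAut U} (haE : a ∈ E.autGroup U) (haS : a ∈ autInducedBy S U) :
    a ∈ autInducedBy T U := by
  haveI := L.finU
  have hTp : IsPGroup p T := isPGroup_of_le L.hS L.hTS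
  haveI := finite_sub L.hTS
  obtain ⟨R, hR⟩ := (fullyAutomized_of_fullyNormalized hTp L.hEs L.fnE).2
  set K := E.autGroup U ⊓ autInducedBy S U with hK
  have hKp : IsPGroup p (K.subgroupOf (E.autGroup U)) :=
    ((isPGroup_autInducedBy L.hS U).to_le inf_le_right).of_equiv
      (Subgroup.subgroupOfEquivOfLe inf_le_left).symm
  have hle : (R : Subgroup (E.autGroup U)) ≤ K.subgroupOf (E.autGroup U) := by
    intro x hx
    rw [hR, Subgroup.mem_subgroupOf] at hx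
    obtain ⟨g, hg, he⟩ := mem_autInducedBy.1 hx
    exact ⟨x.2, mem_autInducedBy.2 ⟨g, L.hTS hg, he⟩⟩
  have h : (⟨a, haE⟩ : E.autGroup U) ∈ (R : Subgroup (E.autGroup U)) :=
    (R.3 hKp hle).le (show (⟨a, haE⟩ : E.autGroup U) ∈ K.subgroupOf (E.autGroup U) from ⟨haE, haS⟩)
  rwa [hR, Subgroup.mem_subgroupOf] at h

theorem normalizer_le_hull {g : Ω} (hg : g ∈ normalizerIn S U) :
    g ∈ Subgroup.normalizer ((hull S U : Subgroup Ω) : Set Ω) := by
  haveI := L.finHull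
  refine mem_normalizer_of_conj_mem fun y hy => ?_
  obtain ⟨u, hu, c, hc, rfl⟩ := exists_mul hy
  rw [show g * (u * c) * g⁻¹ = g * u * g⁻¹ * (g * c * g⁻¹) by group]
  exact mul_mem ((le_sup_left : U ≤ hull S U) (conj_mem_of_normalizer hg.2 hu))
    ((le_sup_right : _ ≤ hull S U)
      ⟨S.mul_mem (S.mul_mem hg.1 hc.1) (S.inv_mem hg.1), conj_centralizer hg.2 hc.2⟩)

theorem hull_fn : F.IsFullyNormalized (hull S U) := by
  refine ⟨L.hullS, fun R hR => ?_⟩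
  obtain ⟨φ, hφ, rfl⟩ := hR
  obtain ⟨φU, hφU, heU⟩ := exists_restrict hφ (le_sup_left : U ≤ hull S U)
  have hinf : ∀ y ∈ φ.range, y ∈ T → y ∈ φU.range := by
    rintro _ ⟨w, rfl⟩ hwT
    obtain ⟨ψ, hψ, -, hl, -⟩ := exists_inv hφ rfl
    have hw := stronglyClosed_apply_mem L.hsc hψ (x := ⟨φ w, ⟨w, rfl⟩⟩) hwT
    exact ⟨⟨w, L.mem_U_of_hull w.2 ((hl w ⟨w, rfl⟩).subst (motive := fun t => t ∈ T) hw)⟩, heU _⟩
  have hle : normalizerIn S φ.range ≤ normalizerIn S φU.range := fun g hg => ⟨hg.1, by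
    haveI := finite_sub (range_le_base hφU)
    refine mem_normalizer_of_conj_mem fun y hy => hinf _ ?_ ?_
    · obtain ⟨u, rfl⟩ := hy
      exact conj_mem_of_normalizer hg.2 ⟨_, (heU u).symm⟩
    · obtain ⟨u, rfl⟩ := hy
      exact conj_mem_of_normalizer (stronglyClosed_le_normalizer L.hsc hg.1)
        (stronglyClosed_apply_mem L.hsc hφU (L.hUT u.2))⟩
  haveI := finite_sub (normalizerIn_le (S := S) φU.range)
  haveI := finite_sub (normalizerIn_le (S := S) (hull S U))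
  calc Nat.card (normalizerIn S φ.range) ≤ Nat.card (normalizerIn S φU.range) := Subgroup.card_le_of_le hle
    _ ≤ Nat.card (normalizerIn S U) := L.fn.2 _ ⟨φU, hφU, rfl⟩
    _ ≤ Nat.card (normalizerIn S (hull S U)) :=
        Subgroup.card_le_of_le fun g hg => ⟨hg.1, L.normalizer_le_hull hg⟩

theorem normal_mem {γ : MulAut ↥(hull S U)} (hγ : γ ∈ F.autGroup (hull S U)) {β : MulAut ↥(hull S U)}
    (hβ : β ∈ xAut F E U) : γ * β * γ⁻¹ ∈ xAut F E U := by
  obtain ⟨hβF, ⟨a, ha, hla⟩, hβm, hβf⟩ := hβ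
  obtain ⟨g, hg, hlg⟩ := L.exists_res hγ
  refine ⟨mul_mem (mul_mem hγ hβF) (inv_mem hγ), ⟨_, L.autE_normal ha hg, (hlg.mul hla).mul hlg.inv⟩,
    fun w => ⟨L.aut_cent_iff (mul_mem (mul_mem hγ hβF) (inv_mem hγ)) w, fun hw => ?_⟩, fun z hz => ?_⟩
  · have h1 : ((γ⁻¹ w : ↥(hull S U)) : Ω) ∈ centralizerIn S U := (L.aut_cent_iff (inv_mem hγ) w).2 hw
    set v := γ⁻¹ w with hv
    have hz := (hβm v).2 h1
    rw [MulAut.mul_apply, MulAut.mul_apply, ← hv,
      show β v = v * ⟨(v : Ω)⁻¹ * β v, (le_sup_left : U ≤ hull S U) hz⟩ from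
        Subtype.ext (mul_inv_cancel_left _ _).symm, map_mul, Subgroup.coe_mul,
      show γ v = w from MulAut.apply_inv_self _ γ w, inv_mul_cancel_left]
    exact L.aut_mem_U hγ hz
  · rw [MulAut.mul_apply, MulAut.mul_apply, hβf _ (L.focZ_map (inv_mem hγ) hz), MulAut.apply_inv_self]

/-- The elements of `xAut` induced by `S`. -/
theorem exists_sylow : ∃ P : Sylow p ↥(xAut F E U),
    (P : Subgroup ↥(xAut F E U)) = (autInducedBy S (hull S U)).subgroupOf (xAut F E U) := by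
  haveI := L.finHull
  obtain ⟨R, hR⟩ := (fullyAutomized_of_fullyNormalized L.hS L.hF L.hull_fn).2
  have hXA : xAut F E U ≤ F.autGroup (hull S U) := fun β hβ => hβ.1
  obtain ⟨P, hP⟩ := exists_sylow_of_card_ge (A := xAut F E U)
    (R₀ := autInducedBy S (hull S U) ⊓ xAut F E U) inf_le_right
    ((isPGroup_autInducedBy L.hS _).to_le inf_le_left) default (by
      set Q := ((default : Sylow p ↥(xAut F E U)) : Subgroup ↥(xAut F E U)).map (xAut F E U).subtype with hQ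
      obtain ⟨g, hg, hgR⟩ := exists_conj_le_sylow R hR (T := Q)
        ((Subgroup.map_subtype_le _).trans hXA) ((default : Sylow p ↥(xAut F E U)).2.map _)
      refine Nat.card_le_card_of_injective (fun t : (default : Sylow p ↥(xAut F E U)) =>
        (⟨g * ((t : ↥(xAut F E U)) : MulAut ↥(hull S U)) * g⁻¹, hgR _ ⟨t, t.2, rfl⟩,
          L.normal_mem hg (t : ↥(xAut F E U)).2⟩ : ↥(autInducedBy S (hull S U) ⊓ xAut F E U))) ?_
      intro s t h
      exact Subtype.ext (Subtype.ext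
        (mul_left_cancel (mul_right_cancel (congrArg Subtype.val h)))))
  refine ⟨P, ?_⟩
  rw [hP, Subgroup.inf_subgroupOf_right]

/-- Conjugation by an element of `N_T(U)`. -/
theorem exists_tAut {t : Ω} (ht : t ∈ normalizerIn T U) : ∃ τ : ↥(xAut F E U),
    (τ : MulAut ↥(hull S U)) ∈ autInducedBy S (hull S U) ∧
    (∀ w, ((τ : MulAut ↥(hull S U)) w : Ω) = t * w * t⁻¹) ∧
    ∀ {c : Ω} (hc : c ∈ centralizerIn S U), c ∈ centralizerIn S T → dval F E hc τ = 1 := by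
  have htS : t ∈ S := L.hTS ht.1
  have htN : t ∈ Subgroup.normalizer ((hull S U : Subgroup Ω) : Set Ω) :=
    L.normalizer_le_hull ⟨htS, ht.2⟩
  set τ : MulAut ↥(hull S U) := (hull S U).normalizerMonoidHom ⟨t, htN⟩ with hτ
  have hτS : τ ∈ autInducedBy S (hull S U) := mem_autInducedBy.2 ⟨t, htS, fun _ => rfl⟩
  have hτF : τ ∈ F.autGroup (hull S U) := autInducedBy_le_autGroup F L.hullS hτS
  have hmem : τ ∈ xAut F E U := by
    refine ⟨hτF, ⟨U.normalizerMonoidHom ⟨t, ht.2⟩, L.autT_le_autE (mem_autInducedBy.2 ⟨t, ht.1, fun _ => rfl⟩),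
      fun u => rfl⟩, fun w => ⟨L.aut_cent_iff hτF w, fun hw => ?_⟩, fun z hz => ?_⟩
    · have hw' := (L.aut_cent_iff hτF w).2 hw
      refine L.cen.2 U (isConj_refl F L.hUS) ⟨?_, ((centralizerIn S U).mul_mem
        ((centralizerIn S U).inv_mem hw) hw').2⟩
      show (w : Ω)⁻¹ * (t * w * t⁻¹) ∈ T
      rw [show (w : Ω)⁻¹ * (t * w * t⁻¹) = (w : Ω)⁻¹ * t * (w : Ω)⁻¹⁻¹ * t⁻¹ by group]
      exact T.mul_mem (conj_mem_of_normalizer (stronglyClosed_le_normalizer L.hsc (S.inv_mem hw.1)) ht.1)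
        (T.inv_mem ht.1)
    · exact Subtype.ext (L.focZ_commute hz ht)
  refine ⟨⟨τ, hmem⟩, hτS, fun _ => rfl, fun {c} hc hcT => Subtype.ext ?_⟩
  show c⁻¹ * (t * c * t⁻¹) = 1
  rw [(mem_centralizerIn.1 hcT).2 t ht.1, mul_inv_cancel_right, inv_mul_cancel]

end Loc

end Cfsg.Agent.Lib.FS.NormalCentralizer.Odd
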