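import Mathlib
import Cfsg.Agent.Lib.FusionSystem.NormalCentralizerLocal
import Cfsg.Agent.Lib.Cores.Basic

/-!
The steps at one fully normalised `U`: which automorphisms in `Aut_E(U)` fix `c ∈ C_S(T)`.
-/

set_option autoImplicit false
set_option linter.style.haveILetI false
set_option linter.unusedSectionVars false

namespace Cfsg.Agent.Lib.FS.NormalCentralizer.Odd

open Cfsg Cfsg.FusionSystem Cfsg.Agent.Lib Cfsg.Agent.Lib.FS Cfsg.Agent.Lib.FS.NormalCentralizer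
open Cfsg.Agent.Lib.FS.CocycleNorm

variable {Ω : Type*} [Group Ω] {S T : Subgroup Ω} {p : ℕ}
  {F : FusionSystem S} {E : FusionSystem T} {U : Subgroup Ω} {c : Ω}

theorem good_one (hUS : U ≤ S) (hc : c ∈ S) : Good F c U 1 :=
  ⟨_, subtype_mem F (sup_le hUS (Subgroup.zpowers_le.2 hc)), fun _ => rfl, fun _ => rfl⟩

theorem Good.mul {a b : MulAut U} (ha : Good F c U a) (hb : Good F c U b) : Good F c U (a * b) :=
  Fixes.comp (fun x => (b x).2) (fun _ => rfl) hb ha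

theorem Good.pow {a : MulAut U} (h1 : Good F c U 1) (ha : Good F c U a) : ∀ n : ℕ, Good F c U (a ^ n)
  | 0 => by rw [pow_zero]; exact h1
  | n + 1 => by rw [pow_succ]; exact (Good.pow h1 ha n).mul ha

/-- The automorphisms of `U` fixing `c`. -/
def goodSub (F : FusionSystem S) [Finite U] (hUS : U ≤ S) (hc : c ∈ S) : Subgroup (MulAut U) where
  carrier := {a | Good F c U a}
  one_mem' := good_one hUS hc
  mul_mem' := fun ha hb => Good.mul ha hb
  inv_mem' := fun {a} ha => by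
    show Good F c U a⁻¹
    rw [show a⁻¹ = a ^ (orderOf a - 1) by
      rw [inv_eq_iff_mul_eq_one, ← pow_succ', Nat.sub_add_cancel (orderOf_pos a), pow_orderOf_eq_one]]
    exact Good.pow (good_one hUS hc) ha _

theorem mem_goodSub [Finite U] {hUS : U ≤ S} {hc : c ∈ S} {a : MulAut U} :
    a ∈ goodSub F hUS hc ↔ Good F c U a := Iff.rfl

/-- The elements of `xAut` trivial on `U`. -/
def kSub (F : FusionSystem S) (E : FusionSystem T) (U : Subgroup Ω) : Subgroup ↥(xAut F E U) where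
  carrier := {β | Lifts (β : MulAut ↥(hull S U)) 1}
  one_mem' := Lifts.one
  mul_mem' := fun {β γ} hβ hγ => by
    have := Lifts.mul hβ hγ
    rwa [mul_one] at this
  inv_mem' := fun {β} hβ => by
    have := Lifts.inv hβ
    rwa [inv_one] at this

instance kSub_normal : (kSub F E U).Normal where
  conj_mem := fun β hβ g => by
    obtain ⟨a, -, hla⟩ := g.2.2.1
    have := (hla.mul hβ).mul hla.inv
    rwa [mul_one, mul_inv_cancel] at this

theorem rho_kSub {κ : ↥(xAut F E U)} (hκ : κ ∈ kSub F E U) (z : ↥(zSub U)) : rho F E U κ z = z :=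
  Subtype.ext (hκ ⟨z, zSub_le U z.2⟩)

/-- The restriction of `dval` to `kSub`. -/
def kVal (F : FusionSystem S) (E : FusionSystem T) (hc : c ∈ centralizerIn S U) :
    ↥(kSub F E U) →* ↥(zSub U) :=
  MonoidHom.mk' (fun κ => dval F E hc κ) fun κ μ => by
    show dval F E hc ((κ : ↥(xAut F E U)) * μ) = _
    rw [dval_crossed hc, rho_kSub κ.2]

/-- The subgroup of `Z(U)` generated by the focal elements. -/
def focSub (F : FusionSystem S) (U : Subgroup Ω) : Subgroup ↥(zSub U) :=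
  Subgroup.closure {z | FocZ F U z}

theorem rho_focSub (β : ↥(xAut F E U)) {z : ↥(zSub U)} (hz : z ∈ focSub F U) : rho F E U β z = z := by
  refine Subgroup.closure_induction (p := fun z _ => rho F E U β z = z) (fun z hz => ?_) (map_one _)
    (fun a b _ _ ha hb => by rw [map_mul, ha, hb]) (fun a _ ha => by rw [map_inv, ha]) hz
  have e := congrArg (fun w : ↥(hull S U) => (w : Ω)) (β.2.2.2.2 ⟨z, zSub_le_hull z.2⟩ hz)
  exact Subtype.ext e

/-- Conjugating by an element of `T` fixes a value iff the element commutes with it. -/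
theorem rho_tAut {τ : ↥(xAut F E U)} {t : Ω} (hτ : ∀ w, ((τ : MulAut ↥(hull S U)) w : Ω) = t * w * t⁻¹)
    (z : ↥(zSub U)) : (rho F E U τ z : Ω) = t * z * t⁻¹ := hτ _

namespace Loc

variable [Finite S] [hp : Fact p.Prime] (L : Loc p F E U)

include L

theorem hcU (hcT : c ∈ centralizerIn S T) : c ∈ centralizerIn S U := centralizerIn_anti L.hUT hcT

theorem isPGroup_kSub : IsPGroup p ↥(kSub F E U) := by
  haveI := L.finHull
  set Z₀ := (zSub U).subgroupOf (hull S U) with hZ₀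
  have hmem : ∀ κ : ↥(kSub F E U), ((κ : ↥(xAut F E U)) : MulAut ↥(hull S U)) ∈ stab (hull S U) Z₀ := by
    intro κ
    refine ⟨fun w hw => ?_, fun y => ?_⟩
    · exact Subtype.ext (κ.2 ⟨w, zSub_le U hw⟩)
    · obtain ⟨u, hu, v, hv, he⟩ := exists_mul y.2
      have hvh : v ∈ hull S U := (le_sup_right : _ ≤ hull S U) hv
      have hu' : ((κ : ↥(xAut F E U)) : MulAut ↥(hull S U)) (Subgroup.inclusion le_sup_left ⟨u, hu⟩) =
          Subgroup.inclusion le_sup_left ⟨u, hu⟩ := Subtype.ext (κ.2 ⟨u, hu⟩)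
      show ((y⁻¹ * ((κ : ↥(xAut F E U)) : MulAut ↥(hull S U)) y : ↥(hull S U)) : Ω) ∈ zSub U
      rw [show y = Subgroup.inclusion le_sup_left ⟨u, hu⟩ * ⟨v, hvh⟩ from Subtype.ext he.symm, map_mul, hu',
        mul_inv_rev, mul_assoc, inv_mul_cancel_left]
      exact dval_mem (κ : ↥(xAut F E U)) hv
  exact (isPGroup_stab (isPGroup_of_le L.hS L.hullS)).of_injective
    (((xAut F E U).subtype.comp (kSub F E U).subtype).codRestrict _ hmem)
    (fun a b h => by
      have e := congrArg (fun w : ↥(stab (hull S U) Z₀) => (w : MulAut ↥(hull S U))) h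
      exact Subtype.ext (Subtype.ext e))

theorem kSub_le (P : Sylow p ↥(xAut F E U)) : kSub F E U ≤ P := by
  haveI := L.finX
  exact (Cores.le_pCore L.isPGroup_kSub).trans (Cores.pCore_le_sylow P)

theorem sylow_decomp {P : Sylow p ↥(xAut F E U)}
    (hP : (P : Subgroup ↥(xAut F E U)) = (autInducedBy S (hull S U)).subgroupOf (xAut F E U))
    {y : ↥(xAut F E U)} (hy : y ∈ P) :
    ∃ t ∈ normalizerIn T U, ∃ τ ∈ P, ∃ κ ∈ kSub F E U, y = τ * κ ∧
      (∀ w, ((τ : MulAut ↥(hull S U)) w : Ω) = t * w * t⁻¹) ∧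
      ∀ {c : Ω} (hc : c ∈ centralizerIn S U), c ∈ centralizerIn S T → dval F E hc τ = 1 := by
  have hy' : y ∈ (P : Subgroup ↥(xAut F E U)) := hy
  rw [hP, Subgroup.mem_subgroupOf] at hy'
  obtain ⟨s, hs, hse⟩ := mem_autInducedBy.1 hy'
  obtain ⟨a, ha, hla⟩ := y.2.2.1
  have hau : ∀ u : U, (a u : Ω) = s * u * s⁻¹ := fun u => (hla u).symm.trans (hse _)
  obtain ⟨t, ht, hte⟩ := mem_autInducedBy.1 (L.autE_inter_autS ha (mem_autInducedBy.2 ⟨s, hs, hau⟩))
  have htN : t ∈ normalizerIn T U := ⟨ht, mem_normalizer_of_aut hte⟩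
  obtain ⟨τ, hτS, hτe, hτd⟩ := L.exists_tAut htN
  refine ⟨t, htN, τ, hP.ge (Subgroup.mem_subgroupOf.2 hτS), τ⁻¹ * y, ?_, (mul_inv_cancel_left _ _).symm,
    hτe, hτd⟩
  have hlt : Lifts (τ : MulAut ↥(hull S U)) a := fun u => (hτe _).trans (hte u).symm
  have := hlt.inv.mul hla
  rwa [inv_mul_cancel] at this

theorem dval_tau_mul {τ : ↥(xAut F E U)} (hc : c ∈ centralizerIn S U) (hd : dval F E hc τ = 1)
    {κ : ↥(xAut F E U)} (hκ : κ ∈ kSub F E U) : dval F E hc (τ * κ) = dval F E hc κ := by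
  have hf : dval F E hc κ ∈ focSub F U :=
    Subgroup.subset_closure (L.focZ_of_good hc κ hκ (good_one L.hUS (centralizerIn_le U hc)))
  rw [dval_crossed hc, hd, one_mul, rho_focSub τ hf]

theorem dval_kSub_mem (hc : c ∈ centralizerIn S U) {κ : ↥(xAut F E U)} (hκ : κ ∈ kSub F E U) :
    dval F E hc κ ∈ focSub F U :=
  Subgroup.subset_closure (L.focZ_of_good hc κ hκ (good_one L.hUS (centralizerIn_le U hc)))

theorem dval_sylow {P : Sylow p ↥(xAut F E U)}
    (hP : (P : Subgroup ↥(xAut F E U)) = (autInducedBy S (hull S U)).subgroupOf (xAut F E U))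
    (hcT : c ∈ centralizerIn S T) {y : ↥(xAut F E U)} (hy : y ∈ P) :
    ∃ κ ∈ kSub F E U, dval F E (L.hcU hcT) y = dval F E (L.hcU hcT) κ := by
  obtain ⟨t, -, τ, -, κ, hκ, rfl, -, hτd⟩ := L.sylow_decomp hP hy
  exact ⟨κ, hκ, L.dval_tau_mul _ (hτd _ hcT) hκ⟩

/-- Conjugates in `P` of an element induced by `T` fix `c`. -/
theorem dval_conj_tAut {P : Sylow p ↥(xAut F E U)}
    (hP : (P : Subgroup ↥(xAut F E U)) = (autInducedBy S (hull S U)).subgroupOf (xAut F E U))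
    (hcT : c ∈ centralizerIn S T) {τ : ↥(xAut F E U)} {t : Ω} (ht : t ∈ normalizerIn T U)
    (hτ : ∀ w, ((τ : MulAut ↥(hull S U)) w : Ω) = t * w * t⁻¹) (g : ↥(xAut F E U))
    (h : g * τ * g⁻¹ ∈ P) : dval F E (L.hcU hcT) (g * τ * g⁻¹) = 1 := by
  haveI := L.finHull
  have hy' : g * τ * g⁻¹ ∈ (P : Subgroup ↥(xAut F E U)) := h
  rw [hP, Subgroup.mem_subgroupOf] at hy'
  obtain ⟨s, hs, hse⟩ := mem_autInducedBy.1 hy'
  set γ : MulAut ↥(hull S U) := (g : MulAut ↥(hull S U)) with hγ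
  obtain ⟨φ, hφ, hr, he⟩ := exists_hom_of_aut L.hullS g.2.1
  obtain ⟨ψ, hψ, hext⟩ := (receptive_of_fullyNormalized L.hS L.hF L.hull_fn).2 _ φ hφ hr
  have htS : t ∈ S := L.hTS ht.1
  have htN : t ∈ Subgroup.normalizer ((hull S U : Subgroup Ω) : Set Ω) := L.normalizer_le_hull ⟨htS, ht.2⟩
  have key : ∀ x : ↥(hull S U), (γ ((τ : MulAut ↥(hull S U)) x) : Ω) = s * γ x * s⁻¹ := by
    intro x
    rw [← hse (γ x)]
    show _ = ((γ * (τ : MulAut ↥(hull S U)) * γ⁻¹) (γ x) : Ω)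
    rw [MulAut.mul_apply, MulAut.mul_apply, MulAut.inv_apply_self]
  have htE : t ∈ extender S (hull S U) φ := by
    refine mem_extender_of ⟨htS, htN⟩ hs fun x hx => ?_
    rw [he, he, ← key]
    exact congrArg (fun v : ↥(hull S U) => (γ v : Ω)) (Subtype.ext (hτ x).symm)
  have hle : hull S U ≤ extender S (hull S U) φ := le_extender L.hullS (apply_mem hφ)
  have ht'T : ψ ⟨t, htE⟩ ∈ T := stronglyClosed_apply_mem L.hsc hψ (x := ⟨t, htE⟩) ht.1
  apply Subtype.ext
  show c⁻¹ * ((γ * (τ : MulAut ↥(hull S U)) * γ⁻¹) ⟨c, (le_sup_right : _ ≤ hull S U) (L.hcU hcT)⟩ : Ω) = 1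
  set x := γ⁻¹ ⟨c, (le_sup_right : _ ≤ hull S U) (L.hcU hcT)⟩ with hx
  have hγx : (γ x : Ω) = c := congrArg Subtype.val (MulAut.apply_inv_self _ γ _)
  rw [MulAut.mul_apply, MulAut.mul_apply, ← hx]
  have e1 : ∀ v : ↥(hull S U), (γ v : Ω) = ψ ⟨v, hle v.2⟩ := fun v =>
    ((hext v v.2 (hle v.2)).trans (he v)).symm
  have e2 : (γ ((τ : MulAut ↥(hull S U)) x) : Ω) = ψ ⟨t, htE⟩ * c * (ψ ⟨t, htE⟩)⁻¹ := by
    rw [e1, ← hγx, e1 x, ← map_inv, ← map_mul, ← map_mul]
    exact congrArg ψ (Subtype.ext (hτ x))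
  rw [e2, (mem_centralizerIn.1 hcT).2 _ ht'T, mul_inv_cancel_right, inv_mul_cancel]

/-- The correction of `dval`. -/
theorem exists_e (P : Sylow p ↥(xAut F E U))
    (hP : (P : Subgroup ↥(xAut F E U)) = (autInducedBy S (hull S U)).subgroupOf (xAut F E U))
    (hcT : c ∈ centralizerIn S T) :
    ∃ e, IsCrossed (rho F E U) e ∧ (∀ y ∈ P, e y = 1) ∧
      ∀ x, dval F E (L.hcU hcT) x ^ (P : Subgroup ↥(xAut F E U)).index * (e x)⁻¹ ∈ focSub F U := by
  haveI := L.finX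
  haveI := L.finZ
  have hc := L.hcU hcT
  refine exists_correction (dval_crossed hc) _ (focSub F U) (fun x z hz => rho_focSub x hz) (fun y hy => ?_)
    fun g y hy hgy => ?_
  · obtain ⟨κ, hκ, he⟩ := L.dval_sylow hP hcT hy
    rw [he]; exact L.dval_kSub_mem hc hκ
  · obtain ⟨t, ht, τ, -, κ, hκ, rfl, hτ, hτd⟩ := L.sylow_decomp hP hy
    have hgκ : g * κ * g⁻¹ ∈ kSub F E U := kSub_normal.conj_mem κ hκ g
    have hgτ : g * τ * g⁻¹ ∈ P := by
      have h := (P : Subgroup ↥(xAut F E U)).mul_mem hgy (inv_mem (L.kSub_le P hgκ))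
      rwa [show g * (τ * κ) * g⁻¹ * (g * κ * g⁻¹)⁻¹ = g * τ * g⁻¹ by group] at h
    rw [show g * (τ * κ) * g⁻¹ = g * τ * g⁻¹ * (g * κ * g⁻¹) by group,
      L.dval_tau_mul hc (L.dval_conj_tAut hP hcT ht hτ g hgτ) hgκ, L.dval_tau_mul hc (hτd hc hcT) hκ,
      mul_assoc g κ g⁻¹, dval_crossed hc g, dval_crossed hc κ g⁻¹, rho_kSub hκ, map_mul,
      (dval_crossed hc).inv, rho_focSub g (L.dval_kSub_mem hc hκ), mul_comm (dval F E hc g),
      inv_mul_cancel_right]

/-- If the values of `dval` on a subgroup `K ⊇ P` are fixed by `K`, every element of `K` fixes `c`. -/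
theorem good_of_fixed {P : Sylow p ↥(xAut F E U)}
    (hP : (P : Subgroup ↥(xAut F E U)) = (autInducedBy S (hull S U)).subgroupOf (xAut F E U))
    (hcT : c ∈ centralizerIn S T) {K : Subgroup ↥(xAut F E U)} (hPK : (P : Subgroup ↥(xAut F E U)) ≤ K)
    (hfix : ∀ x ∈ K, ∀ y ∈ K, rho F E U x (dval F E (L.hcU hcT) y) = dval F E (L.hcU hcT) y)
    {β : ↥(xAut F E U)} (hβ : β ∈ K) {a : MulAut U} (hla : Lifts (β : MulAut ↥(hull S U)) a) :
    Good F c U a := by
  haveI := L.finX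
  haveI := L.finZ
  have hc := L.hcU hcT
  have hd : IsCrossed ((rho F E U).comp K.subtype) fun x : K => dval F E hc x :=
    fun x y => dval_crossed hc _ _
  obtain ⟨κ, hκ⟩ := mem_of_fixed hd L.pZ (fun x y => hfix x x.2 y y.2) (P.subtype hPK)
    (kVal F E hc).range (fun y hy => by
      replace hy : (y : ↥(xAut F E U)) ∈ P := hy
      obtain ⟨κ, hκ, he⟩ := L.dval_sylow hP hcT hy
      exact ⟨⟨κ, hκ⟩, he.symm⟩) ⟨β, hβ⟩
  have hκ' : dval F E hc (κ : ↥(xAut F E U)) = dval F E hc β := hκ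
  have hl : Lifts ((β * (κ : ↥(xAut F E U))⁻¹ : ↥(xAut F E U)) : MulAut ↥(hull S U)) a := by
    have := hla.mul ((kSub F E U).inv_mem κ.2)
    rwa [mul_one] at this
  refine good_of_dval hc L.hUS _ ?_ hl
  have hinv : dval F E hc (κ : ↥(xAut F E U))⁻¹ = (dval F E hc κ)⁻¹ := by
    rw [← (dval_crossed hc).inv, rho_kSub κ.2]
  rw [dval_crossed hc, hinv, map_inv, rho_focSub β (L.dval_kSub_mem hc κ.2), hκ', mul_inv_cancel]

theorem good_of_focSub {P : Sylow p ↥(xAut F E U)}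
    (hP : (P : Subgroup ↥(xAut F E U)) = (autInducedBy S (hull S U)).subgroupOf (xAut F E U))
    (hcT : c ∈ centralizerIn S T) (h : ∀ β, dval F E (L.hcU hcT) β ∈ focSub F U)
    (β : ↥(xAut F E U)) {a : MulAut U} (hla : Lifts (β : MulAut ↥(hull S U)) a) : Good F c U a :=
  L.good_of_fixed hP hcT le_top (fun x _ y _ => rho_focSub x (h y)) (Subgroup.mem_top β) hla

theorem mem_focSub_of_pow {z : ↥(zSub U)} {n : ℕ} (hn : ¬ p ∣ n) (h : z ^ n ∈ focSub F U) :
    z ∈ focSub F U := by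
  haveI := L.finZ
  obtain ⟨m, hm⟩ := exists_root (p := p) L.pZ hn
  rw [← hm z]
  exact (focSub F U).pow_mem h m

/-- The quadratic step. -/
theorem good_of_quad (hp2 : p ≠ 2) {P : Sylow p ↥(xAut F E U)}
    (hP : (P : Subgroup ↥(xAut F E U)) = (autInducedBy S (hull S U)).subgroupOf (xAut F E U))
    (hcT : c ∈ centralizerIn S T)
    (hN : ∀ x ∈ Subgroup.normalizer
      (Subgroup.closure (quad p (rho F E U) ∩ (P : Set ↥(xAut F E U))) : Set ↥(xAut F E U)),
      dval F E (L.hcU hcT) x ∈ focSub F U)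
    (β : ↥(xAut F E U)) {a : MulAut U} (hla : Lifts (β : MulAut ↥(hull S U)) a) : Good F c U a := by
  haveI := L.finX
  haveI := L.finZ
  obtain ⟨e, he, heP, hediff⟩ := L.exists_e P hP hcT
  set N := Subgroup.normalizer
    (Subgroup.closure (quad p (rho F E U) ∩ (P : Set ↥(xAut F E U))) : Set ↥(xAut F E U)) with hNdef
  have hPN : (P : Subgroup ↥(xAut F E U)) ≤ N := by
    intro g hg
    refine Subgroup.mem_normalizer_fintype fun y hy => ?_
    have hle : Subgroup.closure (quad p (rho F E U) ∩ (P : Set ↥(xAut F E U))) ≤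
        (Subgroup.closure (quad p (rho F E U) ∩ (P : Set ↥(xAut F E U)))).comap
          (MulAut.conj g).toMonoidHom := (Subgroup.closure_le _).2 fun z hz => Subgroup.subset_closure
      ⟨conj_mem_quad hz.1 g, (P : Subgroup ↥(xAut F E U)).mul_mem
        ((P : Subgroup ↥(xAut F E U)).mul_mem hg hz.2) (inv_mem hg)⟩
    exact hle hy
  have heN : ∀ x ∈ N, e x ∈ focSub F U := fun x hx => by
    have h1 := (focSub F U).mul_mem ((focSub F U).inv_mem (hediff x))
      ((focSub F U).pow_mem (hN x hx) (P : Subgroup ↥(xAut F E U)).index)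
    rwa [mul_inv_rev, inv_inv, inv_mul_cancel_right] at h1
  have he1 : ∀ x, e x = 1 := eq_one_of_quad hp2 L.pZ he P heP fun x hx =>
    eq_one_of_fixed (ρ := (rho F E U).comp N.subtype) (d := fun y : N => e y) (fun a b => he _ _) L.pZ
      (fun a b => rho_focSub _ (heN b b.2)) (P.subtype hPN)
      (fun y hy => heP _ (show (y : ↥(xAut F E U)) ∈ P from hy)) ⟨x, hx⟩
  refine L.good_of_focSub hP hcT (fun x => L.mem_focSub_of_pow (not_dvd_index P) ?_) β hla
  have := hediff x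
  rwa [he1, inv_one, mul_one] at this

/-- A translate of `c` by a central element fixed by all. -/
theorem exists_translate {P : Sylow p ↥(xAut F E U)}
    (hP : (P : Subgroup ↥(xAut F E U)) = (autInducedBy S (hull S U)).subgroupOf (xAut F E U))
    (hcT : c ∈ centralizerIn S T) {W : Subgroup ↥(zSub U)} (hDW : focSub F U ≤ W)
    (hW : ∀ β, dval F E (L.hcU hcT) β ∈ W) :
    ∃ z : ↥(zSub U), z ∈ W ∧ (∀ t ∈ normalizerIn T U, t * (z : Ω) * t⁻¹ = z) ∧
      (c * z ∈ centralizerIn S T → ∀ (β : ↥(xAut F E U)) (a : MulAut U),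
        Lifts (β : MulAut ↥(hull S U)) a → Good F (c * z) U a) := by
  haveI := L.finX
  haveI := L.finZ
  obtain ⟨e, he, heP, hediff⟩ := L.exists_e P hP hcT
  set n := (P : Subgroup ↥(xAut F E U)).index with hn
  obtain ⟨v, hv, hvW⟩ := exists_avg he (P : Subgroup ↥(xAut F E U)) heP
  obtain ⟨m, hm⟩ := exists_root (p := p) L.pZ (not_dvd_index P)
  set z := v ^ (m * m) with hz
  have heW : ∀ x, e x ∈ W := fun x => by
    have h1 := W.mul_mem (W.inv_mem (hDW (hediff x))) (W.pow_mem (hW x) n)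
    rwa [mul_inv_rev, inv_inv, inv_mul_cancel_right] at h1
  refine ⟨z, W.pow_mem (hvW W heW) _, fun t ht => ?_, fun hcz β a hla => ?_⟩
  · obtain ⟨τ, hτS, hτe, -⟩ := L.exists_tAut ht
    rw [← rho_tAut hτe, hz, map_pow, hv, heP τ (hP.ge (Subgroup.mem_subgroupOf.2 hτS)), one_pow, inv_one,
      mul_one]
  · refine L.good_of_focSub hP hcz (fun x => L.mem_focSub_of_pow (not_dvd_index P) ?_) β hla
    rw [dval_translate (L.hcU hcT) z (L.hcU hcz) x, mul_pow]
    have hz' : rho F E U x z * z⁻¹ = ((e x ^ n)⁻¹) ^ (m * m) := by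
      rw [hz, map_pow, hv, mul_pow, mul_comm (v ^ (m * m)), mul_inv_cancel_right]
    have e1 : (rho F E U x z * z⁻¹) ^ n = (e x)⁻¹ := by
      rw [hz', ← pow_mul, inv_pow, inv_inj, show m * m * n = m * (n * m) by ring, pow_mul (e x ^ n) m, hm,
        pow_mul, hm]
    rw [e1]
    exact hediff x

/-- Frattini argument: `Aut_E(U)` is generated by restrictions of `xAut` and the normaliser of `Aut_T(U)`. -/
theorem autE_le {G : Subgroup (MulAut U)}
    (hX : ∀ (β : ↥(xAut F E U)) (a : MulAut U), Lifts (β : MulAut ↥(hull S U)) a → a ∈ G)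
    (hN : ∀ a ∈ E.autGroup U, (∀ b ∈ autInducedBy T U, a * b * a⁻¹ ∈ autInducedBy T U) → a ∈ G) :
    E.autGroup U ≤ G := by
  haveI := L.finU
  haveI := finite_sub L.hTS
  have hTp : IsPGroup p T := isPGroup_of_le L.hS L.hTS
  obtain ⟨R, hR⟩ := (fullyAutomized_of_fullyNormalized hTp L.hEs L.fnE).2
  let N₀ : Subgroup (E.autGroup U) :=
    { carrier := {a | ∃ β : ↥(xAut F E U), Lifts (β : MulAut ↥(hull S U)) (a : MulAut U)}
      one_mem' := ⟨1, Lifts.one⟩
      mul_mem' := fun ⟨β, hβ⟩ ⟨γ, hγ⟩ => ⟨β * γ, Lifts.mul hβ hγ⟩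
      inv_mem' := fun ⟨β, hβ⟩ => ⟨β⁻¹, Lifts.inv hβ⟩ }
  haveI : N₀.Normal := ⟨fun a ⟨β, hβ⟩ g => by
    obtain ⟨γ, hγ, hlγ⟩ := L.exists_lift ((mem_autGroup L.hUS).2 (L.hsub U ((mem_autGroup L.hUT).1 g.2)))
    exact ⟨⟨_, L.normal_mem hγ β.2⟩, (hlγ.mul hβ).mul hlγ.inv⟩⟩
  have hRN : (R : Subgroup (E.autGroup U)) ≤ N₀ := by
    intro a ha
    rw [hR, Subgroup.mem_subgroupOf] at ha
    obtain ⟨t, ht, hte⟩ := mem_autInducedBy.1 ha
    obtain ⟨τ, -, hτe, -⟩ := L.exists_tAut (t := t) ⟨ht, mem_normalizer_of_aut hte⟩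
    exact ⟨τ, fun u => (hτe _).trans (hte u).symm⟩
  have htop := Sylow.normalizer_sup_eq_top' (N := N₀) R hRN
  intro a ha
  refine ((?_ : _ ⊔ _ ≤ G.subgroupOf (E.autGroup U)) (htop.ge (Subgroup.mem_top (⟨a, ha⟩ : E.autGroup U))) :)
  refine sup_le (fun n hn => hN _ n.2 fun b hb => ?_) fun x ⟨β, hβ⟩ => hX β _ hβ
  have hb' : (⟨b, L.autT_le_autE hb⟩ : E.autGroup U) ∈ (R : Subgroup (E.autGroup U)) := by rw [hR]; exact hb
  have h3 : n * ⟨b, L.autT_le_autE hb⟩ * n⁻¹ ∈ (R : Subgroup (E.autGroup U)) := (hn _).1 hb'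
  rw [hR] at h3
  exact h3

/-- The step when all values commute with `N_T(U)`. -/
theorem good_of_commute {P : Sylow p ↥(xAut F E U)}
    (hP : (P : Subgroup ↥(xAut F E U)) = (autInducedBy S (hull S U)).subgroupOf (xAut F E U))
    (hcT : c ∈ centralizerIn S T)
    (hcomm : ∀ β, ∀ t ∈ normalizerIn T U,
      t * (dval F E (L.hcU hcT) β : Ω) * t⁻¹ = dval F E (L.hcU hcT) β)
    (hN : ∀ a ∈ E.autGroup U, (∀ b ∈ autInducedBy T U, a * b * a⁻¹ ∈ autInducedBy T U) → Good F c U a)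
    {a : MulAut U} (ha : a ∈ E.autGroup U) : Good F c U a := by
  haveI := L.finU
  haveI := L.finX
  have hc := L.hcU hcT
  set d := dval F E hc with hd
  let K : Subgroup ↥(xAut F E U) :=
    { carrier := {x | ∀ y, rho F E U x (d y) = d y}
      one_mem' := fun y => by rw [map_one]; rfl
      mul_mem' := fun {x x'} hx hx' y => by rw [map_mul, MulAut.mul_apply, hx', hx]
      inv_mem' := fun {x} hx y => by
        conv_lhs => rw [← hx y]
        rw [← MulAut.mul_apply, ← map_mul, inv_mul_cancel, map_one]; rfl }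
  haveI : K.Normal := ⟨fun x hx g y => by
    have e : rho F E U g⁻¹ (d y) = d (g⁻¹ * y) * (d g⁻¹)⁻¹ := by
      rw [hd, dval_crossed hc, mul_comm (dval F E hc g⁻¹), mul_inv_cancel_right]
    have hxe : rho F E U x (rho F E U g⁻¹ (d y)) = rho F E U g⁻¹ (d y) := by
      rw [e, map_mul, map_inv, hx, hx]
    rw [map_mul, map_mul, MulAut.mul_apply, MulAut.mul_apply, hxe, ← MulAut.mul_apply, ← map_mul,
      mul_inv_cancel, map_one]
    rfl⟩
  have hPK : (P : Subgroup ↥(xAut F E U)) ≤ K := by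
    intro y hy z
    obtain ⟨t, ht, τ, -, κ, hκ, rfl, hτ, -⟩ := L.sylow_decomp hP hy
    rw [map_mul, MulAut.mul_apply, rho_kSub hκ]
    exact Subtype.ext ((rho_tAut hτ _).trans (hcomm z t ht))
  have hKgood : ∀ β ∈ K, ∀ b, Lifts (β : MulAut ↥(hull S U)) b → Good F c U b := fun β hβ b hlb =>
    L.good_of_fixed hP hcT hPK (fun x hx y _ => hx y) hβ hlb
  have hres : ∀ β : ↥(xAut F E U), ∀ b, Lifts (β : MulAut ↥(hull S U)) b → b ∈ E.autGroup U := by
    intro β b hlb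
    obtain ⟨b', hb', hlb'⟩ := β.2.2.1
    rwa [hlb.unique hlb']
  let G₁ : Subgroup ↥(xAut F E U) :=
    { carrier := {β | ∀ b, Lifts (β : MulAut ↥(hull S U)) b → Good F c U b}
      one_mem' := fun b hlb => by rw [hlb.unique Lifts.one]; exact good_one L.hUS (centralizerIn_le U hc)
      mul_mem' := fun {β γ} hβ hγ b hlb => by
        obtain ⟨b₁, -, hl₁⟩ := β.2.2.1
        obtain ⟨b₂, -, hl₂⟩ := γ.2.2.1
        rw [hlb.unique (hl₁.mul hl₂)]
        exact (hβ _ hl₁).mul (hγ _ hl₂)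
      inv_mem' := fun {β} hβ b hlb => by
        obtain ⟨b₁, -, hl₁⟩ := β.2.2.1
        rw [hlb.unique hl₁.inv]
        exact (goodSub F L.hUS (centralizerIn_le U hc)).inv_mem (hβ _ hl₁) }
  have htop := Sylow.normalizer_sup_eq_top' (N := K) P hPK
  have hall : ∀ β : ↥(xAut F E U), β ∈ G₁ := by
    intro β
    refine ((?_ : _ ⊔ _ ≤ G₁) (htop.ge (Subgroup.mem_top β)) :)
    refine sup_le (fun g hg b hlb => hN b (hres g b hlb) fun x hx => ?_) fun g hg b hlb => hKgood g hg b hlb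
    obtain ⟨t, ht, hte⟩ := mem_autInducedBy.1 hx
    obtain ⟨τ, hτS, hτe, -⟩ := L.exists_tAut (t := t) ⟨ht, mem_normalizer_of_aut hte⟩
    have hτP : τ ∈ (P : Subgroup ↥(xAut F E U)) := hP.ge (Subgroup.mem_subgroupOf.2 hτS)
    have hgτ : g * τ * g⁻¹ ∈ (P : Subgroup ↥(xAut F E U)) := (hg _).1 hτP
    have hlτ : Lifts (τ : MulAut ↥(hull S U)) x := fun u => (hτe _).trans (hte u).symm
    have hl := (hlb.mul hlτ).mul hlb.inv
    rw [hP, Subgroup.mem_subgroupOf] at hgτ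
    obtain ⟨s, hs, hse⟩ := mem_autInducedBy.1 hgτ
    exact L.autE_inter_autS (hres (g * τ * g⁻¹) _ hl)
      (mem_autInducedBy.2 ⟨s, hs, fun u => (hl u).symm.trans (hse _)⟩)
  exact L.autE_le (G := goodSub F L.hUS (centralizerIn_le U hc)) (fun β b hlb => hall β b hlb) hN ha

end Loc

end Cfsg.Agent.Lib.FS.NormalCentralizer.Odd
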