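import Mathlib
import Cfsg.Agent.Lib.FusionSystem.NormalCentralizerStep
import Cfsg.Agent.Lib.FusionSystem.AbelianKey

/-!
For `p` odd and a normal subsystem `E` over `T`, every element of `C_S(T)` has a translate by `Z(T)` centralised
by `E`.
-/

set_option autoImplicit false
set_option linter.style.haveILetI false
set_option linter.unusedSectionVars false

namespace Cfsg.Agent.Lib.FS.NormalCentralizer.Odd

open Cfsg Cfsg.FusionSystem Cfsg.Agent.Lib Cfsg.Agent.Lib.FS Cfsg.Agent.Lib.FS.NormalCentralizer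
open Cfsg.Agent.Lib.FS.AbelianKey Cfsg.Agent.Lib.FS.CocycleNorm
open Cfsg.Agent.Lib.Transfer.AbelianJ (maxAbIn)

variable {Ω : Type*} [Group Ω] {S T : Subgroup Ω} {p : ℕ}
  {F : FusionSystem S} {E : FusionSystem T} {U : Subgroup Ω} {c : Ω}

/-- `c` is fixed by the automorphisms in `E` of `J(T)` and of `T`. -/
structure Base (F : FusionSystem S) (E : FusionSystem T) (c : Ω) : Prop where
  cT : c ∈ centralizerIn S T
  onJ : ∀ a ∈ E.autGroup (jSub T), Good F c (jSub T) a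
  onT : ∀ a ∈ E.autGroup T, Good F c T a

variable [Finite S] [hp : Fact p.Prime]

omit hp in
/-- Transport along a map of `F`. -/
theorem Good.transport {a : MulAut U} {X U' : Subgroup Ω} {ψ : X →* Ω} (hψ : ψ ∈ F.Hom X) (hU : U ≤ X)
    (hcX : c ∈ X) {a' : MulAut U'} (hsurj : ∀ y : U', ∃ u : U, ψ ⟨u, hU u.2⟩ = y)
    (ha : ∀ (u : U) (y : U'), ψ ⟨u, hU u.2⟩ = y → (a' y : Ω) = ψ ⟨(a u : U), hU (a u).2⟩)
    (hg : Good F c U a) : Good F (ψ ⟨c, hcX⟩) U' a' := by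
  obtain ⟨b, hb, hb1, hb2⟩ := hg
  have hY : U ⊔ Subgroup.zpowers c ≤ X := sup_le hU (Subgroup.zpowers_le.2 hcX)
  obtain ⟨ψ', hψ', he'⟩ := exists_restrict hψ hY
  obtain ⟨ψi, hψi, -, hl, -⟩ := exists_inv hψ' rfl
  have hψc : ψ' (Subgroup.inclusion le_sup_right ⟨c, Subgroup.mem_zpowers c⟩) = ψ ⟨c, hcX⟩ := he' _
  have hψu : ∀ u : U, ψ' (Subgroup.inclusion le_sup_left u) = ψ ⟨u, hU u.2⟩ := fun u => he' _
  have hsrc : U' ⊔ Subgroup.zpowers (ψ ⟨c, hcX⟩) ≤ ψ'.range := by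
    refine sup_le (fun y hy => ?_) (Subgroup.zpowers_le.2 ⟨_, hψc⟩)
    obtain ⟨u, hu⟩ := hsurj ⟨y, hy⟩
    exact ⟨_, (hψu u).trans hu⟩
  obtain ⟨i, hi, hei⟩ := exists_restrict hψi hsrc
  have hiv : ∀ (w : ↥(U ⊔ Subgroup.zpowers c)) (h : ψ' w ∈ U' ⊔ Subgroup.zpowers (ψ ⟨c, hcX⟩)),
      i ⟨ψ' w, h⟩ = w := fun w h => by rw [hei]; exact hl w _
  have him : ∀ w, i w ∈ U ⊔ Subgroup.zpowers c := fun w => by
    obtain ⟨v, hv⟩ := hsrc w.2
    rw [show w = (⟨ψ' v, hv.symm ▸ w.2⟩ : ↥(U' ⊔ Subgroup.zpowers (ψ ⟨c, hcX⟩))) from Subtype.ext hv.symm,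
      hiv]
    exact v.2
  obtain ⟨c₁, hc₁, hec₁⟩ := exists_comp hi hb him
  have hbm : ∀ w, b w ∈ U ⊔ Subgroup.zpowers c := mapsTo_sup
    (fun u => by rw [hb1]; exact (le_sup_left : U ≤ U ⊔ _) (a u).2)
    (fun y => by rw [hb2]; exact (le_sup_right : _ ≤ U ⊔ Subgroup.zpowers c) y.2)
  have hc₁m : ∀ w, c₁ w ∈ U ⊔ Subgroup.zpowers c := fun w => by rw [hec₁]; exact hbm _
  obtain ⟨σ, hσ, heσ⟩ := exists_comp hc₁ hψ' hc₁m
  have hval : ∀ (w : ↥(U ⊔ Subgroup.zpowers c)) (h : ψ' w ∈ U' ⊔ Subgroup.zpowers (ψ ⟨c, hcX⟩)),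
      σ ⟨ψ' w, h⟩ = ψ' ⟨b w, hbm w⟩ := fun w h => by
    rw [heσ]
    refine congrArg ψ' (Subtype.ext ?_)
    show c₁ _ = b w
    rw [hec₁]
    exact congrArg b (Subtype.ext (hiv w h))
  refine ⟨σ, hσ, fun y => ?_, ?_⟩
  · obtain ⟨u, hu⟩ := hsurj y
    have e : ψ' (Subgroup.inclusion le_sup_left u) = y := (hψu u).trans hu
    rw [show Subgroup.inclusion le_sup_left y = (⟨ψ' (Subgroup.inclusion le_sup_left u), e.symm ▸
      (le_sup_left : U' ≤ U' ⊔ Subgroup.zpowers (ψ ⟨c, hcX⟩)) y.2⟩ : ↥(U' ⊔ _)) from Subtype.ext e.symm, hval]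
    rw [he']
    exact (congrArg ψ (Subtype.ext (hb1 u))).trans (ha u y hu).symm
  · refine zpowers_map_eq (σ.comp (Subgroup.inclusion le_sup_right))
      (Subgroup.zpowers (ψ ⟨c, hcX⟩)).subtype ?_
    show σ _ = ψ ⟨c, hcX⟩
    rw [show (Subgroup.inclusion le_sup_right ⟨ψ ⟨c, hcX⟩, Subgroup.mem_zpowers _⟩ :
      ↥(U' ⊔ Subgroup.zpowers (ψ ⟨c, hcX⟩))) =
        ⟨ψ' (Subgroup.inclusion le_sup_right ⟨c, Subgroup.mem_zpowers c⟩), hψc.symm ▸
          (le_sup_right : _ ≤ U' ⊔ Subgroup.zpowers (ψ ⟨c, hcX⟩)) (Subgroup.mem_zpowers _)⟩ from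
        Subtype.ext hψc.symm, hval, he']
    exact congrArg ψ (Subtype.ext (hb2 ⟨c, Subgroup.mem_zpowers c⟩))

/-- Transport backwards. -/
theorem Good.of_transport {X U' : Subgroup Ω} {ψ : X →* Ω} (hψ : ψ ∈ F.Hom X) (hU : U ≤ X) (hcX : c ∈ X)
    {a : MulAut U} {a' : MulAut U'} (hmem : ∀ u : U, ψ ⟨u, hU u.2⟩ ∈ U')
    (hsurj : ∀ y : U', ∃ u : U, ψ ⟨u, hU u.2⟩ = y)
    (ha : ∀ (u : U) (y : U'), ψ ⟨u, hU u.2⟩ = y → (a' y : Ω) = ψ ⟨(a u : U), hU (a u).2⟩)
    (hg : Good F (ψ ⟨c, hcX⟩) U' a') : Good F c U a := by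
  obtain ⟨ψi, hψi, -, hl, -⟩ := exists_inv hψ rfl
  have hU' : U' ≤ ψ.range := fun y hy => by obtain ⟨u, hu⟩ := hsurj ⟨y, hy⟩; exact ⟨_, hu⟩
  have hback : ∀ u : U, ψi ⟨ψ ⟨u, hU u.2⟩, ⟨_, rfl⟩⟩ = u := fun u => hl _ _
  have h := Good.transport hψi hU' (c := ψ ⟨c, hcX⟩) ⟨_, rfl⟩ (a' := a)
    (fun u => ⟨⟨_, hmem u⟩, hback u⟩) (fun y u he => ?_) hg
  · exact (hl ⟨c, hcX⟩ ⟨_, rfl⟩).subst (motive := fun t => Good F t U a) h
  · obtain ⟨u₀, hu₀⟩ := hsurj y
    have e : (u : Ω) = u₀ := by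
      rw [← he, ← hback u₀]
      exact congrArg ψi (Subtype.ext hu₀.symm)
    obtain rfl : u = u₀ := Subtype.ext e
    rw [← hback (a u)]
    exact congrArg ψi (Subtype.ext (ha u y hu₀).symm)

omit hp in
theorem mem_normalizer_conj {P : Subgroup Ω} {φ : P →* Ω} (hφ : φ ∈ E.Hom P) : P ≤ T := src_le hφ

theorem centricT_of_centric (hE : E.IsNormalIn F p) (hU : E.IsCentric U) : CentricT F T U := by
  obtain ⟨-, hsc, -, hfrat⟩ := hE.1.2.2
  refine ⟨hU.1, ?_⟩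
  rintro _ ⟨φ, hφ, rfl⟩ t ⟨htT, htC⟩
  obtain ⟨α, hα, φ₀, hφ₀, he⟩ := hfrat U hU.1 φ hφ
  set t₀ : T := α⁻¹ ⟨t, htT⟩ with ht₀
  have hαt : (α t₀ : Ω) = t := congrArg Subtype.val (MulAut.apply_inv_self _ α ⟨t, htT⟩)
  have ht₀C : (t₀ : Ω) ∈ centralizerIn T φ₀.range := by
    refine mem_centralizerIn.2 ⟨t₀.2, ?_⟩
    rintro _ ⟨x, rfl⟩
    have hxT : φ₀ x ∈ T := apply_mem hφ₀ x
    have h2 := htC (φ x) ⟨x, rfl⟩
    rw [he x hxT, ← hαt, ← Subgroup.coe_mul, ← Subgroup.coe_mul, ← map_mul, ← map_mul] at h2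
    exact congrArg Subtype.val (α.injective (Subtype.ext h2) : (⟨φ₀ x, hxT⟩ : T) * t₀ = t₀ * ⟨φ₀ x, hxT⟩)
  obtain ⟨x, hx⟩ := hU.2 φ₀.range ⟨φ₀, hφ₀, rfl⟩ ht₀C
  exact ⟨x, by rw [he x (apply_mem hφ₀ x), show (⟨φ₀ x, apply_mem hφ₀ x⟩ : T) = t₀ from Subtype.ext hx, hαt]⟩

/-- Automorphisms in `E` are carried to automorphisms in `E` by maps of `F`. -/
theorem autE_congr (hE : E.IsNormalIn F p) (hUT : U ≤ T) {U' : Subgroup Ω} {φ : U →* Ω} (hφ : φ ∈ F.Hom U)
    (hr : φ.range = U') {a : MulAut U} (ha : a ∈ E.autGroup U) :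
    MulAut.congr (homEquiv hφ hr) a ∈ E.autGroup U' := by
  obtain ⟨-, hsc, hinv, hfrat⟩ := hE.1.2.2
  obtain ⟨γ, hγ, φ₀, hφ₀, heγ⟩ := hfrat U hUT φ hφ
  set a' := MulAut.congr (homEquiv hφ₀ rfl) a with ha'
  have ha'E : a' ∈ E.autGroup φ₀.range := congr_mem_autGroup hφ₀ rfl ha
  have hUT' : φ₀.range ≤ T := range_le_base hφ₀
  have hU'T : U' ≤ T := by
    rw [← hr]
    rintro _ ⟨u, rfl⟩
    exact stronglyClosed_apply_mem hsc hφ (hUT u.2)
  obtain ⟨χ, hχ, heχ⟩ := hinv φ₀.range hUT' _ ((mem_autGroup hUT').1 ha'E) γ hγ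
  have hsrc : ∀ y : U', ∃ x : φ₀.range, ((γ ⟨x, hUT' x.2⟩ : T) : Ω) = y ∧
      (homEquiv hφ₀ (rfl : φ₀.range = φ₀.range)).symm x = (homEquiv hφ hr).symm y := by
    intro y
    refine ⟨homEquiv hφ₀ rfl ((homEquiv hφ hr).symm y), ?_, MulEquiv.symm_apply_apply _ _⟩
    exact (heγ _ (apply_mem hφ₀ _)).symm.trans (homEquiv_symm_apply hφ hr y)
  have hle : U' ≤ (φ₀.range.subgroupOf T).map (T.subtype.comp γ.toMonoidHom) := fun y hy => by
    obtain ⟨x, hx, -⟩ := hsrc ⟨y, hy⟩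
    exact ⟨⟨x, hUT' x.2⟩, x.2, hx⟩
  rw [mem_autGroup hU'T]
  refine mem_of_restrict hχ hle fun y => ?_
  obtain ⟨x, hx, hxs⟩ := hsrc y
  have hax : ((a' x : φ₀.range) : Ω) ∈ T := hUT' (a' x).2
  have h := heχ x hax (hx.symm ▸ hle y.2)
  rw [show (⟨(y : Ω), hle y.2⟩ : ↥((φ₀.range.subgroupOf T).map (T.subtype.comp γ.toMonoidHom))) =
    ⟨((γ ⟨x, hUT' x.2⟩ : T) : Ω), hx.symm ▸ hle y.2⟩ from Subtype.ext hx.symm, h]
  show φ (a ((homEquiv hφ hr).symm y)) = ((γ ⟨((a' x : φ₀.range) : Ω), hax⟩ : T) : Ω)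
  rw [heγ _ (apply_mem hφ₀ _), ← hxs]
  rfl

omit hp in
/-- Maps onto `jSub`. -/
theorem map_jSub_mem {P : Subgroup Ω} {φ : P →* Ω} (hφ : φ ∈ F.Hom P) {Q : Subgroup Ω} (hQ : φ.range = Q)
    (x : P) (hx : (x : Ω) ∈ jSub P) : φ x ∈ jSub Q := by
  rw [← hQ, ← map_jSub φ (F.injective_of_mem hφ)]
  exact ⟨x, hx, rfl⟩

/-- The base data are invariant under automorphisms of `T`. -/
theorem Base.transport (hS : IsPGroup p S) (hE : E.IsNormalIn F p) (hB : Base F E c) {X : Subgroup Ω}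
    {ψ : X →* Ω} (hψ : ψ ∈ F.Hom X) (hTX : T ≤ X) (hcX : c ∈ X) : Base F E (ψ ⟨c, hcX⟩) := by
  have hsc := hE.1.2.2.2.1
  haveI := finite_sub hsc.1
  obtain ⟨γ, hγ, heγ⟩ := exists_restrict hψ hTX
  have hγr : γ.range = T :=
    range_eq_of_mem hγ (fun t => stronglyClosed_apply_mem hsc hγ t.2) le_rfl
  have key : ∀ (V : Subgroup Ω), V ≤ T → (∀ x : T, (x : Ω) ∈ V → γ x ∈ V) →
      (∀ a ∈ E.autGroup V, Good F c V a) → ∀ a ∈ E.autGroup V, Good F (ψ ⟨c, hcX⟩) V a := by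
    intro V hVT hV hgood a ha
    haveI := finite_sub (hVT.trans hsc.1)
    obtain ⟨γV, hγV, heV⟩ := exists_restrict hγ hVT
    have hr : γV.range = V := range_eq_of_mem hγV (fun x => by rw [heV]; exact hV _ x.2) le_rfl
    have hb : MulAut.congr (homEquiv hγV hr).symm a ∈ E.autGroup V := by
      obtain ⟨γi, hγi, hri, hli, -⟩ := exists_inv hγV hr
      have e : homEquiv hγi hri = (homEquiv hγV hr).symm := by
        ext y
        obtain ⟨x, rfl⟩ := (homEquiv hγV hr).surjective y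
        rw [MulEquiv.symm_apply_apply]
        exact hli x _
      exact e ▸ autE_congr hE hVT hγi hri ha
    refine Good.transport hψ (hVT.trans hTX) hcX (fun y => ?_) (fun u y huy => ?_) (hgood _ hb)
    · refine ⟨(homEquiv hγV hr).symm y, ?_⟩
      rw [← homEquiv_symm_apply hγV hr y, heV, heγ]
    · have hy : homEquiv hγV hr u = y := Subtype.ext (by rw [homEquiv_coe, heV, heγ]; exact huy)
      show (a y : Ω) = ψ ⟨_, _⟩
      rw [← homEquiv_symm_apply hγV hr (a y), heV, heγ]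
      refine congrArg ψ (Subtype.ext ?_)
      have e : (homEquiv hγV hr).symm (a y) = MulAut.congr (homEquiv hγV hr).symm a u := by
        show _ = (homEquiv hγV hr).symm (a (((homEquiv hγV hr).symm).symm u))
        rw [MulEquiv.symm_symm, hy]
      exact congrArg (fun v : V => (v : Ω)) e
  refine ⟨mem_centralizerIn.2 ⟨apply_mem hψ _, fun t ht => ?_⟩,
    key _ (jSub_le T) (fun x hx => map_jSub_mem hγ hγr x hx) hB.onJ,
    key T le_rfl (fun x _ => hγr.le ⟨x, rfl⟩) hB.onT⟩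
  obtain ⟨t', ht'⟩ := hγr.ge ht
  rw [← ht', heγ, ← map_mul, ← map_mul]
  exact congrArg ψ (Subtype.ext ((mem_centralizerIn.1 hB.cT).2 _ t'.2))

omit hp in
theorem normalizerIn_T_le (hTS : T ≤ S) : normalizerIn T U ≤ normalizerIn S U := fun _ hg => ⟨hTS hg.1, hg.2⟩

/-- Moving `U` to a fully normalised conjugate. -/
theorem exists_move (hS : IsPGroup p S) (hE : E.IsNormalIn F p) (hUT : U ≤ T) (hB : Base F E c)
    (hbig : ∀ φ ∈ E.Hom (normalizerIn T U), Fixes F (Subgroup.zpowers c) (normalizerIn T U) φ)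
    {U' : Subgroup Ω} (hn : F.IsFullyNormalized U') (hconj : F.IsConj U U') :
    ∃ c', Base F E c' ∧
      ((∀ a' ∈ E.autGroup U', Good F c' U' a') → ∀ a ∈ E.autGroup U, Good F c U a) := by
  obtain ⟨-, hsc, -, hfrat⟩ := hE.1.2.2
  have hF := hE.1.2.1
  have hTS := hsc.1
  haveI := finite_sub hTS
  obtain ⟨η, hη, -, hηU⟩ := exists_normalizer_map hS hF hn hconj
  obtain ⟨η₁, hη₁, he₁⟩ := exists_restrict hη (normalizerIn_T_le (U := U) hTS)
  obtain ⟨γ, hγ, φ₀, hφ₀, heγ⟩ := hfrat _ (normalizerIn_le U) η₁ hη₁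
  obtain ⟨b, hb, hb1, hb2⟩ := hbig φ₀ hφ₀
  have hTn : F.IsFullyNormalized T := ⟨hTS, fun Q _ => by
    rw [show normalizerIn S T = S from inf_eq_left.2 (stronglyClosed_le_normalizer hsc)]
    exact Subgroup.card_le_of_le (normalizerIn_le Q)⟩
  obtain ⟨γ₀, hγ₀, heγ₀⟩ := (receptive_of_fullyNormalized hS hF hTn).2 T _ ((mem_autGroup hTS).1 hγ) (by
    rw [MonoidHom.range_comp, MonoidHom.range_eq_top.2 γ.surjective, ← MonoidHom.range_eq_map,
      Subgroup.range_subtype])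
  obtain ⟨γ₁, hγ₁, heγ₁⟩ := exists_restrict hγ₀
    (sup_le (le_extender hTS fun t => hTS (γ t).2)
      (Subgroup.zpowers_le.2 (centralizerIn_le_extender T _ hB.cT)) :
      T ⊔ Subgroup.zpowers c ≤ extender S T (T.subtype.comp γ.toMonoidHom))
  have hbm : ∀ w, b w ∈ T ⊔ Subgroup.zpowers c := mapsTo_sup
    (fun x => by rw [hb1]; exact (le_sup_left : T ≤ T ⊔ _) (apply_mem hφ₀ x))
    (fun y => by rw [hb2]; exact (le_sup_right : _ ≤ T ⊔ Subgroup.zpowers c) y.2)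
  obtain ⟨ψ, hψ, heψ⟩ := exists_comp hb hγ₁ hbm
  have hcX : c ∈ normalizerIn T U ⊔ Subgroup.zpowers c :=
    (le_sup_right : _ ≤ normalizerIn T U ⊔ _) (Subgroup.mem_zpowers c)
  have hcT : c ∈ T ⊔ Subgroup.zpowers c := (le_sup_right : _ ≤ T ⊔ _) (Subgroup.mem_zpowers c)
  have hψc : ψ ⟨c, hcX⟩ = γ₁ ⟨c, hcT⟩ := by
    rw [heψ]
    exact congrArg γ₁ (Subtype.ext (hb2 ⟨c, Subgroup.mem_zpowers c⟩))
  refine ⟨ψ ⟨c, hcX⟩, by rw [hψc]; exact hB.transport hS hE hγ₁ le_sup_left hcT, fun hgood a ha => ?_⟩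
  have hUS : U ≤ S := hUT.trans hTS
  have hUN : U ≤ normalizerIn T U := le_normalizerIn hUT
  have hUX : U ≤ normalizerIn T U ⊔ Subgroup.zpowers c := hUN.trans le_sup_left
  have hψU : ∀ u : U, ψ ⟨u, hUX u.2⟩ = η ⟨u, le_normalizerIn hUS u.2⟩ := by
    intro u
    have hu : b ⟨u, hUX u.2⟩ = φ₀ ⟨u, hUN u.2⟩ := hb1 ⟨u, hUN u.2⟩
    rw [heψ, heγ₁]
    have huT : b ⟨u, hUX u.2⟩ ∈ T := by rw [hu]; exact apply_mem hφ₀ _
    refine (heγ₀ _ huT _).trans ?_
    show ((γ ⟨b _, _⟩ : T) : Ω) = _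
    rw [show (⟨b ⟨u, hUX u.2⟩, huT⟩ : T) = ⟨φ₀ ⟨u, hUN u.2⟩, apply_mem hφ₀ _⟩ from
      Subtype.ext hu, ← heγ, he₁]
  haveI := finite_sub hUS
  haveI := finite_sub hn.1
  obtain ⟨φ, hφ, heφ⟩ := exists_restrict hη (le_normalizerIn hUS)
  have hr : φ.range = U' := by
    rw [← hηU, map_subgroupOf_eq_range (le_normalizerIn hUS) η]
    exact congrArg MonoidHom.range (MonoidHom.ext fun u => heφ u)
  refine Good.of_transport hψ hUX hcX (a' := MulAut.congr (homEquiv hφ hr) a)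
    (fun u => by rw [hψU, ← heφ]; exact hr.le ⟨u, rfl⟩)
    (fun y => ⟨(homEquiv hφ hr).symm y, by rw [hψU, ← heφ]; exact homEquiv_symm_apply hφ hr y⟩)
    (fun u y he => ?_) (hgood _ (autE_congr hE hUT hφ hr ha))
  rw [hψU, ← heφ] at he
  obtain rfl : y = homEquiv hφ hr u := Subtype.ext he.symm
  show φ (a ((homEquiv hφ hr).symm (homEquiv hφ hr u))) = _
  rw [MulEquiv.symm_apply_apply, hψU, heφ]

/-- The key of `N_T(U)` does not decrease on moving `U` to a fully normalised conjugate. -/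
theorem key_normalizer_le (hS : IsPGroup p S) (hE : E.IsNormalIn F p) {U' : Subgroup Ω}
    (hn : F.IsFullyNormalized U') (hconj : F.IsConj U U') :
    key S (normalizerIn T U) ≤ key S (normalizerIn T U') := by
  have hsc := hE.1.2.2.2.1
  obtain ⟨η, hη, hm, -⟩ := exists_normalizer_map hS hE.1.2.1 hn hconj
  obtain ⟨η₁, hη₁, he₁⟩ := exists_restrict hη (normalizerIn_T_le (U := U) hsc.1)
  haveI := finite_sub ((normalizerIn_le (S := T) U).trans hsc.1)
  rw [← key_range η₁ (F.injective_of_mem hη₁)]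
  refine key_mono ?_ ((normalizerIn_le U').trans hsc.1)
  rintro _ ⟨x, rfl⟩
  exact ⟨stronglyClosed_apply_mem hsc hη₁ x.2.1, by rw [he₁]; exact (hm _).2⟩

theorem key_conj (hUS : U ≤ S) {U' : Subgroup Ω} (h : F.IsConj U U') : key S U' = key S U := by
  obtain ⟨φ, hφ, rfl⟩ := h
  haveI := finite_sub hUS
  exact key_range φ (F.injective_of_mem hφ)

/-- An automorphism normalising `Aut_T(U)` extends to `N_T(U)`. -/
theorem good_of_normalizes (L : Loc p F E U)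
    (hbig : ∀ φ ∈ E.Hom (normalizerIn T U), Fixes F (Subgroup.zpowers c) (normalizerIn T U) φ)
    {a : MulAut U} (ha : a ∈ E.autGroup U)
    (hn : ∀ b ∈ autInducedBy T U, a * b * a⁻¹ ∈ autInducedBy T U) : Good F c U a := by
  haveI := finite_sub L.hTS
  have hTp : IsPGroup p T := isPGroup_of_le L.hS L.hTS
  obtain ⟨ψ, hψ, he⟩ := FusionP3.Induction.exists_extend_aut (receptive_of_fullyNormalized hTp L.hEs L.fnE)
    (le_refl (normalizerIn T U)) ha fun g hg => by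
      obtain ⟨t, ht, hte⟩ := mem_autInducedBy.1
        (hn _ (mem_autInducedBy.2 ⟨g, hg.1, fun _ => rfl⟩ :
          U.normalizerMonoidHom ⟨g, hg.2⟩ ∈ autInducedBy T U))
      refine ⟨t, ht, fun x hx => ?_⟩
      have h := hte (a x)
      rw [MulAut.mul_apply, MulAut.mul_apply, MulAut.inv_apply_self] at h
      exact h
  exact Fixes.restrict (le_normalizerIn L.hUT) (fun x => (he x x.2 _).symm) (hbig ψ hψ)

/-- Case A: an abelian subgroup of largest order of `N_T(U)` outside `U`. -/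
theorem good_of_offender (hp2 : p ≠ 2) (L : Loc p F E U)
    (hA : ∃ A ∈ maxAbIn (normalizerIn T U), ¬ A ≤ U) (hB : Base F E c)
    (ih : ∀ R : Subgroup Ω, key S U < key S R → ∀ χ ∈ E.Hom R, Fixes F (Subgroup.zpowers c) R χ)
    {a : MulAut U} (ha : a ∈ E.autGroup U) : Good F c U a := by
  haveI := L.finU
  haveI := L.finX
  have hN : normalizerIn T U ≤ S := (normalizerIn_le U).trans L.hTS
  haveI := finite_sub hN
  haveI := finite_sub L.hTS
  have hUN : U ≤ normalizerIn T U := le_normalizerIn L.hUT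
  have hcU := L.hcU hB.cT
  obtain ⟨P, hP⟩ := L.exists_sylow
  have hbig : ∀ φ ∈ E.Hom (normalizerIn T U), Fixes F (Subgroup.zpowers c) (normalizerIn T U) φ :=
    ih _ (key_lt hUN hN hA)
  refine L.autE_le (G := goodSub F L.hUS (centralizerIn_le U hcU)) ?_ (fun a ha hn =>
    good_of_normalizes L hbig ha hn) ha
  refine fun β b hlb => L.good_of_quad hp2 hP hB.cT (fun h hh => ?_) β hlb
  set J := Subgroup.closure (quad p (rho F E U) ∩ (P : Set ↥(xAut F E U))) with hJ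
  let R : Subgroup Ω :=
    { carrier := {t | t ∈ normalizerIn T U ∧ ∃ τ ∈ J, ∀ w, ((τ : MulAut ↥(hull S U)) w : Ω) = t * w * t⁻¹}
      one_mem' := ⟨one_mem _, 1, one_mem _, fun w => by simp⟩
      mul_mem' := fun {s t} ⟨hs, σ, hσ, hσe⟩ ⟨ht, τ, hτ, hτe⟩ => ⟨mul_mem hs ht, σ * τ, mul_mem hσ hτ,
        fun w => by
          show ((σ : MulAut ↥(hull S U)) ((τ : MulAut ↥(hull S U)) w) : Ω) = _
          rw [hσe, hτe]; group⟩
      inv_mem' := fun {s} ⟨hs, σ, hσ, hσe⟩ => ⟨inv_mem hs, σ⁻¹, inv_mem hσ, fun w => by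
        have h1 := hσe ((σ : MulAut ↥(hull S U))⁻¹ w)
        rw [MulAut.apply_inv_self] at h1
        show (((σ : MulAut ↥(hull S U))⁻¹) w : Ω) = _
        rw [h1]; group⟩ }
  have hRN : R ≤ normalizerIn T U := fun t ht => ht.1
  have hquad : ∀ t ∈ normalizerIn T U,
      (∀ v ∈ zSub U, t * (t * v * t⁻¹ * v⁻¹) * t⁻¹ = t * v * t⁻¹ * v⁻¹) → t ∈ R := by
    intro t ht hq
    obtain ⟨τ, hτS, hτe, -⟩ := L.exists_tAut ht
    refine ⟨ht, τ, Subgroup.subset_closure ⟨fun v _ => ?_, hP.ge (Subgroup.mem_subgroupOf.2 hτS)⟩, hτe⟩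
    apply Subtype.ext
    rw [rho_tAut hτe, Subgroup.coe_mul, Subgroup.coe_inv, rho_tAut hτe]
    exact hq v v.2
  have hUR : U ≤ R := fun u hu => hquad u (hUN hu) fun v hv => by
    rw [show u * v * u⁻¹ = v by rw [Subgroup.mem_centralizer_iff.1 hv.2 u hu, mul_inv_cancel_right],
      mul_inv_cancel, mul_one, mul_inv_cancel]
  obtain ⟨A, hAm, hAU, hAq⟩ := exists_quadratic (isPGroup_of_le L.hS hN) hUN (zSub_le U)
    (fun u hu v hv => Subgroup.mem_centralizer_iff.1 hv.2 u hu)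
    (fun g hg v hv => ⟨conj_mem_of_normalizer hg.2 (zSub_le U hv), conj_centralizer hg.2 hv.2⟩) hA
  have hAR : A ≤ R := fun t ht => hquad t (hAm.1 ht) (hAq t ht)
  have hkey : key S U < key S R := key_lt hUR (hRN.trans hN)
    ⟨A, ⟨hAR, hAm.2.1, fun B hB hBc => hAm.2.2 B (hB.trans hRN) hBc⟩, hAU⟩
  obtain ⟨a₁, ha₁, hla₁⟩ := h.2.2.1
  have hTp : IsPGroup p T := isPGroup_of_le L.hS L.hTS
  obtain ⟨χ, hχ, heχ⟩ := FusionP3.Induction.exists_extend_aut (receptive_of_fullyNormalized hTp L.hEs L.fnE)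
    hRN ha₁ fun t ht => by
      obtain ⟨htN, τ, hτJ, hτe⟩ := ht
      have hτ' : h * τ * h⁻¹ ∈ (P : Subgroup ↥(xAut F E U)) :=
        ((Subgroup.closure_le _).2 Set.inter_subset_right : J ≤ (P : Subgroup ↥(xAut F E U))) ((hh _).1 hτJ)
      rw [hP, Subgroup.mem_subgroupOf] at hτ'
      obtain ⟨s, hs, hse⟩ := mem_autInducedBy.1 hτ'
      have hlt : Lifts (τ : MulAut ↥(hull S U)) (U.normalizerMonoidHom ⟨t, htN.2⟩) :=
        fun u => (hτe _).trans rfl
      have hl := (hla₁.mul hlt).mul hla₁.inv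
      obtain ⟨s', hs', hs'e⟩ := mem_autInducedBy.1 (L.autE_inter_autS
        ((E.autGroup U).mul_mem ((E.autGroup U).mul_mem ha₁
          (L.autT_le_autE (mem_autInducedBy.2 ⟨t, htN.1, fun _ => rfl⟩))) ((E.autGroup U).inv_mem ha₁))
        (mem_autInducedBy.2 ⟨s, hs, fun u => (hl u).symm.trans (hse _)⟩))
      refine ⟨s', hs', fun x hx => ?_⟩
      have h1 := hs'e (a₁ x)
      rw [MulAut.mul_apply, MulAut.mul_apply, MulAut.inv_apply_self] at h1
      exact h1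
  exact Subgroup.subset_closure (L.focZ_of_good hcU h hla₁
    (Fixes.restrict hUR (fun x => (heχ x x.2 _).symm) (ih R hkey χ hχ)))

theorem conj_cent {ψ : Ω} {P : Subgroup Ω} (h : ψ ∈ Subgroup.centralizer (P : Set Ω)) {y : Ω} (hy : y ∈ P) :
    y * ψ = ψ * y := Subgroup.mem_centralizer_iff.1 h y hy

/-- Case B: no abelian subgroup of largest order of `N_T(U)` outside `U`. -/
theorem good_of_no_offender (hp2 : p ≠ 2) (L : Loc p F E U)
    (hA : ∀ A ∈ maxAbIn (normalizerIn T U), A ≤ U)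
    (ih : ∀ R : Subgroup Ω, key S U < key S R → ∀ c, Base F E c → ∀ χ ∈ E.Hom R,
      Fixes F (Subgroup.zpowers c) R χ)
    (hB : Base F E c)
    (hbig : ∀ φ ∈ E.Hom (normalizerIn T U), Fixes F (Subgroup.zpowers c) (normalizerIn T U) φ)
    {a : MulAut U} (ha : a ∈ E.autGroup U) : Good F c U a := by
  have hUS := L.hUS
  have hUT := L.hUT
  haveI := L.finU
  haveI := finite_sub L.hTS
  have hsc := L.hsc
  have hTp : IsPGroup p T := isPGroup_of_le L.hS L.hTS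
  set Y := jSub U with hY
  have hYU : Y ≤ U := jSub_le U
  have hYS : Y ≤ S := hYU.trans hUS
  haveI := finite_sub hYS
  have hUN : U ≤ normalizerIn T U := le_normalizerIn hUT
  have hNS : normalizerIn T U ≤ S := (normalizerIn_le U).trans L.hTS
  haveI := finite_sub hNS
  have hrank : abRank (normalizerIn T U) ≤ abRank U := by
    obtain ⟨-, A, hA', he⟩ := exists_maxAb (normalizerIn T U)
    exact he ▸ card_le_abRank (hA A hA') hA'.2.1
  obtain ⟨Y', hYY', hY'n⟩ := exists_isFullyNormalized F hYS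
  -- the image of `U` in `N_S(Y')`
  obtain ⟨η, hη, -, hηY⟩ := exists_normalizer_map L.hS L.hF hY'n hYY'
  have hUNY : U ≤ normalizerIn S Y := (le_normalizerIn hUS).trans (normalizerIn_le_jSub hUS)
  obtain ⟨η₁, hη₁, he₁⟩ := exists_restrict hη hUNY
  set U₁ := η₁.range with hU₁
  have hU₁T : U₁ ≤ T := by
    rintro _ ⟨u, rfl⟩
    exact stronglyClosed_apply_mem hsc hη₁ (hUT u.2)
  have hU₁S : U₁ ≤ S := hU₁T.trans L.hTS
  haveI := finite_sub hU₁S
  have hY'eq : Y' = jSub U₁ := by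
    rw [← hηY, hU₁, ← map_jSub η₁ (F.injective_of_mem hη₁), map_subgroupOf_eq_range
      (hYU.trans hUNY), map_subgroupOf_eq_range hYU]
    exact congrArg MonoidHom.range (MonoidHom.ext fun y => (he₁ (Subgroup.inclusion hYU y)).symm)
  have hY'U : Y' ≤ U₁ := hY'eq ▸ jSub_le U₁
  have hY'T : Y' ≤ T := hY'U.trans hU₁T
  obtain ⟨-, A₁, hA₁, hA₁c⟩ := exists_maxAb U₁
  have hA₁Y : A₁ ≤ Y' := hY'eq ▸ le_jSub hA₁
  have hcY' : centralizerIn T Y' ≤ Y' := by
    intro t ht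
    have hCN : ∀ g ∈ U₁, ∀ x ∈ centralizerIn T Y', g * x * g⁻¹ ∈ centralizerIn T Y' := fun g hg x hx =>
      ⟨T.mul_mem (T.mul_mem (hU₁T hg) hx.1) (T.inv_mem (hU₁T hg)), conj_centralizer (by
        haveI := finite_sub hY'n.1
        refine mem_normalizer_of_conj_mem fun y hy => ?_
        rw [hY'eq] at hy ⊢
        exact conj_jSub_le (Subgroup.le_normalizer hg) y hy) hx.2⟩
    by_cases hle : centralizerIn T Y' ≤ U₁
    · exact hA₁Y (mem_of_centralizes le_rfl le_rfl hA₁ (hle ht) fun x hx =>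
        (mem_centralizerIn.1 ht).2 x (hA₁Y hx))
    exfalso
    haveI := finite_sub ((centralizerIn_le (S := T) Y').trans L.hTS)
    set X := U₁ ⊔ centralizerIn T Y' with hX
    have hXT : X ≤ T := sup_le hU₁T (centralizerIn_le _)
    haveI := finite_sub (hXT.trans L.hTS)
    have hlt : U₁ < X := lt_of_le_of_ne le_sup_left fun h => hle (h ▸ le_sup_right)
    obtain ⟨g, ⟨hgX, hgN⟩, hgU⟩ := SetLike.exists_of_lt
      (FusionP3.Induction.lt_normalizerIn (isPGroup_of_le L.hS (hXT.trans L.hTS)) hlt)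
    have hnorm : U₁ ≤ Subgroup.normalizer (centralizerIn T Y' : Set Ω) := fun u hu =>
      mem_normalizer_of_conj_mem (hCN u hu)
    have hg' : g ∈ ((X : Subgroup Ω) : Set Ω) := hgX
    rw [hX, Subgroup.coe_mul_of_left_le_normalizer_right U₁ (centralizerIn T Y') hnorm] at hg'
    obtain ⟨u, hu, t₁, ht₁, rfl⟩ := hg'
    have ht₁N : t₁ ∈ normalizerIn S U₁ := by
      refine ⟨L.hTS ht₁.1, ?_⟩
      have := mul_mem (inv_mem (Subgroup.le_normalizer hu)) hgN
      rwa [inv_mul_cancel_left] at this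
    have hconj₁ : F.IsConj U₁ U := isConj_symm ⟨η₁, hη₁, rfl⟩
    obtain ⟨θ, hθ, hθm, hθU⟩ := exists_normalizer_map L.hS L.hF L.fn hconj₁
    obtain ⟨θ₁, hθ₁, heθ₁⟩ := exists_restrict hθ (le_normalizerIn hU₁S)
    have hθr : θ₁.range = U := by
      rw [← hθU, map_subgroupOf_eq_range (le_normalizerIn hU₁S) θ]
      exact congrArg MonoidHom.range (MonoidHom.ext fun u => heθ₁ u)
    set A₀ := (A₁.subgroupOf U₁).map θ₁ with hA₀
    have hA₀U : A₀ ≤ U := hθr ▸ Subgroup.map_le_range _ _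
    have hA₀m : A₀ ∈ maxAbIn U := by
      have h := Transfer.AbelianJ.map_mem_maxAbIn θ₁ (F.injective_of_mem hθ₁) (P := ⊤)
        (A := A₁.subgroupOf U₁) ⟨le_top,
          Transfer.AbelianJ.isMulCommutative_comap U₁.subtype U₁.subtype_injective hA₁.2.1, fun B _ hB => by
          have h := hA₁.2.2 (B.map U₁.subtype) (Subgroup.map_subtype_le B)
            (Transfer.AbelianJ.isMulCommutative_map _ hB)
          rw [Subgroup.card_map_of_injective U₁.subtype_injective] at h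
          rwa [← Subgroup.map_subgroupOf_eq_of_le hA₁.1,
            Subgroup.card_map_of_injective U₁.subtype_injective] at h⟩
      rwa [← MonoidHom.range_eq_map, hθr] at h
    have hmem : θ ⟨t₁, ht₁N⟩ ∈ A₀ := by
      refine mem_of_centralizes hUN hrank hA₀m
        ⟨stronglyClosed_apply_mem hsc hθ (x := ⟨t₁, ht₁N⟩) ht₁.1, (hθm _).2⟩ ?_
      rintro _ ⟨⟨x, hxU⟩, hxA, rfl⟩
      rw [heθ₁, ← map_mul, ← map_mul]
      exact congrArg θ (Subtype.ext ((mem_centralizerIn.1 ht₁).2 x (hA₁Y hxA)))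
    obtain ⟨⟨x, hxU⟩, hxA, hxe⟩ := hmem
    rw [heθ₁] at hxe
    have : t₁ = x := congrArg Subtype.val (F.injective_of_mem hθ hxe.symm)
    exact hgU (U₁.mul_mem hu (this ▸ hxU))
  have hYc : CentricT F T Y := by
    refine ⟨hYU.trans hUT, fun R hR t ht => ?_⟩
    obtain ⟨θ, hθ, -, hθR⟩ := exists_normalizer_map L.hS L.hF hY'n (isConj_trans (isConj_symm hR) hYY')
    have htS : t ∈ S := L.hTS ht.1
    have htN : t ∈ normalizerIn S R := ⟨htS, Subgroup.centralizer_le_normalizer _ ht.2⟩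
    have hmem : θ ⟨t, htN⟩ ∈ centralizerIn T Y' := by
      refine mem_centralizerIn.2 ⟨stronglyClosed_apply_mem hsc hθ (x := ⟨t, htN⟩) ht.1, ?_⟩
      rw [← hθR]
      rintro _ ⟨w, hw, rfl⟩
      rw [← map_mul, ← map_mul]
      exact congrArg θ (Subtype.ext ((mem_centralizerIn.1 ht).2 w hw))
    obtain ⟨w, hw, he⟩ := hθR.ge (hcY' hmem)
    exact (show (w : Ω) = t from congrArg Subtype.val (F.injective_of_mem hθ he)) ▸ hw
  -- automorphisms of `Y` fix `c`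
  have hkY : key S Y = key S U := key_jSub hUS
  have hYT : Y ≤ T := hYU.trans hUT
  have hNY : normalizerIn T Y ≤ S := (normalizerIn_le Y).trans L.hTS
  haveI := finite_sub hNY
  have hgoodY : ∀ b ∈ E.autGroup Y, Good F c Y b := by
    by_cases hlt : key S Y < key S (normalizerIn T Y)
    · obtain ⟨c', hc', hback⟩ := exists_move L.hS L.normal hYT hB
        (ih _ (hkY ▸ hlt) c hB) hY'n hYY'
      refine hback fun b hb => ?_
      have hLY : Loc p F E Y' := ⟨L.hS, L.normal, hY'n, hY'T, fun R hR =>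
        hYc.2 R (isConj_trans hYY' hR)⟩
      refine good_of_offender hp2 hLY ?_ hc' (fun R hR => ih R (by
        rwa [key_conj hYS hYY', hkY] at hR) c' hc') hb
      by_contra hcon
      push Not at hcon
      haveI := finite_sub ((normalizerIn_le (S := T) Y').trans L.hTS)
      have h1 := key_le_of_forall (le_normalizerIn hY'T) ((normalizerIn_le Y').trans L.hTS) hcon
      rw [key_conj hYS hYY'] at h1
      exact absurd (hlt.trans_le ((key_normalizer_le L.hS L.normal hY'n hYY').trans h1)) (lt_irrefl _)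
    · have hJ : jSub (normalizerIn T Y) = Y := by
        refine le_antisymm (sSup_le fun A hA' => ?_) ?_
        · have := maxAb_le_jSub (le_normalizerIn hYT) hNY (not_lt.1 hlt) hA'
          exact this.trans (jSub_le Y)
        · have hle := le_normalizerIn (S := T) hYT
          have hr : abRank Y = abRank (normalizerIn T Y) := by
            refine le_antisymm (abRank_mono hle) ?_
            obtain ⟨-, A, hA', he⟩ := exists_maxAb (normalizerIn T Y)
            exact he ▸ card_le_abRank ((maxAb_le_jSub hle hNY (not_lt.1 hlt) hA').trans (jSub_le Y)) hA'.2.1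
          calc Y = jSub Y := jSub_jSub.symm
            _ ≤ jSub (normalizerIn T Y) := jSub_mono hle hr
      have hNT : normalizerIn T Y = T := by
        by_contra hne
        have hlt' := FusionP3.Induction.lt_normalizerIn hTp (lt_of_le_of_ne (normalizerIn_le Y) hne)
        refine hlt'.not_ge fun g hg => ⟨hg.1, ?_⟩
        refine mem_normalizer_of_conj_mem fun y hy => ?_
        have := conj_jSub_le hg.2 y (hJ.symm ▸ hy)
        rwa [hJ] at this
      rw [hNT] at hJ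
      rw [← hJ]
      exact hB.onJ
  -- finish
  obtain ⟨P, hP⟩ := L.exists_sylow
  have hcU := L.hcU hB.cT
  refine L.good_of_commute hP hB.cT (fun β t ht => ?_) (fun a ha hn => good_of_normalizes L hbig ha hn) ha
  obtain ⟨a₁, ha₁, hla₁⟩ := β.2.2.1
  obtain ⟨φ₁, hφ₁, hr₁, heφ₁⟩ := exists_hom_of_aut hUT ha₁
  obtain ⟨φY, hφY, heY⟩ := exists_restrict hφ₁ hYU
  have haY : ∀ y : Y, φY y ∈ Y := fun y => by
    rw [heY]
    exact map_jSub_mem hφ₁ hr₁ ⟨y, hYU y.2⟩ y.2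
  have hrY : φY.range = Y := range_eq_of_mem hφY haY le_rfl
  obtain ⟨b, hb, hb1, hb2⟩ := hgoodY _ (homEquiv_mem_autGroup hφY hrY)
  set x : Ω := ((β : MulAut ↥(hull S U)) ⟨c, (le_sup_right : _ ≤ hull S U) hcU⟩ : Ω) with hx
  have hxC : x ∈ centralizerIn S U := (β.2.2.2.1 _).1.2 hcU
  have hsrc : Y ⊔ Subgroup.zpowers x ≤ hull S U :=
    sup_le (hYU.trans le_sup_left) ((Subgroup.zpowers_le.2 hxC).trans le_sup_right)
  obtain ⟨βi, hβi, heβi⟩ := exists_restrict ((mem_autGroup L.hullS).1 ((F.autGroup _).inv_mem β.2.1)) hsrc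
  have hβx : βi (Subgroup.inclusion le_sup_right ⟨x, Subgroup.mem_zpowers x⟩) = c := by
    rw [heβi]
    exact congrArg Subtype.val (MulAut.inv_apply_self _ (β : MulAut ↥(hull S U)) _)
  have hβY : ∀ y : Y, βi (Subgroup.inclusion le_sup_left y) = ((homEquiv hφY hrY).symm y : Ω) := by
    intro y
    rw [heβi]
    refine (hla₁.inv ⟨y, hYU y.2⟩).trans ?_
    have h1 : (a₁ ⟨((homEquiv hφY hrY).symm y : Ω), hYU ((homEquiv hφY hrY).symm y).2⟩ : U) =
        (⟨y, hYU y.2⟩ : U) := Subtype.ext (by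
      rw [← heφ₁]
      exact ((heY _).symm.trans (homEquiv_symm_apply hφY hrY y)))
    rw [← h1, MulAut.inv_apply_self]
  have hm : ∀ w, βi w ∈ Y ⊔ Subgroup.zpowers c := mapsTo_sup
    (fun y => by rw [hβY]; exact (le_sup_left : Y ≤ Y ⊔ _) ((homEquiv hφY hrY).symm y).2)
    (zpowers_map_mem (βi.comp (Subgroup.inclusion le_sup_right)) (by
      show βi _ ∈ _
      rw [hβx]
      exact (le_sup_right : _ ≤ Y ⊔ Subgroup.zpowers c) (Subgroup.mem_zpowers c)))
  obtain ⟨v, hv, hev⟩ := exists_comp hβi hb hm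
  have hvR : ∀ r : Y, v (Subgroup.inclusion le_sup_left r) = r := by
    intro r
    rw [hev, show (⟨βi (Subgroup.inclusion le_sup_left r), hm _⟩ : ↥(Y ⊔ Subgroup.zpowers c)) =
      Subgroup.inclusion le_sup_left ((homEquiv hφY hrY).symm r) from Subtype.ext (hβY r), hb1]
    exact congrArg Subtype.val ((homEquiv hφY hrY).apply_symm_apply r)
  have hvx : v (Subgroup.inclusion le_sup_right ⟨x, Subgroup.mem_zpowers x⟩) = c := by
    rw [hev, show (⟨βi (Subgroup.inclusion le_sup_right ⟨x, Subgroup.mem_zpowers x⟩), hm _⟩ :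
      ↥(Y ⊔ Subgroup.zpowers c)) = Subgroup.inclusion le_sup_right ⟨c, Subgroup.mem_zpowers c⟩ from
        Subtype.ext hβx]
    exact hb2 _
  have htY : t ∈ Subgroup.normalizer (Y : Set Ω) :=
    mem_normalizer_of_conj_mem (conj_jSub_le ht.2)
  have h1 : t * x = x * t := commute_conj L.hS L.hF hsc hYc
    (centralizerIn_anti hYU hxC) hv hvR (hvx.symm ▸ hB.cT) ht.1 htY
  have h2 : t * c = c * t := (mem_centralizerIn.1 hB.cT).2 t ht.1
  show t * (c⁻¹ * x) * t⁻¹ = c⁻¹ * x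
  exact mul_inv_eq_iff_eq_mul.2 ((Commute.inv_right h2).mul_right h1).eq

/-- For `p` odd an element of `C_S(T)` fixed by the automorphisms of `J(T)` and `T` is centralised by `E`. -/
theorem fixes_of_base (hp2 : p ≠ 2) (hS : IsPGroup p S) (hE : E.IsNormalIn F p) :
    ∀ (P : Subgroup Ω) (φ : P →* Ω), φ ∈ E.Hom P → ∀ c, Base F E c → Fixes F (Subgroup.zpowers c) P φ := by
  have hsc := hE.1.2.2.2.1
  have hTS := hsc.1
  haveI := finite_sub hTS
  have hTp : IsPGroup p T := isPGroup_of_le hS hTS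
  suffices h : ∀ n : ℕ, ∀ (P : Subgroup Ω) (φ : P →* Ω), φ ∈ E.Hom P → key S T + 1 ≤ key S P + n →
      ∀ c, Base F E c → Fixes F (Subgroup.zpowers c) P φ from
    fun P φ hφ => h (key S T + 1) P φ hφ (Nat.le_add_left _ _)
  intro n
  induction n with
  | zero =>
    intro P φ hφ hk
    have := key_mono (S := S) (src_le hφ) hTS
    omega
  | succ n ih =>
    refine FusionP3.Induction.hom_induction hTp hE.1.1
      (M := fun P φ => key S T + 1 ≤ key S P + (n + 1) →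
        ∀ c, Base F E c → Fixes F (Subgroup.zpowers c) P φ) ?_ ?_ ?_
    · intro P Q φ ψ χ hφ hψ h he h1 h2 hk c hc
      refine Fixes.comp h he (h1 hk c hc) (h2 ?_ c hc)
      haveI := finite_sub ((src_le hφ).trans hTS)
      refine hk.trans (Nat.add_le_add_right ?_ _)
      rw [← key_range (S := S) φ (E.injective_of_mem hφ)]
      refine key_mono ?_ ((src_le hψ).trans hTS)
      rintro _ ⟨x, rfl⟩
      exact h x
    · intro P Q φ ψ h hψ he h1 hk c hc
      exact Fixes.restrict h he (h1 (hk.trans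
        (Nat.add_le_add_right (key_mono h ((src_le hψ).trans hTS)) _)) c hc)
    intro U hUn hUc _ α hα big hk c hc
    have hUT : U ≤ T := hUn.1
    have hUS : U ≤ S := hUT.trans hTS
    haveI := finite_sub hUS
    show Good F c U α
    rcases eq_or_lt_of_le hUT with rfl | hlt
    · exact hc.onT α hα
    have hN : normalizerIn T U ≤ S := (normalizerIn_le U).trans hTS
    haveI := finite_sub hN
    have hbig : ∀ c, Base F E c → ∀ φ ∈ E.Hom (normalizerIn T U),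
        Fixes F (Subgroup.zpowers c) (normalizerIn T U) φ := fun c hc φ hφ => big _ (by
      have h1 := FusionP3.Induction.lt_normalizerIn hTp hlt
      refine lt_of_le_of_ne (Subgroup.card_le_of_le h1.le) fun h => h1.ne ?_
      exact Subgroup.eq_of_le_of_card_ge h1.le h.ge) φ hφ
      (hk.trans (Nat.add_le_add_right (key_mono (le_normalizerIn hUT) hN) _)) c hc
    obtain ⟨U', hUU', hU'n⟩ := exists_isFullyNormalized F hUS
    obtain ⟨c', hc', hback⟩ := exists_move hS hE hUT hc (hbig c hc) hU'n hUU'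
    refine hback (fun a' ha' => ?_) α hα
    have hcen := centricT_of_centric hE hUc
    have hU'T : U' ≤ T := by
      obtain ⟨φ, hφ, rfl⟩ := hUU'
      rintro _ ⟨u, rfl⟩
      exact stronglyClosed_apply_mem hsc hφ (hUT u.2)
    have L : Loc p F E U' := ⟨hS, hE, hU'n, hU'T, fun R hR => hcen.2 R (isConj_trans hUU' hR)⟩
    have hkU : key S U' = key S U := key_conj hUS hUU'
    have ihU : ∀ R : Subgroup Ω, key S U' < key S R → ∀ c, Base F E c → ∀ χ ∈ E.Hom R,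
        Fixes F (Subgroup.zpowers c) R χ := fun R hR c hc χ hχ => ih R χ hχ (by omega) c hc
    by_cases hA : ∃ A ∈ maxAbIn (normalizerIn T U'), ¬ A ≤ U'
    · exact good_of_offender hp2 L hA hc' (fun R hR => ihU R hR c' hc') ha'
    push Not at hA
    refine good_of_no_offender hp2 L hA ihU hc' (fun φ hφ => ?_) ha'
    have hlt' : U' < T := lt_of_le_of_ne hU'T fun h => by
      have h1 : Nat.card U' = Nat.card U := isConj_card hUU'
      rw [h] at h1
      exact hlt.ne (Subgroup.eq_of_le_of_card_ge hUT h1.le)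
    refine big _ ?_ φ hφ ?_ c' hc'
    · have h1 := FusionP3.Induction.lt_normalizerIn hTp hlt'
      haveI := finite_sub ((normalizerIn_le (S := T) U').trans hTS)
      rw [← isConj_card hUU']
      refine lt_of_le_of_ne (Subgroup.card_le_of_le h1.le) fun h => h1.ne ?_
      exact Subgroup.eq_of_le_of_card_ge h1.le h.ge
    · have := key_mono (S := S) (le_normalizerIn (S := T) hU'T) ((normalizerIn_le U').trans hTS)
      omega

/-- `J(T)` as a local set-up. -/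
theorem loc_jSub (hS : IsPGroup p S) (hE : E.IsNormalIn F p) : Loc p F E (jSub T) := by
  have hsc := hE.1.2.2.2.1
  have hTS := hsc.1
  haveI := finite_sub hTS
  have hJS : jSub T ≤ S := (jSub_le T).trans hTS
  haveI := finite_sub (normalizerIn_le (S := S) (jSub T))
  refine ⟨hS, hE, ⟨hJS, fun Q _ => Subgroup.card_le_of_le ((normalizerIn_le Q).trans ?_)⟩, jSub_le T, ?_⟩
  · have h : normalizerIn S T = S := inf_eq_left.2 (stronglyClosed_le_normalizer hsc)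
    exact h.ge.trans (normalizerIn_le_jSub hTS)
  rintro _ ⟨φ, hφ, rfl⟩ t ⟨htT, htC⟩
  obtain ⟨-, A, hA, hAc⟩ := exists_maxAb T
  have hAJ : A ≤ jSub T := le_jSub hA
  haveI := finite_sub (hA.1.trans hTS)
  obtain ⟨φA, hφA, he⟩ := exists_restrict hφ hAJ
  have hA'T : φA.range ≤ T := by
    rintro _ ⟨x, rfl⟩
    exact stronglyClosed_apply_mem hsc hφA (hA.1 x.2)
  have hA' : φA.range ∈ maxAbIn T := by
    refine ⟨hA'T, ?_, fun B hB hBc => ?_⟩
    · rw [MonoidHom.range_eq_map]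
      refine Transfer.AbelianJ.isMulCommutative_map φA (.of_setLike_mul_comm fun x _ y _ => Subtype.ext ?_)
      exact congrArg Subtype.val (hA.2.1.is_comm.comm x y)
    · rw [card_range hφA, hAc]
      exact card_le_abRank hB hBc
  have ht : t ∈ φA.range := mem_of_centralizes le_rfl le_rfl hA' htT fun x hx => by
    obtain ⟨y, rfl⟩ := hx
    rw [he]
    exact Subgroup.mem_centralizer_iff.1 htC _ ⟨_, rfl⟩
  obtain ⟨y, hy⟩ := ht
  exact ⟨_, (he y).symm.trans hy⟩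

/-- Every element of `C_S(T)` has a translate by `Z(T)` centralised by the automorphisms of `J(T)` and `T`. -/
theorem exists_base (hS : IsPGroup p S) (hE : E.IsNormalIn F p) (hc : c ∈ centralizerIn S T) :
    ∃ z ∈ T, Base F E (c * z) := by
  have hsc := hE.1.2.2.2.1
  have hF := hE.1.2.1
  have hTS := hsc.1
  haveI := finite_sub hTS
  have hNT : normalizerIn T (jSub T) = T := inf_eq_left.2 fun g hg =>
    (haveI := finite_sub ((jSub_le T).trans hTS)
     mem_normalizer_of_conj_mem (conj_jSub_le (Subgroup.le_normalizer hg)))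
  -- `J(T)`
  have L₀ := loc_jSub hS hE
  obtain ⟨P₀, hP₀⟩ := L₀.exists_sylow
  obtain ⟨z₀, -, hz₀, hg₀⟩ := L₀.exists_translate hP₀ hc (W := ⊤) le_top fun _ => Subgroup.mem_top _
  have hz₀T : (z₀ : Ω) ∈ T := L₀.hUT (zSub_le _ z₀.2)
  have hz₀C : (z₀ : Ω) ∈ centralizerIn S T := mem_centralizerIn.2 ⟨hTS hz₀T, fun t ht => by
    conv_rhs => rw [← hz₀ t (by rw [hNT]; exact ht)]
    group⟩
  set c₁ := c * z₀ with hc₁
  have hc₁T : c₁ ∈ centralizerIn S T := (centralizerIn S T).mul_mem hc hz₀C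
  replace hg₀ := hg₀ hc₁T
  -- `T`
  have L₁ : Loc p F E T := ⟨hS, hE, ⟨hTS, fun Q _ => by
      rw [show normalizerIn S T = S from inf_eq_left.2 (stronglyClosed_le_normalizer hsc)]
      exact Subgroup.card_le_of_le (normalizerIn_le Q)⟩, le_rfl, fun R hR => by
    obtain ⟨φ, hφ, rfl⟩ := hR
    have hr : φ.range = T := range_eq_of_mem hφ (fun x => stronglyClosed_apply_mem hsc hφ x.2) le_rfl
    rw [hr]
    exact centralizerIn_le T⟩
  obtain ⟨P₁, hP₁⟩ := L₁.exists_sylow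
  obtain ⟨D, hD⟩ := exists_centralizerSystem F hTS
  have hzJ : ∀ z : ↥(zSub T), (z : Ω) ∈ zSub (jSub T) := fun z => by
    have h1 : (z : Ω) ∈ Subgroup.centralizer (jSub T : Set Ω) :=
      Subgroup.centralizer_le (jSub_le T) z.2.2
    exact ⟨L₀.cen.2 _ (isConj_refl F ((jSub_le T).trans hTS)) ⟨zSub_le T z.2, h1⟩, h1⟩
  let W : Subgroup ↥(zSub T) :=
    { carrier := {z | ∀ γ : ↥(xAut F E (jSub T)),
        rho F E (jSub T) γ ⟨z, hzJ z⟩ = ⟨z, hzJ z⟩}
      one_mem' := fun γ => by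
        rw [show (⟨((1 : ↥(zSub T)) : Ω), hzJ 1⟩ : ↥(zSub (jSub T))) = 1 from Subtype.ext rfl, map_one]
      mul_mem' := fun {a b} ha hb γ => by
        rw [show (⟨((a * b : ↥(zSub T)) : Ω), hzJ (a * b)⟩ : ↥(zSub (jSub T))) =
          ⟨a, hzJ a⟩ * ⟨b, hzJ b⟩ from Subtype.ext rfl, map_mul, ha γ, hb γ]
      inv_mem' := fun {a} ha γ => by
        rw [show (⟨((a⁻¹ : ↥(zSub T)) : Ω), hzJ a⁻¹⟩ : ↥(zSub (jSub T))) =
          (⟨a, hzJ a⟩ : ↥(zSub (jSub T)))⁻¹ from Subtype.ext rfl, map_inv, ha γ] }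
  have hDW : focSub F T ≤ W := (Subgroup.closure_le _).2 fun z hz γ => by
    obtain ⟨a, ha, hla⟩ := γ.2.2.1
    obtain ⟨ψ, hψ, hψ1, hψ2⟩ := fixes_focal hS hE hD _ _ ((mem_autGroup (jSub_le T)).1 ha)
    have hzf := L₁.focZ_mem_focal hz hD
    apply Subtype.ext
    rw [rho_apply]
    refine (hla ⟨z, zSub_le _ (hzJ z)⟩).trans ?_
    exact (hψ1 ⟨z, zSub_le _ (hzJ z)⟩).symm.trans (hψ2 ⟨z, hzf⟩)
  have hcJ := L₀.hcU hc₁T
  have hW : ∀ β, dval F E (L₁.hcU hc₁T) β ∈ W := by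
    intro β γ
    have hcX : c₁ ∈ hull S T := (le_sup_right : _ ≤ hull S T) (L₁.hcU hc₁T)
    have hTX : T ≤ hull S T := le_sup_left
    have hJX : jSub T ≤ hull S T := (jSub_le T).trans hTX
    set c₂ : Ω := ((β : MulAut ↥(hull S T)) ⟨c₁, hcX⟩ : Ω) with hc₂
    have hc₂T : c₂ ∈ centralizerIn S T := (β.2.2.2.1 _).1.2 (L₁.hcU hc₁T)
    have hψ := (mem_autGroup L₁.hullS).1 β.2.1
    obtain ⟨α, hα, hlα⟩ := β.2.2.1
    obtain ⟨φT, hφT, hrT, heT⟩ := exists_hom_of_aut le_rfl hα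
    obtain ⟨φJ, hφJ, heJ⟩ := exists_restrict hφT (jSub_le T)
    haveI := L₀.finU
    have hrJ : φJ.range = jSub T := range_eq_of_mem hφJ (fun y => by
      rw [heJ]; exact map_jSub_mem hφT hrT ⟨y, jSub_le T y.2⟩ y.2) le_rfl
    have hgood₂ : ∀ (δ : ↥(xAut F E (jSub T))) (b : MulAut ↥(jSub T)),
        Lifts (δ : MulAut ↥(hull S (jSub T))) b → Good F c₂ (jSub T) b := by
      intro δ b hlb
      obtain ⟨g, hg, hlg⟩ := L₀.exists_lift ((mem_autGroup L₀.hUS).2 (L₀.hsub _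
        ((mem_autGroup L₀.hUT).1 (homEquiv_mem_autGroup hφJ hrJ))))
      have hl := ((hlg.inv.mul hlb).mul hlg)
      have hmem := L₀.normal_mem (inv_mem hg) δ.2
      rw [inv_inv] at hmem
      refine Good.transport hψ hJX hcX (fun y => ⟨(homEquiv hφJ hrJ).symm y, ?_⟩) (fun u y he => ?_)
        (hg₀ ⟨_, hmem⟩ _ hl)
      · show ((β : MulAut ↥(hull S T)) (Subgroup.inclusion hJX ((homEquiv hφJ hrJ).symm y)) : Ω) = y
        refine (hlα ⟨_, jSub_le T ((homEquiv hφJ hrJ).symm y).2⟩).trans ?_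
        rw [← heT, ← heJ]
        exact homEquiv_symm_apply hφJ hrJ y
      · have hval : ∀ v : ↥(jSub T), ((β : MulAut ↥(hull S T)) ⟨v, hJX v.2⟩ : Ω) = homEquiv hφJ hrJ v :=
          fun v => (hlα ⟨v, jSub_le T v.2⟩).trans (((heT _).symm).trans (heJ v).symm)
        obtain rfl : y = homEquiv hφJ hrJ u := Subtype.ext (he.symm.trans (hval u))
        show ((b _ : ↥(jSub T)) : Ω) = ((β : MulAut ↥(hull S T)) _ : Ω)
        rw [hval]
        exact congrArg Subtype.val (MulAut.apply_inv_self _ (homEquiv hφJ hrJ : MulAut ↥(jSub T)) _).symm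
    set w : ↥(zSub (jSub T)) := ⟨(dval F E (L₁.hcU hc₁T) β : Ω), hzJ _⟩ with hw
    have hc₂e : c₁ * (w : Ω) = c₂ := mul_inv_cancel_left _ _
    have hcw : c₁ * (w : Ω) ∈ centralizerIn S (jSub T) := hc₂e.symm ▸ L₀.hcU hc₂T
    haveI := L₀.finX
    haveI := L₀.finZ
    set f : ↥(xAut F E (jSub T)) → ↥(zSub (jSub T)) := fun δ => rho F E (jSub T) δ w * w⁻¹ with hf
    have hfD : ∀ δ, f δ ∈ focSub F (jSub T) := by
      intro δ
      obtain ⟨b, -, hlb⟩ := δ.2.2.1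
      have h1 : dval F E hcJ δ ∈ focSub F (jSub T) :=
        Subgroup.subset_closure (L₀.focZ_of_good hcJ δ hlb (hg₀ δ b hlb))
      have h2 : dval F E hcw δ ∈ focSub F (jSub T) :=
        Subgroup.subset_closure (L₀.focZ_of_good hcw δ hlb (hc₂e.symm ▸ hgood₂ δ b hlb))
      rw [dval_translate hcJ w hcw] at h2
      have h3 := (focSub F (jSub T)).mul_mem ((focSub F (jSub T)).inv_mem h1) h2
      rwa [inv_mul_cancel_left] at h3
    have hfc : IsCrossed (rho F E (jSub T)) f := fun x y => by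
      show rho F E (jSub T) (x * y) w * w⁻¹ = rho F E (jSub T) x w * w⁻¹ * rho F E (jSub T) x _
      rw [map_mul (rho F E (jSub T)), MulAut.mul_apply, map_mul, map_inv, mul_comm (rho F E (jSub T) x w),
        mul_assoc, mul_left_comm (rho F E (jSub T) x w), mul_inv_cancel, mul_one, mul_comm]
    have hfP : ∀ y ∈ P₀, f y = 1 := by
      intro y hy
      obtain ⟨t, ht, τ, -, κ, hκ, rfl, hτ, -⟩ := L₀.sylow_decomp hP₀ hy
      show rho F E (jSub T) (τ * κ) w * w⁻¹ = 1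
      rw [map_mul, MulAut.mul_apply, rho_kSub hκ, mul_inv_eq_one]
      apply Subtype.ext
      rw [rho_tAut hτ]
      show t * (dval F E (L₁.hcU hc₁T) β : Ω) * t⁻¹ = dval F E (L₁.hcU hc₁T) β
      rw [Subgroup.mem_centralizer_iff.1 (dval F E (L₁.hcU hc₁T) β).2.2 t ht.1, mul_inv_cancel_right]
    have := eq_one_of_fixed hfc L₀.pZ (fun x y => rho_focSub x (hfD y)) P₀ hfP γ
    exact mul_inv_eq_one.1 this
  obtain ⟨z₁, hz₁W, hz₁, hg₁⟩ := L₁.exists_translate hP₁ hc₁T hDW hW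
  have hz₁T : (z₁ : Ω) ∈ T := zSub_le T z₁.2
  set c₂ := c₁ * z₁ with hc₂
  have hc₂T : c₂ ∈ centralizerIn S T :=
    (centralizerIn S T).mul_mem hc₁T (mem_centralizerIn.2 ⟨hTS hz₁T, fun t ht =>
      Subgroup.mem_centralizer_iff.1 z₁.2.2 t ht⟩)
  replace hg₁ := hg₁ hc₂T
  have hT : ∀ a ∈ E.autGroup T, Good F c₂ T a := by
    intro a ha
    obtain ⟨β, hβ, hl, hm⟩ := hE.2 a ha
    refine hg₁ ⟨β, hβ, ⟨a, ha, hl⟩, fun w => ⟨L₁.aut_cent_iff hβ w, fun hw => (hm w hw).1⟩,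
      fun z hz => Subtype.ext ?_⟩ a hl
    obtain ⟨ψ, hψ, hψ1, hψ2⟩ := fixes_focal hS hE hD _ _ ((mem_autGroup le_rfl).1 ha)
    refine (hl ⟨z, zSub_le T hz.1⟩).trans ?_
    exact (hψ1 ⟨z, zSub_le T hz.1⟩).symm.trans (hψ2 ⟨z, L₁.focZ_mem_focal hz hD⟩)
  refine ⟨(z₀ : Ω) * z₁, T.mul_mem hz₀T hz₁T, ?_⟩
  rw [← mul_assoc]
  refine ⟨hc₂T, ?_, hT⟩
  haveI := L₀.finU
  have hc₂S : c₂ ∈ S := centralizerIn_le T hc₂T
  intro a ha
  refine L₀.autE_le (G := goodSub F L₀.hUS hc₂S) (fun β b hlb => ?_) (fun b hb hn => ?_) ha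
  · show Good F c₂ (jSub T) b
    obtain ⟨ψ, hψ, hψ1, hψ2⟩ := hg₀ β b hlb
    have hzz := hzJ z₁
    have hle : jSub T ⊔ Subgroup.zpowers c₂ ≤ jSub T ⊔ Subgroup.zpowers c₁ :=
      sup_le le_sup_left (Subgroup.zpowers_le.2 (mul_mem
        ((le_sup_right : _ ≤ jSub T ⊔ Subgroup.zpowers c₁) (Subgroup.mem_zpowers c₁))
        ((le_sup_left : jSub T ≤ jSub T ⊔ _) (zSub_le _ hzz))))
    obtain ⟨ψ', hψ', he'⟩ := exists_restrict hψ hle
    refine ⟨ψ', hψ', fun u => by rw [he']; exact hψ1 u, ?_⟩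
    refine zpowers_map_eq (ψ'.comp (Subgroup.inclusion le_sup_right)) (Subgroup.zpowers c₂).subtype ?_
    show ψ' _ = c₂
    rw [he', show (⟨((Subgroup.inclusion le_sup_right ⟨c₂, Subgroup.mem_zpowers c₂⟩ :
        ↥(jSub T ⊔ Subgroup.zpowers c₂)) : Ω), hle (Subgroup.inclusion le_sup_right
          ⟨c₂, Subgroup.mem_zpowers c₂⟩).2⟩ : ↥(jSub T ⊔ Subgroup.zpowers c₁)) =
      Subgroup.inclusion le_sup_right ⟨c₁, Subgroup.mem_zpowers c₁⟩ *
        Subgroup.inclusion le_sup_left ⟨(z₁ : Ω), zSub_le _ hzz⟩ from rfl, map_mul, hψ2, hψ1]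
    show c₁ * (b ⟨(z₁ : Ω), zSub_le _ hzz⟩ : Ω) = c₁ * z₁
    congr 1
    rw [← hlb]
    exact congrArg Subtype.val (hz₁W β)
  · show Good F c₂ (jSub T) b
    refine good_of_normalizes L₀ (fun φ hφ => ?_) hb hn
    have key : ∀ N : Subgroup Ω, N = T → ∀ φ ∈ E.Hom N, Fixes F (Subgroup.zpowers c₂) N φ := by
      rintro N hN φ hφ
      subst N
      have hr : φ.range = T := range_eq_of_mem hφ (apply_mem hφ) le_rfl
      obtain ⟨ψ, hψ, hψ1, hψ2⟩ := hT _ (homEquiv_mem_autGroup hφ hr)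
      exact ⟨ψ, hψ, hψ1, hψ2⟩
    exact key _ hNT φ hφ

/-- For `p` odd every element of `C_S(T)` has a translate by `Z(T)` centralised by `E`. -/
theorem exists_centralized_translate (hp2 : p ≠ 2) (hS : IsPGroup p S) (hE : E.IsNormalIn F p)
    (hc : c ∈ centralizerIn S T) : ∃ z ∈ T, Centralized F E (c * z) := by
  obtain ⟨z, hz, hB⟩ := exists_base hS hE hc
  exact ⟨z, hz, hB.cT, fun P φ hφ => fixes_of_base hp2 hS hE P φ hφ _ hB⟩

end Cfsg.Agent.Lib.FS.NormalCentralizer.Odd
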