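import Mathlib
import Cfsg.Agent.Lib.FusionSystem.NormalCentralizerOdd

/-!
A normal subsystem over `T` moves the elements of a normal subgroup `K` only within their cosets of `K ∩ T`.
-/

set_option autoImplicit false
set_option linter.style.haveILetI false
set_option linter.unusedSectionVars false

namespace Cfsg.Agent.Lib.FS

open Cfsg Cfsg.FusionSystem Cfsg.Agent.Lib Cfsg.Agent.Lib.FS.NormalCentralizer
open Cfsg.Agent.Lib.FS.NormalCentralizer.Odd

variable {Ω : Type*} [Group Ω] {S T : Subgroup Ω} {p : ℕ}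
  {F : FusionSystem S} {E : FusionSystem T} {U K : Subgroup Ω}

/-- Conjugations transported by an extension. -/
theorem conj_aut_eq {P X : Subgroup Ω} (hPX : P ≤ X) {ψ : X →* Ω} {α k : MulAut P}
    (hψ : ∀ x : P, ψ ⟨x, hPX x.2⟩ = α x) {g : X}
    (hk : ∀ x : P, (k x : Ω) = g * x * (g : Ω)⁻¹) (x : P) :
    ((α * k * α⁻¹) x : Ω) = ψ g * x * (ψ g)⁻¹ := by
  have h2 : ψ ⟨(α⁻¹ x : P), hPX (α⁻¹ x).2⟩ = x := by rw [hψ, MulAut.apply_inv_self]
  rw [MulAut.mul_apply, MulAut.mul_apply, ← hψ, ← h2, ← map_inv, ← map_mul, ← map_mul]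
  exact congrArg ψ (Subtype.ext (by simpa using hk (α⁻¹ x)))

/-- `φ` extends to `K` moving its elements only within cosets of `T`. -/
def Near (F : FusionSystem S) (K T P : Subgroup Ω) (φ : P →* Ω) : Prop :=
  ∃ ψ ∈ F.Hom (P ⊔ K), (∀ x : P, ψ (Subgroup.inclusion le_sup_left x) = φ x) ∧
    ∀ k : K, (k : Ω)⁻¹ * ψ (Subgroup.inclusion le_sup_right k) ∈ T

theorem Near.restrict {P R : Subgroup Ω} {φ : P →* Ω} {ψ : R →* Ω} (h : P ≤ R)
    (he : ∀ x : P, φ x = ψ ⟨x, h x.2⟩) (h2 : Near F K T R ψ) : Near F K T P φ := by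
  obtain ⟨b, hb, hb1, hb2⟩ := h2
  obtain ⟨c, hc, hce⟩ := exists_restrict hb (sup_le_sup_right h K)
  refine ⟨c, hc, fun x => ?_, fun k => ?_⟩
  · rw [hce, he, ← hb1]; rfl
  · rw [hce]; exact hb2 k

theorem Near.comp (hK : F.IsNormal K) {P R : Subgroup Ω} {φ : P →* Ω} {ψ : R →* Ω} {χ : P →* Ω}
    (h : ∀ x, φ x ∈ R) (he : ∀ x, χ x = ψ ⟨φ x, h x⟩) (h1 : Near F K T P φ) (h2 : Near F K T R ψ) :
    Near F K T P χ := by
  obtain ⟨a, ha, ha1, ha2⟩ := h1
  obtain ⟨b, hb, hb1, hb2⟩ := h2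
  obtain ⟨c, hc, hce⟩ := exists_comp ha hb (mapsTo_sup
    (fun x => by rw [ha1]; exact (le_sup_left : R ≤ R ⊔ K) (h x))
    (fun y => (le_sup_right : K ≤ R ⊔ K) (isNormal_apply_mem hK ha y.2)))
  refine ⟨c, hc, fun x => ?_, fun k => ?_⟩
  · rw [hce, he, ← hb1]
    exact congrArg b (Subtype.ext (ha1 x))
  · have hm : a (Subgroup.inclusion le_sup_right k) ∈ K := isNormal_apply_mem hK ha k.2
    have h3 := T.mul_mem (ha2 k) (hb2 ⟨_, hm⟩)
    rw [mul_assoc, mul_inv_cancel_left] at h3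
    rw [hce]
    exact h3

variable [Finite S] [hp : Fact p.Prime]

omit hp [Finite S] in
theorem near_conj (hK : K ≤ S) (hsc : F.StronglyClosed T) {P : Subgroup Ω} (hP : P ≤ S) {φ : P →* Ω}
    {t : Ω} (ht : t ∈ T) (he : ∀ x : P, φ x = t * x * t⁻¹) : Near F K T P φ := by
  refine ⟨conjHom _ t, F.conj_mem (sup_le hP hK) (hsc.1 ht), fun x => (he x).symm, fun k => ?_⟩
  show (k : Ω)⁻¹ * (t * k * t⁻¹) ∈ T
  rw [← mul_assoc, ← mul_assoc]
  exact T.mul_mem (conj_inv_mem_of_normalizer (stronglyClosed_le_normalizer hsc (hK k.2)) ht) (T.inv_mem ht)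

omit hp in
/-- The automorphisms of `U` which are near. -/
def nearSub (hK : F.IsNormal K) (hsc : F.StronglyClosed T) (hU : U ≤ S) :
    Subgroup (MulAut U) where
  carrier := {a | Near F K T U (U.subtype.comp a.toMonoidHom)}
  one_mem' := near_conj hK.1 hsc hU T.one_mem fun x => by simp
  mul_mem' := fun {a b} ha hb => Near.comp hK (fun x => (b x).2) (fun _ => rfl) hb ha
  inv_mem' := fun {a} ha => by
    haveI := finite_sub hU
    have h1 : Near F K T U (U.subtype.comp (1 : MulAut U).toMonoidHom) :=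
      near_conj hK.1 hsc hU T.one_mem fun x => by simp
    have hpow : ∀ i : ℕ, Near F K T U (U.subtype.comp (a ^ i).toMonoidHom) := by
      intro i
      induction i with
      | zero => rw [pow_zero]; exact h1
      | succ i ih => rw [pow_succ]; exact Near.comp hK (fun x => (a x).2) (fun _ => rfl) ha ih
    show Near F K T U _
    rw [show a⁻¹ = a ^ (orderOf a - 1) by
      rw [inv_eq_iff_mul_eq_one, ← pow_succ', Nat.sub_add_cancel (orderOf_pos a), pow_orderOf_eq_one]]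
    exact hpow _

omit hp in
theorem mem_nearSub {hK : F.IsNormal K} {hsc : F.StronglyClosed T} {hU : U ≤ S} {a : MulAut U} :
    a ∈ nearSub hK hsc hU ↔ Near F K T U (U.subtype.comp a.toMonoidHom) := Iff.rfl

/-- `K ∩ T` is normal in a normal subsystem over `T`. -/
theorem isNormal_inf (hS : IsPGroup p S) (hE : E.IsNormalIn F p) (hK : F.IsNormal K) :
    E.IsNormal (K ⊓ T) := by
  obtain ⟨hsub, hsc, -, -⟩ := hE.1.2.2
  have hTS := hsc.1
  haveI := finite_sub hTS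
  have hTp : IsPGroup p T := isPGroup_of_le hS hTS
  have hZ : E.StronglyClosed (K ⊓ T) := ⟨inf_le_right, fun P hP φ hφ x =>
    ⟨isNormal_apply_mem hK (hsub P hφ) (hP x.2).1, apply_mem hφ x⟩⟩
  refine (isNormal_iff_centricRadical hTp hE.1.1).2 ⟨hZ, fun P hc hr => ?_⟩
  refine le_of_autInducedBy_le_inn hTp hc.1 inf_le_right (stronglyClosed_le_normalizer hZ)
    (hc.2 P (isConj_refl E hc.1)) (le_inn_of_radical hr ?_ ?_ (isPGroup_autInducedBy_of_le hTp inf_le_right P))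
  · intro a ha
    obtain ⟨g, hg, he⟩ := mem_autInducedBy.1 ha
    exact autInducedBy_le_autGroup E hc.1 (mem_autInducedBy.2 ⟨g, hg.2, he⟩)
  · intro α hα k hk
    obtain ⟨g, hg, he⟩ := mem_autInducedBy.1 hk
    obtain ⟨φ, hφ, -, hφe⟩ := exists_hom_of_aut hc.1 hα
    obtain ⟨ψ, hψ, hψe, -⟩ := hK.2 P φ (hsub P hφ)
    have hgX : g ∈ P ⊔ K := (le_sup_right : K ≤ P ⊔ K) hg.1
    exact mem_autInducedBy.2 ⟨ψ ⟨g, hgX⟩, ⟨isNormal_apply_mem hK hψ hg.1,
      stronglyClosed_apply_mem hsc hψ (x := ⟨g, hgX⟩) hg.2⟩,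
      conj_aut_eq le_sup_left (g := ⟨g, hgX⟩) (fun x => (hψe x).trans (hφe x)) he⟩

/-- Automorphisms in `E` carried back. -/
theorem autE_of_congr (hE : E.IsNormalIn F p) (hUT : U ≤ T) {U' : Subgroup Ω} {φ : U →* Ω}
    (hφ : φ ∈ F.Hom U) (hr : φ.range = U') {a : MulAut U}
    (ha : MulAut.congr (homEquiv hφ hr) a ∈ E.autGroup U') : a ∈ E.autGroup U := by
  have hU'T : U' ≤ T := by
    rw [← hr]; rintro _ ⟨u, rfl⟩
    exact stronglyClosed_apply_mem hE.1.2.2.2.1 hφ (hUT u.2)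
  obtain ⟨φi, hφi, hri, hli, -⟩ := exists_inv hφ hr
  have e : homEquiv hφi hri = (homEquiv hφ hr).symm := by
    ext y
    obtain ⟨x, rfl⟩ := (homEquiv hφ hr).surjective y
    rw [MulEquiv.symm_apply_apply]
    exact hli x _
  have h := autE_congr hE hU'T hφi hri ha
  rw [e] at h
  convert h using 1
  ext x
  simp [MulAut.congr]

/-- The consequence of radicality, carried along a map of `F`. -/
theorem le_inn_congr (hE : E.IsNormalIn F p) (hr : E.IsRadical p U) {U' : Subgroup Ω}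
    {φ : U →* Ω} (hφ : φ ∈ F.Hom U) (hrange : φ.range = U') {K' : Subgroup (MulAut U')}
    (hK : K' ≤ E.autGroup U') (hn : ∀ α ∈ E.autGroup U', ∀ k ∈ K', α * k * α⁻¹ ∈ K')
    (hKp : IsPGroup p K') : K' ≤ Inn U' := by
  have hTS := hE.1.2.2.2.1.1
  haveI := finite_sub hTS
  set e := MulAut.congr (homEquiv hφ hrange) with he
  have hle : K'.comap e.toMonoidHom ≤ Inn U := by
    refine le_inn_of_radical hr (fun k hk => autE_of_congr hE hr.1 hφ hrange (hK hk)) (fun α hα k hk => ?_)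
      (hKp.comap_of_injective _ e.injective)
    show e (α * k * α⁻¹) ∈ K'
    rw [map_mul, map_mul, map_inv]
    exact hn _ (autE_congr hE hr.1 hφ hrange hα) _ hk
  intro k hk
  obtain ⟨q, hq⟩ := hle (show e.symm k ∈ K'.comap e.toMonoidHom by simpa using hk)
  refine ⟨homEquiv hφ hrange q, ?_⟩
  rw [← e.apply_symm_apply k, ← hq]
  ext x
  simp [he, MulAut.congr, MulAut.conj_apply]

section step

variable (hK : F.IsNormal K) (L : Loc p F E U) (hZU : K ⊓ T ≤ U)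
  (hrad : ∀ a ∈ E.autGroup U, a ∈ autInducedBy K U → a ∈ Inn U)

include hK L hZU hrad

/-- A lift of order prime to `p` moving within cosets of `U` gives a near automorphism. -/
theorem near_of_lift {a : MulAut U} (ha : a ∈ E.autGroup U) {β : MulAut ↥(hull S U)}
    (hβ : β ∈ F.autGroup (hull S U)) (hla : Lifts β a)
    (hmove : ∀ w : ↥(hull S U), (w : Ω)⁻¹ * β w ∈ U) (hord : ¬ p ∣ orderOf β) :
    a ∈ nearSub hK L.hsc L.hUS := by
  haveI := L.finU
  haveI := L.finHull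
  obtain ⟨φ, hφ, -, hφe⟩ := exists_hom_of_aut L.hullS hβ
  obtain ⟨ψ, hψ, hψe, -⟩ := hK.2 (hull S U) φ hφ
  have hWS : (hull S U) ⊔ K ≤ S := src_le hψ
  haveI := finite_sub hWS
  have hψm : ∀ w, ψ w ∈ (hull S U) ⊔ K := mapsTo_sup
    (fun x => by rw [hψe, hφe]; exact (le_sup_left : (hull S U) ≤ (hull S U) ⊔ K) (β x).2)
    (fun k => (le_sup_right : K ≤ (hull S U) ⊔ K) (isNormal_apply_mem hK hψ k.2))
  have hψr := range_eq_of_mem hψ hψm le_rfl
  set B₀ : MulAut ↥((hull S U) ⊔ K) := homEquiv hψ hψr with hB₀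
  have hB₀e : ∀ x : (hull S U), (B₀ (Subgroup.inclusion le_sup_left x) : Ω) = β x := fun x =>
    (hψe x).trans (hφe x)
  obtain ⟨n, hn, hBn⟩ := exists_pow_prime_to (x := B₀) hord
  set B := B₀ ^ n with hB
  have hBF : B ∈ F.autGroup ((hull S U) ⊔ K) := pow_mem (homEquiv_mem_autGroup hψ hψr) n
  have hBe : ∀ x : (hull S U), (B (Subgroup.inclusion le_sup_left x) : Ω) = β x := by
    intro x
    have hi : ∀ i : ℕ, ((B₀ ^ i) (Subgroup.inclusion le_sup_left x) : Ω) = ((β ^ i) x : (hull S U)) := by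
      intro i
      induction i with
      | zero => rfl
      | succ i ih =>
        rw [pow_succ', pow_succ', MulAut.mul_apply, MulAut.mul_apply,
          show (B₀ ^ i) (Subgroup.inclusion le_sup_left x) = Subgroup.inclusion le_sup_left ((β ^ i) x) from
            Subtype.ext ih]
        exact hB₀e _
    rw [hB, hi n, hn]
  obtain ⟨σ, hσ, -, hσe⟩ := exists_hom_of_aut hWS hBF
  have hUH : U ≤ (hull S U) := le_sup_left
  obtain ⟨τ, hτ, hτe⟩ := exists_restrict hσ (sup_le_sup_right hUH K)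
  refine mem_nearSub.2 ⟨τ, hτ, fun u => ?_, fun k => ?_⟩
  · rw [hτe, hσe]
    exact (hBe (Subgroup.inclusion hUH u)).trans (hla u)
  -- moving an element of `K`
  rw [hτe, hσe]
  set kW : ↥((hull S U) ⊔ K) := Subgroup.inclusion le_sup_right k with hkW
  show (k : Ω)⁻¹ * (B kW : Ω) ∈ T
  set k' : Ω := (B kW : Ω) with hk'
  have hk'K : k' ∈ K := by
    rw [hk', ← hσe]
    exact isNormal_apply_mem hK hσ k.2
  have hkS : (k : Ω) ∈ S := hK.1 k.2
  have hKU : ∀ g ∈ K, g ∈ Subgroup.normalizer (U : Set Ω) := fun g hg => by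
    refine mem_normalizer_of_conj_mem fun u hu => ?_
    have h1 : g * u * g⁻¹ * u⁻¹ ∈ K ⊓ T := by
      refine ⟨?_, T.mul_mem (conj_mem_of_normalizer (stronglyClosed_le_normalizer L.hsc (hK.1 hg))
        (L.hUT hu)) (T.inv_mem (L.hUT hu))⟩
      rw [show g * u * g⁻¹ * u⁻¹ = g * (u * g⁻¹ * u⁻¹) by group]
      exact K.mul_mem hg (conj_mem_of_normalizer (isNormal_le_normalizer hK (L.hUS hu)) (K.inv_mem hg))
    simpa [mul_assoc] using U.mul_mem (hZU h1) hu
  set ck : MulAut U := U.normalizerMonoidHom ⟨k, hKU k k.2⟩ with hck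
  have hckF : ck ∈ F.autGroup U :=
    autInducedBy_le_autGroup F L.hUS (mem_autInducedBy.2 ⟨k, hkS, fun _ => rfl⟩)
  have hconj := conj_aut_eq (α := a) (k := ck) (g := kW) (hUH.trans (le_sup_left : (hull S U) ≤ (hull S U) ⊔ K))
    (ψ := ((hull S U) ⊔ K).subtype.comp B.toMonoidHom)
    (fun u => (hBe (Subgroup.inclusion hUH u)).trans (hla u)) (fun _ => rfl)
  set d := ck⁻¹ * (a * ck * a⁻¹) with hd
  have hdv : ∀ x : U, (d x : Ω) = ((k : Ω)⁻¹ * k') * x * ((k : Ω)⁻¹ * k')⁻¹ := fun x => by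
    have h2 : ((a * ck * a⁻¹) x : Ω) = k' * x * k'⁻¹ := hconj x
    have h3 : ((a * ck * a⁻¹) x : Ω) = k * (d x : Ω) * (k : Ω)⁻¹ :=
      congrArg Subtype.val (show (a * ck * a⁻¹) x = ck (d x) by rw [hd, ← MulAut.mul_apply, mul_inv_cancel_left])
    rw [h3] at h2
    calc (d x : Ω) = (k : Ω)⁻¹ * (k * (d x : Ω) * (k : Ω)⁻¹) * k := by group
      _ = _ := by rw [h2]; group
  have hdE : d ∈ E.autGroup U := by
    rw [hd, show ck⁻¹ * (a * ck * a⁻¹) = (ck⁻¹ * a * ck⁻¹⁻¹) * a⁻¹ by group]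
    exact (E.autGroup U).mul_mem (L.autE_normal ha ((F.autGroup U).inv_mem hckF)) ((E.autGroup U).inv_mem ha)
  obtain ⟨r, hr⟩ := hrad d hdE (mem_autInducedBy.2 ⟨_, K.mul_mem (K.inv_mem k.2) hk'K, hdv⟩)
  set h : Ω := (k : Ω)⁻¹ * k' with hh
  have hhS : h ∈ S := S.mul_mem (S.inv_mem hkS) (hK.1 hk'K)
  have hhH : h ∈ (hull S U) := by
    have hc : (r : Ω)⁻¹ * h ∈ centralizerIn S U := by
      refine mem_centralizerIn'.2 ⟨S.mul_mem (S.inv_mem (L.hUS r.2)) hhS, fun u hu => ?_⟩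
      have h4 : (r : Ω) * u * (r : Ω)⁻¹ = h * u * h⁻¹ := by
        rw [← hdv ⟨u, hu⟩, ← hr]; rfl
      calc (r : Ω)⁻¹ * h * u * ((r : Ω)⁻¹ * h)⁻¹ = (r : Ω)⁻¹ * (h * u * h⁻¹) * r := by group
        _ = (r : Ω)⁻¹ * ((r : Ω) * u * (r : Ω)⁻¹) * r := by rw [h4]
        _ = u := by group
    have h5 := (hull S U).mul_mem (hUH r.2) ((le_sup_right : _ ≤ hull S U) hc)
    rwa [mul_inv_cancel_left] at h5
  -- powers
  have hpow : ∀ i : ℕ, (h ^ i)⁻¹ * ((k : Ω)⁻¹ * ((B ^ i) kW : Ω)) ∈ U := by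
    intro i
    induction i with
    | zero =>
      show (h ^ 0)⁻¹ * ((k : Ω)⁻¹ * k) ∈ U
      rw [inv_mul_cancel, pow_zero, inv_one, one_mul]; exact U.one_mem
    | succ i ih =>
      set u : U := ⟨_, ih⟩ with hu
      set hi : (hull S U) := ⟨h ^ i, (hull S U).pow_mem hhH i⟩ with hhi
      have e : (B ^ i) kW = kW * Subgroup.inclusion le_sup_left (hi * Subgroup.inclusion hUH u) :=
        Subtype.ext (by
          show _ = (k : Ω) * (h ^ i * ((h ^ i)⁻¹ * ((k : Ω)⁻¹ * ((B ^ i) kW : Ω))))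
          rw [mul_inv_cancel_left, mul_inv_cancel_left])
      have hv := hmove hi
      set v : Ω := (hi : Ω)⁻¹ * β hi with hvdef
      have e2 : ((B ^ (i + 1)) kW : Ω) = k' * ((h ^ i * v) * (a u : Ω)) := by
        rw [pow_succ', MulAut.mul_apply, e, map_mul, Subgroup.coe_mul, hBe, map_mul, Subgroup.coe_mul,
          ← hk', hvdef, mul_inv_cancel_left]
        congr 2
        exact hla u
      rw [e2, pow_succ', show (h * h ^ i)⁻¹ * ((k : Ω)⁻¹ * (k' * (h ^ i * v * (a u : Ω)))) = v * (a u : Ω) by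
        rw [hh]; group]
      exact U.mul_mem hv (a u).2
  have hm := hpow (orderOf B)
  rw [pow_orderOf_eq_one, MulAut.one_apply] at hm
  have hm' : h ^ orderOf B ∈ U := by
    have := U.inv_mem hm
    simpa [hkW] using this
  obtain ⟨e, he⟩ := (isPGroup_of_le L.hS hWS) ⟨h, (le_sup_left : (hull S U) ≤ (hull S U) ⊔ K) hhH⟩
  have he' : h ^ p ^ e = 1 := by simpa using congrArg Subtype.val he
  exact L.hUT (Subgroup.zpowers_le.2 hm' (mem_zpowers_pow he' hBn))

/-- Every element of `Aut_E(U)` is near, given the larger subgroups. -/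
theorem autE_near (hbig : U ≠ T → ∀ φ ∈ E.Hom (normalizerIn T U), Near F K T (normalizerIn T U) φ) :
    E.autGroup U ≤ nearSub hK L.hsc L.hUS := by
  haveI := L.finU
  haveI := L.finHull
  haveI := finite_sub L.hTS
  have hTp : IsPGroup p T := isPGroup_of_le L.hS L.hTS
  have hinner : ∀ a ∈ autInducedBy T U, a ∈ nearSub hK L.hsc L.hUS := fun a ha => by
    obtain ⟨t, ht, hte⟩ := mem_autInducedBy.1 ha
    exact near_conj hK.1 L.hsc L.hUS ht hte
  rcases eq_or_ne U T with hUT | hne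
  · subst hUT
    intro a ha
    obtain ⟨R, hR⟩ := (fullyAutomized_of_fullyNormalized hTp L.hEs L.fnE).2
    have hgen := closure_prime_to_sup_sylow R
    refine ((?_ : _ ⊔ _ ≤ (nearSub hK L.hsc L.hUS).subgroupOf (E.autGroup U))
      (hgen.ge (Subgroup.mem_top (⟨a, ha⟩ : E.autGroup U))) :)
    refine sup_le ((Subgroup.closure_le _).2 fun x hx => ?_) fun x hx => hinner _ ?_
    · obtain ⟨β₀, hβ₀, hl₀, hm₀⟩ := L.normal.2 x x.2
      have hmv : ∀ w : ↥(hull S U), (w : Ω)⁻¹ * β₀ w ∈ U := by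
        intro w
        obtain ⟨u, hu, c, hc, he⟩ := exists_mul w.2
        have hw : w = Subgroup.inclusion le_sup_left ⟨u, hu⟩ * Subgroup.inclusion le_sup_right ⟨c, hc⟩ :=
          Subtype.ext he.symm
        have hz := (hm₀ (Subgroup.inclusion le_sup_right ⟨c, hc⟩) hc).1
        rw [hw, map_mul, Subgroup.coe_mul, Subgroup.coe_mul, hl₀]
        show (u * c)⁻¹ * ((((x : MulAut U) ⟨u, hu⟩ : U) : Ω) * _) ∈ U
        set u' : Ω := (((x : MulAut U) ⟨u, hu⟩ : U) : Ω) with hu'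
        set z : Ω := (β₀ (Subgroup.inclusion le_sup_right ⟨c, hc⟩) : Ω)
        have h6 : u⁻¹ * u' ∈ U := U.mul_mem (U.inv_mem hu) ((x : MulAut U) ⟨u, hu⟩).2
        have h7 : c⁻¹ * (u⁻¹ * u') * c = u⁻¹ * u' := by
          rw [mul_assoc, (mem_centralizerIn.1 hc).2 _ h6, inv_mul_cancel_left]
        have h8 : (u * c)⁻¹ * (u' * z) = (c⁻¹ * (u⁻¹ * u') * c) * (c⁻¹ * z) := by group
        rw [h8, h7]
        exact U.mul_mem h6 hz
      have hx' : ¬ p ∣ orderOf ((x : E.autGroup U) : MulAut U) := by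
        rwa [Subgroup.orderOf_coe]
      obtain ⟨n, hn, hβn⟩ := exists_pow_prime_to (x := β₀) hx'
      have hpow : ∀ i : ℕ, Lifts (β₀ ^ i) ((x : MulAut U) ^ i) ∧
          ∀ w : ↥(hull S U), (w : Ω)⁻¹ * ((β₀ ^ i) w : Ω) ∈ U := by
        intro i
        induction i with
        | zero =>
          refine ⟨Lifts.one, fun w => ?_⟩
          show (w : Ω)⁻¹ * w ∈ U
          rw [inv_mul_cancel]; exact U.one_mem
        | succ i ih =>
          refine ⟨by rw [pow_succ, pow_succ]; exact ih.1.mul hl₀, fun w => ?_⟩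
          rw [pow_succ, MulAut.mul_apply]
          have := U.mul_mem (hmv w) (ih.2 (β₀ w))
          rwa [mul_assoc, mul_inv_cancel_left] at this
      obtain ⟨hl, hmv'⟩ := hpow n
      rw [hn] at hl
      exact near_of_lift hK L hZU hrad x.2 (pow_mem hβ₀ n) hl hmv' hβn
    · rw [hR, Subgroup.mem_subgroupOf] at hx; exact hx
  refine L.autE_le (fun β a hla => ?_) fun a ha hn => ?_
  · obtain ⟨P, hP⟩ := L.exists_sylow
    haveI := L.finX
    let H : Subgroup ↥(xAut F E U) :=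
      { carrier := {γ | ∀ b : MulAut U, Lifts (γ : MulAut ↥(hull S U)) b → b ∈ nearSub hK L.hsc L.hUS}
        one_mem' := fun b hb => by rw [Lifts.unique hb Lifts.one]; exact one_mem _
        mul_mem' := fun {γ δ} hγ hδ b hb => by
          obtain ⟨-, ⟨g, -, hlg⟩, -⟩ := γ.2
          obtain ⟨-, ⟨d, -, hld⟩, -⟩ := δ.2
          rw [Lifts.unique hb (hlg.mul hld)]
          exact mul_mem (hγ g hlg) (hδ d hld)
        inv_mem' := fun {γ} hγ b hb => by
          have := hγ b⁻¹ (by simpa using hb.inv)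
          simpa using inv_mem this }
    have hgen := closure_prime_to_sup_sylow P
    refine ((?_ : _ ⊔ _ ≤ H) (hgen.ge (Subgroup.mem_top β))) a hla
    refine sup_le ((Subgroup.closure_le _).2 fun γ hγ b hb => ?_) fun γ hγ b hb => ?_
    · obtain ⟨hγF, ⟨b', hb', hlb'⟩, hmoves, -⟩ := γ.2
      obtain rfl := Lifts.unique hb hlb'
      refine near_of_lift hK L hZU hrad hb' hγF hb (fun w => ?_) ?_
      · obtain ⟨u, hu, c, hc, he⟩ := exists_mul w.2
        have hw : w = Subgroup.inclusion le_sup_left ⟨u, hu⟩ * Subgroup.inclusion le_sup_right ⟨c, hc⟩ :=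
          Subtype.ext he.symm
        have hz := (hmoves (Subgroup.inclusion le_sup_right ⟨c, hc⟩)).2 hc
        rw [hw, map_mul, Subgroup.coe_mul, Subgroup.coe_mul, hb]
        show (u * c)⁻¹ * (((b ⟨u, hu⟩ : U) : Ω) * _) ∈ U
        set u' : Ω := ((b ⟨u, hu⟩ : U) : Ω)
        set z : Ω := ((γ : MulAut ↥(hull S U)) (Subgroup.inclusion le_sup_right ⟨c, hc⟩) : Ω)
        have h6 : u⁻¹ * u' ∈ U := U.mul_mem (U.inv_mem hu) (b ⟨u, hu⟩).2
        have h7 : c⁻¹ * (u⁻¹ * u') * c = u⁻¹ * u' := by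
          rw [mul_assoc, (mem_centralizerIn.1 hc).2 _ h6, inv_mul_cancel_left]
        have h8 : (u * c)⁻¹ * (u' * z) = (c⁻¹ * (u⁻¹ * u') * c) * (c⁻¹ * z) := by group
        rw [h8, h7]
        exact U.mul_mem h6 hz
      · rwa [Subgroup.orderOf_coe]
    · have hγS : (γ : MulAut ↥(hull S U)) ∈ autInducedBy S (hull S U) := by
        have := hP.le hγ
        exact this
      obtain ⟨-, ⟨b', hb', hlb'⟩, -⟩ := γ.2
      obtain rfl := Lifts.unique hb hlb'
      obtain ⟨s, hs, hse⟩ := mem_autInducedBy.1 hγS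
      exact hinner b (L.autE_inter_autS hb'
        (mem_autInducedBy.2 ⟨s, hs, fun u => (hb u).symm.trans (hse _)⟩))
  · obtain ⟨ψ, hψ, he⟩ := FusionP3.Induction.exists_extend_aut (receptive_of_fullyNormalized hTp L.hEs L.fnE)
      (le_refl (normalizerIn T U)) ha fun g hg => by
        obtain ⟨t, ht, hte⟩ := mem_autInducedBy.1
          (hn _ (mem_autInducedBy.2 ⟨g, hg.1, fun _ => rfl⟩ :
            U.normalizerMonoidHom ⟨g, hg.2⟩ ∈ autInducedBy T U))
        refine ⟨t, ht, fun x hx => ?_⟩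
        have h := hte (a x)
        rw [MulAut.mul_apply, MulAut.mul_apply, MulAut.inv_apply_self] at h
        exact h
    exact mem_nearSub.2 (Near.restrict (le_normalizerIn L.hUT) (fun x => (he x x.2 _).symm) (hbig hne ψ hψ))

end step

/-- Every map of a normal subsystem over `T` extends to a normal subgroup moving its elements within cosets of `T`. -/
theorem near_of_normal (hS : IsPGroup p S) (hE : E.IsNormalIn F p) (hK : F.IsNormal K) :
    ∀ (P : Subgroup Ω) (φ : P →* Ω), φ ∈ E.Hom P → Near F K T P φ := by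
  have hsc := hE.1.2.2.2.1
  have hF := hE.1.2.1
  have hTS := hsc.1
  haveI := finite_sub hTS
  have hTp : IsPGroup p T := isPGroup_of_le hS hTS
  have hZn := isNormal_inf hS hE hK
  refine FusionP3.Induction.hom_induction hTp hE.1.1 ?_ ?_ ?_
  · exact fun P R φ ψ χ _ _ h he h1 h2 => Near.comp hK h he h1 h2
  · exact fun P R φ ψ h _ he h2 => Near.restrict h he h2
  intro Q hQn hQc hQr a ha big
  have hQT : Q ≤ T := hQn.1
  have hQS : Q ≤ S := hQT.trans hTS
  haveI := finite_sub hQS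
  obtain ⟨Q', hQQ', hn⟩ := exists_isFullyNormalized F hQS
  obtain ⟨φ, hφ, hr⟩ := id hQQ'
  have hQ'T : Q' ≤ T := by
    rw [← hr]; rintro _ ⟨u, rfl⟩; exact stronglyClosed_apply_mem hsc hφ (hQT u.2)
  haveI := finite_sub hn.1
  have hcT := centricT_of_centric hE hQc
  have L : Loc p F E Q' := ⟨hS, hE, hn, hQ'T, fun R hR => hcT.2 R (isConj_trans hQQ' hR)⟩
  have hZQ : K ⊓ T ≤ Q := isNormal_le_centricRadical hTp hZn hQc hQr
  have hZQ' : K ⊓ T ≤ Q' := by
    obtain ⟨χ, hχ, hχe⟩ := exists_restrict hφ hZQ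
    haveI := finite_sub (inf_le_right.trans hTS : K ⊓ T ≤ S)
    have := range_eq_of_mem (Q := K ⊓ T) hχ (fun x =>
      ⟨isNormal_apply_mem hK hχ x.2.1, stronglyClosed_apply_mem hsc hχ x.2.2⟩) le_rfl
    rw [← this, ← hr]
    rintro _ ⟨x, rfl⟩
    exact ⟨_, (hχe x).symm⟩
  have hrad : ∀ b ∈ E.autGroup Q', b ∈ autInducedBy K Q' → b ∈ Inn Q' := by
    intro b hb hbK
    refine le_inn_congr hE hQr hφ hr (K' := E.autGroup Q' ⊓ autInducedBy K Q') inf_le_left ?_
      ((isPGroup_autInducedBy_of_le hS hK.1 Q').to_le inf_le_right) ⟨hb, hbK⟩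
    intro α hα k hk
    refine ⟨mul_mem (mul_mem hα hk.1) ((E.autGroup Q').inv_mem hα), ?_⟩
    obtain ⟨g, hg, he⟩ := mem_autInducedBy.1 hk.2
    obtain ⟨θ, hθ, -, hθe⟩ := exists_hom_of_aut hQ'T hα
    obtain ⟨ψ, hψ, hψe, -⟩ := hK.2 Q' θ (hE.1.2.2.1 Q' hθ)
    have hgX : g ∈ Q' ⊔ K := (le_sup_right : K ≤ Q' ⊔ K) hg
    exact mem_autInducedBy.2 ⟨ψ ⟨g, hgX⟩, isNormal_apply_mem hK hψ hg,
      conj_aut_eq le_sup_left (g := ⟨g, hgX⟩) (fun x => (hψe x).trans (hθe x)) he⟩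
  have hall := autE_near hK L hZQ' hrad fun hne χ hχ => big _ (by
    rw [← isConj_card hQQ']
    have hlt : Q' < normalizerIn T Q' := FusionP3.Induction.lt_normalizerIn hTp (lt_of_le_of_ne hQ'T hne)
    haveI := finite_sub ((normalizerIn_le (S := T) Q').trans hTS)
    exact lt_of_not_ge fun h => hlt.ne (Subgroup.eq_of_le_of_card_ge hlt.le h)) χ hχ
  obtain ⟨b, hb, hb1, hb2⟩ := mem_nearSub.1 (hall (autE_congr hE hQT hφ hr ha))
  -- transport back
  obtain ⟨η, hη, hηe, -⟩ := hK.2 Q φ hφ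
  obtain ⟨ηi, hηi, -, hl, -⟩ := exists_inv hη rfl
  have hηm : ∀ w, η w ∈ Q' ⊔ K := mapsTo_sup
    (fun x => by rw [hηe]; exact (le_sup_left : Q' ≤ Q' ⊔ K) (hr.le ⟨x, rfl⟩))
    (fun k => (le_sup_right : K ≤ Q' ⊔ K) (isNormal_apply_mem hK hη k.2))
  obtain ⟨c₁, hc₁, hc₁e⟩ := exists_comp hη hb hηm
  have hQ'η : Q' ⊔ K ≤ η.range := by
    refine sup_le ?_ ?_
    · rw [← hr]; rintro _ ⟨x, rfl⟩; exact ⟨_, hηe x⟩
    · intro k hk
      obtain ⟨χ, hχ, hχe⟩ := exists_restrict hη (le_sup_right : K ≤ Q ⊔ K)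
      haveI := finite_sub hK.1
      obtain ⟨x, hx⟩ := (range_eq_of_mem hχ (fun x => isNormal_apply_mem hK hχ x.2) le_rfl).ge hk
      exact ⟨_, (hχe x).symm.trans hx⟩
  have hbm : ∀ w, b w ∈ Q' ⊔ K := mapsTo_sup
    (fun x => by rw [hb1]; exact (le_sup_left : Q' ≤ Q' ⊔ K) (MulAut.congr (homEquiv hφ hr) a x).2)
    (fun k => (le_sup_right : K ≤ Q' ⊔ K) (isNormal_apply_mem hK hb k.2))
  obtain ⟨c, hc, hce⟩ := exists_comp hc₁ hηi fun w => hQ'η (by rw [hc₁e]; exact hbm _)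
  refine ⟨c, hc, fun x => ?_, fun k => ?_⟩
  · have e : c₁ (Subgroup.inclusion le_sup_left x) = η (Subgroup.inclusion le_sup_left (a x)) := by
      rw [hc₁e, show (⟨η (Subgroup.inclusion le_sup_left x), hηm _⟩ : ↥(Q' ⊔ K)) =
        Subgroup.inclusion le_sup_left (homEquiv hφ hr x) from Subtype.ext (hηe x), hb1, hηe]
      show ((homEquiv hφ hr (a ((homEquiv hφ hr).symm (homEquiv hφ hr x))) : Q') : Ω) = _
      rw [MulEquiv.symm_apply_apply]; rfl
    rw [hce, show (⟨c₁ (Subgroup.inclusion le_sup_left x), _⟩ : η.range) =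
      ⟨η (Subgroup.inclusion le_sup_left (a x)), ⟨_, rfl⟩⟩ from Subtype.ext e]
    exact hl _ _
  · set kW : ↥(Q ⊔ K) := Subgroup.inclusion le_sup_right k with hkW
    have hk' : η kW ∈ K := isNormal_apply_mem hK hη k.2
    have hd := hb2 ⟨η kW, hk'⟩
    have e : b (Subgroup.inclusion le_sup_right ⟨η kW, hk'⟩) = c₁ kW := by
      rw [hc₁e]; rfl
    rw [e] at hd
    obtain ⟨y, hηy⟩ := hQ'η (by rw [hc₁e]; exact hbm _ : c₁ kW ∈ Q' ⊔ K)
    have hd' : η (kW⁻¹ * y) ∈ T := by rw [map_mul, map_inv, hηy]; exact hd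
    have key : ∀ h : c₁ kW ∈ η.range, ηi ⟨c₁ kW, h⟩ = y := fun h =>
      (congrArg ηi (Subtype.ext hηy.symm)).trans (hl y ⟨y, rfl⟩)
    rw [hce, key]
    show ((kW⁻¹ * y : ↥(Q ⊔ K)) : Ω) ∈ T
    rw [← hl (kW⁻¹ * y) ⟨_, rfl⟩]
    exact stronglyClosed_apply_mem hsc hηi (x := ⟨η (kW⁻¹ * y), ⟨_, rfl⟩⟩) hd'

end Cfsg.Agent.Lib.FS
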