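import Mathlib
import Cfsg.Prelude.Def_FusionComponents
import Cfsg.Agent.Lib.FusionSystem.NormalMoves
import Cfsg.Agent.Lib.FusionSystem.CentralizerNormal
import Cfsg.Agent.Lib.FusionSystem.Factor
import Cfsg.Agent.Lib.FusionSystem.FactorSaturated
import Cfsg.Agent.Lib.FusionAlperin.Join
import Cfsg.Agent.Lib.FusionEssential.TransportComponents
import Cfsg.Agent.S5315

/-!
The core of a fusion system centralises its components.
-/

set_option autoImplicit false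
set_option linter.style.haveILetI false
set_option linter.unusedSectionVars false

namespace Cfsg.Agent.Lib.FS

open Cfsg Cfsg.FusionSystem Cfsg.Agent.Lib Cfsg.Agent.Lib.FS.NormalCentralizer

variable {Ω : Type*} [Group Ω] {S : Subgroup Ω} {F : FusionSystem S}

/-- In a simple system no nontrivial normal subgroup is other than central. -/
theorem isCentral_of_simple [Finite S] {p : ℕ} [Fact p.Prime] (hS : IsPGroup p S) (hs : F.IsSimple p)
    {N : Subgroup Ω} (hN : F.IsNormal N) : F.IsCentral N := by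
  obtain ⟨hF, hne, hsimple⟩ := hs
  obtain ⟨C, hC, hCn⟩ := exists_centralizer_normal hS hF hN
  rcases hsimple _ C hCn with h | ⟨-, h⟩
  · refine absurd ?_ hne
    haveI := hS.isNilpotent
    by_contra hS'
    haveI : Nontrivial S := (Subgroup.nontrivial_iff_ne_bot S).2 hS'
    obtain ⟨z, hz, hz1⟩ : ∃ z : S, z ∈ Subgroup.center S ∧ z ≠ 1 := by
      haveI := IsPGroup.center_nontrivial (p := p) hS
      obtain ⟨z, hz⟩ := exists_ne (1 : Subgroup.center S)
      exact ⟨z, z.2, fun e => hz (Subtype.ext e)⟩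
    have : (z : Ω) ∈ centralizerIn S N := mem_centralizerIn.2 ⟨z.2, fun x hx =>
      congrArg Subtype.val (Subgroup.mem_center_iff.1 hz ⟨x, hN.1 hx⟩)⟩
    rw [h, Subgroup.mem_bot] at this
    exact hz1 (Subtype.ext this)
  · refine ⟨hN.1, fun P φ hφ => ?_⟩
    obtain ⟨-, -, -, hψ⟩ := (hC P).le ((h P).ge hφ)
    exact hψ

/-- The core of a quasisimple system is central. -/
theorem core_le_center_of_quasisimple [Finite S] {p : ℕ} [Fact p.Prime] (hS : IsPGroup p S)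
    (hq : F.Quasisimple p) : F.core ≤ F.center := by
  obtain ⟨hF, hhyp, hsim⟩ := hq
  have hQ := FusionAlperin.Join.isNormal_core F
  have hsc := FusionEssential.Transport.stronglyClosed_center hS hF
  set Z := F.center.subgroupOf S with hZ
  set θ := QuotientGroup.mk' Z with hθ
  obtain ⟨E, hE⟩ := exists_factorSystem (S' := ⊤) hsc θ
    (fun s => (QuotientGroup.eq_one_iff s).trans Subgroup.mem_subgroupOf)
    (MonoidHom.range_eq_top.2 (QuotientGroup.mk'_surjective _))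
  have hr := hE.2.2.1
  haveI := finite_image (S := S) hr
  have hEs := hsim E hE
  set N := imageAlong θ F.core with hN
  have hNn : E.IsNormal N := by
    refine ⟨le_top, fun P' φ' hφ' => ?_⟩
    obtain ⟨hP', φ, hφ, hind⟩ := (hE.2.2.2 P' φ').1 hφ'
    obtain ⟨ψ, hψ, hψe, -⟩ := hQ.2 _ φ hφ
    obtain ⟨φ'', hφ'', hind''⟩ := (factor_isSurjectiveMorphism hS hF hsc hE).1.2 _ ψ hψ
    have hle : P' ⊔ N ≤ imageAlong θ (preimageAlong θ P' ⊔ F.core) := by
      refine sup_le ((imageAlong_preimageAlong hr hP').ge.trans ?_) ?_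
      · exact Subgroup.map_mono (Subgroup.comap_mono le_sup_left)
      · exact Subgroup.map_mono (Subgroup.comap_mono le_sup_right)
    obtain ⟨χ, hχ, hχe⟩ := exists_restrict hφ'' hle
    refine ⟨χ, hχ, fun x => ?_, ?_⟩
    · obtain ⟨s, hs⟩ := hr.ge (hP' x.2)
      have hsP : θ s ∈ P' := hs ▸ x.2
      have hsX : (s : Ω) ∈ preimageAlong θ P' := mem_preimageAlong.2 ⟨s.2, hsP⟩
      have hm : θ s ∈ imageAlong θ (preimageAlong θ P' ⊔ F.core) := hle ((le_sup_left : P' ≤ P' ⊔ N) hsP)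
      rw [hχe, show x = (⟨θ s, hsP⟩ : P') from Subtype.ext hs.symm]
      show φ'' ⟨θ s, hm⟩ = _
      rw [inducedAlong_apply hind'' ⟨s, (le_sup_left : _ ≤ preimageAlong θ P' ⊔ F.core) hsX⟩ s.2 hm
          (apply_mem hψ _),
        inducedAlong_apply hind ⟨s, hsX⟩ s.2 hsP (apply_mem hφ _)]
      exact congrArg θ (Subtype.ext (hψe ⟨s, hsX⟩))
    · haveI : Finite N := Finite.of_injective _ N.subtype_injective
      refine map_subgroupOf_eq_of_mapsTo hχ le_sup_right fun x hx => ?_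
      obtain ⟨s, hs, hse⟩ := hx
      have hsX : (s : Ω) ∈ preimageAlong θ P' ⊔ F.core :=
        (le_sup_right : F.core ≤ _ ⊔ F.core) (Subgroup.mem_subgroupOf.1 hs)
      have hm : θ s ∈ imageAlong θ (preimageAlong θ P' ⊔ F.core) := hse ▸ hle x.2
      rw [hχe, show (⟨(x : S ⧸ Z), hle x.2⟩ : ↥(imageAlong θ (preimageAlong θ P' ⊔ F.core))) = ⟨θ s, hm⟩ from
        Subtype.ext hse.symm, inducedAlong_apply hind'' ⟨s, hsX⟩ s.2 hm (apply_mem hψ _)]
      exact ⟨_, Subgroup.mem_subgroupOf.2 (isNormal_apply_mem hQ hψ (Subgroup.mem_subgroupOf.1 hs)), rfl⟩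
  have hNc : N ≤ E.center := le_sSup (isCentral_of_simple (isPGroup_image hS hr) hEs hNn)
  rw [S5315.result p hS F hF hhyp E hE] at hNc
  intro q hq
  have h1 : θ ⟨q, hQ.1 hq⟩ ∈ (⊥ : Subgroup (S ⧸ Z)) := hNc ⟨⟨q, hQ.1 hq⟩, hq, rfl⟩
  exact Subgroup.mem_subgroupOf.1 ((QuotientGroup.eq_one_iff (N := Z) _).1 (Subgroup.mem_bot.1 h1))

/-- A map centralising a subgroup centralises the smaller ones. -/
theorem fixes_sub {Y Y' P : Subgroup Ω} {φ : P →* Ω} (h : Y' ≤ Y) (hf : Fixes F Y P φ) : Fixes F Y' P φ := by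
  obtain ⟨b, hb, hb1, hb2⟩ := hf
  obtain ⟨c, hc, hce⟩ := exists_restrict hb (sup_le_sup_left h P)
  exact ⟨c, hc, fun x => (hce _).trans (hb1 x), fun y => (hce _).trans (hb2 ⟨y, h y.2⟩)⟩

/-- The step: a perfect system inside a normal subsystem over `U` centralising `Q ∩ U` centralises `Q`. -/
theorem fixes_core_step [Finite S] {p : ℕ} [Fact p.Prime] (hS : IsPGroup p S) {U T : Subgroup Ω}
    {D : FusionSystem U} {C : FusionSystem T} (hD : D.IsNormalIn F p) {Q : Subgroup Ω} (hQ : F.IsNormal Q)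
    (hCs : C.IsSaturated p) (hTU : T ≤ U) (hperf : C.hyperfocalSubgroup p = T)
    (hTZ : T ≤ centralizerIn U (Q ⊓ U))
    (hC : ∀ (P : Subgroup Ω) (φ : P →* Ω), φ ∈ C.Hom P → φ ∈ D.Hom P ∧ Fixes D (Q ⊓ U) P φ) :
    T ≤ centralizerIn S Q ∧ ∀ (P : Subgroup Ω) (φ : P →* Ω), φ ∈ C.Hom P → Fixes F Q P φ := by
  have hsub := hD.1.2.2.1
  have hsc := hD.1.2.2.2.1
  have hTS : T ≤ S := hTU.trans hsc.1
  have hQS := hQ.1
  haveI := finite_sub hTS
  haveI := finite_sub hQS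
  -- maps extend moving `Q` by elements of `Q ∩ U`, which they fix
  have key : ∀ (P : Subgroup Ω) (φ : P →* Ω), φ ∈ C.Hom P → ∃ ψ ∈ F.Hom (P ⊔ Q),
      (∀ x : P, ψ (Subgroup.inclusion le_sup_left x) = φ x) ∧
      (∀ q : Q, (q : Ω)⁻¹ * ψ (Subgroup.inclusion le_sup_right q) ∈ Q ⊓ U) ∧
      ∀ z : ↥(P ⊔ Q), (z : Ω) ∈ Q ⊓ U → ψ z = z := by
    intro P φ hφ
    obtain ⟨χ, hχ, hχ1, hχ2⟩ := (hC P φ hφ).2
    obtain ⟨b, hb, hb1, hb2⟩ := near_of_normal hS hD hQ _ χ hχ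
    obtain ⟨c, hc, hce⟩ := exists_restrict hb (sup_le_sup_right (le_sup_left : P ≤ P ⊔ Q ⊓ U) Q)
    refine ⟨c, hc, fun x => ?_, fun q => ?_, fun z hz => ?_⟩
    · rw [hce, ← hχ1, ← hb1]; rfl
    · have hcq : c (Subgroup.inclusion le_sup_right q) ∈ Q := isNormal_apply_mem hQ hc q.2
      refine ⟨Q.mul_mem (Q.inv_mem q.2) hcq, ?_⟩
      rw [hce]; exact hb2 q
    · have h := hb1 ⟨z, (le_sup_right : Q ⊓ U ≤ P ⊔ Q ⊓ U) hz⟩
      rw [hce]
      exact h.trans (hχ2 ⟨z, hz⟩)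
  have hcomm : ∀ q ∈ Q, ∀ t ∈ T, q * t * q⁻¹ * t⁻¹ ∈ Q ⊓ U := by
    intro q hq t ht
    refine ⟨?_, U.mul_mem (conj_mem_of_normalizer (stronglyClosed_le_normalizer hsc (hQS hq)) (hTU ht))
      (U.inv_mem (hTU ht))⟩
    rw [show q * t * q⁻¹ * t⁻¹ = q * (t * q⁻¹ * t⁻¹) by group]
    exact Q.mul_mem hq (conj_mem_of_normalizer (isNormal_le_normalizer hQ (hTS ht)) (Q.inv_mem hq))
  have hTQ : T ≤ centralizerIn S Q := by
    intro x hx
    refine mem_centralizerIn.2 ⟨hTS hx, fun q hq => ?_⟩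
    let χ : T →* Ω :=
      { toFun := fun t => q * t * q⁻¹ * (t : Ω)⁻¹
        map_one' := by simp
        map_mul' := fun t u => by
          have h := (mem_centralizerIn.1 (hTZ t.2)).2 _ (hcomm q hq u u.2)
          calc q * (t * u : Ω) * q⁻¹ * (t * u : Ω)⁻¹
              = q * t * q⁻¹ * ((q * u * q⁻¹ * (u : Ω)⁻¹) * (t : Ω)⁻¹) := by group
            _ = q * t * q⁻¹ * ((t : Ω)⁻¹ * (q * u * q⁻¹ * (u : Ω)⁻¹)) := by
                congr 1
                generalize q * (u : Ω) * q⁻¹ * (u : Ω)⁻¹ = z at h ⊢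
                calc z * (t : Ω)⁻¹ = (t : Ω)⁻¹ * ((t : Ω) * z) * (t : Ω)⁻¹ := by group
                  _ = (t : Ω)⁻¹ * (z * (t : Ω)) * (t : Ω)⁻¹ := by rw [h]
                  _ = (t : Ω)⁻¹ * z := by group
            _ = q * t * q⁻¹ * (t : Ω)⁻¹ * (q * u * q⁻¹ * (u : Ω)⁻¹) := by group }
    have hall : T ≤ χ.ker.map T.subtype := by
      conv_lhs => rw [← hperf]
      refine (Subgroup.closure_le _).2 ?_
      rintro _ ⟨P, α, y, hPT, -, rfl⟩
      obtain ⟨φ, hφ, -, hφe⟩ := exists_hom_of_aut hPT α.2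
      obtain ⟨ψ, hψ, hψ1, hψ2, hψ3⟩ := key P φ hφ
      set αy : P := (α : MulAut P) y with hαy
      refine ⟨(⟨y, hPT y.2⟩ : T)⁻¹ * ⟨αy, hPT αy.2⟩, ?_, rfl⟩
      show χ _ = 1
      rw [map_mul, map_inv, inv_mul_eq_one]
      show q * y * q⁻¹ * (y : Ω)⁻¹ = q * αy * q⁻¹ * (αy : Ω)⁻¹
      set qW : ↥(P ⊔ Q) := Subgroup.inclusion le_sup_right ⟨q, hq⟩ with hqW
      set yW : ↥(P ⊔ Q) := Subgroup.inclusion le_sup_left y with hyW
      have hy : ψ yW = αy := (hψ1 y).trans (hφe y)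
      set z : Ω := q⁻¹ * ψ qW with hz
      have hzQU : z ∈ Q ⊓ U := hψ2 ⟨q, hq⟩
      have h1 : ψ (qW * yW * qW⁻¹ * yW⁻¹) = q * y * q⁻¹ * (y : Ω)⁻¹ := hψ3 _ (hcomm q hq y (hPT y.2))
      rw [map_mul, map_mul, map_mul, map_inv, map_inv, hy, show ψ qW = q * z by rw [hz, mul_inv_cancel_left]]
        at h1
      have hzc : z * (αy : Ω) = αy * z := (mem_centralizerIn.1 (hTZ (hPT αy.2))).2 z hzQU
      rw [← h1]
      calc q * z * (αy : Ω) * (q * z)⁻¹ * (αy : Ω)⁻¹ = q * (z * αy) * z⁻¹ * q⁻¹ * (αy : Ω)⁻¹ := by group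
        _ = q * (αy * z) * z⁻¹ * q⁻¹ * (αy : Ω)⁻¹ := by rw [hzc]
        _ = q * αy * q⁻¹ * (αy : Ω)⁻¹ := by group
    obtain ⟨t, ht, hte⟩ := hall hx
    have h1 : q * (t : Ω) * q⁻¹ * (t : Ω)⁻¹ = 1 := ht
    rw [mul_inv_eq_one, mul_inv_eq_iff_eq_mul] at h1
    rw [← hte]
    exact h1
  refine ⟨hTQ, ?_⟩
  have hTp : IsPGroup p T := isPGroup_of_le hS hTS
  refine FusionP3.Induction.hom_induction hTp hCs ?_ ?_ ?_
  · exact fun P R φ ψ χ _ _ h he h1 h2 => Fixes.comp h he h1 h2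
  · exact fun P R φ ψ h _ he h2 => Fixes.restrict h he h2
  intro R hRn _ _ a ha _
  have hRT : R ≤ T := hRn.1
  have hRS := hRT.trans hTS
  haveI := finite_sub hRS
  haveI := finite_sub (sup_le hRS hQS)
  have hinner : ∀ b ∈ autInducedBy T R, Fixes F Q R (R.subtype.comp b.toMonoidHom) := by
    intro b hb
    obtain ⟨g, hg, he⟩ := mem_autInducedBy.1 hb
    refine ⟨conjHom _ g, F.conj_mem (sup_le hRS hQS) (hTS hg), fun x => (he x).symm, fun q => ?_⟩
    show g * (q : Ω) * g⁻¹ = q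
    rw [← (mem_centralizerIn.1 (hTQ hg)).2 q q.2, mul_inv_cancel_right]
  let G : Subgroup (MulAut R) :=
    { carrier := {b | Fixes F Q R (R.subtype.comp b.toMonoidHom)}
      one_mem' := hinner 1 (one_mem _)
      mul_mem' := fun {b c} hb hc => Fixes.comp (fun x => (c x).2) (fun x => rfl) hc hb
      inv_mem' := fun {b} hb => by
        have hpow : ∀ i : ℕ, Fixes F Q R (R.subtype.comp (b ^ i).toMonoidHom) := by
          intro i
          induction i with
          | zero => rw [pow_zero]; exact hinner 1 (one_mem _)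
          | succ i ih =>
            rw [pow_succ]
            exact Fixes.comp (fun x => (b x).2) (fun x => rfl) hb ih
        show Fixes F Q R _
        rw [show b⁻¹ = b ^ (orderOf b - 1) by
          rw [inv_eq_iff_mul_eq_one, ← pow_succ', Nat.sub_add_cancel (orderOf_pos b), pow_orderOf_eq_one]]
        exact hpow _ }
  obtain ⟨Sy, hSy⟩ := (fullyAutomized_of_fullyNormalized hTp hCs hRn).2
  have hgen := closure_prime_to_sup_sylow Sy
  refine ((?_ : _ ⊔ _ ≤ G.subgroupOf (C.autGroup R)) (hgen.ge (Subgroup.mem_top (⟨a, ha⟩ : C.autGroup R))) :)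
  refine sup_le ((Subgroup.closure_le _).2 fun b hb => ?_) fun b hb => ?_
  swap
  · rw [hSy, Subgroup.mem_subgroupOf] at hb
    exact hinner _ hb
  · have hb' : ¬ p ∣ orderOf ((b : C.autGroup R) : MulAut R) := by rwa [Subgroup.orderOf_coe]
    obtain ⟨φ, hφ, -, hφe⟩ := exists_hom_of_aut hRT b.2
    obtain ⟨ψ, hψ, hψ1, hψ2, hψ3⟩ := key R φ hφ
    have hψm : ∀ w, ψ w ∈ R ⊔ Q := mapsTo_sup
      (fun x => by rw [hψ1, hφe]; exact (le_sup_left : R ≤ R ⊔ Q) ((b : MulAut R) x).2)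
      (fun q => (le_sup_right : Q ≤ R ⊔ Q) (isNormal_apply_mem hQ hψ q.2))
    have hψr := range_eq_of_mem hψ hψm le_rfl
    set B₀ : MulAut ↥(R ⊔ Q) := homEquiv hψ hψr with hB₀
    obtain ⟨n, hn, hBn⟩ := exists_pow_prime_to (x := B₀) hb'
    set B := B₀ ^ n with hB
    have hres : ∀ (i : ℕ) (x : R), (B₀ ^ i) (Subgroup.inclusion le_sup_left x) =
        Subgroup.inclusion le_sup_left (((b : MulAut R) ^ i) x) := by
      intro i
      induction i with
      | zero => exact fun x => rfl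
      | succ i ih =>
        intro x
        rw [pow_succ', pow_succ', MulAut.mul_apply, MulAut.mul_apply, ih]
        exact Subtype.ext ((hψ1 _).trans (hφe _))
    have hmove : ∀ q : Q, ∀ i : ℕ, ((B₀ ^ i) (Subgroup.inclusion le_sup_right q) : Ω) =
        q * ((q : Ω)⁻¹ * ψ (Subgroup.inclusion le_sup_right q)) ^ i := by
      intro q i
      set z : Ω := (q : Ω)⁻¹ * ψ (Subgroup.inclusion le_sup_right q) with hz
      have hzW : z ∈ R ⊔ Q := (le_sup_right : Q ≤ R ⊔ Q) (hψ2 q).1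
      have h0 : B₀ ⟨z, hzW⟩ = ⟨z, hzW⟩ := Subtype.ext (hψ3 ⟨z, hzW⟩ (hψ2 q))
      have h1 : B₀ (Subgroup.inclusion le_sup_right q) = Subgroup.inclusion le_sup_right q * ⟨z, hzW⟩ :=
        Subtype.ext (mul_inv_cancel_left _ _).symm
      have : (B₀ ^ i) (Subgroup.inclusion le_sup_right q) = Subgroup.inclusion le_sup_right q * ⟨z, hzW⟩ ^ i := by
        induction i with
        | zero => simp
        | succ i ih => rw [pow_succ', MulAut.mul_apply, ih, map_mul, map_pow, h0, h1, mul_assoc, ← pow_succ']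
      rw [this]; rfl
    obtain ⟨σ, hσ, -, hσe⟩ := exists_hom_of_aut (sup_le hRS hQS)
      (pow_mem (homEquiv_mem_autGroup hψ hψr) n : B ∈ F.autGroup (R ⊔ Q))
    refine ⟨σ, hσ, fun x => ?_, fun q => ?_⟩
    · rw [hσe]
      show ((B₀ ^ n) _ : Ω) = _
      rw [hres, hn]; rfl
    · rw [hσe]
      show ((B₀ ^ n) _ : Ω) = _
      rw [hmove q n]
      set z : Ω := (q : Ω)⁻¹ * ψ (Subgroup.inclusion le_sup_right q) with hz
      have h2 := hmove q (n * orderOf B)
      rw [pow_mul B₀, ← hB, pow_orderOf_eq_one, MulAut.one_apply, pow_mul] at h2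
      have h3 : (z ^ n) ^ orderOf B = 1 := mul_eq_left.1 h2.symm
      obtain ⟨e, he⟩ := (isPGroup_of_le hS hQS) ⟨z, (hψ2 q).1⟩
      have he' : z ^ p ^ e = 1 := by simpa using congrArg Subtype.val he
      have h4 := mem_zpowers_pow (show (z ^ n) ^ p ^ e = 1 by rw [← pow_mul, mul_comm, pow_mul, he', one_pow]) hBn
      rw [h3, Subgroup.zpowers_one_eq_bot, Subgroup.mem_bot] at h4
      rw [h4, mul_one]

/-- The core centralises every component. -/
theorem fixes_core {T : Subgroup Ω} {p : ℕ} {F : FusionSystem S} {C : FusionSystem T}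
    (hC : C.IsSubnormalIn F p) (hp : Fact p.Prime) (hfin : Finite S) (hS : IsPGroup p S)
    (hF : F.IsSaturated p) (hq : C.Quasisimple p) :
    T ≤ centralizerIn S F.core ∧
      ∀ (P : Subgroup Ω) (φ : P →* Ω), φ ∈ C.Hom P → φ ∈ F.Hom P ∧ Fixes F F.core P φ := by
  induction hC with
  | refl F p =>
    have hle := core_le_center_of_quasisimple hS hq
    refine ⟨fun x hx => ⟨hx, fun y hy => ?_⟩, fun P φ hφ => ⟨hφ, fixes_sub hle ?_⟩⟩
    · exact ((center_le_centralizer F (hle hy)) x hx).symm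
    · exact (FusionAlperin.Join.isCentral_center F).2 P φ hφ
  | @step U S C D F p hsub hD ih =>
    obtain ⟨⟨hDs, -, hinv⟩, -⟩ := id hD
    have hUS : U ≤ S := hinv.2.1.1
    haveI := finite_sub (S := S) hUS
    obtain ⟨hTc, hC'⟩ := ih hp inferInstance (isPGroup_of_le hS hUS) hDs hq
    have hQ := FusionAlperin.Join.isNormal_core F
    have hZ : F.core ⊓ U ≤ D.core := le_sSup (isNormal_inf hS hD hQ)
    obtain ⟨h1, h2⟩ := fixes_core_step hS hD hQ hq.1 (hTc.trans (centralizerIn_le _)) hq.2.1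
      (hTc.trans (centralizerIn_anti hZ)) (fun P φ hφ => ⟨(hC' P φ hφ).1, fixes_sub hZ (hC' P φ hφ).2⟩)
    exact ⟨h1, fun P φ hφ => ⟨hinv.1 P (hC' P φ hφ).1, h2 P φ hφ⟩⟩

end Cfsg.Agent.Lib.FS
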