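import Cfsg.Agent.Lib.FusionSystem.PPowerKernel

/-!
# Subsystems of `p`-power index: existence and uniqueness
-/

set_option autoImplicit false
set_option linter.style.haveILetI false
set_option linter.unusedSectionVars false

namespace Cfsg.Agent.Lib.FS.PPowerKernel

open Cfsg Cfsg.FusionSystem Cfsg.Agent.Lib Cfsg.Agent.Lib.FS

universe u

variable {Ω : Type u} [Group Ω] {p : ℕ} [Fact p.Prime]

/-- The hyperfocal subgroup is monotone. -/
theorem hyperfocal_mono {S T : Subgroup Ω} {F : FusionSystem S} {E : FusionSystem T} (hTS : T ≤ S)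
    (h : E.IsSubsystemOf F) : E.hyperfocalSubgroup p ≤ F.hyperfocalSubgroup p := by
  refine (Subgroup.closure_le _).2 ?_
  rintro _ ⟨P, α, x, hP, hα, rfl⟩
  exact FusionP3.Tate.hyperfocal_gen_mem (hP.trans hTS) (Transfer.PResidual.map_pResidual_le
    (Subgroup.inclusion (FusionP3.GT.autGroup_mono h hP)) ⟨α, hα, rfl⟩) x

/-- Uniqueness. -/
theorem pPower_le {S T : Subgroup Ω} [Finite S] (hS : IsPGroup p S) {F : FusionSystem S}
    {E E' : FusionSystem T} (hTS : T ≤ S) (hE : E.IsSaturated p) (hEi : E.IsSubsystemOf F)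
    (hE' : E'.HasPPowerIndexIn F p) : E.IsSubsystemOf E' := by
  haveI := finite_sub hTS
  have hTp := hS.to_le hTS
  intro P φ hφ
  refine FusionP3.Induction.hom_induction hTp hE (M := fun P φ => φ ∈ E'.Hom P) ?_ ?_ ?_ P φ hφ
  · exact fun P Q φ ψ χ _ _ h he h1 h2 => mem_comp h1 h2 h he
  · exact fun P Q φ ψ h _ he h2 => mem_of_restrict h2 h he
  · intro R hRn _ _ a ha _
    refine (mem_autGroup hRn.1).1 ((FusionP3.Prime.PPower.autGroup_le_sup' E
      (fullyAutomized_of_fullyNormalized hTp hE hRn) (fun b hb hc => ?_)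
      (autInducedBy_le_autGroup E' hRn.1)) ha)
    exact FusionP3.Prime.PPower.coprime_aut_mem hE' hRn.1 (FusionP3.GT.autGroup_mono hEi hRn.1 hb) hc

/-- Existence over any subgroup containing the hyperfocal subgroup. -/
theorem exists_pPower {S : Subgroup Ω} [Finite S] (hS : IsPGroup p S) (F : FusionSystem S)
    (hF : F.IsSaturated p) {T : Subgroup Ω} (hTS : T ≤ S) (hT : F.hyperfocalSubgroup p ≤ T) :
    ∃ E : FusionSystem T, E.IsSaturated p ∧ E.HasPPowerIndexIn F p := by
  suffices key : ∀ (n : ℕ) (S : Subgroup Ω), Nat.card S ≤ n → Finite S → IsPGroup p S →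
      ∀ F : FusionSystem S, F.IsSaturated p → T ≤ S → F.hyperfocalSubgroup p ≤ T →
        ∃ E : FusionSystem T, E.IsSaturated p ∧ E.HasPPowerIndexIn F p from
    key _ S le_rfl inferInstance hS F hF hTS hT
  intro n
  induction n with
  | zero =>
    intro S h hfin
    exact absurd h Nat.card_pos.not_ge
  | succ n ih =>
    intro S hn hfin hS F hF hTS hT
    rcases hTS.eq_or_lt with rfl | hlt
    · refine ⟨F, hF, fun P φ h => h, FusionP3.Tate.hyperfocal_le F p, fun P _ => ?_⟩
      exact Subgroup.map_subtype_le _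
    have hne : T.subgroupOf S ≠ ⊤ := fun h => hlt.not_ge (Subgroup.subgroupOf_eq_top.1 h)
    obtain ⟨M, hM, hTM⟩ := (eq_top_or_exists_le_coatom (T.subgroupOf S)).resolve_left hne
    set T₁ : Subgroup Ω := M.map S.subtype with hT₁
    have hT₁S : T₁ ≤ S := Subgroup.map_subtype_le M
    have hMeq : T₁.subgroupOf S = M := Subgroup.comap_map_eq_self_of_injective S.subtype_injective M
    haveI : (T₁.subgroupOf S).Normal := hMeq.symm ▸ PGroups.coatom_normal hS hM
    have hidx : (T₁.subgroupOf S).index = p := hMeq.symm ▸ PGroups.coatom_index hS hM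
    have hTT₁ : T ≤ T₁ := fun x hx => ⟨⟨x, hTS hx⟩, hTM (Subgroup.mem_subgroupOf.2 hx), rfl⟩
    obtain ⟨E₁, hE₁, hi₁⟩ := exists_pPower_of_index hS hF hT₁S hidx (hT.trans hTT₁)
    haveI := finite_sub hT₁S
    have hcard : Nat.card T₁ ≤ n := by
      have h1 := (T₁.subgroupOf S).card_mul_index
      rw [hidx, Nat.card_congr (Subgroup.subgroupOfEquivOfLe hT₁S).toEquiv] at h1
      have h2 : Nat.card T₁ * 2 ≤ Nat.card S := h1 ▸ Nat.mul_le_mul_left _ (Fact.out : p.Prime).two_le
      have h3 : 0 < Nat.card T₁ := Nat.card_pos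
      omega
    obtain ⟨E, hE, hi⟩ := ih T₁ hcard inferInstance (hS.to_le hT₁S) E₁ hE₁ hTT₁
      ((hyperfocal_mono hT₁S hi₁.1).trans hT)
    refine ⟨E, hE, fun P φ h => hi₁.1 P (hi.1 P h), hT, fun P hP => ?_⟩
    rw [Subgroup.map_le_iff_le_comap, Transfer.PResidual.pResidual_le_iff]
    intro b hb
    have h1 : (b : MulAut P) ∈ E₁.autGroup P :=
      FusionP3.Prime.PPower.coprime_aut_mem hi₁ (hP.trans hTT₁) b.2
        (by rwa [Subgroup.orderOf_coe])
    show (b : MulAut P) ∈ E.autGroup P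
    exact FusionP3.Prime.PPower.coprime_aut_mem hi hP h1 (by rwa [Subgroup.orderOf_coe])

end Cfsg.Agent.Lib.FS.PPowerKernel
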