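/-
Normal subsystems of the fusion system of a finite group `G` with `C_G(O_p(G)) ≤ O_p(G)` come from unique
normal subgroups of `G`.
-/
import Cfsg.Agent.Lib.FusionSystem.NormalSub
import Cfsg.Agent.Lib.FusionSystem.Normal
import Cfsg.Agent.Lib.FusionP3.Induction
import Mathlib.GroupTheory.Transfer
set_option autoImplicit false
set_option linter.style.haveILetI false
set_option linter.unusedSectionVars false

namespace Cfsg.Agent.Lib.FS.NormalModel

open Cfsg Cfsg.FusionSystem Cfsg.Agent.Lib Cfsg.Agent.Lib.FS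

variable {G : Type*} [Group G] {S T : Subgroup G} {E : FusionSystem T}

/-- Conjugation by `g` induces on `P` an automorphism of the system. -/
def Ind (E : FusionSystem T) (P : Subgroup G) (g : G) : Prop :=
  ∃ a ∈ E.autGroup P, ∀ x : P, ((a x : P) : G) = g * x * g⁻¹

theorem Ind.one (P : Subgroup G) : Ind E P 1 := ⟨1, one_mem _, fun x => by simp⟩

theorem Ind.mul {P : Subgroup G} {g h : G} (hg : Ind E P g) (hh : Ind E P h) : Ind E P (g * h) := by
  obtain ⟨a, ha, ea⟩ := hg; obtain ⟨b, hb, eb⟩ := hh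
  exact ⟨a * b, mul_mem ha hb, fun x => by rw [MulAut.mul_apply, ea, eb]; group⟩

theorem Ind.inv {P : Subgroup G} {g : G} (hg : Ind E P g) : Ind E P g⁻¹ := by
  obtain ⟨a, ha, ea⟩ := hg
  refine ⟨a⁻¹, inv_mem ha, fun x => ?_⟩
  have h := ea (a⁻¹ x)
  rw [MulAut.apply_inv_self] at h
  rw [h]; group

theorem Ind.congr {P : Subgroup G} {g h : G} (hg : Ind E P g)
    (e : ∀ x ∈ P, h * x * h⁻¹ = g * x * g⁻¹) : Ind E P h := by
  obtain ⟨a, ha, ea⟩ := hg
  exact ⟨a, ha, fun x => by rw [ea, e _ x.2]⟩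

theorem Ind.pow {P : Subgroup G} {g : G} (hg : Ind E P g) : ∀ n : ℕ, Ind E P (g ^ n)
  | 0 => by rw [pow_zero]; exact Ind.one P
  | n + 1 => by rw [pow_succ]; exact (Ind.pow hg n).mul hg

theorem Ind.mem_normalizer {P : Subgroup G} {g : G} (hg : Ind E P g) :
    g ∈ Subgroup.normalizer (P : Set G) := by
  obtain ⟨a, -, ea⟩ := hg; exact mem_normalizer_of_aut ea

theorem Ind.hom {P : Subgroup G} {g : G} (hP : P ≤ T) (hg : Ind E P g) : conjHom P g ∈ E.Hom P := by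
  obtain ⟨a, ha, ea⟩ := hg
  exact hom_congr ((mem_autGroup hP).1 ha) fun x => (ea x).symm

theorem ind_of_hom {P : Subgroup G} [Finite P] {g : G} {φ : P →* G} (hφ : φ ∈ E.Hom P)
    (e : ∀ x : P, φ x = g * x * g⁻¹) (hg : ∀ x : P, g * x * g⁻¹ ∈ P) : Ind E P g := by
  have hr : φ.range = P := range_eq_of_mem hφ (fun x => (e x).symm ▸ hg x) le_rfl
  exact ⟨_, homEquiv_mem_autGroup hφ hr, e⟩

theorem ind_of_mem {P : Subgroup G} {t : G} [Finite P] (hP : P ≤ T) (ht : t ∈ T)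
    (htP : t ∈ Subgroup.normalizer (P : Set G)) : Ind E P t :=
  ind_of_hom (E.conj_mem hP ht) (fun _ => rfl) fun x => conj_mem_of_normalizer htP x.2

theorem Ind.restrict {P R : Subgroup G} [Finite R] {g : G} (hP : P ≤ T) (hRP : R ≤ P) (hg : Ind E P g)
    (hR : g ∈ Subgroup.normalizer (R : Set G)) : Ind E R g := by
  obtain ⟨ψ, hψ, e⟩ := exists_restrict (hg.hom hP) hRP
  exact ind_of_hom hψ (fun x => e x) fun x => conj_mem_of_normalizer hR x.2

/-- The elements inducing automorphisms of `E` on `U`. -/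
def indSub (E : FusionSystem T) (U : Subgroup G) : Subgroup G where
  carrier := {g | Ind E U g}
  one_mem' := Ind.one U
  mul_mem' := Ind.mul
  inv_mem' := Ind.inv

/-- The elements of `indSub` moving every element of `Q` within its coset of `U`. -/
def xSub (E : FusionSystem T) (U Q : Subgroup G) [hU : U.Normal] : Subgroup G where
  carrier := {g | Ind E U g ∧ ∀ x ∈ Q, g * x * g⁻¹ * x⁻¹ ∈ U}
  one_mem' := ⟨Ind.one U, fun x _ => by simp⟩
  mul_mem' := by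
    rintro g h ⟨hg, hg'⟩ ⟨hh, hh'⟩
    refine ⟨hg.mul hh, fun x hx => ?_⟩
    have := U.mul_mem (hU.conj_mem _ (hh' x hx) g) (hg' x hx)
    convert this using 1
    group
  inv_mem' := by
    rintro g ⟨hg, hg'⟩
    refine ⟨hg.inv, fun x hx => ?_⟩
    have := U.inv_mem (hU.conj_mem _ (hg' x hx) g⁻¹)
    convert this using 1
    group

theorem mem_xSub {U Q : Subgroup G} [U.Normal] {g : G} :
    g ∈ xSub E U Q ↔ Ind E U g ∧ ∀ x ∈ Q, g * x * g⁻¹ * x⁻¹ ∈ U := Iff.rfl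

variable [Finite G] {p : ℕ} [Fact p.Prime]

theorem pow_conj_of_commute {g z x : G} (hz : g * z = z * g) (hx : g * x * g⁻¹ = z * x) :
    ∀ j : ℕ, g ^ j * x * (g ^ j)⁻¹ = z ^ j * x
  | 0 => by simp
  | j + 1 => by
    have h1 : g * z ^ j * g⁻¹ = z ^ j := by rw [(Commute.pow_right hz j).eq]; group
    rw [pow_succ' g, pow_succ z, mul_inv_rev,
      show g * g ^ j * x * ((g ^ j)⁻¹ * g⁻¹) = g * (g ^ j * x * (g ^ j)⁻¹) * g⁻¹ by group,
      pow_conj_of_commute hz hx j,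
      show g * (z ^ j * x) * g⁻¹ = g * z ^ j * g⁻¹ * (g * x * g⁻¹) by group, h1, hx, mul_assoc]

theorem exists_card_pow_eq_one {A : Subgroup G} (hA : IsPGroup p A) :
    ∃ k : ℕ, ∀ a ∈ A, a ^ p ^ k = 1 := by
  obtain ⟨k, hk⟩ := IsPGroup.iff_card.1 hA
  refine ⟨k, fun a ha => ?_⟩
  have := pow_card_eq_one' (G := A) (x := ⟨a, ha⟩)
  rw [hk] at this
  exact congrArg Subtype.val this

/-- The stabiliser of a normal chain `O_p(G) ≥ A ≥ 1` lies in `O_p(G)`. -/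
theorem stab_le_pCore (hG : Subgroup.centralizer ((pCore p G : Subgroup G) : Set G) ≤ pCore p G)
    {A : Subgroup G} [hAn : A.Normal] (hA : A ≤ pCore p G) {g : G} (h₁ : ∀ a ∈ A, g * a = a * g)
    (h₂ : ∀ x ∈ pCore p G, g * x * g⁻¹ * x⁻¹ ∈ A) : g ∈ pCore p G := by
  have hQn : (pCore p G).Normal := inferInstance
  let K : Subgroup G :=
    { carrier := {g | (∀ a ∈ A, g * a = a * g) ∧ ∀ x ∈ pCore p G, g * x * g⁻¹ * x⁻¹ ∈ A}
      one_mem' := ⟨fun a _ => by simp, fun x _ => by simp⟩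
      mul_mem' := by
        rintro g h ⟨hg, hg'⟩ ⟨hh, hh'⟩
        refine ⟨fun a ha => ?_, fun x hx => ?_⟩
        · rw [mul_assoc, hh a ha, ← mul_assoc, hg a ha, mul_assoc]
        · have := A.mul_mem (hAn.conj_mem _ (hh' x hx) g) (hg' x hx)
          convert this using 1
          group
      inv_mem' := by
        rintro g ⟨hg, hg'⟩
        refine ⟨fun a ha => ?_, fun x hx => ?_⟩
        · calc g⁻¹ * a = g⁻¹ * (a * g) * g⁻¹ := by group
            _ = _ := by rw [← hg a ha]; group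
        · have := A.inv_mem (hAn.conj_mem _ (hg' x hx) g⁻¹)
          convert this using 1
          group }
  haveI : K.Normal := by
    refine ⟨?_⟩
    rintro g ⟨hg, hg'⟩ m
    refine ⟨fun a ha => ?_, fun x hx => ?_⟩
    · have h := hg _ (hAn.conj_mem a ha m⁻¹)
      calc m * g * m⁻¹ * a = m * (g * (m⁻¹ * a * m⁻¹⁻¹)) * m⁻¹ := by group
        _ = _ := by rw [h]; group
    · have := hAn.conj_mem _ (hg' _ (hQn.conj_mem x hx m⁻¹)) m
      convert this using 1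
      group
  have hQp : IsPGroup p (pCore p G) := Cores.pCore_isPGroup p
  obtain ⟨k, hk⟩ := exists_card_pow_eq_one (hQp.to_le hA)
  obtain ⟨l, hl⟩ := exists_card_pow_eq_one hQp
  have hp : IsPGroup p K := by
    rintro ⟨g, hg, hg'⟩
    refine ⟨k + l, Subtype.ext ?_⟩
    show g ^ p ^ (k + l) = 1
    rw [pow_add, pow_mul]
    refine hl _ (hG fun x hx => ?_)
    have := pow_conj_of_commute (hg _ (hg' x hx)) (by group : g * x * g⁻¹ = g * x * g⁻¹ * x⁻¹ * x) (p ^ k)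
    rw [hk _ (hg' x hx), one_mul] at this
    exact (mul_inv_eq_iff_eq_mul.1 this).symm
  exact Cores.le_pCore hp ⟨h₁, h₂⟩

theorem mem_of_pElement_normalizer {A : Type*} [Group A] [Finite A] (R : Sylow p A) {a : A}
    {k : ℕ} (hk : a ^ p ^ k = 1) (hn : a ∈ Subgroup.normalizer ((R : Subgroup A) : Set A)) : a ∈ R := by
  have hZ : IsPGroup p (Subgroup.zpowers a) := by
    rintro ⟨b, j, rfl⟩
    refine ⟨k, Subtype.ext ?_⟩
    show (a ^ j) ^ p ^ k = 1
    rw [← zpow_natCast, ← zpow_mul, mul_comm, zpow_mul, zpow_natCast, hk, one_zpow]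
  have h : a ∈ Subgroup.zpowers a ⊓ Subgroup.normalizer ((R : Subgroup A) : Set A) :=
    ⟨Subgroup.mem_zpowers a, hn⟩
  exact ((hZ.inf_normalizer_sylow R).le h).2

/-- A `p`-element normalizing `T` which induces an automorphism of `E` on a fully automized `P` acts on `P`
as an element of `T` does. -/
theorem exists_mem_same_action {P : Subgroup G} (hP : E.IsFullyAutomized p P) {g : G} {k : ℕ}
    (hk : g ^ p ^ k = 1) (hgT : g ∈ Subgroup.normalizer (T : Set G)) (hg : Ind E P g) :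
    ∃ t ∈ T, ∀ x ∈ P, t * x * t⁻¹ = g * x * g⁻¹ := by
  obtain ⟨a, ha, ea⟩ := hg
  obtain ⟨hPT, R, hR⟩ := hP
  haveI : Finite (MulAut P) := Finite.of_injective (fun f : MulAut P => (f : P → P)) DFunLike.coe_injective
  have hpow : ∀ j : ℕ, ∀ x : P, (((a ^ j) x : P) : G) = g ^ j * x * (g ^ j)⁻¹ := by
    intro j
    induction j with
    | zero => intro x; simp
    | succ j ih => intro x; rw [pow_succ, MulAut.mul_apply, ih, ea, pow_succ]; group
  have hk' : (⟨a, ha⟩ : E.autGroup P) ^ p ^ k = 1 := by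
    refine Subtype.ext (MulEquiv.ext fun x => Subtype.ext ?_)
    show (((a ^ p ^ k) x : P) : G) = (x : G)
    rw [hpow, hk]; simp
  have hn : (⟨a, ha⟩ : E.autGroup P) ∈
      Subgroup.normalizer (((R : Subgroup (E.autGroup P))) : Set (E.autGroup P)) := by
    refine mem_normalizer_of_conj_mem fun b hb => ?_
    change b ∈ (R : Subgroup (E.autGroup P)) at hb
    show _ ∈ (R : Subgroup (E.autGroup P))
    rw [hR, Subgroup.mem_subgroupOf, mem_autInducedBy] at hb ⊢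
    obtain ⟨t, ht, et⟩ := hb
    refine ⟨g * t * g⁻¹, conj_mem_of_normalizer hgT ht, fun x => ?_⟩
    obtain ⟨y, rfl⟩ := a.surjective x
    simp only [Subgroup.coe_mul, Subgroup.coe_inv, MulAut.mul_apply, MulAut.inv_apply_self]
    rw [ea, et, ea]; group
  have h : (⟨a, ha⟩ : E.autGroup P) ∈ (R : Subgroup (E.autGroup P)) := mem_of_pElement_normalizer R hk' hn
  rw [hR, Subgroup.mem_subgroupOf, mem_autInducedBy] at h
  obtain ⟨t, ht, et⟩ := h
  exact ⟨t, ht, fun x hx => (et ⟨x, hx⟩).symm.trans (ea ⟨x, hx⟩)⟩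

/-- A coprime element centralising both layers centralises. -/
theorem coprime_step {U Q : Subgroup G} [hU : U.Normal] (hQ : IsPGroup p Q) {n : G} {r : ℕ}
    (hr : n ^ r = 1) (hpr : ¬ p ∣ r) (hn : ∀ x ∈ Q, n * x * n⁻¹ * x⁻¹ ∈ Q)
    (h₂ : ∀ x ∈ Q, n * (n * x * n⁻¹ * x⁻¹) * n⁻¹ * (n * x * n⁻¹ * x⁻¹)⁻¹ ∈ U) {x : G} (hx : x ∈ Q) :
    n * x * n⁻¹ * x⁻¹ ∈ U := by
  set π := QuotientGroup.mk' U with hπ
  have hU1 : ∀ y : G, y ∈ U ↔ π y = 1 := fun y => (QuotientGroup.eq_one_iff y).symm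
  set y := n * x * n⁻¹ * x⁻¹ with hy
  have h1 : π n * π x * (π n)⁻¹ = π y * π x := by
    simp only [hy, map_mul, map_inv]; group
  have h2 : π n * π y = π y * π n := by
    have := (hU1 _).1 (h₂ x hx)
    simp only [map_mul, map_inv] at this
    exact mul_inv_eq_iff_eq_mul.1 (mul_inv_eq_one.1 this)
  have h3 := pow_conj_of_commute h2 h1 r
  rw [← map_pow, hr, map_one, one_mul, inv_one, mul_one] at h3
  have h4 : π y ^ r = 1 := by
    have := congrArg (· * (π x)⁻¹) h3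
    simpa using this.symm
  obtain ⟨k, hk⟩ := exists_card_pow_eq_one hQ
  have h5 : π y ^ p ^ k = 1 := by rw [← map_pow, hk y (hn x hx), map_one]
  rw [hU1, ← pow_one (π y), ← ((Nat.Prime.coprime_iff_not_dvd Fact.out).2 hpr).pow_left k]
  exact pow_gcd_eq_one.2 ⟨h5, h4⟩

section Setting

variable (S : Sylow p G)
variable (hG : Subgroup.centralizer ((pCore p G : Subgroup G) : Set G) ≤ pCore p G)
variable (hTS : T ≤ (S : Subgroup G))
variable (hE : E.IsNormalIn (groupFusionSystem (S : Subgroup G)) p)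
include hTS hE

/-- `U = T ∩ O_p(G)`. -/
local notation "𝕌" => T ⊓ pCore p G

theorem hom_sub {P : Subgroup G} {φ : P →* G} (h : φ ∈ E.Hom P) :
    ∃ g : G, ∀ x : P, φ x = g * x * g⁻¹ := (hE.1.2.2.1 P h).2.2

theorem conj_mem_T {g x : G} (hx : x ∈ T) (hgx : g * x * g⁻¹ ∈ (S : Subgroup G)) : g * x * g⁻¹ ∈ T := by
  have hle : Subgroup.zpowers x ≤ T := Subgroup.zpowers_le.2 hx
  have hmem : conjHom (Subgroup.zpowers x) g ∈ (groupFusionSystem (S : Subgroup G)).Hom (Subgroup.zpowers x) := by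
    refine conjHom_mem_group (hle.trans hTS) ?_
    rintro _ ⟨j, rfl⟩
    have := (S : Subgroup G).zpow_mem hgx j
    rw [conj_zpow] at this
    exact this
  exact hE.1.2.2.2.1.2 _ hle _ hmem ⟨x, Subgroup.mem_zpowers x⟩

theorem sylow_le_normalizer : (S : Subgroup G) ≤ Subgroup.normalizer (T : Set G) := fun s hs =>
  mem_normalizer_of_conj_mem fun x hx => conj_mem_T S hTS hE hx
    ((S : Subgroup G).mul_mem ((S : Subgroup G).mul_mem hs (hTS hx)) ((S : Subgroup G).inv_mem hs))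

theorem u_normal : (𝕌).Normal := by
  refine ⟨fun u hu g => ?_⟩
  have h2 : g * u * g⁻¹ ∈ pCore p G := (inferInstance : (pCore p G).Normal).conj_mem u hu.2 g
  exact ⟨conj_mem_T S hTS hE hu.1 (Cores.pCore_le_sylow S h2), h2⟩

theorem isPGroup_T : IsPGroup p T := S.isPGroup'.to_le hTS

/-- `Aut_E(P)` is invariant under the normalizer of `T`. -/
theorem ind_conj {P : Subgroup G} (hPT : P ≤ T) {n g : G} (hnT : n ∈ Subgroup.normalizer (T : Set G))
    (hnP : n ∈ Subgroup.normalizer (P : Set G)) (hg : Ind E P g) : Ind E P (n * g * n⁻¹) := by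
  obtain ⟨α, hα, eα⟩ : ∃ α ∈ (groupFusionSystem (S : Subgroup G)).autGroup T,
      ∀ x : T, ((α x : T) : G) = n * x * n⁻¹ := by
    have hr : (conjHom T n).range = T := by
      rw [conjHom_range]; exact Subgroup.mem_normalizer_iff_map_conj_eq.1 hnT
    have hm : conjHom T n ∈ (groupFusionSystem (S : Subgroup G)).Hom T :=
      conjHom_mem_group hTS fun x hx => hTS (conj_mem_of_normalizer hnT hx)
    exact ⟨_, homEquiv_mem_autGroup hm hr, fun _ => rfl⟩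
  have hgP := hg.mem_normalizer
  obtain ⟨χ, hχ, eχ⟩ := hE.1.2.2.2.2.1 P hPT _ (hg.hom hPT) α hα
  have hsrc : P ≤ (P.subgroupOf T).map (T.subtype.comp α.toMonoidHom) := by
    intro y hy
    have hy' := conj_inv_mem_of_normalizer hnP hy
    refine ⟨⟨_, hPT hy'⟩, Subgroup.mem_subgroupOf.2 hy', ?_⟩
    show ((α ⟨_, hPT hy'⟩ : T) : G) = y
    rw [eα]; show n * (n⁻¹ * y * n) * n⁻¹ = y; group
  obtain ⟨χ', hχ', eχ'⟩ := exists_restrict hχ hsrc
  refine ind_of_hom hχ' (fun y => ?_) fun x => conj_mem_of_normalizer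
    ((Subgroup.normalizer (P : Set G)).mul_mem ((Subgroup.normalizer (P : Set G)).mul_mem hnP hgP)
      ((Subgroup.normalizer (P : Set G)).inv_mem hnP)) x.2
  have hy' := conj_inv_mem_of_normalizer hnP y.2
  have e : ((α ⟨n⁻¹ * y * n, hPT hy'⟩ : T) : G) = y := by
    rw [eα]; show n * (n⁻¹ * (y : G) * n) * n⁻¹ = y; group
  have h := eχ ⟨n⁻¹ * y * n, hy'⟩ (hPT (conj_mem_of_normalizer hgP hy')) (by rw [e]; exact hsrc y.2)
  rw [eχ' y]
  have e' : (⟨_, hsrc y.2⟩ : ↥((P.subgroupOf T).map (T.subtype.comp α.toMonoidHom))) =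
      ⟨(α ⟨n⁻¹ * y * n, hPT hy'⟩ : T), by rw [e]; exact hsrc y.2⟩ := Subtype.ext e.symm
  rw [e', h, eα]
  show n * (g * (n⁻¹ * (y : G) * n) * g⁻¹) * n⁻¹ = _
  group

/-- `Aut_E(U)` is invariant under `G`. -/
theorem ind_conj_u {g : G} (hg : Ind E 𝕌 g) (m : G) : Ind E 𝕌 (m * g * m⁻¹) := by
  have hU := u_normal S hTS hE
  have hm : conjHom 𝕌 m ∈ (groupFusionSystem (S : Subgroup G)).Hom 𝕌 :=
    conjHom_mem_group (inf_le_left.trans hTS) fun x hx => hTS (hU.conj_mem x hx m).1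
  obtain ⟨α, hα, φ₀, hφ₀, e⟩ := hE.1.2.2.2.2.2 𝕌 inf_le_left _ hm
  rw [group_autGroup hTS, mem_autInducedBy] at hα
  obtain ⟨n, -, eα⟩ := hα
  obtain ⟨k, ek⟩ := hom_sub S hTS hE hφ₀
  have hk : Ind E 𝕌 k := ind_of_hom hφ₀ ek fun x => hU.conj_mem _ x.2 k
  have hnT := mem_normalizer_of_aut eα
  have h1 := ind_conj S hTS hE inf_le_left hnT
    (Subgroup.normalizer_eq_top_iff.2 hU ▸ Subgroup.mem_top n) ((hk.mul hg).mul hk.inv)
  refine h1.congr ?_
  have key : ∀ x : ↥(𝕌), m * x * m⁻¹ = n * (k * x * k⁻¹) * n⁻¹ := by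
    intro x
    have := e x (src_le hφ₀ |> fun _ => apply_mem hφ₀ x)
    rw [eα] at this
    show conjHom 𝕌 m x = _
    rw [this]
    show n * φ₀ x * n⁻¹ = _
    rw [ek]
  have key' : ∀ x ∈ 𝕌, m⁻¹ * x * m = k⁻¹ * (n⁻¹ * x * n) * k := by
    intro x hx
    have hy : k⁻¹ * (n⁻¹ * x * n) * k ∈ 𝕌 := by
      have := hU.conj_mem _ (hU.conj_mem x hx n⁻¹) k⁻¹
      simpa using this
    have h := key ⟨_, hy⟩
    calc m⁻¹ * x * m = m⁻¹ * (n * (k * (k⁻¹ * (n⁻¹ * x * n) * k) * k⁻¹) * n⁻¹) * m := by group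
      _ = _ := by rw [← h]; group
  intro x hx
  have h2 : g * (m⁻¹ * x * m) * g⁻¹ ∈ 𝕌 := hU.conj_mem _ (by simpa using hU.conj_mem x hx m⁻¹) g
  calc m * g * m⁻¹ * x * (m * g * m⁻¹)⁻¹ = m * (g * (m⁻¹ * x * m) * g⁻¹) * m⁻¹ := by group
    _ = n * (k * (g * (m⁻¹ * x * m) * g⁻¹) * k⁻¹) * n⁻¹ := key ⟨_, h2⟩
    _ = _ := by rw [key' x hx]; group

/-- The intermediate normal subgroup. -/
def X : Subgroup G := haveI := u_normal S hTS hE; xSub E 𝕌 (pCore p G)

theorem mem_X {g : G} :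
    g ∈ X S hTS hE ↔ Ind E 𝕌 g ∧ ∀ x ∈ pCore p G, g * x * g⁻¹ * x⁻¹ ∈ 𝕌 := Iff.rfl

theorem X_normal : (X S hTS hE).Normal := by
  refine ⟨fun g hg m => ?_⟩
  rw [mem_X] at hg ⊢
  refine ⟨ind_conj_u S hTS hE hg.1 m, fun x hx => ?_⟩
  have := (u_normal S hTS hE).conj_mem _
    (hg.2 _ ((inferInstance : (pCore p G).Normal).conj_mem x hx m⁻¹)) m
  convert this using 1
  group

theorem T_le_X : T ≤ X S hTS hE := by
  intro t ht
  rw [mem_X]
  have hU := u_normal S hTS hE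
  refine ⟨ind_of_mem inf_le_left ht (Subgroup.normalizer_eq_top_iff.2 hU ▸ Subgroup.mem_top t), fun x hx => ?_⟩
  refine ⟨?_, (pCore p G).mul_mem ((inferInstance : (pCore p G).Normal).conj_mem x hx t) ((pCore p G).inv_mem hx)⟩
  show t * x * t⁻¹ * x⁻¹ ∈ T
  have h := conj_mem_of_normalizer (sylow_le_normalizer S hTS hE (Cores.pCore_le_sylow S hx)) (T.inv_mem ht)
  have := T.mul_mem ht h
  convert this using 1
  group

include hG

/-- `W = X ∩ C_G(U)` lies in `O_p(G)`. -/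
theorem W_le {w : G} (hw : w ∈ X S hTS hE) (hc : w ∈ Subgroup.centralizer ((𝕌 : Subgroup G) : Set G)) :
    w ∈ pCore p G := by
  haveI := u_normal S hTS hE
  exact stab_le_pCore hG inf_le_right (fun a ha => (hc a ha).symm) hw.2

theorem centralizer_inf_T {t : G} (ht : t ∈ T)
    (hc : t ∈ Subgroup.centralizer ((𝕌 : Subgroup G) : Set G)) : t ∈ 𝕌 :=
  ⟨ht, W_le S hG hTS hE (T_le_X S hTS hE ht) hc⟩

theorem u_centric : E.IsCentric 𝕌 := by
  refine ⟨inf_le_left, fun R hR => ?_⟩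
  obtain ⟨φ, hφ, rfl⟩ := hR
  obtain ⟨g, hg⟩ := hom_sub S hTS hE hφ
  have hr : φ.range = 𝕌 := range_eq_of_mem hφ (fun x => hg x ▸ (u_normal S hTS hE).conj_mem _ x.2 g) le_rfl
  rw [hr]
  exact fun t ht => centralizer_inf_T S hG hTS hE ht.1 ht.2

theorem u_isNormal : E.IsNormal 𝕌 := by
  have hU := u_normal S hTS hE
  have hp := isPGroup_T S hTS hE
  refine isNormal_of_centricRadical hp hE.1.1 inf_le_left fun P hPn hc hr => ⟨?_, ?_⟩
  · refine le_of_autInducedBy_le_inn hp hc.1 inf_le_left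
      (fun t _ => Subgroup.normalizer_eq_top_iff.2 hU ▸ Subgroup.mem_top t) (hc.2 P (isConj_refl E hc.1))
      (le_inn_of_radical hr (fun α hα => ?_) ?_ (isPGroup_autInducedBy_of_le hp inf_le_left P))
    · obtain ⟨u, hu, h⟩ := mem_autInducedBy.1 hα
      exact autInducedBy_le_autGroup E hc.1 (mem_autInducedBy.2 ⟨u, hu.1, h⟩)
    · intro α hα k hk
      obtain ⟨u, hu, hk⟩ := mem_autInducedBy.1 hk
      obtain ⟨φ, hφ, -, hφα⟩ := exists_hom_of_aut hc.1 hα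
      obtain ⟨g, hg⟩ := hom_sub S hTS hE hφ
      refine mem_autInducedBy.2 ⟨g * u * g⁻¹, hU.conj_mem u hu g, fun y => ?_⟩
      obtain ⟨x, rfl⟩ := α.surjective y
      rw [MulAut.mul_apply, MulAut.mul_apply, MulAut.inv_apply_self, ← hφα, ← hφα, hg, hg, hk]
      group
  · intro α hα x hx
    obtain ⟨φ, hφ, -, hφα⟩ := exists_hom_of_aut hc.1 hα
    obtain ⟨g, hg⟩ := hom_sub S hTS hE hφ
    rw [← hφα, hg]
    exact hU.conj_mem _ hx g

theorem u_fullyNormalized : E.IsFullyNormalized 𝕌 := by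
  refine ⟨inf_le_left, fun R hR => ?_⟩
  obtain ⟨φ, hφ, rfl⟩ := hR
  obtain ⟨g, hg⟩ := hom_sub S hTS hE hφ
  rw [range_eq_of_mem hφ (fun x => hg x ▸ (u_normal S hTS hE).conj_mem _ x.2 g) le_rfl]

theorem u_props : E.IsFullyAutomized p 𝕌 ∧ E.IsReceptive 𝕌 :=
  (fullyNormalized_props (isPGroup_T S hTS hE) hE.1.1 (u_fullyNormalized S hG hTS hE)).2

/-- An element of `S` inducing an automorphism of `E` on `U` lies in `T C_S(U)`. -/
theorem exists_t_of_ind {s : G} (hs : s ∈ (S : Subgroup G)) (h : Ind E 𝕌 s) :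
    ∃ t ∈ T, t⁻¹ * s ∈ Subgroup.centralizer ((𝕌 : Subgroup G) : Set G) := by
  obtain ⟨k, hk⟩ := exists_card_pow_eq_one (S.isPGroup' : IsPGroup p (S : Subgroup G))
  obtain ⟨t, ht, e⟩ := exists_mem_same_action (u_props S hG hTS hE).1 (hk s hs)
    (sylow_le_normalizer S hTS hE hs) h
  refine ⟨t, ht, fun x hx => ?_⟩
  calc x * (t⁻¹ * s) = t⁻¹ * (t * x * t⁻¹) * s := by group
    _ = _ := by rw [e x hx]; group

/-- A `p'`-element inducing an automorphism of `E` on `T` and satisfying the extension condition lies in `X`. -/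
theorem mem_X_of_ind_T {n : G} {r : ℕ} (hr : n ^ r = 1) (hpr : ¬ p ∣ r) (hn : Ind E T n)
    (hC : ∀ c ∈ centralizerIn (S : Subgroup G) T, c⁻¹ * (n * c * n⁻¹) ∈ T) : n ∈ X S hTS hE := by
  haveI := u_normal S hTS hE
  have hQn : (pCore p G).Normal := inferInstance
  have hnT := hn.mem_normalizer
  rw [mem_X]
  refine ⟨hn.restrict le_rfl inf_le_left (Subgroup.normalizer_eq_top_iff.2 (u_normal S hTS hE) ▸ Subgroup.mem_top n),
    fun x hx => coprime_step (Cores.pCore_isPGroup p) hr hpr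
      (fun z hz => (pCore p G).mul_mem (hQn.conj_mem z hz n) ((pCore p G).inv_mem hz)) (fun z hz => ?_) hx⟩
  set y := n * z * n⁻¹ * z⁻¹ with hy
  have hyQ : y ∈ pCore p G := (pCore p G).mul_mem (hQn.conj_mem z hz n) ((pCore p G).inv_mem hz)
  have hyS := Cores.pCore_le_sylow S hyQ
  have hzT := sylow_le_normalizer S hTS hE (Cores.pCore_le_sylow S hz)
  have hyI : Ind E T y := by
    have := hn.mul (ind_conj S hTS hE le_rfl hzT hzT hn.inv)
    convert this using 1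
    rw [hy]; group
  obtain ⟨k, hk⟩ := exists_card_pow_eq_one (S.isPGroup' : IsPGroup p (S : Subgroup G))
  obtain ⟨t, ht, e⟩ := exists_mem_same_action (isFullyAutomized_base (isPGroup_T S hTS hE) hE.1.1)
    (hk y hyS) (sylow_le_normalizer S hTS hE hyS) hyI
  have hc : t⁻¹ * y ∈ centralizerIn (S : Subgroup G) T :=
    ⟨(S : Subgroup G).mul_mem ((S : Subgroup G).inv_mem (hTS ht)) hyS, fun v hv => by
      calc v * (t⁻¹ * y) = t⁻¹ * (t * v * t⁻¹) * y := by group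
        _ = _ := by rw [e v hv]; group⟩
  refine ⟨?_, (pCore p G).mul_mem (hQn.conj_mem y hyQ n) ((pCore p G).inv_mem hyQ)⟩
  -- `n y n⁻¹ y⁻¹ = (n t n⁻¹) c (c⁻¹ n c n⁻¹) c⁻¹ t⁻¹`
  have hCn : ∀ v ∈ T, (t⁻¹ * y) * v * (t⁻¹ * y)⁻¹ ∈ T := fun v hv => by
    have := hc.2 v hv
    rwa [show t⁻¹ * y * v * (t⁻¹ * y)⁻¹ = v by rw [← this]; group]
  show n * y * n⁻¹ * y⁻¹ ∈ T
  have := T.mul_mem (T.mul_mem (conj_mem_of_normalizer hnT ht) (hCn _ (hC _ hc))) (T.inv_mem ht)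
  convert this using 1
  group

/-- Every element inducing an automorphism of `E` on `U` is in `X C_G(U)`. -/
theorem indSub_le : indSub E 𝕌 ≤ X S hTS hE ⊔ Subgroup.centralizer ((𝕌 : Subgroup G) : Set G) := by
  have hU := u_normal S hTS hE
  haveI := X_normal S hTS hE
  haveI : (indSub E 𝕌).Normal := ⟨fun g hg m => ind_conj_u S hTS hE hg m⟩
  set N := indSub E 𝕌
  set C := Subgroup.centralizer ((𝕌 : Subgroup G) : Set G)
  set Y := X S hTS hE ⊔ C
  haveI : C.Normal := inferInstance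
  obtain ⟨R, hR⟩ := exists_sylow_inf_normal S N
  have hRY : (S : Subgroup G) ⊓ N ≤ Y := fun s hs => by
    obtain ⟨t, ht, hc⟩ := exists_t_of_ind S hG hTS hE hs.1 hs.2
    have := Y.mul_mem (Subgroup.mem_sup_left (T_le_X S hTS hE ht)) (Subgroup.mem_sup_right hc)
    rwa [mul_inv_cancel_left] at this
  have hpY : ∀ x ∈ N, ∀ k : ℕ, x ^ p ^ k = 1 → x ∈ Y := by
    intro x hx k hk
    have hT : IsPGroup p (Subgroup.zpowers x) := by
      rintro ⟨b, j, rfl⟩
      refine ⟨k, Subtype.ext ?_⟩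
      show (x ^ j) ^ p ^ k = 1
      rw [← zpow_natCast, ← zpow_mul, mul_comm, zpow_mul, zpow_natCast, hk, one_zpow]
    obtain ⟨a, -, ha⟩ := exists_conj_le_sylow R hR (Subgroup.zpowers_le.2 hx) hT
    have := (inferInstance : Y.Normal).conj_mem _ (hRY (ha x (Subgroup.mem_zpowers x))) a⁻¹
    convert this using 1
    group
  intro g hg
  -- Frattini: `g = y n` with `n` normalising `T`
  obtain ⟨y, hy, hgT⟩ : ∃ y ∈ Y, y * g ∈ Subgroup.normalizer (T : Set G) := by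
    obtain ⟨R', hR'⟩ : ∃ R' : Sylow p ↥(N ⊓ Y), (R' : Subgroup _) = ((S : Subgroup G) ⊓ N).subgroupOf (N ⊓ Y) := by
      refine exists_sylow_of_card_ge (le_inf inf_le_right hRY) (isPGroup_of_le S.isPGroup' inf_le_left) default ?_
      refine card_le_of_conj_into R hR (g := 1) ((default : Sylow p ↥(N ⊓ Y)).isPGroup'.map (N ⊓ Y).subtype) ?_ |>
        le_of_eq_of_le ?_
      · exact (Nat.card_congr (Subgroup.equivMapOfInjective _ _ (Subgroup.subtype_injective _)).toEquiv)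
      · rintro _ ⟨t, -, rfl⟩; simpa using t.2.1
    obtain ⟨y, hy, hyg⟩ := exists_conj_le_sylow (A := N ⊓ Y) (R₀ := (S : Subgroup G) ⊓ N) (p := p)
      R' hR'
      (T := T.map (MulAut.conj g).toMonoidHom)
      (by
        rintro _ ⟨t, ht, rfl⟩
        have htN : t ∈ N := (T_le_X S hTS hE ht).1
        refine ⟨N.mul_mem (N.mul_mem hg htN) (N.inv_mem hg), ?_⟩
        exact (inferInstance : Y.Normal).conj_mem _ (Subgroup.mem_sup_left (T_le_X S hTS hE ht)) g)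
      ((isPGroup_T S hTS hE).map _)
    refine ⟨y, hy.2, mem_normalizer_of_conj_mem fun t ht => ?_⟩
    have h := (hyg _ ⟨t, ht, rfl⟩).1
    change y * (g * t * g⁻¹) * y⁻¹ ∈ (S : Subgroup G) at h
    rw [show y * g * t * (y * g)⁻¹ = y * (g * t * g⁻¹) * y⁻¹ by group]
    have h' := conj_mem_T S hTS hE (g := y * g) ht (by
      rwa [show y * g * t * (y * g)⁻¹ = y * (g * t * g⁻¹) * y⁻¹ by group])
    rwa [show y * g * t * (y * g)⁻¹ = y * (g * t * g⁻¹) * y⁻¹ by group] at h'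
  have hyN : y * g ∈ N := by
    refine N.mul_mem ?_ hg
    refine (sup_le (fun x hx => hx.1) (fun x hx => ?_) : Y ≤ N) hy
    exact (Ind.one 𝕌).congr fun v hv => by rw [← hx v hv]; group
  set n₀ := y * g
  obtain ⟨a, ha, ea⟩ : Ind E 𝕌 n₀ := hyN
  obtain ⟨ψ, hψ, eψ⟩ := FusionP3.Induction.exists_extend_aut (u_props S hG hTS hE).2
    (fun t ht => ⟨ht, Subgroup.normalizer_eq_top_iff.2 hU ▸ Subgroup.mem_top t⟩ : T ≤ normalizerIn T 𝕌) ha
    (fun t ht => ⟨n₀ * t * n₀⁻¹, conj_mem_of_normalizer hgT ht, fun x hx => by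
      rw [ea, ea]; show n₀ * (t * x * t⁻¹) * n₀⁻¹ = _; group⟩)
  have hψr : ψ.range = T := range_eq_of_mem hψ (fun x => apply_mem hψ x) le_rfl
  obtain ⟨β, hβ, eβ, hβC⟩ := hE.2 _ (homEquiv_mem_autGroup hψ hψr)
  have hTC : T ⊔ centralizerIn (S : Subgroup G) T ≤ (S : Subgroup G) := sup_le hTS inf_le_left
  rw [group_autGroup hTC, mem_autInducedBy] at hβ
  obtain ⟨m, -, em⟩ := hβ
  have emT : ∀ x : T, ψ x = m * x * m⁻¹ := fun x => by
    have := eβ x
    rw [em] at this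
    exact this.symm
  have hmI : Ind E T m := ind_of_hom hψ emT fun x => emT x ▸ apply_mem hψ x
  have hmU : ∀ x ∈ 𝕌, n₀ * x * n₀⁻¹ = m * x * m⁻¹ := fun x hx => by
    rw [← emT ⟨x, hx.1⟩, eψ x hx hx.1, ea]
  have hmC : ∀ c ∈ centralizerIn (S : Subgroup G) T, c⁻¹ * (m * c * m⁻¹) ∈ T := fun c hc => by
    have := (hβC ⟨c, Subgroup.mem_sup_right hc⟩ hc).1
    rwa [em] at this
  have hmm : ∀ j : ℕ, ∀ c ∈ centralizerIn (S : Subgroup G) T, c⁻¹ * (m ^ j * c * (m ^ j)⁻¹) ∈ T := by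
    intro j
    induction j with
    | zero => intro c _; simp
    | succ j ih =>
      intro c hc
      have := T.mul_mem (ih c hc) (conj_mem_of_normalizer
        ((Subgroup.normalizer (T : Set G)).pow_mem hmI.mem_normalizer j) (hmC c hc))
      convert this using 1
      rw [pow_succ]; group
  have hmN : m ∈ N := hmI.restrict le_rfl inf_le_left (Subgroup.normalizer_eq_top_iff.2 hU ▸ Subgroup.mem_top m)
  set e := (orderOf m).factorization p
  set r := orderOf m / p ^ e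
  have her : p ^ e * r = orderOf m := Nat.ordProj_mul_ordCompl_eq_self (orderOf m) p
  have hpr : ¬ p ∣ r := Nat.not_dvd_ordCompl Fact.out (orderOf_pos m).ne'
  have h1 : m ^ p ^ e ∈ Y := Subgroup.mem_sup_left
    (mem_X_of_ind_T S hG hTS hE (n := m ^ p ^ e) (by rw [← pow_mul, her, pow_orderOf_eq_one]) hpr
      (hmI.pow _) (hmm _))
  have h2 : m ^ r ∈ Y := hpY _ (N.pow_mem hmN r) e (by rw [← pow_mul, mul_comm, her, pow_orderOf_eq_one])
  have hm : m ∈ Y := by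
    rw [← QuotientGroup.eq_one_iff, ← pow_one (m : G ⧸ Y),
      ← ((Nat.Prime.coprime_iff_not_dvd Fact.out).2 hpr).pow_left e]
    exact pow_gcd_eq_one.2 ⟨(QuotientGroup.eq_one_iff (N := Y) _).2 h1, (QuotientGroup.eq_one_iff (N := Y) _).2 h2⟩
  have hd : m⁻¹ * n₀ ∈ C := fun x hx => by
    calc x * (m⁻¹ * n₀) = m⁻¹ * (m * x * m⁻¹) * n₀ := by group
      _ = _ := by rw [← hmU x hx]; group
  have := Y.mul_mem (Y.inv_mem hy) (Y.mul_mem hm (Subgroup.mem_sup_right hd))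
  convert this using 1
  show g = y⁻¹ * (m * (m⁻¹ * (y * g)))
  group

/-- On `U`, every automorphism of `E` is induced by an element of `X`. -/
theorem exists_mem_X {g : G} (hg : Ind E 𝕌 g) :
    ∃ x ∈ X S hTS hE, x⁻¹ * g ∈ Subgroup.centralizer ((𝕌 : Subgroup G) : Set G) := by
  have hU := u_normal S hTS hE
  haveI := X_normal S hTS hE
  have h : g ∈ ((X S hTS hE ⊔ Subgroup.centralizer ((𝕌 : Subgroup G) : Set G) : Subgroup G) : Set G) :=
    indSub_le S hG hTS hE hg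
  rw [Subgroup.mul_normal] at h
  obtain ⟨x, hx, c, hc, rfl⟩ := h
  exact ⟨x, hx, by rwa [inv_mul_cancel_left]⟩

set_option maxHeartbeats 1600000 in
/-- `H = ker` of the transfer `X → (S ∩ X)/T`. -/
theorem exists_H : ∃ H : Subgroup G, T ≤ H ∧ H.Normal ∧ H ≤ X S hTS hE ∧
    (S : Subgroup G) ⊓ H = T ∧
    (∀ h ∈ H, h ∈ Subgroup.centralizer ((𝕌 : Subgroup G) : Set G) → h ∈ 𝕌) ∧
    ∀ g, Ind E 𝕌 g → ∃ h ∈ H, h⁻¹ * g ∈ Subgroup.centralizer ((𝕌 : Subgroup G) : Set G) := by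
  classical
  have hU := u_normal S hTS hE
  haveI := hU
  haveI hXn := X_normal S hTS hE
  have hQn : (pCore p G).Normal := inferInstance
  set C := Subgroup.centralizer ((𝕌 : Subgroup G) : Set G) with hC
  haveI hCn : C.Normal := by rw [hC]; infer_instance
  have hTX := T_le_X S hTS hE
  have hSN := sylow_le_normalizer S hTS hE
  set X₀ := X S hTS hE with hX₀
  set P := (S : Subgroup G) ⊓ X₀ with hP
  have hTP : T ≤ P := le_inf hTS hTX
  haveI hT' : (T.subgroupOf P).Normal := ⟨fun n hn x =>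
    Subgroup.mem_subgroupOf.2 (conj_mem_of_normalizer (hSN x.2.1) (Subgroup.mem_subgroupOf.1 hn))⟩
  let π := QuotientGroup.mk' (T.subgroupOf P)
  have hπ1 : ∀ a : P, π a = 1 ↔ (a : G) ∈ T := fun a =>
    (QuotientGroup.eq_one_iff a).trans Subgroup.mem_subgroupOf
  have hW : ∀ w ∈ X₀, w ∈ C → w ∈ pCore p G := fun w hw hc => W_le S hG hTS hE hw hc
  have hXW : ∀ x ∈ X₀, ∀ w ∈ X₀, w ∈ C → x * w * x⁻¹ * w⁻¹ ∈ 𝕌 := fun x hx w hw hc => hx.2 w (hW w hw hc)
  have hdec : ∀ a : P, ∃ w : P, (w : G) ∈ C ∧ π a = π w := by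
    intro a
    obtain ⟨t, ht, hc⟩ := exists_t_of_ind S hG hTS hE a.2.1 a.2.2.1
    refine ⟨⟨t⁻¹ * a, P.mul_mem (P.inv_mem (hTP ht)) a.2⟩, hc, ?_⟩
    have h1 : π ⟨t, hTP ht⟩ = 1 := (hπ1 _).2 ht
    calc π a = π (⟨t, hTP ht⟩ * ⟨t⁻¹ * a, P.mul_mem (P.inv_mem (hTP ht)) a.2⟩) :=
          congrArg π (Subtype.ext (mul_inv_cancel_left t (a : G)).symm)
      _ = _ := by rw [map_mul, h1, one_mul]
  have hcomm : ∀ u v : P ⧸ T.subgroupOf P, u * v = v * u := by
    intro u v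
    obtain ⟨a, rfl⟩ := QuotientGroup.mk'_surjective _ u
    obtain ⟨b, rfl⟩ := QuotientGroup.mk'_surjective _ v
    obtain ⟨w, hw, ea⟩ := hdec a
    obtain ⟨x, hx, eb⟩ := hdec b
    have h1 : π (w * x * w⁻¹ * x⁻¹) = 1 := (hπ1 _).2 (hXW w w.2.2 x x.2.2 hx).1
    simp only [map_mul, map_inv] at h1
    show π a * π b = π b * π a
    rw [ea, eb]
    exact mul_inv_eq_iff_eq_mul.1 (mul_inv_eq_one.1 h1)
  let _ : CommGroup (P ⧸ T.subgroupOf P) :=
    { (inferInstance : Group (P ⧸ T.subgroupOf P)) with mul_comm := hcomm }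
  set P' := P.subgroupOf X₀ with hP'
  let φ : P' →* P ⧸ T.subgroupOf P :=
    π.comp (Subgroup.subgroupOfEquivOfLe (inf_le_right : P ≤ X₀)).toMonoidHom
  let V : X₀ →* P ⧸ T.subgroupOf P := MonoidHom.transfer φ
  have hkey : ∀ (g : X₀) (hg : g ∈ P'),
      (∀ (k : ℕ) (y : X₀) (hy : y⁻¹ * g ^ k * y ∈ P'), φ ⟨_, hy⟩ = φ ⟨g, hg⟩ ^ k) →
      V g = φ ⟨g, hg⟩ ^ P'.index := by
    intro g hg h
    let _ := P'.fintypeQuotientOfFiniteIndex
    show MonoidHom.transfer φ g = _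
    rw [MonoidHom.transfer_eq_prod_quotient_orbitRel_zpowers_quot,
      Finset.prod_congr rfl (fun q _ => h _ _ _), Finset.prod_pow_eq_pow_sum,
      ← Subgroup.index_eq_sum_minimalPeriod P' g]
  have hφ : ∀ (z : X₀) (hz : z ∈ P'), φ ⟨z, hz⟩ = π ⟨(z : G), Subgroup.mem_subgroupOf.1 hz⟩ :=
    fun z hz => rfl
  have hVT : ∀ t : X₀, (t : G) ∈ T → V t = 1 := by
    intro t ht
    have htP : t ∈ P' := Subgroup.mem_subgroupOf.2 (hTP ht)
    have h0 : φ ⟨t, htP⟩ = 1 := by rw [hφ]; exact (hπ1 _).2 ht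
    rw [hkey t htP fun k y hy => ?_, h0, one_pow]
    rw [hφ, h0, one_pow, hπ1]
    show ((y⁻¹ * t ^ k * y : X₀) : G) ∈ T
    have := conj_mem_T S hTS hE (g := (y : G)⁻¹) (x := (t : G) ^ k) (T.pow_mem ht k)
      (by
        have h' : ((y⁻¹ * t ^ k * y : X₀) : G) ∈ (S : Subgroup G) := (Subgroup.mem_subgroupOf.1 hy).1
        simpa using h')
    simpa using this
  have hVW : ∀ (w : X₀) (hw : w ∈ P'), (w : G) ∈ C → V w = φ ⟨w, hw⟩ ^ P'.index := by
    intro w hw hc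
    refine hkey w hw fun k y hy => ?_
    rw [← map_pow, hφ, show φ ((⟨w, hw⟩ : P') ^ k) = φ ⟨w ^ k, P'.pow_mem hw k⟩ from rfl, hφ]
    rw [← mul_inv_eq_one, ← map_inv, ← map_mul, hπ1]
    have hk : ((w ^ k : X₀) : G) ∈ C := by simpa using C.pow_mem hc k
    have := (hXW _ (y⁻¹).2 _ (w ^ k).2 hk).1
    simpa using this
  obtain ⟨R₀, hR₀⟩ := exists_sylow_inf_normal S X₀
  have hidx : ¬ p ∣ P'.index := by
    have := R₀.not_dvd_index
    rwa [hR₀] at this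
  have hAp : IsPGroup p (P ⧸ T.subgroupOf P) := (isPGroup_of_le S.isPGroup' inf_le_left : IsPGroup p P).to_quotient _
  have hco : (Nat.card (P ⧸ T.subgroupOf P)).Coprime P'.index := by
    obtain ⟨k, hk⟩ := IsPGroup.iff_card.1 hAp
    rw [hk]
    exact Nat.Coprime.pow_left k ((Fact.out : p.Prime).coprime_iff_not_dvd.2 hidx)
  set H := V.ker.map X₀.subtype with hH
  have hHX : H ≤ X₀ := Subgroup.map_subtype_le _
  have hTH : T ≤ H := fun t ht => ⟨⟨t, hTX ht⟩, hVT _ ht, rfl⟩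
  have hHC : ∀ h ∈ H, h ∈ C → h ∈ 𝕌 := by
    rintro _ ⟨x, hx, rfl⟩ hc
    have hxQ := hW x x.2 hc
    have hxP : x ∈ P' := Subgroup.mem_subgroupOf.2 ⟨Cores.pCore_le_sylow S hxQ, x.2⟩
    have h1 : φ ⟨x, hxP⟩ ^ P'.index = 1 := (hVW x hxP hc).symm.trans hx
    have h2 : φ ⟨x, hxP⟩ = 1 := (powCoprime hco).injective (h1.trans (one_pow _).symm)
    exact ⟨(hπ1 _).1 h2, hxQ⟩
  have hsurj : ∀ g, Ind E 𝕌 g → ∃ h ∈ H, h⁻¹ * g ∈ C := by
    intro g hg
    obtain ⟨x, hx, hc⟩ := exists_mem_X S hG hTS hE hg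
    obtain ⟨u, hu⟩ := (powCoprime hco).surjective (V ⟨x, hx⟩)
    obtain ⟨a, rfl⟩ := QuotientGroup.mk'_surjective _ u
    obtain ⟨w, hw, ea⟩ := hdec a
    have hwP : (⟨(w : G), w.2.2⟩ : X₀) ∈ P' := Subgroup.mem_subgroupOf.2 w.2
    have e : V ⟨w, w.2.2⟩ = V ⟨x, hx⟩ := by
      rw [hVW _ hwP hw, hφ, ← hu]
      exact congrArg (· ^ P'.index) ea.symm
    refine ⟨x * (w : G)⁻¹, ⟨⟨x, hx⟩ * (⟨w, w.2.2⟩ : X₀)⁻¹, ?_, rfl⟩, ?_⟩
    · show V _ = 1
      rw [map_mul, map_inv, e, mul_inv_cancel]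
    · have := C.mul_mem hw hc
      convert this using 1
      group
  have hHS : ∀ x ∈ (S : Subgroup G), x ∈ H → x ∈ T := by
    intro x hxS hxH
    obtain ⟨t, ht, hc⟩ := exists_t_of_ind S hG hTS hE hxS (hHX hxH).1
    have := hHC _ (H.mul_mem (H.inv_mem (hTH ht)) hxH) hc
    have := T.mul_mem ht this.1
    rwa [mul_inv_cancel_left] at this
  have hconjX : ∀ x ∈ X₀, ∀ h ∈ H, x * h * x⁻¹ ∈ H := by
    rintro x hx _ ⟨y, hy, rfl⟩
    refine ⟨⟨x, hx⟩ * y * ⟨x, hx⟩⁻¹, ?_, rfl⟩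
    have hy' : V y = 1 := hy
    show V _ = 1
    rw [map_mul, map_mul, map_inv, hy', mul_one, mul_inv_cancel]
  have hTconj : ∀ t ∈ T, ∀ g : G, g * t * g⁻¹ ∈ H := by
    intro t ht g
    have hzp : IsPGroup p (Subgroup.zpowers (g * t * g⁻¹)) := by
      refine ((isPGroup_T S hTS hE).map (MulAut.conj g).toMonoidHom).to_le ?_
      rw [Subgroup.zpowers_le]
      exact ⟨t, ht, rfl⟩
    obtain ⟨y, hy, hys⟩ := exists_conj_le_sylow R₀ hR₀
      (Subgroup.zpowers_le.2 (hXn.conj_mem t (hTX ht) g)) hzp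
    have h1 := conj_mem_T S hTS hE (g := y * g) ht (by
      have := (hys _ (Subgroup.mem_zpowers _)).1
      rw [show y * g * t * (y * g)⁻¹ = y * (g * t * g⁻¹) * y⁻¹ by group]
      exact this)
    have := hconjX _ (X₀.inv_mem hy) _ (hTH h1)
    convert this using 1
    group
  have hHn : H.Normal := by
    refine ⟨fun h hh g => ?_⟩
    obtain ⟨z, hz, rfl⟩ := hh
    -- `z^(n)` is a `p`-element, `z^(p^e)` a `p'`-element
    set e := (orderOf (z : G)).factorization p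
    set r := orderOf (z : G) / p ^ e
    have her : p ^ e * r = orderOf (z : G) := Nat.ordProj_mul_ordCompl_eq_self (orderOf (z : G)) p
    have hpr : ¬ p ∣ r := Nat.not_dvd_ordCompl Fact.out (orderOf_pos (z : G)).ne'
    have hz1 : (z : G) ∈ H := ⟨z, hz, rfl⟩
    have h1 : (g * (z : G) * g⁻¹) ^ p ^ e ∈ H := by
      have hx : (g * (z : G) * g⁻¹) ^ p ^ e ∈ X₀ := X₀.pow_mem (hXn.conj_mem _ z.2 g) _
      refine ⟨⟨_, hx⟩, ?_, rfl⟩
      show V ⟨_, hx⟩ = 1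
      obtain ⟨k, hk⟩ := hAp (V ⟨_, hx⟩)
      have hr' : V ⟨_, hx⟩ ^ r = 1 := by
        rw [← map_pow]
        convert map_one V
        refine Subtype.ext ?_
        show ((g * (z : G) * g⁻¹) ^ p ^ e) ^ r = 1
        rw [← pow_mul, her, conj_pow, pow_orderOf_eq_one]; group
      rw [← pow_one (V ⟨_, hx⟩), ← ((Nat.Prime.coprime_iff_not_dvd Fact.out).2 hpr).pow_left k]
      exact pow_gcd_eq_one.2 ⟨hk, hr'⟩
    have h2 : (g * (z : G) * g⁻¹) ^ r ∈ H := by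
      have hzp : IsPGroup p (Subgroup.zpowers ((z : G) ^ r)) := by
        rintro ⟨b, j, rfl⟩
        refine ⟨e, Subtype.ext ?_⟩
        show (((z : G) ^ r) ^ j) ^ p ^ e = 1
        rw [← zpow_natCast, ← zpow_mul, mul_comm, zpow_mul, zpow_natCast, ← pow_mul, mul_comm, her,
          pow_orderOf_eq_one, one_zpow]
      obtain ⟨y, hy, hys⟩ := exists_conj_le_sylow R₀ hR₀ (Subgroup.zpowers_le.2 (X₀.pow_mem z.2 r)) hzp
      have ht := hHS _ (hys _ (Subgroup.mem_zpowers _)).1 (hconjX y hy _ (H.pow_mem hz1 r))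
      have := hTconj _ ht (g * y⁻¹)
      rw [conj_pow]
      convert this using 1
      group
    obtain ⟨a, b, hab⟩ : ∃ a b : ℤ, ((p ^ e : ℕ) : ℤ) * a + (r : ℤ) * b = 1 := by
      refine ⟨Nat.gcdA (p ^ e) r, Nat.gcdB (p ^ e) r, ?_⟩
      rw [← Nat.gcd_eq_gcd_ab, ((Nat.Prime.coprime_iff_not_dvd Fact.out).2 hpr).pow_left e]
      rfl
    show g * (z : G) * g⁻¹ ∈ H
    rw [← zpow_one (g * (z : G) * g⁻¹), ← hab, zpow_add, zpow_mul, zpow_mul, zpow_natCast, zpow_natCast]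
    exact H.mul_mem (H.zpow_mem h1 a) (H.zpow_mem h2 b)
  exact ⟨H, hTH, hHn, hHX, le_antisymm (fun x hx => hHS x hx.1 hx.2) (le_inf hTS hTH), hHC, hsurj⟩

section Equal

variable {H : Subgroup G} (hTH : T ≤ H) (hHn : H.Normal)
  (hHC : ∀ h ∈ H, h ∈ Subgroup.centralizer ((T ⊓ pCore p G : Subgroup G) : Set G) → h ∈ T ⊓ pCore p G)
  (hHs : ∀ g, Ind E (T ⊓ pCore p G) g → ∃ h ∈ H, h⁻¹ * g ∈ Subgroup.centralizer ((T ⊓ pCore p G : Subgroup G) : Set G))
include hTH hHn hHC hHs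

/-- The maps of `E` are conjugations by elements of `H`. -/
theorem hom_le_H {P : Subgroup G} {φ : P →* G} (hφ : φ ∈ E.Hom P) :
    ∃ h ∈ H, ∀ x : P, φ x = h * x * h⁻¹ := by
  have hU := u_normal S hTS hE
  have hp := isPGroup_T S hTS hE
  refine FusionP3.Induction.hom_induction hp hE.1.1
    (M := fun P φ => ∃ h ∈ H, ∀ x : P, φ x = h * x * h⁻¹) ?_ ?_ ?_ P φ hφ
  · rintro P₁ P₂ φ₁ φ₂ χ - - hv hχ ⟨h₁, hh₁, e₁⟩ ⟨h₂, hh₂, e₂⟩
    refine ⟨h₂ * h₁, H.mul_mem hh₂ hh₁, fun x => ?_⟩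
    rw [hχ, e₂]
    show h₂ * φ₁ x * h₂⁻¹ = _
    rw [e₁]; group
  · rintro P₁ P₂ φ₁ φ₂ hle - he ⟨h, hh, e⟩
    exact ⟨h, hh, fun x => by rw [he, e]⟩
  · intro R hRn hc hr α hα _
    have hUR : 𝕌 ≤ R := isNormal_le_centricRadical hp (u_isNormal S hG hTS hE) hc hr
    haveI : Finite (MulAut R) := Finite.of_injective (fun f : MulAut R => (f : R → R)) DFunLike.coe_injective
    suffices hα' : α ∈ autInducedBy H R by
      obtain ⟨h, hh, e⟩ := mem_autInducedBy.1 hα'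
      exact ⟨h, hh, e⟩
    have real : ∀ l ∈ E.autGroup R, ∃ g : G, ∀ x : R, ((l x : R) : G) = g * x * g⁻¹ := by
      intro l hl
      obtain ⟨φ, hφ, -, e⟩ := exists_hom_of_aut hc.1 hl
      obtain ⟨g, hg⟩ := hom_sub S hTS hE hφ
      exact ⟨g, fun x => (e x).symm.trans (hg x)⟩
    set M := autInducedBy H R with hM
    have hMn : ∀ l ∈ E.autGroup R, ∀ k ∈ M, l * k * l⁻¹ ∈ M := by
      intro l hl k hk
      obtain ⟨g, eg⟩ := real l hl
      obtain ⟨h, hh, eh⟩ := mem_autInducedBy.1 hk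
      refine mem_autInducedBy.2 ⟨g * h * g⁻¹, hHn.conj_mem h hh g, fun y => ?_⟩
      obtain ⟨x, rfl⟩ := l.surjective y
      rw [MulAut.mul_apply, MulAut.mul_apply, MulAut.inv_apply_self, eg, eh, eg]; group
    obtain ⟨g, eg⟩ := real α hα
    -- the `p^k`-th power of `α` is induced by `H`
    have hgR : g ∈ Subgroup.normalizer (R : Set G) := mem_normalizer_of_aut eg
    have hgI : Ind E 𝕌 g := Ind.restrict hc.1 hUR ⟨α, hα, eg⟩
      (Subgroup.normalizer_eq_top_iff.2 hU ▸ Subgroup.mem_top g)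
    obtain ⟨h, hh, hd⟩ := hHs g hgI
    set d := h⁻¹ * g with hd'
    have hghd : g = h * d := by rw [hd']; group
    set C := Subgroup.centralizer ((𝕌 : Subgroup G) : Set G)
    haveI : (𝕌).Normal := hU
    have hCn : C.Normal := inferInstance
    have hdR : ∀ x ∈ R, d * x * d⁻¹ * x⁻¹ ∈ 𝕌 := by
      intro x hx
      refine hHC _ ?_ ?_
      · exact H.mul_mem (hHn.conj_mem x (hTH (hc.1 hx)) d) (H.inv_mem (hTH (hc.1 hx)))
      · have := C.mul_mem hd (hCn.conj_mem _ (C.inv_mem hd) x)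
        convert this using 1
        group
    obtain ⟨k, hk⟩ := exists_card_pow_eq_one (hp.to_le (inf_le_left : 𝕌 ≤ T))
    have hdk : ∀ x ∈ R, d ^ p ^ k * x * (d ^ p ^ k)⁻¹ = x := by
      intro x hx
      have := pow_conj_of_commute (g := d) (z := d * x * d⁻¹ * x⁻¹) (x := x) (hd _ (hdR x hx)).symm (by group) (p ^ k)
      rwa [hk _ (hdR x hx), one_mul] at this
    have hgj : ∀ j : ℕ, ∃ h' ∈ H, g ^ j = h' * d ^ j := by
      intro j
      induction j with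
      | zero => exact ⟨1, H.one_mem, by simp⟩
      | succ j ih =>
        obtain ⟨h', hh', e⟩ := ih
        refine ⟨h' * (d ^ j * h * (d ^ j)⁻¹), H.mul_mem hh' (hHn.conj_mem h hh _), ?_⟩
        rw [pow_succ, e, hghd, pow_succ]; group
    have hpow : ∀ j : ℕ, ∀ x : R, (((α ^ j) x : R) : G) = g ^ j * x * (g ^ j)⁻¹ := by
      intro j
      induction j with
      | zero => intro x; simp
      | succ j ih => intro x; rw [pow_succ, MulAut.mul_apply, ih, eg, pow_succ]; group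
    have hαk : α ^ p ^ k ∈ M := by
      obtain ⟨h', hh', e⟩ := hgj (p ^ k)
      refine mem_autInducedBy.2 ⟨h', hh', fun x => ?_⟩
      rw [hpow, e]
      conv_rhs => rw [← hdk x x.2]
      group
    -- the `p`-part of `α`
    obtain ⟨n, hpn, l, hl⟩ := exists_pow_pElement (p := p) (⟨α, hα⟩ : E.autGroup R)
    have hαn : α ^ n ∈ M := by
      obtain ⟨-, P₀, hP₀⟩ := fullyAutomized_of_fullyNormalized hp hE.1.1 hRn
      have hzp : IsPGroup p (Subgroup.zpowers ((⟨α, hα⟩ : E.autGroup R) ^ n)) :=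
        IsPGroup.of_card (n := l) (by rw [Nat.card_zpowers, hl])
      obtain ⟨Q₀, hQ₀⟩ := hzp.exists_le_sylow
      obtain ⟨b, hb⟩ := MulAction.exists_smul_eq (E.autGroup R) Q₀ P₀
      have h1 : b * (⟨α, hα⟩ : E.autGroup R) ^ n * b⁻¹ ∈ (P₀ : Subgroup (E.autGroup R)) := by
        rw [← hb, Sylow.coe_subgroup_smul]
        exact Subgroup.smul_mem_pointwise_smul _ (MulAut.conj b) _ (hQ₀ (Subgroup.mem_zpowers _))
      rw [hP₀, Subgroup.mem_subgroupOf, mem_autInducedBy] at h1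
      obtain ⟨t, ht, et⟩ := h1
      have := hMn _ ((b⁻¹ : E.autGroup R)).2 _ (mem_autInducedBy.2 ⟨t, hTH ht, et⟩)
      simp only [Subgroup.coe_mul, Subgroup.coe_inv, SubmonoidClass.coe_pow] at this
      convert this using 1
      group
    obtain ⟨a, b, hab⟩ : ∃ a b : ℤ, ((p ^ k : ℕ) : ℤ) * a + (n : ℤ) * b = 1 := by
      refine ⟨Nat.gcdA (p ^ k) n, Nat.gcdB (p ^ k) n, ?_⟩
      rw [← Nat.gcd_eq_gcd_ab, ((Nat.Prime.coprime_iff_not_dvd Fact.out).2 hpn).pow_left k]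
      rfl
    rw [← zpow_one α, ← hab, zpow_add, zpow_mul, zpow_mul, zpow_natCast, zpow_natCast]
    exact M.mul_mem (M.zpow_mem hαk a) (M.zpow_mem hαn b)

theorem hom_eq_H (hHX : H ≤ X S hTS hE) (P : Subgroup G) :
    E.Hom P = (fusionSystemOfSubgroup H T hTH).Hom P := by
  have hU := u_normal S hTS hE
  refine Set.Subset.antisymm (fun φ hφ => ?_) ?_
  · exact ⟨src_le hφ, apply_mem hφ, hom_le_H S hG hTS hE hTH hHn hHC hHs hφ⟩
  rintro φ ⟨hP, hφT, h, hh, e⟩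
  set P' := P ⊔ 𝕌 with hP'
  have hP'T : P' ≤ T := sup_le hP inf_le_left
  have hP'c : ∀ x ∈ P', h * x * h⁻¹ ∈ T := by
    have : P' ≤ T.comap (MulAut.conj h).toMonoidHom :=
      sup_le (fun x hx => by show h * x * h⁻¹ ∈ T; rw [← e ⟨x, hx⟩]; exact hφT _)
        (fun x hx => (hU.conj_mem x hx h).1)
    exact fun x hx => this hx
  obtain ⟨a, ha, ea⟩ : Ind E 𝕌 h := (hHX hh).1
  have hnU : ∀ y : G, y ∈ Subgroup.normalizer ((𝕌 : Subgroup G) : Set G) := fun y =>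
    Subgroup.normalizer_eq_top_iff.2 hU ▸ Subgroup.mem_top y
  obtain ⟨ψ, hψ, eψ⟩ := FusionP3.Induction.exists_extend_aut (u_props S hG hTS hE).2
    (fun t ht => ⟨hP'T ht, hnU t⟩ : P' ≤ normalizerIn T 𝕌) ha
    (fun t ht => ⟨h * t * h⁻¹, hP'c t ht, fun x hx => by
      rw [ea, ea]; show h * (t * x * t⁻¹) * h⁻¹ = _; group⟩)
  obtain ⟨h', hh', e'⟩ := hom_le_H S hG hTS hE hTH hHn hHC hHs hψ
  have hz : h⁻¹ * h' ∈ 𝕌 := hHC _ (H.mul_mem (H.inv_mem hh) hh') fun x hx => by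
    have h1 : h' * x * h'⁻¹ = h * x * h⁻¹ := by
      rw [← e' ⟨x, Subgroup.mem_sup_right hx⟩, eψ x hx (Subgroup.mem_sup_right hx), ea]
    calc x * (h⁻¹ * h') = h⁻¹ * (h * x * h⁻¹) * h' := by group
      _ = _ := by rw [← h1]; group
  set z := h⁻¹ * h' with hz'
  have hcv : ∀ x : P, conjHom P z⁻¹ x ∈ P' := fun x =>
    P'.mul_mem (P'.mul_mem (P'.inv_mem (Subgroup.mem_sup_right hz)) (Subgroup.mem_sup_left x.2))
      (P'.inv_mem (P'.inv_mem (Subgroup.mem_sup_right hz)))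
  obtain ⟨χ, hχ, eχ⟩ := exists_comp (E.conj_mem hP (T.inv_mem hz.1)) hψ hcv
  refine hom_congr hχ fun x => ?_
  rw [e, eχ, e']
  show h * x * h⁻¹ = h' * (z⁻¹ * x * z⁻¹⁻¹) * h'⁻¹
  rw [hz']; group

end Equal

/-- Normal subgroups giving the same system are determined. -/
theorem eq_of_realizes {H H' : Subgroup G} (hH : T ≤ H) (hHn : H.Normal) (hHX : H ≤ X S hTS hE)
    (hHs : ∀ g, Ind E 𝕌 g → ∃ h ∈ H, h⁻¹ * g ∈ Subgroup.centralizer ((𝕌 : Subgroup G) : Set G))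
    (hHC : ∀ h ∈ H, h ∈ Subgroup.centralizer ((𝕌 : Subgroup G) : Set G) → h ∈ 𝕌)
    (hHS : (S : Subgroup G) ⊓ H = T)
    {hH' : T ≤ H'} (hH'n : H'.Normal) (R : Sylow p H') (hR : (R : Subgroup H') = T.subgroupOf H')
    (he : ∀ P : Subgroup G, E.Hom P = (fusionSystemOfSubgroup H' T hH').Hom P) : H' = H := by
  have hU := u_normal S hTS hE
  haveI := hU
  haveI := hHn
  haveI := X_normal S hTS hE
  set C := Subgroup.centralizer ((𝕌 : Subgroup G) : Set G) with hC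
  have hSH' : ∀ x ∈ (S : Subgroup G), x ∈ H' → x ∈ T := by
    intro x hxS hxH'
    have hle : T ≤ (S : Subgroup G) ⊓ H' := le_inf hTS hH'
    obtain ⟨R', hR'⟩ := (haveI := hH'n; exists_sylow_inf_normal S H')
    have hc : Nat.card ↥((S : Subgroup G) ⊓ H') = Nat.card T := by
      rw [← Nat.card_congr (Subgroup.subgroupOfEquivOfLe (inf_le_right : (S : Subgroup G) ⊓ H' ≤ H')).toEquiv,
        ← Nat.card_congr (Subgroup.subgroupOfEquivOfLe hH').toEquiv, ← hR, ← hR',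
        Sylow.card_eq_multiplicity, Sylow.card_eq_multiplicity]
    rw [Subgroup.eq_of_le_of_card_ge hle hc.le]
    exact ⟨hxS, hxH'⟩
  have hind : ∀ h ∈ H', Ind E 𝕌 h := by
    intro h hh
    refine ind_of_hom (φ := conjHom 𝕌 h) ?_ (fun _ => rfl) fun x => hU.conj_mem _ x.2 h
    rw [he]
    exact ⟨inf_le_left, fun x => (hU.conj_mem _ x.2 h).1, h, hh, fun _ => rfl⟩
  have hsub : H' ≤ X S hTS hE := by
    intro h hh
    rw [mem_X]
    refine ⟨hind h hh, fun x hx => ?_⟩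
    have h2 : h * x * h⁻¹ * x⁻¹ ∈ pCore p G :=
      (pCore p G).mul_mem ((inferInstance : (pCore p G).Normal).conj_mem x hx h) ((pCore p G).inv_mem hx)
    refine ⟨hSH' _ (Cores.pCore_le_sylow S h2) ?_, h2⟩
    have := H'.mul_mem hh (hH'n.conj_mem _ (H'.inv_mem hh) x)
    convert this using 1
    group
  have hH'C : ∀ h ∈ H', h ∈ C → h ∈ 𝕌 := fun h hh hc => by
    have hq := W_le S hG hTS hE (hsub hh) hc
    exact ⟨hSH' _ (Cores.pCore_le_sylow S hq) hh, hq⟩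
  have hHind : ∀ h ∈ H, ∃ h' ∈ H', h'⁻¹ * h ∈ C := by
    intro h hh
    have hm : conjHom 𝕌 h ∈ (fusionSystemOfSubgroup H' T hH').Hom 𝕌 := by
      rw [← he]; exact (hHX hh).1.hom inf_le_left
    obtain ⟨-, -, h', hh', e⟩ := hm
    refine ⟨h', hh', fun x hx => ?_⟩
    have := e ⟨x, hx⟩
    change h * x * h⁻¹ = h' * x * h'⁻¹ at this
    calc x * (h'⁻¹ * h) = h'⁻¹ * (h' * x * h'⁻¹) * h := by group
      _ = _ := by rw [← this]; group
  -- `H' ≤ H`
  have hle : H' ≤ H := by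
    intro x hx
    set e := (orderOf x).factorization p
    set r := orderOf x / p ^ e
    have her : p ^ e * r = orderOf x := Nat.ordProj_mul_ordCompl_eq_self (orderOf x) p
    have hpr : ¬ p ∣ r := Nat.not_dvd_ordCompl Fact.out (orderOf_pos x).ne'
    have h2 : x ^ r ∈ H := by
      have hzp : IsPGroup p (Subgroup.zpowers (x ^ r)) := by
        rintro ⟨b, j, rfl⟩
        refine ⟨e, Subtype.ext ?_⟩
        show ((x ^ r) ^ j) ^ p ^ e = 1
        rw [← zpow_natCast, ← zpow_mul, mul_comm, zpow_mul, zpow_natCast, ← pow_mul, mul_comm, her,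
          pow_orderOf_eq_one, one_zpow]
      obtain ⟨y, -, hys⟩ := exists_conj_le_sylow R hR (Subgroup.zpowers_le.2 (H'.pow_mem hx r)) hzp
      have := hHn.conj_mem _ (hH (hys _ (Subgroup.mem_zpowers _))) y⁻¹
      convert this using 1
      group
    -- `X / H` is a `p`-group
    have h1 : x ^ p ^ e ∈ H := by
      obtain ⟨h, hh, hc⟩ := hHs _ (hsub (H'.pow_mem hx (p ^ e))).1
      have hw : h⁻¹ * x ^ p ^ e ∈ pCore p G :=
        W_le S hG hTS hE ((X S hTS hE).mul_mem ((X S hTS hE).inv_mem (hHX hh)) (hsub (H'.pow_mem hx _))) hc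
      obtain ⟨k, hk⟩ := exists_card_pow_eq_one (Cores.pCore_isPGroup (G := G) p)
      rw [← QuotientGroup.eq_one_iff (N := H), ← pow_one ((x ^ p ^ e : G) : G ⧸ H),
        ← ((Nat.Prime.coprime_iff_not_dvd Fact.out).2 hpr).pow_left k]
      refine pow_gcd_eq_one.2 ⟨?_, ?_⟩
      · have e1 : ((x ^ p ^ e : G) : G ⧸ H) = ((h⁻¹ * x ^ p ^ e : G) : G ⧸ H) := by
          rw [QuotientGroup.mk_mul, (QuotientGroup.eq_one_iff h⁻¹).2 (H.inv_mem hh), one_mul]
        rw [e1, ← QuotientGroup.mk_pow, hk _ hw, QuotientGroup.mk_one]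
      · rw [← QuotientGroup.mk_pow, ← pow_mul, her, pow_orderOf_eq_one, QuotientGroup.mk_one]
    obtain ⟨a, b, hab⟩ : ∃ a b : ℤ, ((p ^ e : ℕ) : ℤ) * a + (r : ℤ) * b = 1 := by
      refine ⟨Nat.gcdA (p ^ e) r, Nat.gcdB (p ^ e) r, ?_⟩
      rw [← Nat.gcd_eq_gcd_ab, ((Nat.Prime.coprime_iff_not_dvd Fact.out).2 hpr).pow_left e]
      rfl
    rw [← zpow_one x, ← hab, zpow_add, zpow_mul, zpow_mul, zpow_natCast, zpow_natCast]
    exact H.mul_mem (H.zpow_mem h1 a) (H.zpow_mem h2 b)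
  refine le_antisymm hle fun h hh => ?_
  obtain ⟨h', hh', hc⟩ := hHind h hh
  have := H'.mul_mem hh' (hH' (hHC _ (H.mul_mem (H.inv_mem (hle hh')) hh) hc).1)
  rwa [mul_inv_cancel_left] at this

theorem main : ∃ H : Subgroup G, (∃ hTH : T ≤ H, H.Normal ∧ (∃ R : Sylow p H, (R : Subgroup H) = T.subgroupOf H) ∧
      ∀ P : Subgroup G, E.Hom P = (fusionSystemOfSubgroup H T hTH).Hom P) ∧
    ∀ H' : Subgroup G, (∃ hTH' : T ≤ H', H'.Normal ∧ (∃ R : Sylow p H', (R : Subgroup H') = T.subgroupOf H') ∧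
      ∀ P : Subgroup G, E.Hom P = (fusionSystemOfSubgroup H' T hTH').Hom P) → H' = H := by
  obtain ⟨H, hTH, hHn, hHX, hHS, hHC, hHs⟩ := exists_H S hG hTS hE
  haveI := hHn
  obtain ⟨R, hR⟩ := exists_sylow_inf_normal S H
  rw [hHS] at hR
  refine ⟨H, ⟨hTH, hHn, ⟨R, hR⟩, hom_eq_H S hG hTS hE hTH hHn hHC hHs hHX⟩, ?_⟩
  rintro H' ⟨hTH', hH'n, ⟨R', hR'⟩, he⟩
  exact eq_of_realizes S hG hTS hE hTH hHn hHX hHs hHC hHS hH'n R' hR' he

end Setting

end Cfsg.Agent.Lib.FS.NormalModel
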