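import Cfsg.Agent.Lib.FusionSystem.CentralLift.Main
import Cfsg.Agent.Lib.FusionSystem.ComponentCore
import Cfsg.Agent.Lib.FusionSystem.PPowerExists
import Cfsg.Agent.Lib.FusionP3.Prime.PPower
import Cfsg.Agent.Lib.FusionP3.Prime.Saturated
import Cfsg.Agent.Lib.FusionP3.Series.Main
import Cfsg.Agent.Lib.FusionP3.GT.Basic
import Cfsg.Agent.Lib.FusionConstrained.Inherit
import Cfsg.Agent.S5342
import Cfsg.Agent.S5148

/-!
A saturated system is constrained exactly when it has no component.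
-/

set_option autoImplicit false
set_option linter.style.haveILetI false
set_option linter.unusedSectionVars false
set_option maxHeartbeats 1000000

namespace Cfsg.Agent.Lib.FS.ComponentExists

open Cfsg Cfsg.FusionSystem Cfsg.Agent.Lib Cfsg.Agent.Lib.FS

universe u

variable {Ω : Type u} [Group Ω]

/-- A normal centric subgroup: enough that it contains its centralizer. -/
theorem isCentric_of_normal {S : Subgroup Ω} [Finite S] {F : FusionSystem S} {K : Subgroup Ω} (hK : F.IsNormal K)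
    (h : centralizerIn S K ≤ K) : F.IsCentric K := by
  haveI := finite_sub hK.1
  refine ⟨hK.1, fun Q ⟨φ, hφ, hr⟩ => ?_⟩
  have : Q = K := hr.symm.trans (range_eq_of_mem hφ (fun x => isNormal_apply_mem hK hφ x.2) le_rfl)
  rw [this]; exact h

variable {S T : Subgroup Ω} [Finite S] {p : ℕ} [Fact p.Prime] {F : FusionSystem S} {E : FusionSystem T}

/-- The core of an invariant saturated subsystem is normal in the ambient system. -/
theorem isNormal_core_of_invariant (hS : IsPGroup p S) (hF : F.IsSaturated p) (hEs : E.IsSaturated p)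
    (hE : E.IsInvariantIn F) : F.IsNormal E.core := by
  have hTS : T ≤ S := hE.2.1.1
  haveI := finite_sub hTS
  have hTp : IsPGroup p T := hS.to_le hTS
  have hK := FusionAlperin.Join.isNormal_core E
  have hKT : E.core ≤ T := hK.1
  haveI := finite_sub hKT
  have hmove : ∀ α ∈ F.autGroup T, ∀ x : T, (x : Ω) ∈ E.core → ((α x : T) : Ω) ∈ E.core := by
    intro α hα x hx
    suffices hN : E.IsNormal (FusionP3.Prime.img α E.core) from le_core_of_isNormal hN ⟨x, hx, rfl⟩
    refine (isNormal_iff_extend hTp hEs (FusionP3.Prime.img_le α E.core)).2 fun P hP φ hφ => ?_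
    have hPT : P ≤ T := hP.trans (FusionP3.Prime.img_le α E.core)
    obtain ⟨χ, hχ, hχe⟩ := hE.2.2.1 P hPT φ hφ α⁻¹ (inv_mem hα)
    have hPK : FusionP3.Prime.img α⁻¹ P ≤ E.core := by
      rintro _ ⟨z, hz, rfl⟩
      obtain ⟨w, hw, hwe⟩ := hP hz
      show ((α⁻¹ z : T) : Ω) ∈ E.core
      rw [show z = α w from Subtype.ext hwe.symm, MulAut.inv_apply_self]
      exact hw
    obtain ⟨a, ha, hae⟩ := (isNormal_iff_extend hTp hEs hKT).1 hK _ hPK χ hχ
    obtain ⟨g, hg, -, hge⟩ := exists_hom_of_aut hKT ha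
    obtain ⟨χ', hχ', hχ'e⟩ := hE.2.2.1 E.core hKT g hg α hα
    have hrange : χ'.range = FusionP3.Prime.img α E.core := by
      haveI := finite_sub (FusionP3.Prime.img_le α E.core)
      refine range_eq_of_mem hχ' ?_ le_rfl
      rintro ⟨_, z, hz, rfl⟩
      exact (congrArg (· ∈ FusionP3.Prime.img α E.core)
        (hχ'e ⟨z, hz⟩ (apply_mem hg _) ⟨z, hz, rfl⟩)).mpr
        ⟨⟨_, apply_mem hg _⟩, by show g _ ∈ E.core; rw [hge]; exact SetLike.coe_mem _, rfl⟩
    refine ⟨homEquiv hχ' hrange, homEquiv_mem_autGroup hχ' hrange, fun y => ?_⟩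
    show χ' _ = φ y
    set y' : T := α⁻¹ ⟨y, hPT y.2⟩ with hy'
    have hy'P : (y' : Ω) ∈ FusionP3.Prime.img α⁻¹ P := ⟨⟨y, hPT y.2⟩, y.2, rfl⟩
    have hy'K : (y' : Ω) ∈ E.core := hPK hy'P
    have e1 : ((α y' : T) : Ω) = y := by rw [hy', MulAut.apply_inv_self]
    have h1 := hχ'e ⟨y', hy'K⟩ (apply_mem hg _) ⟨y', hy'K, rfl⟩
    have h2 : g ⟨y', hy'K⟩ = ((α⁻¹ ⟨φ y, apply_mem hφ y⟩ : T) : Ω) := by
      rw [hge]
      exact (hae ⟨y', hy'P⟩).trans (hχe y (apply_mem hφ y) hy'P)
    refine Eq.trans (congrArg χ' (Subtype.ext e1.symm :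
      (Subgroup.inclusion hP y) = ⟨((α y' : T) : Ω), ⟨y', hy'K, rfl⟩⟩)) (h1.trans ?_)
    rw [show (⟨g ⟨y', hy'K⟩, apply_mem hg _⟩ : T) = α⁻¹ ⟨φ y, apply_mem hφ y⟩ from Subtype.ext h2,
      MulAut.apply_inv_self]
  refine (isNormal_iff_extend hS hF (hKT.trans hTS)).2 fun P hP φ hφ => ?_
  obtain ⟨α, hα, e, he, hd⟩ := hE.2.2.2 P (hP.trans hKT) φ hφ
  obtain ⟨a, ha, hae⟩ := (isNormal_iff_extend hTp hEs hKT).1 hK P hP e he
  obtain ⟨g, hg, -, hge⟩ := exists_hom_of_aut (hKT.trans hTS) (FusionP3.GT.autGroup_mono hE.1 hKT ha)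
  obtain ⟨γ, hγ, -, hγe⟩ := exists_hom_of_aut hTS hα
  have hgT : ∀ x, g x ∈ T := fun x => by rw [hge]; exact hKT (a x).2
  obtain ⟨c, hc, hce⟩ := exists_comp hg hγ hgT
  have hcr : c.range = E.core := range_eq_of_mem hc
    (fun x => by rw [hce, hγe]; exact hmove α hα _ (show g x ∈ E.core by rw [hge]; exact (a x).2)) le_rfl
  refine ⟨homEquiv hc hcr, homEquiv_mem_autGroup hc hcr, fun x => ?_⟩
  rw [homEquiv_coe, hce, hγe, hd x (apply_mem he x)]
  exact congrArg (fun z => ((α z : T) : Ω)) (Subtype.ext ((hge _).trans (hae x)))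

/-- The graphs of the maps of a system. -/
def graphs (F : FusionSystem S) : Set (Σ P : {P : Subgroup Ω // P ≤ S}, (↥P.1 → S)) :=
  {x | ∃ φ ∈ F.Hom x.1.1, ∀ y, φ y = (x.2 y : Ω)}

theorem finite_graphs_type : Finite (Σ P : {P : Subgroup Ω // P ≤ S}, (↥P.1 → S)) := by
  haveI := finite_subgroups_le (S := S)
  haveI : ∀ P : {P : Subgroup Ω // P ≤ S}, Finite ↥P.1 := fun P => finite_sub P.2
  infer_instance

theorem graphs_lt {E : FusionSystem S} (hE : E.IsSubsystemOf F) (hne : ∃ P, E.Hom P ≠ F.Hom P) :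
    (graphs E).ncard < (graphs F).ncard := by
  haveI := finite_graphs_type (S := S)
  refine Set.ncard_lt_ncard ⟨?_, fun hh => ?_⟩ (Set.toFinite _)
  · rintro x ⟨φ, hφ, he⟩; exact ⟨φ, hE _ hφ, he⟩
  · obtain ⟨P, hP⟩ := hne
    refine hP (Set.Subset.antisymm (hE P) fun φ hφ => ?_)
    obtain ⟨ψ, hψ, he⟩ := hh (show (⟨⟨P, src_le hφ⟩, fun y => ⟨φ y, apply_mem hφ y⟩⟩ :
      Σ P : {P : Subgroup Ω // P ≤ S}, (↥P.1 → S)) ∈ graphs F from ⟨φ, hφ, fun _ => rfl⟩)
    exact hom_congr hψ fun y => (he y).symm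

/-- The minimal case: if all proper normal subsystems are constrained and the system is not, it is quasisimple. -/
theorem quasisimple_of_minimal (hS : IsPGroup p S) (hF : F.IsSaturated p) (hnc : ¬ F.IsConstrained p)
    (hall : ∀ (T : Subgroup Ω) (E : FusionSystem T), E.IsNormalIn F p →
      (T = S → ∃ P, E.Hom P ≠ F.Hom P) → E.IsConstrained p) : F.Quasisimple p := by
  have hQ := FusionAlperin.Join.isNormal_core F
  have hnotle : ¬ centralizerIn S F.core ≤ F.core := fun hle => hnc ⟨hF, _, hQ, isCentric_of_normal hQ hle⟩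
  -- the core is central
  have hQc : F.IsCentral F.core := by
    obtain ⟨C, hC, hCn⟩ := exists_centralizer_normal hS hF hQ
    have hfull : centralizerIn S F.core = S ∧ ∀ P, C.Hom P = F.Hom P := by
      by_contra hne
      have hCc := hall _ C hCn fun he => by
        by_contra hh
        exact hne ⟨he, fun P => by by_contra hP; exact hh ⟨P, hP⟩⟩
      haveI := finite_sub (centralizerIn_le (S := S) F.core)
      have hK := isNormal_core_of_invariant hS hF hCn.1.1 hCn.1.2.2
      have hKQ : C.core ≤ F.core := le_core_of_isNormal hK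
      have hKc := FusionConstrained.Inherit.isCentric_core hCc
      refine hnotle (fun x hx => hKQ (hKc.2 _ (isConj_refl C hKc.1) ⟨hx, fun y hy => ?_⟩))
      exact (mem_centralizerIn.1 hx).2 y (hKQ hy)
    refine ⟨hQ.1, fun P φ hφ => ?_⟩
    obtain ⟨-, -, -, hψ⟩ := (hC P).le ((hfull.2 P).ge hφ)
    exact hψ
  have hZQ : F.core = F.center := le_antisymm (le_sSup hQc)
    (le_core_of_isNormal (by
      have hc := FusionAlperin.Join.isCentral_center F
      refine ⟨hc.1, fun P φ hφ => ?_⟩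
      obtain ⟨ψ, hψ, he, hfix⟩ := hc.2 P φ hφ
      refine ⟨ψ, hψ, he, ?_⟩
      ext y
      constructor
      · rintro ⟨x, hx, rfl⟩
        have hx' : (x : Ω) ∈ F.center := hx
        rw [show x = Subgroup.inclusion le_sup_right ⟨(x : Ω), hx'⟩ from rfl, hfix]
        exact hx'
      · intro hy
        exact ⟨Subgroup.inclusion le_sup_right ⟨y, hy⟩, hy, hfix ⟨y, hy⟩⟩))
  have hZS : ¬ S ≤ F.center := fun h => hnotle fun x hx => hZQ ▸ h hx.1
  -- proper normal subsystems are central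
  have hB : ∀ (T : Subgroup Ω) (E : FusionSystem T), E.IsNormalIn F p →
      (T = S → ∃ P, E.Hom P ≠ F.Hom P) → T ≤ F.center := by
    intro T E hE hprop
    have hEc := hall T E hE hprop
    have hTS : T ≤ S := hE.1.2.2.2.1.1
    haveI := finite_sub hTS
    have hKZ : E.core ≤ F.center := hZQ ▸ le_core_of_isNormal (isNormal_core_of_invariant hS hF hE.1.1 hE.1.2.2)
    have hKc := FusionConstrained.Inherit.isCentric_core hEc
    refine fun x hx => hKZ (hKc.2 _ (isConj_refl E hKc.1) ⟨hx, fun y hy => ?_⟩)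
    exact (center_le_centralizer F (hKZ hy) x (hTS hx)).symm
  have hfix := ((isCentral_iff hS hF).1 (FusionAlperin.Join.isCentral_center F)).2
  have hfixhom : ∀ (P : Subgroup Ω) (φ : P →* Ω), φ ∈ F.Hom P → ∀ x : P, (x : Ω) ∈ F.center → φ x = x := by
    intro P φ hφ x hx
    obtain ⟨τ, hτ, heτ⟩ := exists_restrict hφ (Subgroup.zpowers_le.2 x.2)
    exact (heτ ⟨x, Subgroup.mem_zpowers _⟩).symm.trans (hfix _ hx _ ⟨τ, hτ, rfl⟩)
  -- the hyperfocal subgroup is everything
  have hhyp : F.hyperfocalSubgroup p = S := by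
    by_contra hne
    have hle := FusionP3.Tate.hyperfocal_le F p
    obtain ⟨E, hEs, hEi⟩ := PPowerKernel.exists_pPower hS F hF hle le_rfl
    have hn : ((F.hyperfocalSubgroup p).subgroupOf S).Normal :=
      ⟨fun c hc g => FusionP3.Tate.hyperfocal_conj_mem g.2 hc⟩
    have hZ := hB _ E (FusionP3.Prime.PPower.isNormalIn_of_pPowerIndex hS hF hle hn le_rfl hEs hEi)
      fun h => absurd h hne
    have hpt : FusionP3.GT.PTriv F p := by
      intro P hP α hα hco
      haveI := finite_sub hP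
      haveI := FusionP3.GT.finite_mulAut ↥P
      obtain ⟨φ, hφ, -, hφe⟩ := exists_hom_of_aut hP hα
      refine MulEquiv.ext fun x => ?_
      have hz : ((x⁻¹ * α x : P) : Ω) ∈ F.center :=
        hZ (FusionP3.Tate.hyperfocal_gen_mem hP (α := ⟨α, hα⟩) (Transfer.PResidual.mem_pResidual (by rwa [Subgroup.orderOf_mk])) x)
      have hzfix : α (x⁻¹ * α x) = x⁻¹ * α x := Subtype.ext ((hφe _).symm.trans (hfixhom P φ hφ _ hz))
      have hpow : ∀ n : ℕ, (α ^ n) x = x * (x⁻¹ * α x) ^ n := by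
        intro n
        induction n with
        | zero => simp
        | succ n ih => rw [pow_succ', MulAut.mul_apply, ih, map_mul, map_pow, hzfix, pow_succ' _ n, ← mul_assoc,
            mul_inv_cancel_left]
      have h1 : (x⁻¹ * α x) ^ orderOf α = 1 := by
        have := hpow (orderOf α)
        rw [pow_orderOf_eq_one, MulAut.one_apply] at this
        exact mul_eq_left.1 this.symm
      obtain ⟨k, hk⟩ := (hS.to_le hP) (x⁻¹ * α x)
      have h2 : x⁻¹ * α x = 1 := orderOf_eq_one_iff.1 (Nat.eq_one_of_dvd_coprimes (hco.pow_right k)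
        (orderOf_dvd_of_pow_eq_one h1) (orderOf_dvd_of_pow_eq_one hk))
      rw [MulAut.one_apply]
      exact (inv_mul_eq_one.1 h2).symm
    have hinn := FusionP3.GT.eq_inner_of_ptriv hS hF hpt
    have hSn : F.IsNormal S := by
      refine ⟨le_rfl, fun P φ hφ => ?_⟩
      rw [hinn P] at hφ
      obtain ⟨hP, g, hg, he⟩ := hφ
      refine ⟨conjHom (P ⊔ S) g, F.conj_mem (sup_le hP le_rfl) hg, fun x => (he x).symm, ?_⟩
      refine map_subgroupOf_eq_of_mapsTo (F.conj_mem (sup_le hP le_rfl) hg) le_sup_right fun x hx => ?_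
      exact S.mul_mem (S.mul_mem hg hx) (S.inv_mem hg)
    exact hnotle fun x hx => le_core_of_isNormal hSn hx.1
  refine ⟨hF, hhyp, fun F' hF' => ?_⟩
  set θ := QuotientGroup.mk' (F.center.subgroupOf S) with hθ
  have hsc := FusionEssential.Transport.stronglyClosed_center hS hF
  have hker : θ.ker.map S.subtype = F.center := ker_map_eq hF'.1 hF'.2.1
  refine ⟨factor_isSaturated hS hF hsc hF', fun htop => hZS fun x hx => ?_, fun T' E' hE' => ?_⟩
  · refine Subgroup.mem_subgroupOf.1 ((QuotientGroup.eq_one_iff (N := F.center.subgroupOf S) ⟨x, hx⟩).1 ?_)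
    have h1 : θ ⟨x, hx⟩ ∈ (⊤ : Subgroup (S ⧸ F.center.subgroupOf S)) := Subgroup.mem_top _
    rw [htop] at h1
    exact h1
  have hsetup : CentralLift.Setup F θ F' E' p :=
    ⟨hS, hF, fun P φ hφ x hx hθx => hfixhom P φ hφ x ((hF'.2.1 ⟨x, hx⟩).1 hθx), hker.symm ▸ hF', hE'⟩
  obtain ⟨D, hD, hDe⟩ := hsetup.exists_lift_weaklyNormal
  set T := preimageAlong θ T'
  haveI := finite_sub (preimageAlong_le θ T' : T ≤ S)
  obtain ⟨R, hR⟩ := FusionP3.Prime.exists_residual (hS.to_le (preimageAlong_le θ T')) hD.1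
  have hRn := FusionP3.Prime.Normality.residual_isNormalIn hS hD hR
  by_cases hwhole : T = S ∧ ∀ P, R.Hom P = F.Hom P
  · refine Or.inr ⟨?_, fun P' => Set.Subset.antisymm (hE'.1.2.2.1 P') fun φ' hφ' => ?_⟩
    · refine le_antisymm le_top fun y _ => ?_
      obtain ⟨s, rfl⟩ := hF'.2.2.1.ge (Subgroup.mem_top y)
      exact (mem_preimageAlong.1 (hwhole.1.ge s.2)).2
    obtain ⟨hP', φ, hφ, hind⟩ := (hF'.2.2.2 P' φ').1 hφ'
    obtain ⟨e, he, hie⟩ := hDe _ φ (hR.2.1.1 _ ((hwhole.2 _).ge hφ))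
    have himg := imageAlong_preimageAlong hF'.2.2.1 hP'
    obtain ⟨e', he', he'e⟩ := exists_restrict he himg.ge
    refine hom_congr he' fun y => ?_
    obtain ⟨x, rfl⟩ := hsetup.proj_surjective hP' y
    rw [he'e]
    refine Eq.trans (inducedAlong_apply hind x _ (CentralLift.proj θ P' x).2 (apply_mem hφ x)) ?_
    exact (inducedAlong_apply hie x _ (himg.ge (CentralLift.proj θ P' x).2) (apply_mem hφ x)).symm
  · have hTZ : T ≤ F.center := hB T R hRn fun hTS => by
      by_contra hh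
      exact hwhole ⟨hTS, fun P => by by_contra hP; exact hh ⟨P, hP⟩⟩
    refine Or.inl (eq_bot_iff.2 fun y hy => ?_)
    obtain ⟨s, rfl⟩ := hF'.2.2.1.ge (Subgroup.mem_top y)
    rw [Subgroup.mem_bot]
    exact (hF'.2.1 s).2 (hTZ (mem_preimageAlong.2 ⟨s.2, hy⟩))

omit [Finite S]

/-- A system that is not constrained has a component. -/
theorem exists_component : ∀ {S : Subgroup Ω} [Finite S], IsPGroup p S → ∀ {F : FusionSystem S},
    F.IsSaturated p → ¬ F.IsConstrained p →
      ∃ (T : Subgroup Ω) (C : FusionSystem T), C.IsComponentIn F p := by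
  suffices key : ∀ (n : ℕ) (S : Subgroup Ω) [Finite S], Nat.card S = n → ∀ (m : ℕ) (F : FusionSystem S),
      (graphs F).ncard = m → IsPGroup p S → F.IsSaturated p → ¬ F.IsConstrained p →
      ∃ (T : Subgroup Ω) (C : FusionSystem T), C.IsComponentIn F p from
    fun {S} _ hS {F} hF hnc => key _ S rfl _ F rfl hS hF hnc
  intro n
  induction n using Nat.strong_induction_on with
  | _ n ihn =>
  intro S _ hn m
  induction m using Nat.strong_induction_on with
  | _ m ihm =>
  intro F hm hS hF hnc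
  by_contra hno
  refine hno ⟨S, F, IsSubnormalIn.refl F p, quasisimple_of_minimal hS hF hnc fun T E hE hprop => ?_⟩
  by_contra hEc
  have hTS : T ≤ S := hE.1.2.2.2.1.1
  haveI := finite_sub hTS
  have hTp : IsPGroup p T := hS.to_le hTS
  obtain ⟨U, C, hsub, hq⟩ : ∃ (U : Subgroup Ω) (C : FusionSystem U), C.IsComponentIn E p := by
    rcases eq_or_lt_of_le hTS with rfl | hlt
    · exact ihm _ (hm ▸ graphs_lt hE.1.2.2.1 (hprop rfl)) E rfl hTp hE.1.1 hEc
    · refine ihn _ (hn ▸ lt_of_not_ge fun hh => hlt.ne (Subgroup.eq_of_le_of_card_ge hlt.le hh)) T rfl _ E rfl hTp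
        hE.1.1 hEc
  exact hno ⟨U, C, IsSubnormalIn.step hsub hE, hq⟩

/-- A constrained system has no component. -/
theorem not_component_of_constrained {S : Subgroup Ω} [Finite S] (hS : IsPGroup p S) {F : FusionSystem S}
    (hF : F.IsConstrained p) : ¬ ∃ (T : Subgroup Ω) (C : FusionSystem T), C.IsComponentIn F p := by
  rintro ⟨T, C, hsub, hq⟩
  have hC : C.IsConstrained p := S5342.result p hS F hF C hsub
  have hsub' : T ≤ S := by
    clear hC hq hF hS
    induction hsub with
    | refl F p => exact le_rfl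
    | step _ hD ih => exact ih.trans hD.1.2.2.2.1.1
  haveI := finite_sub hsub'
  have hTp := hS.to_le hsub'
  have hle := core_le_center_of_quasisimple hTp hq
  have hKc := FusionConstrained.Inherit.isCentric_core hC
  have hTZ : T ≤ C.center := fun x hx => hle (hKc.2 _ (isConj_refl C hKc.1)
    ⟨hx, fun y hy => ((center_le_centralizer C (hle hy)) x hx).symm⟩)
  refine S5148.result p hTp C hq ⟨⟨fun a b => Subtype.ext ?_⟩⟩
  exact (center_le_centralizer C (hTZ b.2) a a.2)

end Cfsg.Agent.Lib.FS.ComponentExists
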