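import Mathlib
import Cfsg.Prelude.Def_FusionComponents
import Cfsg.Agent.Lib.FusionSystem.Saturation

/-!
Direct products of fusion systems.
-/

set_option autoImplicit false
set_option linter.style.haveILetI false
set_option linter.unusedSectionVars false

namespace Cfsg.Agent.Lib.FS

open Cfsg Cfsg.FusionSystem
open scoped Pointwise

variable {Ω₁ Ω₂ : Type*} [Group Ω₁] [Group Ω₂] {S₁ : Subgroup Ω₁} {S₂ : Subgroup Ω₂}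
variable {F₁ : FusionSystem S₁} {F₂ : FusionSystem S₂}

/-- The projections of a subgroup of a product. -/
abbrev proj₁ (P : Subgroup (Ω₁ × Ω₂)) : Subgroup Ω₁ := P.map (MonoidHom.fst Ω₁ Ω₂)

/-- The projections of a subgroup of a product. -/
abbrev proj₂ (P : Subgroup (Ω₁ × Ω₂)) : Subgroup Ω₂ := P.map (MonoidHom.snd Ω₁ Ω₂)

theorem fst_mem {P : Subgroup (Ω₁ × Ω₂)} {x : Ω₁ × Ω₂} (h : x ∈ P) : x.1 ∈ proj₁ P := ⟨x, h, rfl⟩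

theorem snd_mem {P : Subgroup (Ω₁ × Ω₂)} {x : Ω₁ × Ω₂} (h : x ∈ P) : x.2 ∈ proj₂ P := ⟨x, h, rfl⟩

/-- The pair map attached to two maps on the projections. -/
def pairMap {P : Subgroup (Ω₁ × Ω₂)} (φ₁ : proj₁ P →* Ω₁) (φ₂ : proj₂ P →* Ω₂) : P →* Ω₁ × Ω₂ :=
  (φ₁.comp (((MonoidHom.fst Ω₁ Ω₂).comp P.subtype).codRestrict (proj₁ P) fun x => fst_mem x.2)).prod
    (φ₂.comp (((MonoidHom.snd Ω₁ Ω₂).comp P.subtype).codRestrict (proj₂ P) fun x => snd_mem x.2))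

@[simp] theorem pairMap_apply {P : Subgroup (Ω₁ × Ω₂)} (φ₁ : proj₁ P →* Ω₁) (φ₂ : proj₂ P →* Ω₂) (x : P) :
    pairMap φ₁ φ₂ x = (φ₁ ⟨(x : Ω₁ × Ω₂).1, fst_mem x.2⟩, φ₂ ⟨(x : Ω₁ × Ω₂).2, snd_mem x.2⟩) := rfl

theorem proj₁_le {P : Subgroup (Ω₁ × Ω₂)} (h : P ≤ S₁.prod S₂) : proj₁ P ≤ S₁ := by
  rintro _ ⟨x, hx, rfl⟩; exact (h hx).1

theorem proj₂_le {P : Subgroup (Ω₁ × Ω₂)} (h : P ≤ S₁.prod S₂) : proj₂ P ≤ S₂ := by
  rintro _ ⟨x, hx, rfl⟩; exact (h hx).2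

theorem proj_pairMap_range₁ {P : Subgroup (Ω₁ × Ω₂)} (φ₁ : proj₁ P →* Ω₁) (φ₂ : proj₂ P →* Ω₂) :
    proj₁ (pairMap φ₁ φ₂).range = φ₁.range := by
  ext y
  constructor
  · rintro ⟨_, ⟨x, rfl⟩, rfl⟩; exact ⟨_, rfl⟩
  · rintro ⟨⟨_, x, hx, rfl⟩, rfl⟩; exact ⟨_, ⟨⟨x, hx⟩, rfl⟩, rfl⟩

theorem proj_pairMap_range₂ {P : Subgroup (Ω₁ × Ω₂)} (φ₁ : proj₁ P →* Ω₁) (φ₂ : proj₂ P →* Ω₂) :
    proj₂ (pairMap φ₁ φ₂).range = φ₂.range := by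
  ext y
  constructor
  · rintro ⟨_, ⟨x, rfl⟩, rfl⟩; exact ⟨_, rfl⟩
  · rintro ⟨⟨_, x, hx, rfl⟩, rfl⟩; exact ⟨_, ⟨⟨x, hx⟩, rfl⟩, rfl⟩

theorem product_mem_iff {E : FusionSystem (S₁.prod S₂)} (hE : IsProductSystem F₁ F₂ E)
    {P : Subgroup (Ω₁ × Ω₂)} {φ : P →* Ω₁ × Ω₂} :
    φ ∈ E.Hom P ↔ P ≤ S₁.prod S₂ ∧ ∃ φ₁ ∈ F₁.Hom (proj₁ P), ∃ φ₂ ∈ F₂.Hom (proj₂ P), φ = pairMap φ₁ φ₂ := by
  rw [hE P φ]
  constructor
  · rintro ⟨hP, φ₁, h₁, φ₂, h₂, h⟩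
    exact ⟨hP, φ₁, h₁, φ₂, h₂, MonoidHom.ext fun x => h x _ _⟩
  · rintro ⟨hP, φ₁, h₁, φ₂, h₂, rfl⟩
    exact ⟨hP, φ₁, h₁, φ₂, h₂, fun x _ _ => rfl⟩

theorem exists_productSystem (F₁ : FusionSystem S₁) (F₂ : FusionSystem S₂) :
    ∃ E : FusionSystem (S₁.prod S₂), IsProductSystem F₁ F₂ E := by
  refine ⟨{ Hom := fun P => {φ | P ≤ S₁.prod S₂ ∧ ∃ φ₁ ∈ F₁.Hom (proj₁ P), ∃ φ₂ ∈ F₂.Hom (proj₂ P),
              φ = pairMap φ₁ φ₂}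
            le_of_mem := ?_, injective_of_mem := ?_, conj_mem := ?_, comp_mem := ?_, inv_mem := ?_ },
    fun P φ => ⟨?_, ?_⟩⟩
  · rintro P φ ⟨hP, φ₁, h₁, φ₂, h₂, rfl⟩
    exact ⟨hP, fun x => ⟨apply_mem h₁ _, apply_mem h₂ _⟩⟩
  · rintro P φ ⟨hP, φ₁, h₁, φ₂, h₂, rfl⟩ x y hxy
    simp only [pairMap_apply, Prod.mk.injEq] at hxy
    exact Subtype.ext (Prod.ext (congrArg Subtype.val (F₁.injective_of_mem h₁ hxy.1))
      (congrArg Subtype.val (F₂.injective_of_mem h₂ hxy.2)))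
  · intro P g hP hg
    exact ⟨hP, _, F₁.conj_mem (proj₁_le hP) hg.1, _, F₂.conj_mem (proj₂_le hP) hg.2,
      MonoidHom.ext fun x => rfl⟩
  · rintro P Q φ ψ ⟨hP, φ₁, h₁, φ₂, h₂, rfl⟩ ⟨hQ, ψ₁, g₁, ψ₂, g₂, rfl⟩ h
    have m₁ : ∀ y, φ₁ y ∈ proj₁ Q := by
      rintro ⟨_, x, hx, rfl⟩
      exact fst_mem (h ⟨x, hx⟩)
    have m₂ : ∀ y, φ₂ y ∈ proj₂ Q := by
      rintro ⟨_, x, hx, rfl⟩
      exact snd_mem (h ⟨x, hx⟩)
    exact ⟨hP, _, F₁.comp_mem h₁ g₁ m₁, _, F₂.comp_mem h₂ g₂ m₂, MonoidHom.ext fun x => rfl⟩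
  · rintro P φ ⟨hP, φ₁, h₁, φ₂, h₂, rfl⟩
    obtain ⟨ψ₁, g₁, -, l₁, -⟩ := exists_inv h₁ (proj_pairMap_range₁ φ₁ φ₂).symm
    obtain ⟨ψ₂, g₂, -, l₂, -⟩ := exists_inv h₂ (proj_pairMap_range₂ φ₁ φ₂).symm
    refine ⟨pairMap ψ₁ ψ₂, ⟨?_, ψ₁, g₁, ψ₂, g₂, rfl⟩, fun x => ?_⟩
    · rintro _ ⟨x, rfl⟩; exact ⟨apply_mem h₁ _, apply_mem h₂ _⟩
    · exact Prod.ext (l₁ ⟨_, fst_mem x.2⟩ _) (l₂ ⟨_, snd_mem x.2⟩ _)
  · rintro ⟨hP, φ₁, h₁, φ₂, h₂, rfl⟩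
    exact ⟨hP, φ₁, h₁, φ₂, h₂, fun x _ _ => rfl⟩
  · rintro ⟨hP, φ₁, h₁, φ₂, h₂, h⟩
    exact ⟨hP, φ₁, h₁, φ₂, h₂, MonoidHom.ext fun x => h x _ _⟩

section Saturated

variable [Finite S₁] [Finite S₂] {p : ℕ} [Fact p.Prime] {E : FusionSystem (S₁.prod S₂)}

theorem finite_prod : Finite ↥(S₁.prod S₂) :=
  Finite.of_equiv _ (Subgroup.prodEquiv S₁ S₂).symm.toEquiv

theorem isPGroup_prod (h₁ : IsPGroup p S₁) (h₂ : IsPGroup p S₂) : IsPGroup p ↥(S₁.prod S₂) := by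
  intro x
  obtain ⟨a, ha⟩ := h₁ ⟨_, x.2.1⟩
  obtain ⟨b, hb⟩ := h₂ ⟨_, x.2.2⟩
  refine ⟨a + b, Subtype.ext (Prod.ext ?_ ?_)⟩
  · have h := congrArg Subtype.val ha
    simp only [SubgroupClass.coe_pow, OneMemClass.coe_one] at h
    simp [pow_add, pow_mul, h]
  · have h := congrArg Subtype.val hb
    simp only [SubgroupClass.coe_pow, OneMemClass.coe_one] at h
    rw [add_comm]
    simp [pow_add, pow_mul, h]

theorem product_receptive (hE : IsProductSystem F₁ F₂ E) {P : Subgroup (Ω₁ × Ω₂)}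
    (hP : P ≤ S₁.prod S₂) (r₁ : F₁.IsReceptive (proj₁ P)) (r₂ : F₂.IsReceptive (proj₂ P)) :
    E.IsReceptive P := by
  haveI := finite_prod (S₁ := S₁) (S₂ := S₂)
  refine ⟨hP, fun R φ hφ hr => ?_⟩
  obtain ⟨hR, φ₁, h₁, φ₂, h₂, rfl⟩ := (product_mem_iff hE).1 hφ
  subst hr
  obtain ⟨χ₁, hχ₁, e₁⟩ := r₁.2 _ φ₁ h₁ (proj_pairMap_range₁ φ₁ φ₂).symm
  obtain ⟨χ₂, hχ₂, e₂⟩ := r₂.2 _ φ₂ h₂ (proj_pairMap_range₂ φ₁ φ₂).symm
  set N := extender (S₁.prod S₂) R (pairMap φ₁ φ₂)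
  have hN₁ : proj₁ N ≤ extender S₁ (proj₁ R) φ₁ := by
    rintro _ ⟨g, hg, rfl⟩
    obtain ⟨hgS, hgR, h, hh, he⟩ := mem_extender.1 hg
    haveI : Finite (proj₁ R) := finite_sub (proj₁_le hR)
    refine mem_extender_of ⟨hgS.1, mem_normalizer_of_conj_mem ?_⟩ hh.1 ?_
    · rintro _ ⟨x, hx, rfl⟩
      exact fst_mem (conj_mem_of_normalizer hgR hx)
    · rintro ⟨_, x, hx, rfl⟩ hy
      exact congrArg Prod.fst (he ⟨x, hx⟩ (conj_mem_of_normalizer hgR hx))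
  have hN₂ : proj₂ N ≤ extender S₂ (proj₂ R) φ₂ := by
    rintro _ ⟨g, hg, rfl⟩
    obtain ⟨hgS, hgR, h, hh, he⟩ := mem_extender.1 hg
    haveI : Finite (proj₂ R) := finite_sub (proj₂_le hR)
    refine mem_extender_of ⟨hgS.2, mem_normalizer_of_conj_mem ?_⟩ hh.2 ?_
    · rintro _ ⟨x, hx, rfl⟩
      exact snd_mem (conj_mem_of_normalizer hgR hx)
    · rintro ⟨_, x, hx, rfl⟩ hy
      exact congrArg Prod.snd (he ⟨x, hx⟩ (conj_mem_of_normalizer hgR hx))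
  obtain ⟨ψ₁, hψ₁, f₁⟩ := exists_restrict hχ₁ hN₁
  obtain ⟨ψ₂, hψ₂, f₂⟩ := exists_restrict hχ₂ hN₂
  refine ⟨pairMap ψ₁ ψ₂, (product_mem_iff hE).2 ⟨fun g hg => (mem_extender.1 hg).1, ψ₁, hψ₁, ψ₂, hψ₂, rfl⟩,
    fun x hx hxN => Prod.ext ?_ ?_⟩
  · exact (f₁ _).trans (e₁ _ (fst_mem hx) _)
  · exact (f₂ _).trans (e₂ _ (snd_mem hx) _)

theorem product_isSaturated (hp₁ : IsPGroup p S₁) (hp₂ : IsPGroup p S₂) (hF₁ : F₁.IsSaturated p)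
    (hF₂ : F₂.IsSaturated p) (hE : IsProductSystem F₁ F₂ E) : E.IsSaturated p := by
  haveI := finite_prod (S₁ := S₁) (S₂ := S₂)
  have hp := isPGroup_prod hp₁ hp₂
  intro P hP
  -- a conjugate with fully normalized projections
  obtain ⟨Q₁, ⟨α₁, hα₁, hα₁r⟩, hQ₁⟩ := exists_isFullyNormalized F₁ (proj₁_le hP)
  obtain ⟨Q₂, ⟨α₂, hα₂, hα₂r⟩, hQ₂⟩ := exists_isFullyNormalized F₂ (proj₂_le hP)
  set R := (pairMap α₁ α₂).range with hRdef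
  have hαmem : pairMap α₁ α₂ ∈ E.Hom P := (product_mem_iff hE).2 ⟨hP, α₁, hα₁, α₂, hα₂, rfl⟩
  have hR : R ≤ S₁.prod S₂ := range_le_base hαmem
  have hR₁ : proj₁ R = Q₁ := (proj_pairMap_range₁ α₁ α₂).trans hα₁r
  have hR₂ : proj₂ R = Q₂ := (proj_pairMap_range₂ α₁ α₂).trans hα₂r
  subst hR₁ hR₂
  haveI := finite_sub hR
  haveI := finite_sub hQ₁.1
  haveI := finite_sub hQ₂.1
  set A₁ := F₁.autGroup (proj₁ R)
  set A₂ := F₂.autGroup (proj₂ R)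
  obtain ⟨T₁, hT₁⟩ := (fullyAutomized_of_fullyNormalized hp₁ hF₁ hQ₁).2
  obtain ⟨T₂, hT₂⟩ := (fullyAutomized_of_fullyNormalized hp₂ hF₂ hQ₂).2
  -- the stabiliser of `R`
  let act : MulAut (proj₁ R) × MulAut (proj₂ R) → R →* Ω₁ × Ω₂ := fun a =>
    pairMap ((proj₁ R).subtype.comp a.1.toMonoidHom) ((proj₂ R).subtype.comp a.2.toMonoidHom)
  let D : Subgroup (MulAut (proj₁ R) × MulAut (proj₂ R)) :=
    { carrier := {a | a.1 ∈ A₁ ∧ a.2 ∈ A₂ ∧ (∀ x, act a x ∈ R) ∧ ∀ x, act a⁻¹ x ∈ R}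
      one_mem' := ⟨one_mem _, one_mem _, fun x => x.2, fun x => by rw [inv_one]; exact x.2⟩
      mul_mem' := by
        rintro a b ⟨a1, a2, ha, ha'⟩ ⟨b1, b2, hb, hb'⟩
        refine ⟨A₁.mul_mem a1 b1, A₂.mul_mem a2 b2, fun x => ?_, fun x => ?_⟩
        · exact ha ⟨_, hb x⟩
        · rw [mul_inv_rev]; exact hb' ⟨_, ha' x⟩
      inv_mem' := by
        rintro a ⟨a1, a2, ha, ha'⟩
        exact ⟨A₁.inv_mem a1, A₂.inv_mem a2, ha', fun x => by rw [inv_inv]; exact ha x⟩ }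
  let U : Sylow p D := default
  obtain ⟨γ₁, hγ₁, hc₁⟩ := exists_conj_le_sylow T₁ hT₁
    (T := (U : Subgroup D).map ((MonoidHom.fst _ _).comp D.subtype))
    (by rintro _ ⟨a, -, rfl⟩; exact a.2.1) (U.isPGroup'.map _)
  obtain ⟨γ₂, hγ₂, hc₂⟩ := exists_conj_le_sylow T₂ hT₂
    (T := (U : Subgroup D).map ((MonoidHom.snd _ _).comp D.subtype))
    (by rintro _ ⟨a, -, rfl⟩; exact a.2.2.1) (U.isPGroup'.map _)
  obtain ⟨τ₁, hτ₁, hτ₁r, hτ₁γ⟩ := exists_hom_of_aut hQ₁.1 hγ₁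
  obtain ⟨τ₂, hτ₂, hτ₂r, hτ₂γ⟩ := exists_hom_of_aut hQ₂.1 hγ₂
  have hτmem : pairMap τ₁ τ₂ ∈ E.Hom R := (product_mem_iff hE).2 ⟨hR, τ₁, hτ₁, τ₂, hτ₂, rfl⟩
  set V := (pairMap τ₁ τ₂).range with hVdef
  have hV : V ≤ S₁.prod S₂ := range_le_base hτmem
  have hV₁ : proj₁ V = proj₁ R := (proj_pairMap_range₁ τ₁ τ₂).trans hτ₁r
  have hV₂ : proj₂ V = proj₂ R := (proj_pairMap_range₂ τ₁ τ₂).trans hτ₂r
  have hconj : E.IsConj P V := isConj_trans ⟨_, hαmem, rfl⟩ ⟨_, hτmem, rfl⟩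
  refine ⟨V, hconj, ?_, product_receptive hE hV (hV₁.symm ▸ receptive_of_fullyNormalized hp₁ hF₁ hQ₁)
    (hV₂.symm ▸ receptive_of_fullyNormalized hp₂ hF₂ hQ₂)⟩
  haveI := finite_sub hV
  -- `U` maps injectively into `Aut_S(V)`, and `Aut_E(V)` is a copy of the stabiliser
  refine isFullyAutomized_of_card hV (le_antisymm ?_ ?_)
  · obtain ⟨W, hW⟩ := ((isPGroup_autInducedBy hp V).of_equiv
      (Subgroup.subgroupOfEquivOfLe (autInducedBy_le_autGroup E hV)).symm).exists_le_sylow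
    rw [← Nat.card_congr (Subgroup.subgroupOfEquivOfLe (autInducedBy_le_autGroup E hV)).toEquiv,
      ← Sylow.card_eq_multiplicity W]
    exact Subgroup.card_le_of_le hW
  have hU : ∀ a : U, MulAut.congr (homEquiv hτmem rfl)
      ({ toFun := fun x => ⟨_, (a : D).2.2.2.1 x⟩
         invFun := fun x => ⟨_, (a : D).2.2.2.2 x⟩
         left_inv := fun x => Subtype.ext (Prod.ext
           (congrArg Subtype.val (((a : D) : MulAut (proj₁ R) × MulAut (proj₂ R)).1.symm_apply_apply ⟨_, fst_mem x.2⟩))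
           (congrArg Subtype.val (((a : D) : MulAut (proj₁ R) × MulAut (proj₂ R)).2.symm_apply_apply ⟨_, snd_mem x.2⟩)))
         right_inv := fun x => Subtype.ext (Prod.ext
           (congrArg Subtype.val (((a : D) : MulAut (proj₁ R) × MulAut (proj₂ R)).1.apply_symm_apply ⟨_, fst_mem x.2⟩))
           (congrArg Subtype.val (((a : D) : MulAut (proj₁ R) × MulAut (proj₂ R)).2.apply_symm_apply ⟨_, snd_mem x.2⟩)))
         map_mul' := fun x y => Subtype.ext (map_mul (act _) x y) } : MulAut R) ∈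
      autInducedBy (S₁.prod S₂) V := by
    intro a
    obtain ⟨g₁, hg₁, e₁⟩ := mem_autInducedBy.1 (hc₁ _ ⟨a, a.2, rfl⟩)
    obtain ⟨g₂, hg₂, e₂⟩ := mem_autInducedBy.1 (hc₂ _ ⟨a, a.2, rfl⟩)
    refine mem_autInducedBy.2 ⟨(g₁, g₂), ⟨hg₁, hg₂⟩, fun w => ?_⟩
    obtain ⟨x, rfl⟩ := (homEquiv hτmem rfl).surjective w
    have k₁ := e₁ (γ₁ ⟨_, fst_mem x.2⟩)
    rw [MulAut.mul_apply, MulAut.mul_apply, MulAut.inv_apply_self] at k₁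
    have k₂ := e₂ (γ₂ ⟨_, snd_mem x.2⟩)
    rw [MulAut.mul_apply, MulAut.mul_apply, MulAut.inv_apply_self] at k₂
    show ((homEquiv hτmem rfl _ : V) : Ω₁ × Ω₂) = _
    rw [homEquiv_coe, show (homEquiv hτmem rfl).symm.toEquiv ((homEquiv hτmem rfl) x) = x from (homEquiv hτmem rfl).symm_apply_apply x, homEquiv_coe]
    refine Prod.ext ?_ ?_
    · show τ₁ _ = g₁ * τ₁ _ * g₁⁻¹
      rw [hτ₁γ, hτ₁γ]; exact k₁
    · show τ₂ _ = g₂ * τ₂ _ * g₂⁻¹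
      rw [hτ₂γ, hτ₂γ]; exact k₂
  have hA : Nat.card (E.autGroup V) ≤ Nat.card D := by
    rw [card_autGroup_of_isConj ⟨_, hτmem, rfl⟩]
    have hex : ∀ β : E.autGroup R, ∃ a : D, ∀ x : R, act a x = ((β : MulAut R) x : R) := by
      intro β
      obtain ⟨φ, hφ, hφr, hφe⟩ := exists_hom_of_aut hR β.2
      obtain ⟨-, φ₁, h₁, φ₂, h₂, rfl⟩ := (product_mem_iff hE).1 hφ
      have r₁ : φ₁.range = proj₁ R :=
        (proj_pairMap_range₁ φ₁ φ₂).symm.trans (congrArg proj₁ hφr)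
      have r₂ : φ₂.range = proj₂ R :=
        (proj_pairMap_range₂ φ₁ φ₂).symm.trans (congrArg proj₂ hφr)
      refine ⟨⟨(homEquiv h₁ r₁, homEquiv h₂ r₂), homEquiv_mem_autGroup h₁ r₁, homEquiv_mem_autGroup h₂ r₂,
        fun x => by show pairMap φ₁ φ₂ x ∈ R; rw [hφe]; exact SetLike.coe_mem _, fun x => ?_⟩,
        fun x => hφe x⟩
      obtain ⟨y, hy⟩ := hφr.ge x.2
      have e : act ((homEquiv h₁ r₁, homEquiv h₂ r₂) : _ × _)⁻¹ x = (y : Ω₁ × Ω₂) := by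
        have hxy : (x : Ω₁ × Ω₂) = pairMap φ₁ φ₂ y := hy.symm
        refine Prod.ext ?_ ?_
        · show (((homEquiv h₁ r₁).symm ⟨(x : Ω₁ × Ω₂).1, _⟩ : proj₁ R) : Ω₁) = _
          rw [show (⟨(x : Ω₁ × Ω₂).1, fst_mem x.2⟩ : proj₁ R) = homEquiv h₁ r₁ ⟨_, fst_mem y.2⟩ from
            Subtype.ext (congrArg Prod.fst hxy), MulEquiv.symm_apply_apply]
        · show (((homEquiv h₂ r₂).symm ⟨(x : Ω₁ × Ω₂).2, _⟩ : proj₂ R) : Ω₂) = _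
          rw [show (⟨(x : Ω₁ × Ω₂).2, snd_mem x.2⟩ : proj₂ R) = homEquiv h₂ r₂ ⟨_, snd_mem y.2⟩ from
            Subtype.ext (congrArg Prod.snd hxy), MulEquiv.symm_apply_apply]
      rw [e]; exact y.2
    choose f hf using hex
    exact Nat.card_le_card_of_injective f fun β β' h => Subtype.ext (MulEquiv.ext fun x =>
      Subtype.ext ((hf β x).symm.trans ((congrArg (fun a : D => act a x) h).trans (hf β' x))))
  have hUcard : p ^ (Nat.card (E.autGroup V)).factorization p ≤ Nat.card U := by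
    rw [Sylow.card_eq_multiplicity U]
    refine Nat.pow_le_pow_right (Fact.out (p := p.Prime)).pos ?_
    have hA' : Nat.card D ≤ Nat.card (E.autGroup V) := by
      rw [card_autGroup_of_isConj ⟨_, hτmem, rfl⟩]
      have hg : ∀ a : D, ∃ β : E.autGroup R, ∀ x, ((β : MulAut R) x : Ω₁ × Ω₂) = act a x := by
        intro a
        have hmem : act a ∈ E.Hom R := (product_mem_iff hE).2 ⟨hR, _, (mem_autGroup hQ₁.1).1 a.2.1, _,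
          (mem_autGroup hQ₂.1).1 a.2.2.1, rfl⟩
        have hr : (act a).range = R := range_eq_of_mem hmem a.2.2.2.1 le_rfl
        exact ⟨⟨homEquiv hmem hr, homEquiv_mem_autGroup hmem hr⟩, fun x => rfl⟩
      choose g hg using hg
      refine Nat.card_le_card_of_injective g fun a b h => ?_
      have key : ∀ x, act a x = act b x := fun x => by rw [← hg, ← hg, h]
      refine Subtype.ext (Prod.ext (MulEquiv.ext ?_) (MulEquiv.ext ?_))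
      · rintro ⟨_, x, hx, rfl⟩; exact Subtype.ext (congrArg Prod.fst (key ⟨x, hx⟩))
      · rintro ⟨_, x, hx, rfl⟩; exact Subtype.ext (congrArg Prod.snd (key ⟨x, hx⟩))
    rw [le_antisymm hA hA']
  refine hUcard.trans (Nat.card_le_card_of_injective (fun a => (⟨_, hU a⟩ : autInducedBy (S₁.prod S₂) V))
    fun a b h => ?_)
  have h' := (MulAut.congr (homEquiv hτmem rfl)).injective
    (congrArg (fun z : autInducedBy (S₁.prod S₂) V => (z : MulAut V)) h)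
  refine Subtype.ext (Subtype.ext (Prod.ext (MulEquiv.ext ?_) (MulEquiv.ext ?_)))
  · rintro ⟨_, x, hx, rfl⟩
    exact Subtype.ext (congrArg (fun z : MulAut R => ((z ⟨x, hx⟩ : R) : Ω₁ × Ω₂).1) h')
  · rintro ⟨_, x, hx, rfl⟩
    exact Subtype.ext (congrArg (fun z : MulAut R => ((z ⟨x, hx⟩ : R) : Ω₁ × Ω₂).2) h')

end Saturated

end Cfsg.Agent.Lib.FS
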