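import Cfsg.Agent.Lib.FusionSystem.CentralizerSubsystem
import Cfsg.Agent.Lib.FusionSystem.ComponentExists
import Cfsg.Agent.Lib.FusionSystem.Product
import Cfsg.Agent.Lib.FusionSystem.Realized
import Cfsg.Agent.Lib.FusionEssential.TransportComponents
import Cfsg.Agent.S5150
import Cfsg.Agent.S5310

/-!
The generalized Fitting subsystem: saturation, containment in `F`, and self-centralization.
-/

set_option autoImplicit false
set_option linter.style.haveILetI false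
set_option linter.unusedSectionVars false

namespace Cfsg.Agent.Lib.FS.Fitting

open Cfsg Cfsg.FusionSystem Cfsg.Agent.Lib Cfsg.Agent.Lib.FS

universe u

variable {Ω : Type u} [Group Ω] {S : Subgroup Ω} [Finite S] {p : ℕ} [hp : Fact p.Prime] {F : FusionSystem S}

omit [Finite S] hp in
/-- A subnormal subsystem lives below. -/
theorem subnormal_le {R V : Subgroup Ω} {C : FusionSystem R} {F : FusionSystem V} (h : C.IsSubnormalIn F p) :
    R ≤ V := by
  induction h with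
  | refl D p => exact le_rfl
  | step _ hD ih => exact ih.trans hD.1.2.2.2.1.1

/-- The inner system of a finite `p`-group is saturated. -/
theorem inner_isSaturated {R : Subgroup Ω} [Finite R] (hR : IsPGroup p R) :
    (innerFusionSystem R).IsSaturated p := by
  have hr : (innerFusionSystem R).IsRealizedBy (MonoidHom.id R) := by
    refine ⟨fun _ _ h => h, fun P hP φ hφ => ⟨?_, ?_⟩⟩
    · rintro ⟨-, g, hg, he⟩
      exact ⟨⟨g, hg⟩, fun x => Subtype.ext (he x)⟩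
    · rintro ⟨g, he⟩
      exact ⟨hP, g, g.2, fun x => congrArg Subtype.val (he x)⟩
  obtain ⟨V⟩ : Nonempty (Sylow p R) := inferInstance
  refine isSaturated_of_realized hr V ?_
  rw [MonoidHom.range_eq_top.2 fun x => ⟨x, rfl⟩]
  exact (V.is_maximal' (hR.to_subgroup ⊤) le_top).symm

/-- A central product of saturated systems is saturated. -/
theorem centralProduct_isSaturated {T₁ T₂ U : Subgroup Ω} [Finite T₁] [Finite T₂] {E₁ : FusionSystem T₁}
    {E₂ : FusionSystem T₂} {D : FusionSystem U} (hp₁ : IsPGroup p T₁) (hp₂ : IsPGroup p T₂)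
    (h₁ : E₁.IsSaturated p) (h₂ : E₂.IsSaturated p) (hD : IsCentralProductOf E₁ E₂ D) : D.IsSaturated p := by
  obtain ⟨D₀, hD₀, Z, θ, hZ, -, -, -, -, hfac⟩ := hD
  haveI : Finite ↥(T₁.prod T₂) := finite_prod
  have hP := isPGroup_prod hp₁ hp₂
  have hs := product_isSaturated hp₁ hp₂ h₁ h₂ hD₀
  refine factor_isSaturated hP hs ?_ hfac
  have hc := (isCentral_iff hP hs).1 (FusionAlperin.Join.isCentral_center D₀)
  refine ⟨fun z hz => hc.1 (hZ hz), fun R hR φ hφ x => ?_⟩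
  obtain ⟨τ, hτ, hτe⟩ := exists_restrict hφ (Subgroup.zpowers_le.2 x.2)
  have h := hc.2 _ (hZ (hR x.2)) (τ ⟨x, Subgroup.mem_zpowers _⟩) ⟨τ, hτ, rfl⟩
  rw [hτe] at h
  exact h.symm ▸ hR x.2

/-- The factors of a central product and the shape of its elements. -/
theorem centralProduct_base {T₁ T₂ U : Subgroup Ω} {E₁ : FusionSystem T₁} {E₂ : FusionSystem T₂}
    {D : FusionSystem U} (hD : IsCentralProductOf E₁ E₂ D) :
    T₁ ≤ U ∧ T₂ ≤ U ∧ (∀ a ∈ T₁, ∀ z ∈ T₂, a * z = z * a) ∧ ∀ u ∈ U, ∃ a ∈ T₁, ∃ z ∈ T₂, u = a * z := by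
  obtain ⟨D₀, -, Z, θ, -, -, -, hfst, hsnd, -, -, hr, -⟩ := hD
  refine ⟨fun a ha => hr ▸ ⟨⟨(a, 1), ha, one_mem _⟩, hfst a _⟩,
    fun z hz => hr ▸ ⟨⟨(1, z), one_mem _, hz⟩, hsnd z _⟩, fun a ha z hz => ?_, fun u hu => ?_⟩
  · rw [← hfst a ⟨ha, one_mem _⟩, ← hsnd z ⟨one_mem _, hz⟩, ← map_mul, ← map_mul]
    exact congrArg θ (Subtype.ext (by simp))
  · obtain ⟨⟨⟨a, z⟩, ha, hz⟩, rfl⟩ := hr.ge hu
    refine ⟨a, ha, z, hz, ?_⟩
    refine ((congrArg θ (Subtype.ext (by simp) : _ = (⟨(a, 1), ha, one_mem _⟩ : ↥(T₁.prod T₂)) *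
      ⟨(1, z), one_mem _, hz⟩)).trans (map_mul θ _ _)).trans ?_
    exact congrArg₂ (· * ·) (hfst _ _) (hsnd _ _)

/-- A generalized Fitting subsystem is a saturated subsystem of `F`. -/
theorem gf_isSubsystemOf (hS : IsPGroup p S) (hF : F.IsSaturated p) {U : Subgroup Ω} {D : FusionSystem U}
    (hD : D.IsGeneralizedFittingOf F p) : D.IsSubsystemOf F ∧ D.IsSaturated p := by
  obtain ⟨T, E, hE, hprod⟩ := hD
  have hQS : F.core ≤ S := core_le_base F
  have hTS : T ≤ S := hE.1.1.2.2.2.1.1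
  haveI := finite_sub hQS
  haveI := finite_sub hTS
  refine ⟨fun P' φ' hφ' => ?_, centralProduct_isSaturated (hS.to_le hQS) (hS.to_le hTS)
    (inner_isSaturated (hS.to_le hQS)) hE.1.1.1 hprod⟩
  obtain ⟨-, -, hcom, -⟩ := centralProduct_base hprod
  obtain ⟨D₀, hD₀, Z, θ, -, -, -, hfst, hsnd, -, -, hr, hhom⟩ := hprod
  obtain ⟨hP', φ, hφ, hind⟩ := (hhom P' φ').1 hφ'
  obtain ⟨-, φ₁, ⟨-, g, hg, hge⟩, φ₂, hφ₂, rfl⟩ := (product_mem_iff hD₀).1 hφ
  obtain ⟨-, -, -, b, hb, hbe, hbQ⟩ := S5150.result p hS F hF E hE _ hφ₂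
  have hθ : ∀ s : ↥(F.core.prod T), θ s = (s : Ω × Ω).1 * (s : Ω × Ω).2 := fun s => by
    refine ((congrArg θ (Subtype.ext (by simp) : s = (⟨((s : Ω × Ω).1, 1), s.2.1, one_mem _⟩ : ↥(F.core.prod T)) *
      ⟨(1, (s : Ω × Ω).2), one_mem _, s.2.2⟩)).trans (map_mul θ _ _)).trans ?_
    exact congrArg₂ (· * ·) (hfst _ _) (hsnd _ _)
  have hmem : ∀ x ∈ P', ∃ (s : ↥(F.core.prod T)), θ s = x ∧
      (s : Ω × Ω) ∈ preimageAlong θ P' := fun x hx => by
    obtain ⟨s, hs⟩ := hr.ge (hP' hx)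
    exact ⟨s, hs, mem_preimageAlong.2 ⟨s.2, hs.symm ▸ hx⟩⟩
  have hle : P' ≤ proj₂ (preimageAlong θ P') ⊔ F.core := fun x hx => by
    obtain ⟨s, hs, hsP⟩ := hmem x hx
    rw [← hs, hθ]
    exact mul_mem ((le_sup_right : F.core ≤ _ ⊔ F.core) s.2.1) ((le_sup_left : _ ≤ _ ⊔ F.core) (snd_mem hsP))
  obtain ⟨b', hb', hb'e⟩ := exists_restrict hb hle
  obtain ⟨χ, hχ, hχe⟩ := exists_comp hb' (F.conj_mem le_rfl (hQS hg)) fun x => apply_mem hb' x
  refine hom_congr hχ fun x => ?_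
  obtain ⟨s, hs, hsP⟩ := hmem x x.2
  have h1 : φ' x = θ ⟨_, apply_mem hφ ⟨s, hsP⟩⟩ :=
    (congrArg φ' (Subtype.ext hs.symm : x = ⟨θ s, hs.symm ▸ x.2⟩)).trans
      (inducedAlong_apply hind ⟨s, hsP⟩ s.2 _ _)
  rw [h1, hθ, hχe]
  show φ₁ ⟨(s : Ω × Ω).1, fst_mem hsP⟩ * φ₂ ⟨(s : Ω × Ω).2, snd_mem hsP⟩ = g * b' x * g⁻¹
  have h2 : b' x = (s : Ω × Ω).1 * φ₂ ⟨(s : Ω × Ω).2, snd_mem hsP⟩ := by
    rw [hb'e]
    have e : (⟨(x : Ω), hle x.2⟩ : ↥(proj₂ (preimageAlong θ P') ⊔ F.core)) =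
        Subgroup.inclusion le_sup_right ⟨(s : Ω × Ω).1, s.2.1⟩ *
          Subgroup.inclusion le_sup_left ⟨(s : Ω × Ω).2, snd_mem hsP⟩ := Subtype.ext (hs.symm.trans (hθ s))
    refine (congrArg b e).trans ?_
    rw [map_mul, hbQ, hbe]
  have h3 : g * φ₂ ⟨(s : Ω × Ω).2, snd_mem hsP⟩ = φ₂ ⟨(s : Ω × Ω).2, snd_mem hsP⟩ * g :=
    hcom g hg _ (apply_mem hφ₂ _)
  rw [hge, h2]
  calc g * (s : Ω × Ω).1 * g⁻¹ * φ₂ ⟨(s : Ω × Ω).2, snd_mem hsP⟩
      = g * (s : Ω × Ω).1 * g⁻¹ * (φ₂ ⟨(s : Ω × Ω).2, snd_mem hsP⟩ * g) * g⁻¹ := by group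
    _ = g * (s : Ω × Ω).1 * g⁻¹ * (g * φ₂ ⟨(s : Ω × Ω).2, snd_mem hsP⟩) * g⁻¹ := by rw [h3]
    _ = _ := by group

/-- The centralizer of the layer has no component, so its elements centralizing the core lie in the core. -/
theorem centralizer_layer_le_core (hS : IsPGroup p S) (hF : F.IsSaturated p) {T : Subgroup Ω}
    {E : FusionSystem T} (hE : E.IsLayerOf F p) {y : Ω}
    (hy : y ∈ NormalCentralizer.centralizerSub F E) (hyQ : ∀ x ∈ F.core, x * y = y * x) : y ∈ F.core := by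
  obtain ⟨D, hDn, hDT⟩ := CentralizerSubsystem.exists_centralizer hS hE.1
  have hYS := hDn.1.2.2.2.1.1
  haveI := finite_sub hYS
  have hYp := hS.to_le hYS
  have hno : ¬ ∃ (R : Subgroup Ω) (C : FusionSystem R), C.IsComponentIn D p := by
    rintro ⟨R, C, hsub, hq⟩
    have hRY : R ≤ NormalCentralizer.centralizerSub F E := subnormal_le hsub
    have hRT : R ≤ T := src_le (hE.2.1 R C ⟨IsSubnormalIn.step hsub hDn, hq⟩ R (subtype_mem C le_rfl))
    haveI := finite_sub (hRY.trans hYS)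
    refine S5148.result p (hS.to_le (hRY.trans hYS)) C hq ⟨⟨fun a b => Subtype.ext ?_⟩⟩
    exact CentralizerSubsystem.comm_T (hRT a.2) (hRY b.2)
  have hDc : D.IsConstrained p :=
    Classical.byContradiction fun h => hno (ComponentExists.exists_component hYp hDn.1.1 h)
  have hK := le_core_of_isNormal (ComponentExists.isNormal_core_of_invariant hS hF hDn.1.1 hDn.1.2.2)
  have hKc := FusionConstrained.Inherit.isCentric_core hDc
  exact hK (hKc.2 _ (isConj_refl D hKc.1) (mem_centralizerIn.2 ⟨hy, fun x hx => hyQ x (hK hx)⟩))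

/-- The self-centralizing property of a generalized Fitting subsystem. -/
theorem center_largest (hS : IsPGroup p S) (hF : F.IsSaturated p) {U : Subgroup Ω} {D : FusionSystem U}
    (hD : D.IsGeneralizedFittingOf F p) :
    (D.center ≤ centralizerIn S U ∧ ∀ P : Subgroup Ω, D.Hom P ⊆ F.centralizerHom D.center P) ∧
      ∀ Y : Subgroup Ω, Y ≤ centralizerIn S U →
        (∀ P : Subgroup Ω, D.Hom P ⊆ F.centralizerHom Y P) → Y ≤ D.center := by
  obtain ⟨hDF, hDs⟩ := gf_isSubsystemOf hS hF hD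
  have hUS : U ≤ S := src_le (hDF U (subtype_mem D le_rfl))
  haveI := finite_sub hUS
  have hUp := hS.to_le hUS
  have hc := (isCentral_iff hUp hDs).1 (FusionAlperin.Join.isCentral_center D)
  have hcen : D.center ≤ centralizerIn S U := fun z hz =>
    mem_centralizerIn.2 ⟨hUS (hc.1 hz), fun x hx => center_le_centralizer D hz x hx⟩
  have hUc : U ≤ Subgroup.centralizer (D.center : Set Ω) := fun x hx =>
    Subgroup.mem_centralizer_iff.2 fun z hz => (center_le_centralizer D hz x hx).symm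
  refine ⟨⟨hcen, fun P φ hφ => ?_⟩, fun Y hY hYf => ?_⟩
  · obtain ⟨ψ, hψ, he, hfix⟩ := (FusionAlperin.Join.isCentral_center D).2 P φ hφ
    exact ⟨hDF P hφ, fun x hx => ⟨hUS (src_le hφ hx), hUc (src_le hφ hx)⟩,
      fun x => ⟨hUS (apply_mem hφ x), hUc (apply_mem hφ x)⟩, ψ, hDF _ hψ, he, hfix⟩
  obtain ⟨T, E, hE, hprod⟩ := hD
  haveI := finite_sub (hE.1.1.2.2.2.1.1)
  haveI := finite_sub (core_le_base F)
  obtain ⟨hQU, hTU, -, -⟩ := centralProduct_base hprod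
  have hYT : Y ≤ centralizerIn S T := fun y hy =>
    mem_centralizerIn.2 ⟨(hY hy).1, fun t ht => (mem_centralizerIn.1 (hY hy)).2 t (hTU ht)⟩
  have hYU : Y ≤ U := fun y hy => hQU (centralizer_layer_le_core hS hF hE
    (Subgroup.subset_closure ⟨hYT hy, fun P φ hφ => NormalCentralizer.Fixes.mono (Subgroup.zpowers_le.2 hy)
      (hYf P (S5310.snd_mem_centralProduct hprod hφ)).2.2.2⟩)
    fun x hx => (mem_centralizerIn.1 (hY hy)).2 x (hQU hx))
  refine le_sSup ((isCentral_iff hUp hDs).2 ⟨hYU, fun y hy z ⟨φ, hφ, hz⟩ => ?_⟩)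
  obtain ⟨-, -, -, ψ, -, he, hfix⟩ := hYf _ hφ
  rw [← hz, ← he ⟨y, Subgroup.mem_zpowers y⟩]
  exact hfix ⟨y, hy⟩

end Cfsg.Agent.Lib.FS.Fitting
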