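import Cfsg.Agent.Lib.FusionSystem.NormalCentralizerClosed
import Cfsg.Agent.Lib.FusionSystem.PPowerExists
import Cfsg.Agent.Lib.FusionSystem.CentralizerNormal
import Cfsg.Agent.Lib.FusionP3.Prime.PPower

/-!
The centralizer `C_F(E)` of a normal subsystem `E` over `T`: every map between subgroups of `C_S(E)`
normalizes `T`, so the subsystem of `p`-power index of `C_F(T)` over `C_S(E)` is normal in `F`.
-/

set_option autoImplicit false
set_option linter.style.haveILetI false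
set_option linter.unusedSectionVars false

namespace Cfsg.Agent.Lib.FS.CentralizerSubsystem

open Cfsg Cfsg.FusionSystem Cfsg.Agent.Lib Cfsg.Agent.Lib.FS Cfsg.Agent.Lib.FS.NormalCentralizer
open Cfsg.Agent.Lib.FusionP3.Prime (img autRes autRes_range autRes_mem Inv Dec pull img_le)

variable {Ω : Type*} [Group Ω] {S T : Subgroup Ω} [Finite S] {p : ℕ} [hp : Fact p.Prime]
  {F : FusionSystem S} {E : FusionSystem T}

omit [Finite S] hp in
/-- A map defined on a join carries it into a target when it does so on both factors. -/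
theorem apply_mem_of_sup {A B R : Subgroup Ω} {χ : ↥(A ⊔ B) →* Ω}
    (hA : ∀ x : A, χ (Subgroup.inclusion le_sup_left x) ∈ R)
    (hB : ∀ x : B, χ (Subgroup.inclusion le_sup_right x) ∈ R) (w : ↥(A ⊔ B)) : χ w ∈ R := by
  have : A ⊔ B ≤ (R.comap χ).map (A ⊔ B).subtype :=
    sup_le (fun x hx => ⟨Subgroup.inclusion le_sup_left ⟨x, hx⟩, hA _, rfl⟩)
      (fun x hx => ⟨Subgroup.inclusion le_sup_right ⟨x, hx⟩, hB _, rfl⟩)
  obtain ⟨v, hv, hve⟩ := this w.2
  exact (congrArg (fun z => χ z ∈ R) (Subtype.ext hve : v = w)).mp hv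

omit hp in
theorem comm_T {t y : Ω} (ht : t ∈ T) (hy : y ∈ centralizerSub F E) : t * y = y * t :=
  (mem_centralizerIn.1 (centralizerSub_le hy)).2 t ht

omit hp in
theorem centralizerSub_le_base : centralizerSub F E ≤ S :=
  centralizerSub_le.trans (centralizerIn_le T)

omit hp in
theorem le_normalizer_Y {t : Ω} (ht : t ∈ T) {P : Subgroup Ω} (hP : P ≤ centralizerSub F E) :
    t ∈ Subgroup.normalizer (P : Set Ω) := by
  refine Subgroup.centralizer_le_normalizer _ ?_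
  exact Subgroup.mem_centralizer_iff.2 fun y hy => (comm_T ht (hP hy)).symm

/-- An automorphism of `T` extends over `C_S(E)`. -/
theorem exists_extend_T (hS : IsPGroup p S) (hE : E.IsNormalIn F p) {α : MulAut T} (hα : α ∈ F.autGroup T) :
    ∃ D₀ ∈ F.Hom (T ⊔ centralizerSub F E),
      (∀ x : T, D₀ (Subgroup.inclusion le_sup_left x) = ((α x : T) : Ω)) ∧
      (∀ y : centralizerSub F E, D₀ (Subgroup.inclusion le_sup_right y) ∈ centralizerSub F E) ∧
      D₀.range = T ⊔ centralizerSub F E := by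
  have hsc : F.StronglyClosed T := hE.1.2.2.2.1
  have hY := stronglyClosed_centralizerSub hS hE
  have hW : T ⊔ centralizerSub F E ≤ S := sup_le hsc.1 hY.1
  haveI := finite_sub hW
  haveI := finite_sub hsc.1
  have hTfn : F.IsFullyNormalized T := ⟨hsc.1, fun Q ⟨φ, hφ, hr⟩ => by
    rw [← hr, range_eq_of_mem hφ (fun x => stronglyClosed_apply_mem hsc hφ x.2) le_rfl]⟩
  have hTn : T ⊔ centralizerSub F E ≤ normalizerIn S T :=
    sup_le (le_normalizerIn hsc.1) fun y hy => centralizerIn_le_normalizerIn T (centralizerSub_le hy)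
  obtain ⟨D₀, hD₀, he⟩ := FusionP3.Induction.exists_extend_aut
    (receptive_of_fullyNormalized hS hE.1.2.1 hTfn) hTn hα (by
      intro g hg
      obtain ⟨t, ht, c, hc, rfl⟩ := FusionP3.Prime.Normality.exists_mul_of_mem_sup (fun u hu c hc => comm_T hu hc) hg
      refine ⟨((α ⟨t, ht⟩ : T) : Ω), hsc.1 (α _).2, fun x hx => ?_⟩
      have h0 : t * c * (x : Ω) * (t * c)⁻¹ = t * x * t⁻¹ := by
        have := comm_T x.2 hc
        calc t * c * (x : Ω) * (t * c)⁻¹ = t * (c * x) * c⁻¹ * t⁻¹ := by group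
          _ = t * x * t⁻¹ := by rw [← this]; group
      rw [show (⟨t * c * (x : Ω) * (t * c)⁻¹, hx⟩ : T) = ⟨t, ht⟩ * x * ⟨t, ht⟩⁻¹ from Subtype.ext h0, map_mul,
        map_mul, map_inv]
      rfl)
  refine ⟨D₀, hD₀, fun x => he x x.2 _, fun y => stronglyClosed_apply_mem hY hD₀ y.2, ?_⟩
  refine range_eq_of_mem hD₀ (apply_mem_of_sup (fun x => ?_) fun y => ?_) le_rfl
  · exact (congrArg (· ∈ T ⊔ centralizerSub F E) (he x x.2 _)).mpr
      ((le_sup_left : T ≤ T ⊔ centralizerSub F E) (α x).2)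
  · exact (le_sup_right : centralizerSub F E ≤ T ⊔ centralizerSub F E) (stronglyClosed_apply_mem hY hD₀ y.2)

/-- Every map on a subgroup of `C_S(E)` extends to a map normalizing `T`. -/
theorem exists_extend_normalizing (hS : IsPGroup p S) (hE : E.IsNormalIn F p) :
    ∀ (U : Subgroup Ω), U ≤ T → ∀ (P : Subgroup Ω), P ≤ centralizerSub F E → ∀ φ ∈ F.Hom (P ⊔ U),
      ∃ ψ ∈ F.Hom (P ⊔ T), ∀ x : P,
        ψ (Subgroup.inclusion le_sup_left x) = φ (Subgroup.inclusion le_sup_left x) := by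
  have hF : F.IsSaturated p := hE.1.2.1
  have hsc : F.StronglyClosed T := hE.1.2.2.2.1
  have hfrat := hE.1.2.2.2.2.2
  have hTS : T ≤ S := hsc.1
  haveI := finite_sub hTS
  have hY := stronglyClosed_centralizerSub hS hE
  suffices key : ∀ (m : ℕ) (U : Subgroup Ω), U ≤ T → Nat.card T - Nat.card U = m →
      ∀ (P : Subgroup Ω), P ≤ centralizerSub F E → ∀ φ ∈ F.Hom (P ⊔ U),
      ∃ ψ ∈ F.Hom (P ⊔ T), ∀ x : P,
        ψ (Subgroup.inclusion le_sup_left x) = φ (Subgroup.inclusion le_sup_left x) from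
    fun U hU => key _ U hU rfl
  intro m
  induction m using Nat.strong_induction_on with
  | _ m ih =>
  intro U hUT hm
  haveI := finite_sub (hUT.trans hTS)
  rcases eq_or_lt_of_le hUT with rfl | hlt
  · exact fun P _ φ hφ => ⟨φ, hφ, fun x => rfl⟩
  -- maps fixing `U` pointwise
  have hfixed : ∀ (U : Subgroup Ω), U < T → Nat.card T - Nat.card U = m → ∀ (P : Subgroup Ω),
      P ≤ centralizerSub F E → ∀ σ ∈ F.Hom (P ⊔ U),
      (∀ u : U, σ (Subgroup.inclusion le_sup_right u) = u) →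
      ∃ ψ ∈ F.Hom (P ⊔ T), ∀ x : P,
        ψ (Subgroup.inclusion le_sup_left x) = σ (Subgroup.inclusion le_sup_left x) := by
    intro U hlt hm P hP σ hσ hfix
    haveI := finite_sub (hlt.le.trans hTS)
    obtain ⟨σP, hσP, hσPe⟩ := exists_restrict hσ (le_sup_left : P ≤ P ⊔ U)
    have hP'Y : σP.range ≤ centralizerSub F E := by
      rintro _ ⟨x, rfl⟩
      exact stronglyClosed_apply_mem hY hσP (hP x.2)
    have hP'S := hP'Y.trans hY.1
    haveI := finite_sub hP'S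
    have hPS : P ≤ S := hP.trans hY.1
    haveI := finite_sub hPS
    have hσm : ∀ w, σ w ∈ σP.range ⊔ U := apply_mem_of_sup
      (fun x => (le_sup_left : σP.range ≤ σP.range ⊔ U) ⟨x, hσPe x⟩)
      (fun u => by rw [hfix]; exact (le_sup_right : U ≤ σP.range ⊔ U) u.2)
    have hP'U : σP.range ⊔ U ≤ S := sup_le hP'S (hlt.le.trans hTS)
    haveI := finite_sub hP'U
    obtain ⟨Q, hconj, hQ⟩ := exists_isFullyNormalized F hP'U
    obtain ⟨χ, hχ, -, hχQ⟩ := exists_normalizer_map hS hF hQ hconj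
    obtain ⟨θ, hθ, hθe⟩ := exists_comp hσ hχ fun w => le_normalizerIn hP'U (hσm w)
    -- the larger subgroup `N_T(U)`
    set W := normalizerIn T U with hW
    have hUW : U < W := normalizerIn_ne_of_lt (hS.to_le hTS) hlt
    have hWT : W ≤ T := normalizerIn_le U
    haveI := finite_sub (hWT.trans hTS)
    have hcard : Nat.card T - Nat.card W < m := by
      have h1 : Nat.card U < Nat.card W :=
        lt_of_not_ge fun h => hUW.ne (Subgroup.eq_of_le_of_card_ge hUW.le h)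
      have h2 : Nat.card W ≤ Nat.card T := Subgroup.card_le_of_le hWT
      omega
    have hWn' : ∀ g ∈ W, g ∈ normalizerIn S (σP.range ⊔ U) := fun g hg =>
      ⟨hTS (hWT hg), mem_normalizer_sup (le_normalizer_Y (hWT hg) hP'Y) hg.2⟩
    have hle2 : σP.range ⊔ W ≤ normalizerIn S (σP.range ⊔ U) :=
      sup_le (le_sup_left.trans (le_normalizerIn hP'U)) hWn'
    have hθr : θ.range = Q := by
      rw [← hχQ]
      ext y
      constructor
      · rintro ⟨w, rfl⟩
        exact ⟨⟨σ w, le_normalizerIn hP'U (hσm w)⟩, hσm w, (hθe w).symm⟩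
      · rintro ⟨z, hz, rfl⟩
        have : σP.range ⊔ U ≤ σ.range := sup_le
          (by rintro _ ⟨x, rfl⟩; exact ⟨_, (hσPe x).symm⟩)
          fun u hu => ⟨_, hfix ⟨u, hu⟩⟩
        obtain ⟨w, hw⟩ := this hz
        exact ⟨w, (hθe w).trans (congrArg χ (Subtype.ext hw))⟩
    obtain ⟨θ₁, hθ₁, hθ₁e⟩ := (receptive_of_fullyNormalized hS hF hQ).2 _ θ hθ hθr
    have hext : P ⊔ W ≤ extender S (P ⊔ U) θ := by
      refine sup_le (le_trans le_sup_left (le_extender (src_le hθ) (apply_mem hθ))) fun g hg => ?_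
      have hgS : g ∈ normalizerIn S (P ⊔ U) :=
        ⟨hTS (hWT hg), mem_normalizer_sup (le_normalizer_Y (hWT hg) hP) hg.2⟩
      refine mem_extender_of hgS (apply_mem hχ ⟨g, hWn' g hg⟩) fun x hx => ?_
      rw [hθe, hθe]
      have hσg : σ ⟨g * x * g⁻¹, hx⟩ = g * σ x * g⁻¹ := by
        let c : ↥(P ⊔ U) →* ↥(P ⊔ U) :=
          (((MulAut.conj g).toMonoidHom.comp (P ⊔ U).subtype).codRestrict _ fun y =>
            (Subgroup.mem_normalizer_iff.1 hgS.2 y).1 y.2)
        have key := eq_of_sup (χ₁ := σ.comp c) (χ₂ := (MulAut.conj g).toMonoidHom.comp σ)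
          (fun y => ?_) (fun u => ?_) x
        · exact key
        · show σ (c _) = g * σ _ * g⁻¹
          have h1 : c (Subgroup.inclusion le_sup_left y) = Subgroup.inclusion le_sup_left y :=
            Subtype.ext (show g * (y : Ω) * g⁻¹ = y by rw [comm_T (hWT hg) (hP y.2), mul_inv_cancel_right])
          rw [h1, comm_T (hWT hg) (stronglyClosed_apply_mem hY hσP (hP y.2) |> fun h => (hσPe y) ▸ h),
            mul_inv_cancel_right]
        · show σ (c _) = g * σ _ * g⁻¹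
          have hm : g * (u : Ω) * g⁻¹ ∈ U := (Subgroup.mem_normalizer_iff.1 hg.2 u).1 u.2
          rw [show c (Subgroup.inclusion le_sup_right u) = Subgroup.inclusion le_sup_right ⟨_, hm⟩ from
            Subtype.ext rfl, hfix, hfix]
      rw [← map_inv, ← map_mul, ← map_mul]
      exact congrArg χ (Subtype.ext hσg)
    obtain ⟨ψ₂, hψ₂, hψ₂e⟩ := exists_restrict hθ₁ hext
    obtain ⟨χ', hχ', hχ'e⟩ := exists_restrict hχ hle2
    obtain ⟨A, hA, hAe⟩ := ih _ hcard W hWT rfl P hP ψ₂ hψ₂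
    obtain ⟨B, hB, hBe⟩ := ih _ hcard W hWT rfl σP.range hP'Y χ' hχ'
    have hBT : T ≤ B.range := by
      obtain ⟨BT, hBT', hBTe⟩ := exists_restrict hB (le_sup_right : T ≤ σP.range ⊔ T)
      have := range_eq_of_mem hBT' (fun t => stronglyClosed_apply_mem hsc hBT' t.2) le_rfl
      exact this.ge.trans (by rintro _ ⟨t, rfl⟩; exact ⟨_, (hBTe t).symm⟩)
    have hAx : ∀ x : P, A (Subgroup.inclusion le_sup_left x) =
        B (Subgroup.inclusion le_sup_left ⟨σP x, x, rfl⟩) := by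
      intro x
      rw [hAe, hBe, hψ₂e, hχ'e]
      refine (hθ₁e (x : Ω) ((le_sup_left : P ≤ P ⊔ U) x.2) _).trans ((hθe _).trans ?_)
      exact congrArg χ (Subtype.ext (hσPe x).symm)
    obtain ⟨Bi, hBi, -, hBl, -⟩ := exists_inv hB rfl
    obtain ⟨AT, hAT, hATe⟩ := exists_restrict hA (le_sup_right : T ≤ P ⊔ T)
    have hAm : ∀ w, A w ∈ B.range := apply_mem_of_sup (fun x => ⟨_, (hAx x).symm⟩)
      fun t => hBT ((hATe t) ▸ stronglyClosed_apply_mem hsc hAT t.2)
    obtain ⟨ρ, hρ, hρe⟩ := exists_comp hA hBi hAm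
    refine ⟨ρ, hρ, fun x => ?_⟩
    rw [hρe]
    refine (congrArg Bi (Subtype.ext (hAx x))).trans ((hBl _ ⟨_, rfl⟩).trans ?_)
    exact hσPe x
  -- reduction to that case
  intro P hP φ hφ
  have hPS : P ≤ S := hP.trans hY.1
  obtain ⟨φU, hφU, hφUe⟩ := exists_restrict hφ (le_sup_right : U ≤ P ⊔ U)
  obtain ⟨α, hα, e, he, hae⟩ := hfrat U hUT φU hφU
  obtain ⟨b, hb, hbU, hbY⟩ := fixes_centralizerSub hS hE he
  obtain ⟨D₀, hD₀, hD₀T, hD₀Y, hD₀r⟩ := exists_extend_T hS hE hα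
  obtain ⟨Di, hDi, -, hDl, -⟩ := exists_inv hD₀ hD₀r
  obtain ⟨bi, hbi, -, hbl, -⟩ := exists_inv hb rfl
  have hU2T : e.range ≤ T := by rintro _ ⟨u, rfl⟩; exact apply_mem he u
  have hU2 : P ⊔ e.range ≤ b.range := sup_le (fun x hx => ⟨_, hbY ⟨x, hP hx⟩⟩)
    (by rintro _ ⟨u, rfl⟩; exact ⟨_, hbU u⟩)
  obtain ⟨bi', hbi', hbi'e⟩ := exists_restrict hbi hU2
  have hbiP : ∀ x : P, bi' (Subgroup.inclusion le_sup_left x) = x := by
    intro x
    rw [hbi'e]
    refine (congrArg bi (Subtype.ext ((hbY ⟨x, hP x.2⟩).symm :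
      (x : Ω) = b (Subgroup.inclusion le_sup_right ⟨x, hP x.2⟩)))).trans
      (hbl (Subgroup.inclusion le_sup_right ⟨x, hP x.2⟩) ⟨_, rfl⟩)
  have hbiU : ∀ u : U, bi' (Subgroup.inclusion le_sup_right ⟨e u, u, rfl⟩) = u := by
    intro u
    rw [hbi'e]
    exact (congrArg bi (Subtype.ext ((hbU u).symm :
      e u = b (Subgroup.inclusion le_sup_left u)))).trans
      (hbl (Subgroup.inclusion le_sup_left u) ⟨_, rfl⟩)
  have hbim : ∀ w, bi' w ∈ P ⊔ U := apply_mem_of_sup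
    (fun x => by rw [hbiP]; exact (le_sup_left : P ≤ P ⊔ U) x.2)
    (by rintro ⟨_, u, rfl⟩; rw [hbiU]; exact (le_sup_right : U ≤ P ⊔ U) u.2)
  obtain ⟨φ₁, hφ₁, hφ₁e⟩ := exists_comp hbi' hφ hbim
  obtain ⟨φP, hφP, hφPe⟩ := exists_restrict hφ (le_sup_left : P ≤ P ⊔ U)
  have hφ₁P : ∀ x : P, φ₁ (Subgroup.inclusion le_sup_left x) = φ (Subgroup.inclusion le_sup_left x) :=
    fun x => (hφ₁e _).trans (congrArg φ (Subtype.ext (hbiP x)))
  have hφ₁U : ∀ u : U, φ₁ (Subgroup.inclusion le_sup_right ⟨e u, u, rfl⟩) =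
      ((α ⟨e u, apply_mem he u⟩ : T) : Ω) := fun u =>
    ((hφ₁e _).trans (congrArg φ (Subtype.ext (hbiU u)))).trans ((hφUe u).symm.trans (hae u _))
  have hφ₁m : ∀ w, φ₁ w ∈ T ⊔ centralizerSub F E := apply_mem_of_sup
    (fun x => by
      rw [hφ₁P]
      exact (le_sup_right : centralizerSub F E ≤ T ⊔ centralizerSub F E)
        ((hφPe x) ▸ stronglyClosed_apply_mem hY hφP (hP x.2)))
    (by rintro ⟨_, u, rfl⟩; rw [hφ₁U]; exact (le_sup_left : T ≤ T ⊔ centralizerSub F E) (SetLike.coe_mem _))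
  obtain ⟨σ, hσ, hσe⟩ := exists_comp hφ₁ hDi hφ₁m
  have hcardU : Nat.card e.range = Nat.card U := isConj_card ⟨e, he, rfl⟩
  have hlt2 : e.range < T := lt_of_le_of_ne hU2T fun h => hlt.ne (Subgroup.eq_of_le_of_card_ge hlt.le (by
    rw [← hcardU, h]))
  obtain ⟨ρ, hρ, hρe⟩ := hfixed e.range hlt2 (by rw [hcardU]; exact hm) P hP σ hσ (by
    rintro ⟨_, u, rfl⟩
    rw [hσe]
    refine (congrArg Di (Subtype.ext ((hφ₁U u).trans (hD₀T ⟨e u, apply_mem he u⟩).symm))).trans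
      (hDl (Subgroup.inclusion le_sup_left ⟨e u, apply_mem he u⟩) (hD₀r.le ⟨_, rfl⟩)))
  obtain ⟨ρT, hρT, hρTe⟩ := exists_restrict hρ (le_sup_right : T ≤ P ⊔ T)
  have hσY : ∀ x : P, σ (Subgroup.inclusion le_sup_left x) ∈ centralizerSub F E := fun x => by
    obtain ⟨σP, hσP, hσPe⟩ := exists_restrict hσ (le_sup_left : P ≤ P ⊔ e.range)
    exact (hσPe x) ▸ stronglyClosed_apply_mem hY hσP (hP x.2)
  have hρm : ∀ w, ρ w ∈ T ⊔ centralizerSub F E := apply_mem_of_sup
    (fun x => by rw [hρe]; exact (le_sup_right : centralizerSub F E ≤ T ⊔ centralizerSub F E) (hσY x))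
    (fun t => (le_sup_left : T ≤ T ⊔ centralizerSub F E) ((hρTe t) ▸ stronglyClosed_apply_mem hsc hρT t.2))
  obtain ⟨τ, hτ, hτe⟩ := exists_comp hρ hD₀ hρm
  refine ⟨τ, hτ, fun x => ?_⟩
  rw [hτe]
  obtain ⟨w, hw⟩ := hD₀r.ge (hφ₁m (Subgroup.inclusion le_sup_left x))
  refine Eq.trans (congrArg D₀ (Subtype.ext ?_ : _ = w)) (hw.trans (hφ₁P x))
  show ρ _ = (w : Ω)
  rw [hρe, hσe]
  exact (congrArg Di (Subtype.ext hw.symm)).trans (hDl w (hw ▸ hφ₁m _))

/-- Every map of `F` on a subgroup of `C_S(E)` extends to a map normalizing `T`. -/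
theorem exists_extend_normalizing' (hS : IsPGroup p S) (hE : E.IsNormalIn F p) {P : Subgroup Ω}
    (hP : P ≤ centralizerSub F E) {φ : P →* Ω} (hφ : φ ∈ F.Hom P) :
    ∃ ψ ∈ F.Hom (P ⊔ T), ∀ x : P, ψ (Subgroup.inclusion le_sup_left x) = φ x := by
  obtain ⟨φ', hφ', he⟩ := exists_restrict hφ (sup_le le_rfl bot_le : P ⊔ ⊥ ≤ P)
  obtain ⟨ψ, hψ, hψe⟩ := exists_extend_normalizing hS hE ⊥ bot_le P hP φ' hφ'
  exact ⟨ψ, hψ, fun x => (hψe x).trans (he _)⟩

/-- Maps of `C_F(T)` between subgroups of `C_S(E)` are carried to such maps by `Aut_F(C_S(E))`. -/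
theorem centralizer_inv (hS : IsPGroup p S) (hE : E.IsNormalIn F p) {C : FusionSystem (centralizerIn S T)}
    (hC : F.IsCentralizerSystem T C) {α : MulAut ↥(centralizerSub F E)}
    (hα : α ∈ F.autGroup (centralizerSub F E)) {R : Subgroup Ω} (hR : R ≤ centralizerSub F E)
    {β : MulAut R} (hβ : β ∈ C.autGroup R) {hres : autRes α hR ∈ F.Hom R}
    {hr : (autRes α hR).range = img α R} :
    MulAut.congr (homEquiv hres hr) β ∈ C.autGroup (img α R) := by
  have hsc : F.StronglyClosed T := hE.1.2.2.2.1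
  haveI := finite_sub hsc.1
  have hY := stronglyClosed_centralizerSub hS hE
  obtain ⟨a, ha, -, hae⟩ := exists_hom_of_aut hY.1 hα
  obtain ⟨A, hA, hAe⟩ := exists_extend_normalizing' hS hE le_rfl ha
  obtain ⟨g, hg, -, hge⟩ := exists_hom_of_aut (hR.trans centralizerSub_le) hβ
  rw [hC] at hg
  obtain ⟨-, -, -, b, hb, hbR, hbT⟩ := hg
  obtain ⟨AT, hAT, hATe⟩ := exists_restrict hA (le_sup_right : T ≤ centralizerSub F E ⊔ T)
  have hATr := range_eq_of_mem hAT (fun t => stronglyClosed_apply_mem hsc hAT t.2) le_rfl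
  have hsub : img α R ≤ centralizerSub F E := img_le α R
  obtain ⟨Ai, hAi, -, hAl, -⟩ := exists_inv hA rfl
  have hval : ∀ x : R, A (Subgroup.inclusion le_sup_left (Subgroup.inclusion hR x)) =
      ((homEquiv hres hr x : img α R) : Ω) := fun x => by
    rw [hAe, hae, homEquiv_coe]
    rfl
  have hle : img α R ⊔ T ≤ A.range := sup_le
    (fun y hy => by
      obtain ⟨x, hx⟩ := (homEquiv hres hr).surjective ⟨y, hy⟩
      exact ⟨_, (hval x).trans (congrArg Subtype.val hx)⟩)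
    (fun t ht => by
      obtain ⟨s, hs⟩ := hATr.ge ht
      exact ⟨_, (hATe s).symm.trans hs⟩)
  obtain ⟨Ai', hAi', hAi'e⟩ := exists_restrict hAi hle
  have hAiR : ∀ x : R, Ai' (Subgroup.inclusion le_sup_left (homEquiv hres hr x)) = x := fun x => by
    rw [hAi'e]
    exact (congrArg Ai (Subtype.ext (hval x).symm)).trans
      (hAl (Subgroup.inclusion le_sup_left (Subgroup.inclusion hR x)) ⟨_, rfl⟩)
  have hAiT : ∀ t : T, ∃ s : T, AT s = t ∧ Ai' (Subgroup.inclusion le_sup_right t) = s := fun t => by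
    obtain ⟨s, hs⟩ := hATr.ge t.2
    refine ⟨s, hs, ?_⟩
    rw [hAi'e]
    exact (congrArg Ai (Subtype.ext (((hATe s).symm.trans hs).symm))).trans
      (hAl (Subgroup.inclusion le_sup_right s) ⟨_, rfl⟩)
  obtain ⟨c₁, hc₁, hc₁e⟩ := exists_comp hAi' hb (apply_mem_of_sup
    (fun y => by
      obtain ⟨x, rfl⟩ := (homEquiv hres hr).surjective y
      rw [hAiR]; exact (le_sup_left : R ≤ R ⊔ T) x.2)
    (fun t => by
      obtain ⟨s, -, hs⟩ := hAiT t
      rw [hs]; exact (le_sup_right : T ≤ R ⊔ T) s.2))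
  have hc₁R : ∀ x : R, c₁ (Subgroup.inclusion le_sup_left (homEquiv hres hr x)) = (β x : Ω) := fun x => by
    rw [hc₁e, ← hge x, ← hbR x]
    exact congrArg b (Subtype.ext (hAiR x))
  have hc₁T : ∀ t : T, ∃ s : T, AT s = t ∧ c₁ (Subgroup.inclusion le_sup_right t) = s := fun t => by
    obtain ⟨s, hs, hse⟩ := hAiT t
    refine ⟨s, hs, ?_⟩
    rw [hc₁e]
    exact (congrArg b (Subtype.ext hse : _ = Subgroup.inclusion le_sup_right s)).trans (hbT s)
  obtain ⟨c, hc, hce⟩ := exists_comp hc₁ hA (apply_mem_of_sup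
    (fun y => by
      obtain ⟨x, rfl⟩ := (homEquiv hres hr).surjective y
      rw [hc₁R]; exact (le_sup_left : centralizerSub F E ≤ centralizerSub F E ⊔ T) (hR (β x).2))
    (fun t => by
      obtain ⟨s, -, hs⟩ := hc₁T t
      rw [hs]; exact (le_sup_right : T ≤ centralizerSub F E ⊔ T) s.2))
  obtain ⟨k, hk, hke⟩ := exists_restrict hc (le_sup_left : img α R ≤ img α R ⊔ T)
  have hkv : ∀ y, k y = ((MulAut.congr (homEquiv hres hr) β y : img α R) : Ω) := by
    intro y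
    obtain ⟨x, rfl⟩ := (homEquiv hres hr).surjective y
    rw [hke, hce]
    show _ = ((homEquiv hres hr (β ((homEquiv hres hr).symm (homEquiv hres hr x))) : img α R) : Ω)
    rw [MulEquiv.symm_apply_apply]
    exact (congrArg A (Subtype.ext (hc₁R x) : _ =
      Subgroup.inclusion le_sup_left (Subgroup.inclusion hR (β x)))).trans (hval (β x))
  refine mem_autGroup_of_hom (φ := k) ?_ fun y => (hkv y).symm
  rw [hC]
  refine ⟨hk, hsub.trans centralizerSub_le, fun y => by rw [hkv]; exact centralizerSub_le (hsub (SetLike.coe_mem _)),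
    c, hc, fun y => (hke y).symm, fun t => ?_⟩
  obtain ⟨s, hs, hse⟩ := hc₁T t
  rw [hce]
  exact ((congrArg A (Subtype.ext hse : _ = Subgroup.inclusion le_sup_right s)).trans (hATe s).symm).trans hs

/-- `C_F(E)`: a normal subsystem over `C_S(E)` inside `C_F(T)`. -/
theorem exists_centralizer' (hS : IsPGroup p S) (hE : E.IsNormalIn F p) :
    ∃ D : FusionSystem (centralizerSub F E), (D.IsNormalIn F p ∧
      ∀ C' : FusionSystem (centralizerIn S T), F.IsCentralizerSystem T C' → D.HasPPowerIndexIn C' p) ∧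
      ∀ P : Subgroup Ω, D.Hom P ⊆ F.centralizerHom T P := by
  have hF : F.IsSaturated p := hE.1.2.1
  have hsc : F.StronglyClosed T := hE.1.2.2.2.1
  have hTS : T ≤ S := hsc.1
  haveI := finite_sub hTS
  have hY := stronglyClosed_centralizerSub hS hE
  set Y := centralizerSub F E with hYdef
  have hYS : Y ≤ S := hY.1
  haveI := finite_sub hYS
  have hYp : IsPGroup p Y := hS.to_le hYS
  have hTfn : F.IsFullyNormalized T := ⟨hTS, fun Q ⟨φ, hφ, hr⟩ => by
    rw [← hr, range_eq_of_mem hφ (fun x => stronglyClosed_apply_mem hsc hφ x.2) le_rfl]⟩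
  have hTfc : F.IsFullyCentralized T :=
    isFullyCentralized_of_receptive (receptive_of_fullyNormalized hS hF hTfn)
  set Z := centralizerIn S T with hZdef
  obtain ⟨C, hC⟩ := exists_centralizerSystem F hTS
  have hCs := centralizerSystem_isSaturated hS hF hTfc hC
  have hZS : Z ≤ S := centralizerIn_le T
  haveI := finite_sub hZS
  have hZp : IsPGroup p Z := hS.to_le hZS
  have hYZ : Y ≤ Z := centralizerSub_le
  have hCF : C.IsSubsystemOf F := fun P φ hφ => by rw [hC] at hφ; exact hφ.1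
  have hhyp : C.hyperfocalSubgroup p ≤ Y := fun y hy =>
    Subgroup.subset_closure (centralized_of_mem_focal hS hE hC (FusionP3.Tate.hyperfocal_le_focal C p hy))
  have hYn : (Y.subgroupOf Z).Normal := by
    refine (Subgroup.normal_subgroupOf_iff_le_normalizer hYZ).2 fun g hg => ?_
    exact mem_normalizer_of_conj_mem fun x hx =>
      stronglyClosed_apply_mem hY (F.conj_mem le_rfl (hZS hg)) (x := ⟨x, hYS hx⟩) hx
  obtain ⟨D, hDs, hDi⟩ := PPowerKernel.exists_pPower hZp C hCs hYZ hhyp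
  have hDn := FusionP3.Prime.PPower.isNormalIn_of_pPowerIndex hZp hCs hYZ hYn hhyp hDs hDi
  have hDF : D.IsSubsystemOf F := fun P => (hDi.1 P).trans (hCF P)
  -- invariance under `Aut_F(Y)`
  have hinv : ∀ α ∈ F.autGroup Y, Inv D α := by
    intro α hα P hP φ hφ
    have key : φ ∈ (pull D α).Hom P := by
      refine FusionP3.Induction.hom_induction hYp hDs (M := fun P φ => φ ∈ (pull D α).Hom P) ?_ ?_ ?_ P φ hφ
      · intro P Q φ ψ χ _ _ h hχ hp hq
        exact hom_congr ((pull D α).comp_mem hp hq h) hχ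
      · intro P Q φ ψ h _ hφψ hq
        exact mem_of_restrict hq h hφψ
      · intro R hRn _ _ a ha _
        have hRY : R ≤ Y := hRn.1
        refine (mem_autGroup hRY).1 (FusionP3.Prime.PPower.autGroup_le_sup' D
          (fullyAutomized_of_fullyNormalized hYp hDs hRn) (fun b hb hc => ?_)
          (autInducedBy_le_autGroup _ hRY) ha)
        have hres : autRes α hRY ∈ F.Hom R := by
          obtain ⟨χ, hχ, -, he⟩ := exists_hom_of_aut hYS hα
          exact mem_of_restrict hχ hRY fun x => (he _).symm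
        have hr := autRes_range α hRY
        have hbC : b ∈ C.autGroup R := FusionP3.GT.autGroup_mono hDi.1 hRY hb
        have hb' := centralizer_inv hS hE hC hα hRY hbC (hres := hres) (hr := hr)
        have hc' : (orderOf (MulAut.congr (homEquiv hres hr) b)).Coprime p := by
          rwa [MulEquiv.orderOf_eq]
        refine (mem_autGroup hRY).2 ⟨hRY, fun x => hRY (b x).2, _,
          (mem_autGroup (img_le α R)).1 (FusionP3.Prime.PPower.coprime_aut_mem hDi (img_le α R) hb' hc'),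
          fun x hx hφx hαx => ?_⟩
        show ((homEquiv hres hr (b ((homEquiv hres hr).symm (homEquiv hres hr x))) : img α R) : Ω) = _
        rw [MulEquiv.symm_apply_apply]
        rfl
    obtain ⟨-, -, χ, hχ, he⟩ := key
    exact ⟨χ, hχ, fun x => he x _⟩
  -- factorisation of maps on `Y`
  have hfrat : ∀ P : Subgroup Ω, P ≤ Y → ∀ φ : P →* Ω, φ ∈ F.Hom P →
      ∃ α ∈ F.autGroup Y, ∃ φ₀ ∈ D.Hom P, ∀ (x : P) (hx : φ₀ x ∈ Y), φ x = ((α ⟨φ₀ x, hx⟩ : Y) : Ω) := by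
    intro P hP φ hφ
    obtain ⟨A, hA, hAe⟩ := exists_extend_normalizing' hS hE hP hφ
    obtain ⟨AT, hAT, hATe⟩ := exists_restrict hA (le_sup_right : T ≤ P ⊔ T)
    have hATr := range_eq_of_mem hAT (fun t => stronglyClosed_apply_mem hsc hAT t.2) le_rfl
    obtain ⟨D₀, hD₀, hD₀T, hD₀Y, hD₀r⟩ := exists_extend_T hS hE (homEquiv_mem_autGroup hAT hATr)
    obtain ⟨Di, hDi', -, hDl, -⟩ := exists_inv hD₀ hD₀r
    have hAm : ∀ w, A w ∈ T ⊔ Y := apply_mem_of_sup
      (fun x => by rw [hAe]; exact (le_sup_right : Y ≤ T ⊔ Y) (stronglyClosed_apply_mem hY hφ (hP x.2)))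
      (fun t => (congrArg (· ∈ T ⊔ Y) (hATe t)).mp ((le_sup_left : T ≤ T ⊔ Y) (stronglyClosed_apply_mem hsc hAT t.2)))
    obtain ⟨d, hd, hde⟩ := exists_comp hA hDi' hAm
    obtain ⟨d', hd', hd'e⟩ := exists_restrict hd (le_sup_left : P ≤ P ⊔ T)
    have hd'Y : ∀ x, d' x ∈ Y := fun x => stronglyClosed_apply_mem hY hd' (hP x.2)
    have hdT : ∀ t : T, d (Subgroup.inclusion le_sup_right t) = t := fun t => by
      rw [hde]
      refine (congrArg Di (Subtype.ext ?_)).trans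
        (hDl (Subgroup.inclusion le_sup_left t) (hD₀r.le ⟨_, rfl⟩))
      show A _ = _
      refine Eq.trans ?_ ((hD₀T t).trans (homEquiv_coe _ _ _)).symm
      exact (hATe t).symm
    have hd'C : d' ∈ C.Hom P := by
      rw [hC]
      exact ⟨hd', hP.trans hYZ, fun x => hYZ (hd'Y x), d, hd, fun x => (hd'e x).symm, hdT⟩
    obtain ⟨α₀, hα₀, e, he, hee⟩ := hDn.1.2.2.2.2.2 P hP d' hd'C
    obtain ⟨γ, hγ, hγe⟩ := exists_restrict hD₀ (le_sup_right : Y ≤ T ⊔ Y)
    have hγr : γ.range = Y := range_eq_of_mem hγ (fun y => by rw [hγe]; exact hD₀Y y) le_rfl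
    refine ⟨homEquiv hγ hγr * α₀, mul_mem (homEquiv_mem_autGroup hγ hγr)
      (FusionP3.GT.autGroup_mono hCF hYZ hα₀), e, he, fun x hx => ?_⟩
    rw [MulAut.mul_apply, homEquiv_coe, hγe, ← hAe x]
    obtain ⟨w, hw⟩ := hD₀r.ge (hAm (Subgroup.inclusion le_sup_left x))
    refine hw.symm.trans (congrArg D₀ (Subtype.ext ?_))
    show (w : Ω) = ((α₀ ⟨e x, hx⟩ : Y) : Ω)
    rw [← hee x hx, hd'e, hde]
    exact ((congrArg Di (Subtype.ext hw.symm)).trans (hDl w (hw ▸ hAm _))).symm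
  have hDw : D.IsWeaklyNormalIn F p :=
    ⟨hDs, hF, hDF, hY, fun P hP φ hφ α hα => hinv α hα P hP φ hφ, hfrat⟩
  refine ⟨D, ⟨⟨hDw, ?_⟩, fun C' hC' => ?_⟩, fun P φ hφ => by rw [← hC P]; exact hDi.1 P hφ⟩
  swap
  · rwa [show C' = C from fusion_ext fun P φ => by rw [hC' P, hC P]]
  -- extensions to `Y C_S(Y)`
  set Cs := centralizerIn S Y with hCs'
  have hcom : ∀ u ∈ Y, ∀ c ∈ Cs, u * c = c * u := fun u hu c hc => (mem_centralizerIn.1 hc).2 u hu
  have hW₀S : Y ⊔ Cs ≤ S := sup_le hYS (centralizerIn_le Y)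
  haveI := finite_sub hW₀S
  haveI := FusionP3.GT.finite_mulAut ↥(Y ⊔ Cs)
  haveI := FusionP3.GT.finite_mulAut ↥Y
  let Gd : Set (MulAut ↥Y) := {a | ∃ β ∈ F.autGroup (Y ⊔ Cs),
    (∀ y : Y, ((β (Subgroup.inclusion le_sup_left y) : ↥(Y ⊔ Cs)) : Ω) = ((a y : Y) : Ω)) ∧
    ∀ c : ↥(Y ⊔ Cs), (c : Ω) ∈ Cs → (c : Ω)⁻¹ * ((β c : ↥(Y ⊔ Cs)) : Ω) ∈ Y}
  have hone : (1 : MulAut ↥Y) ∈ Gd := ⟨1, one_mem _, fun y => rfl, fun c _ => by
    rw [MulAut.one_apply, inv_mul_cancel]; exact one_mem _⟩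
  have hmul : ∀ {a b}, a ∈ Gd → b ∈ Gd → a * b ∈ Gd := by
    rintro a b ⟨β₁, hβ₁, hy₁, hc₁⟩ ⟨β₂, hβ₂, hy₂, hc₂⟩
    refine ⟨β₁ * β₂, mul_mem hβ₁ hβ₂, fun y => ?_, fun c hc => ?_⟩
    · rw [MulAut.mul_apply, show β₂ (Subgroup.inclusion le_sup_left y) = Subgroup.inclusion le_sup_left (b y) from
        Subtype.ext (hy₂ y), hy₁]
      rfl
    · set z : Y := ⟨_, hc₂ c hc⟩ with hz
      have h2 : β₂ c = c * Subgroup.inclusion le_sup_left z := Subtype.ext (by
        show ((β₂ c : ↥(Y ⊔ Cs)) : Ω) = (c : Ω) * ((c : Ω)⁻¹ * ((β₂ c : ↥(Y ⊔ Cs)) : Ω))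
        rw [mul_inv_cancel_left])
      rw [MulAut.mul_apply, h2, map_mul, Subgroup.coe_mul, hy₁, ← mul_assoc]
      exact Y.mul_mem (hc₁ c hc) (a z).2
  let K : Subgroup (MulAut ↥Y) :=
    { carrier := Gd
      one_mem' := hone
      mul_mem' := hmul
      inv_mem' := fun {a} ha => by
        have hp' : ∀ n : ℕ, a ^ n ∈ Gd := fun n => by
          induction n with
          | zero => rw [pow_zero]; exact hone
          | succ n ih => rw [pow_succ]; exact hmul ih ha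
        have := hp' (orderOf a - 1)
        rwa [show a ^ (orderOf a - 1) = a⁻¹ from eq_inv_of_mul_eq_one_left (by
          rw [← pow_succ, Nat.sub_add_cancel (orderOf_pos a), pow_orderOf_eq_one])] at this }
  have hTCs : T ≤ Cs := fun t ht =>
    mem_centralizerIn.2 ⟨hTS ht, fun y hy => (comm_T ht hy).symm⟩
  have hgood : D.autGroup Y ≤ K := by
    refine FusionP3.Prime.PPower.autGroup_le_sup' D
      (fullyAutomized_of_fullyNormalized hYp hDs (isFullyNormalized_base D)) (fun δ hδ hδc => ?_) ?_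
    · have hδC : δ ∈ C.autGroup Y := FusionP3.GT.autGroup_mono hDi.1 le_rfl hδ
      obtain ⟨d, hd, -, hdeq⟩ := exists_hom_of_aut hYZ hδC
      rw [hC] at hd
      obtain ⟨-, -, -, b, hb, hbY, hbT⟩ := hd
      have hYTS : Y ⊔ T ≤ S := sup_le hYS hTS
      haveI := finite_sub hYTS
      have hbY' : ∀ y : Y, b (Subgroup.inclusion le_sup_left y) = ((δ y : Y) : Ω) :=
        fun y => (hbY y).trans (hdeq y)
      have hbm : ∀ w, b w ∈ Y ⊔ T := apply_mem_of_sup
        (fun y => by rw [hbY']; exact (le_sup_left : Y ≤ Y ⊔ T) (δ y).2)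
        (fun t => by rw [hbT]; exact (le_sup_right : T ≤ Y ⊔ T) t.2)
      have hbr : b.range = Y ⊔ T := range_eq_of_mem hb hbm le_rfl
      have hYTn : F.IsFullyNormalized (Y ⊔ T) := ⟨hYTS, fun Q ⟨φ, hφ, hr⟩ => by
        obtain ⟨φ₁, hφ₁, hφ₁e⟩ := exists_restrict hφ (le_sup_left : Y ≤ Y ⊔ T)
        obtain ⟨φ₂, hφ₂, hφ₂e⟩ := exists_restrict hφ (le_sup_right : T ≤ Y ⊔ T)
        rw [← hr, range_eq_of_mem hφ (apply_mem_of_sup
          (fun y => (le_sup_left : Y ≤ Y ⊔ T) ((hφ₁e y) ▸ stronglyClosed_apply_mem hY hφ₁ y.2))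
          (fun t => (le_sup_right : T ≤ Y ⊔ T) ((hφ₂e t) ▸ stronglyClosed_apply_mem hsc hφ₂ t.2))) le_rfl]⟩
      have hext : Y ⊔ Cs ≤ extender S (Y ⊔ T) b := by
        refine sup_le (le_trans le_sup_left (le_extender hYTS (apply_mem hb))) fun g hg => ?_
        have hgS : g ∈ S := (mem_centralizerIn.1 hg).1
        have hgY : ∀ {y : Ω}, y ∈ Y → g * y * g⁻¹ = y := fun hy => by
          rw [← hcom _ hy g hg, mul_inv_cancel_right]
        have hgT : ∀ t ∈ T, g * t * g⁻¹ ∈ T := fun t ht =>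
          stronglyClosed_apply_mem hsc (F.conj_mem le_rfl hgS) (x := ⟨t, hTS ht⟩) ht
        have hgn : g ∈ Subgroup.normalizer ((Y ⊔ T : Subgroup Ω) : Set Ω) :=
          mem_normalizer_sup (mem_normalizer_of_conj_mem fun y hy => (hgY hy).symm ▸ hy)
            (mem_normalizer_of_conj_mem hgT)
        refine mem_extender_of ⟨hgS, hgn⟩ hgS fun x hx => ?_
        let c : ↥(Y ⊔ T) →* ↥(Y ⊔ T) := ((MulAut.conj g).toMonoidHom.comp (Y ⊔ T).subtype).codRestrict _
          fun w => (Subgroup.mem_normalizer_iff.1 hgn w).1 w.2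
        have key := eq_of_sup (χ₁ := b.comp c) (χ₂ := (MulAut.conj g).toMonoidHom.comp b)
          (fun y => ?_) (fun t => ?_) x
        · exact key
        · show b (c _) = g * b _ * g⁻¹
          rw [show c (Subgroup.inclusion le_sup_left y) = Subgroup.inclusion le_sup_left y from
            Subtype.ext (hgY y.2), hbY', hgY (δ y).2]
        · show b (c _) = g * b _ * g⁻¹
          rw [show c (Subgroup.inclusion le_sup_right t) = Subgroup.inclusion le_sup_right ⟨_, hgT t t.2⟩ from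
            Subtype.ext rfl, hbT, hbT]
      obtain ⟨b₁, hb₁, hb₁e⟩ := (receptive_of_fullyNormalized hS hF hYTn).2 _ b hb hbr
      obtain ⟨B, hB, hBe⟩ := exists_restrict hb₁ hext
      have hBY : ∀ y : Y, B (Subgroup.inclusion le_sup_left y) = ((δ y : Y) : Ω) := fun y => by
        rw [hBe]
        exact (hb₁e (y : Ω) ((le_sup_left : Y ≤ Y ⊔ T) y.2) _).trans (hbY' y)
      have hBT : ∀ t : T, B ⟨t, (le_sup_right : Cs ≤ Y ⊔ Cs) (hTCs t.2)⟩ = t := fun t => by
        rw [hBe]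
        exact (hb₁e (t : Ω) ((le_sup_right : T ≤ Y ⊔ T) t.2) _).trans (hbT t)
      have hBC : ∀ c : Cs, B (Subgroup.inclusion le_sup_right c) ∈ Cs := fun c => by
        refine mem_centralizerIn.2 ⟨apply_mem hB _, fun y hy => ?_⟩
        obtain ⟨x, hx⟩ := δ.surjective ⟨y, hy⟩
        have : y = B (Subgroup.inclusion le_sup_left x) := by rw [hBY, hx]
        rw [this, ← map_mul, ← map_mul]
        exact congrArg B (Subtype.ext (hcom x x.2 c c.2))
      have hBr : B.range = Y ⊔ Cs := range_eq_of_mem hB (apply_mem_of_sup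
        (fun y => by rw [hBY]; exact (le_sup_left : Y ≤ Y ⊔ Cs) (δ y).2)
        (fun c => (le_sup_right : Cs ≤ Y ⊔ Cs) (hBC c))) le_rfl
      set B' := homEquiv hB hBr with hB'
      obtain ⟨e, m, hm, hem⟩ := Nat.exists_eq_pow_mul_and_not_dvd (orderOf_pos B').ne' p hp.out.ne_one
      set B'' := B' ^ p ^ e with hB''
      have hord : (orderOf B'').Coprime p := by
        refine Nat.Coprime.coprime_dvd_left (orderOf_dvd_of_pow_eq_one (n := m) ?_)
          (hp.out.coprime_iff_not_dvd.2 hm).symm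
        rw [hB'', ← pow_mul, ← hem, pow_orderOf_eq_one]
      have hB''F : B'' ∈ F.autGroup (Y ⊔ Cs) := pow_mem (homEquiv_mem_autGroup hB hBr) _
      have hB''Y : ∀ (k : ℕ) (y : Y), (B' ^ k) (Subgroup.inclusion le_sup_left y) =
          Subgroup.inclusion le_sup_left ((δ ^ k) y) := fun k => by
        induction k with
        | zero => intro y; rfl
        | succ k ih =>
          intro y
          rw [pow_succ, MulAut.mul_apply, show B' (Subgroup.inclusion le_sup_left y) =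
            Subgroup.inclusion le_sup_left (δ y) from Subtype.ext ((homEquiv_coe hB hBr _).trans (hBY y)), ih,
            pow_succ, MulAut.mul_apply]
      have hB''T : ∀ (k : ℕ) (t : T), (B' ^ k) ⟨t, (le_sup_right : Cs ≤ Y ⊔ Cs) (hTCs t.2)⟩ =
          ⟨t, (le_sup_right : Cs ≤ Y ⊔ Cs) (hTCs t.2)⟩ := fun k => by
        induction k with
        | zero => intro y; rfl
        | succ k ih =>
          intro t
          rw [pow_succ, MulAut.mul_apply, show B' ⟨t, (le_sup_right : Cs ≤ Y ⊔ Cs) (hTCs t.2)⟩ =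
            ⟨t, (le_sup_right : Cs ≤ Y ⊔ Cs) (hTCs t.2)⟩ from Subtype.ext ((homEquiv_coe hB hBr _).trans (hBT t)), ih]
      -- the automorphism restricted to `Y C_Z(Y)`
      set W := Y ⊔ (Z ⊓ Cs) with hWdef
      have hWZ : W ≤ Z := sup_le hYZ inf_le_left
      have hWle : W ≤ Y ⊔ Cs := sup_le le_sup_left (inf_le_right.trans le_sup_right)
      haveI := finite_sub (hWZ.trans hZS)
      obtain ⟨bb, hbb, -, hbbe⟩ := exists_hom_of_aut hW₀S hB''F
      have hC'' : ∀ c : ↥(Y ⊔ Cs), (c : Ω) ∈ Cs → ((B'' c : ↥(Y ⊔ Cs)) : Ω) ∈ Cs := fun c hc => by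
        refine mem_centralizerIn.2 ⟨hW₀S (B'' c).2, fun y hy => ?_⟩
        obtain ⟨x, hx⟩ := (δ ^ p ^ e).surjective ⟨y, hy⟩
        have h1 : (Subgroup.inclusion le_sup_left ⟨y, hy⟩ : ↥(Y ⊔ Cs)) = B'' (Subgroup.inclusion le_sup_left x) := by
          rw [← hx, hB'', hB''Y]
        have h2 := congrArg B'' (Subtype.ext (hcom x x.2 c hc) :
          Subgroup.inclusion le_sup_left x * c = c * Subgroup.inclusion le_sup_left x)
        rw [map_mul, map_mul, ← h1] at h2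
        exact congrArg Subtype.val h2
      have hT'' : ∀ t : T, B'' ⟨t, (le_sup_right : Cs ≤ Y ⊔ Cs) (hTCs t.2)⟩ =
          ⟨t, (le_sup_right : Cs ≤ Y ⊔ Cs) (hTCs t.2)⟩ := hB''T _
      have hZ'' : ∀ c : ↥(Y ⊔ Cs), (c : Ω) ∈ Z → ((B'' c : ↥(Y ⊔ Cs)) : Ω) ∈ Z := fun c hc => by
        refine mem_centralizerIn.2 ⟨hW₀S (B'' c).2, fun t ht => ?_⟩
        have h2 := congrArg B'' (Subtype.ext ((mem_centralizerIn.1 hc).2 t ht) :
          ⟨t, (le_sup_right : Cs ≤ Y ⊔ Cs) (hTCs ht)⟩ * c = c * ⟨t, (le_sup_right : Cs ≤ Y ⊔ Cs) (hTCs ht)⟩)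
        rw [map_mul, map_mul, hT'' ⟨t, ht⟩] at h2
        exact congrArg Subtype.val h2
      obtain ⟨w₁, hw₁, hw₁e⟩ := exists_restrict hbb hWle
      have hw₁m : ∀ w, w₁ w ∈ W := apply_mem_of_sup
        (fun y => by
          rw [hw₁e, hbbe]
          refine (le_sup_left : Y ≤ W) ?_
          show ((B'' (Subgroup.inclusion le_sup_left y) : ↥(Y ⊔ Cs)) : Ω) ∈ Y
          rw [hB'', hB''Y]; exact SetLike.coe_mem _)
        (fun z => by
          rw [hw₁e, hbbe]
          exact (le_sup_right : Z ⊓ Cs ≤ W) ⟨hZ'' _ z.2.1, hC'' _ z.2.2⟩)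
      have hw₁r : w₁.range = W := range_eq_of_mem hw₁ hw₁m le_rfl
      have hw₁C : w₁ ∈ C.Hom W := by
        have hWT : W ⊔ T ≤ Y ⊔ Cs := sup_le hWle (hTCs.trans le_sup_right)
        obtain ⟨w₂, hw₂, hw₂e⟩ := exists_restrict hbb hWT
        rw [hC]
        refine ⟨hw₁, hWZ, fun w => hWZ (hw₁m w), w₂, hw₂, fun w => (hw₂e _).trans (hw₁e w).symm, fun t => ?_⟩
        rw [hw₂e, hbbe]
        exact congrArg Subtype.val (hT'' t)
      set w' := homEquiv hw₁ hw₁r with hw'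
      have hpw : ∀ (k : ℕ) (w : W), (((w' ^ k) w : W) : Ω) = (((B'' ^ k) (Subgroup.inclusion hWle w) : ↥(Y ⊔ Cs)) : Ω) :=
        fun k => by
        induction k with
        | zero => intro w; rfl
        | succ k ih =>
          intro w
          rw [pow_succ, MulAut.mul_apply, ih, pow_succ, MulAut.mul_apply]
          exact congrArg (fun z => (((B'' ^ k) z : ↥(Y ⊔ Cs)) : Ω)) (Subtype.ext ((hw₁e w).trans (hbbe _)))
      have hw'C : w' ∈ C.autGroup W := mem_autGroup_of_hom hw₁C fun w => homEquiv_coe hw₁ hw₁r w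
      have hw'o : (orderOf w').Coprime p := hord.coprime_dvd_left (orderOf_dvd_of_pow_eq_one
        (MulEquiv.ext fun w => Subtype.ext (by rw [hpw, pow_orderOf_eq_one]; rfl)))
      have hZ0 : ∀ c : ↥(Y ⊔ Cs), (c : Ω) ∈ Z → (c : Ω) ∈ Cs → (c : Ω)⁻¹ * ((B'' c : ↥(Y ⊔ Cs)) : Ω) ∈ Y :=
        fun c hcZ hcC => by
        have hmem : (c : Ω) ∈ W := (le_sup_right : Z ⊓ Cs ≤ W) ⟨hcZ, hcC⟩
        have := hhyp (FusionP3.Tate.hyperfocal_gen_mem (F := C) (α := ⟨w', hw'C⟩) hWZ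
          (Transfer.PResidual.mem_pResidual (by rwa [Subgroup.orderOf_mk])) ⟨c, hmem⟩)
        have h1 := hpw 1 ⟨c, hmem⟩
        rw [pow_one, pow_one] at h1
        rwa [h1] at this
      have hpow : δ ^ p ^ e ∈ Gd := by
        refine ⟨B'', hB''F, fun y => congrArg Subtype.val (hB''Y _ y), fun c hc => ?_⟩
        set c' : ↥(Y ⊔ Cs) := c⁻¹ * B'' c with hc'
        have hc'C : (c' : Ω) ∈ Cs := Cs.mul_mem (Cs.inv_mem hc) (hC'' c hc)
        have hc'Z : (c' : Ω) ∈ Z := by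
          refine mem_centralizerIn.2 ⟨hW₀S c'.2, fun t ht => ?_⟩
          have hg : (c : Ω) * t * (c : Ω)⁻¹ ∈ T :=
            stronglyClosed_apply_mem hsc (F.conj_mem le_rfl (hW₀S c.2)) (x := ⟨t, hTS ht⟩) ht
          have h2 : B'' (c * ⟨t, (le_sup_right : Cs ≤ Y ⊔ Cs) (hTCs ht)⟩ * c⁻¹) =
              c * ⟨t, (le_sup_right : Cs ≤ Y ⊔ Cs) (hTCs ht)⟩ * c⁻¹ := hT'' ⟨_, hg⟩
          rw [map_mul, map_mul, map_inv, hT'' ⟨t, ht⟩] at h2
          have h3 : ((B'' c : ↥(Y ⊔ Cs)) : Ω) * t * ((B'' c : ↥(Y ⊔ Cs)) : Ω)⁻¹ = c * t * (c : Ω)⁻¹ :=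
            congrArg Subtype.val h2
          show t * ((c : Ω)⁻¹ * ((B'' c : ↥(Y ⊔ Cs)) : Ω)) = (c : Ω)⁻¹ * ((B'' c : ↥(Y ⊔ Cs)) : Ω) * t
          calc t * ((c : Ω)⁻¹ * ((B'' c : ↥(Y ⊔ Cs)) : Ω))
              = (c : Ω)⁻¹ * (c * t * (c : Ω)⁻¹) * ((B'' c : ↥(Y ⊔ Cs)) : Ω) := by group
            _ = _ := by rw [← h3]; group
        have hstab : ∀ z : ↥(Y ⊔ Cs), (z : Ω) ∈ Y → ((B'' z : ↥(Y ⊔ Cs)) : Ω) ∈ Y := fun z hz => by
          rw [show z = Subgroup.inclusion le_sup_left ⟨(z : Ω), hz⟩ from rfl, hB'', hB''Y]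
          exact SetLike.coe_mem _
        have hiter : ∀ n : ℕ, ∃ y : ↥(Y ⊔ Cs), (y : Ω) ∈ Y ∧ (B'' ^ n) c = c * c' ^ n * y := fun n => by
          induction n with
          | zero => exact ⟨1, one_mem _, by simp⟩
          | succ n ih =>
            obtain ⟨y, hy, he⟩ := ih
            set z : ↥(Y ⊔ Cs) := (c' ^ n)⁻¹ * B'' (c' ^ n) with hz
            have hzY : (z : Ω) ∈ Y := by
              have := hZ0 (c' ^ n) (pow_mem hc'Z n) (pow_mem hc'C n)
              exact this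
            refine ⟨z * B'' y, Y.mul_mem hzY (hstab y hy), ?_⟩
            rw [pow_succ', MulAut.mul_apply, he, map_mul, map_mul, pow_succ']
            show B'' c * B'' (c' ^ n) * B'' y = c * (c' * c' ^ n) * ((c' ^ n)⁻¹ * B'' (c' ^ n) * B'' y)
            rw [hc']
            group
        obtain ⟨y, hy, he⟩ := hiter (orderOf B'')
        rw [pow_orderOf_eq_one, MulAut.one_apply, mul_assoc, eq_comm, mul_eq_left] at he
        have hcY : ((c' ^ orderOf B'' : ↥(Y ⊔ Cs)) : Ω) ∈ Y := by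
          rw [eq_inv_of_mul_eq_one_left he]
          exact Y.inv_mem hy
        obtain ⟨k, hk⟩ := IsPGroup.iff_orderOf.1 (hS.to_le hW₀S) c'
        rw [← Subgroup.orderOf_coe] at hk
        exact mem_of_pow_mem_of_coprime hk
          (fun hdvd => hp.out.ne_one (Nat.eq_one_of_dvd_coprimes hord hdvd dvd_rfl))
          (show ((c : Ω)⁻¹ * ((B'' c : ↥(Y ⊔ Cs)) : Ω)) ^ orderOf B'' ∈ Y from hcY)
      obtain ⟨i, hi⟩ := exists_pow_eq_self_of_coprime (n := p ^ e) (x := δ) (hδc.symm.pow_left e)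
      exact hi ▸ K.pow_mem hpow i
    · intro a ha
      obtain ⟨g, hg, hge⟩ := mem_autInducedBy.1 ha
      have hgW : g ∈ Y ⊔ Cs := (le_sup_left : Y ≤ Y ⊔ Cs) hg
      refine ⟨MulAut.conj ⟨g, hgW⟩, inn_le_autGroup F hW₀S ⟨_, rfl⟩, fun y => (hge y).symm, fun c hc => ?_⟩
      show (c : Ω)⁻¹ * (g * c * g⁻¹) ∈ Y
      rw [hcom g hg c hc]
      rw [mul_assoc (c : Ω) g, mul_inv_cancel, mul_one, inv_mul_cancel]
      exact one_mem _
  intro α hα
  obtain ⟨β, hβ, hβY, hβC⟩ := hgood hα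
  refine ⟨β, hβ, hβY, fun c hc => ⟨hβC c hc, Subgroup.mem_centralizer_iff.2 fun y hy => ?_⟩⟩
  obtain ⟨x, hx⟩ := α.surjective ⟨y, hy⟩
  have h1 : β (Subgroup.inclusion le_sup_left x) = Subgroup.inclusion le_sup_left ⟨y, hy⟩ :=
    Subtype.ext ((hβY x).trans (congrArg Subtype.val hx))
  have h2 := congrArg β (Subtype.ext (hcom x x.2 c hc) :
    Subgroup.inclusion le_sup_left x * c = c * Subgroup.inclusion le_sup_left x)
  rw [map_mul, map_mul, h1] at h2
  have h3 : y * ((β c : ↥(Y ⊔ Cs)) : Ω) = ((β c : ↥(Y ⊔ Cs)) : Ω) * y := congrArg Subtype.val h2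
  calc y * ((c : Ω)⁻¹ * ((β c : ↥(Y ⊔ Cs)) : Ω))
      = (c : Ω)⁻¹ * (c * y) * (c : Ω)⁻¹ * ((β c : ↥(Y ⊔ Cs)) : Ω) := by group
    _ = (c : Ω)⁻¹ * (y * c) * (c : Ω)⁻¹ * ((β c : ↥(Y ⊔ Cs)) : Ω) := by rw [hcom y hy c hc]
    _ = (c : Ω)⁻¹ * (y * ((β c : ↥(Y ⊔ Cs)) : Ω)) := by group
    _ = (c : Ω)⁻¹ * (((β c : ↥(Y ⊔ Cs)) : Ω) * y) := by rw [h3]
    _ = _ := by group

/-- The centralizer of a normal subsystem is a normal subsystem inside the centralizer system of its base. -/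
theorem exists_centralizer (hS : IsPGroup p S) (hE : E.IsNormalIn F p) :
    ∃ D : FusionSystem (centralizerSub F E), D.IsNormalIn F p ∧
      ∀ P : Subgroup Ω, D.Hom P ⊆ F.centralizerHom T P := by
  obtain ⟨D, ⟨hD, -⟩, h⟩ := exists_centralizer' hS hE
  exact ⟨D, hD, h⟩

end Cfsg.Agent.Lib.FS.CentralizerSubsystem
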