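import Cfsg.Agent.Lib.FusionSystem.ComponentExists
import Cfsg.Agent.Lib.FusionSystem.CentralizerNormal
import Cfsg.Agent.Lib.FusionConstrained.Inherit
import Cfsg.Agent.Lib.Balance.Locals
import Cfsg.Agent.Lib.CharP.Basic
import Cfsg.Agent.Lib.Transfer.FusionLocal
import Cfsg.Agent.Lib.PGroups.Omega

/-!
Systems in which every centralizer system of a subgroup of order `p` is constrained are of
characteristic `p`-type.
-/

set_option autoImplicit false
set_option linter.style.haveILetI false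
set_option linter.unusedSectionVars false

namespace Cfsg.Agent.Lib.FS.CharPType

open Cfsg Cfsg.FusionSystem Cfsg.Agent.Lib Cfsg.Agent.Lib.FS

universe u

variable {Ω : Type u} [Group Ω] {S : Subgroup Ω} [Finite S] {p : ℕ} [Fact p.Prime] {F : FusionSystem S}

/-- In a group of characteristic `p` the centralizer of a `p`-subgroup has characteristic `p`. -/
theorem charP_centralizer {G : Type*} [Group G] [Finite G]
    (h : Subgroup.centralizer (pCore p G : Set G) ≤ pCore p G) {W : Subgroup G} (hW : IsPGroup p W) :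
    Subgroup.centralizer (pCore p ↥(Subgroup.centralizer (W : Set G)) : Set ↥(Subgroup.centralizer (W : Set G)))
      ≤ pCore p ↥(Subgroup.centralizer (W : Set G)) := by
  refine CharP.charP_of_normal_le (Balance.centralizer_pCore_le_normalizer h hW)
    (Subgroup.centralizer_le_normalizer _) ?_
  intro n hn
  refine Subgroup.mem_normalizer_iff.2 fun x => ?_
  simp only [SetLike.mem_coe, Subgroup.mem_centralizer_iff]
  constructor
  · intro hx y hy
    have h1 := hx (n⁻¹ * y * n) (by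
      have := (Subgroup.mem_normalizer_iff.1 (inv_mem hn) y).1 hy
      rwa [inv_inv] at this)
    calc y * (n * x * n⁻¹) = n * ((n⁻¹ * y * n) * x) * n⁻¹ := by group
      _ = n * (x * (n⁻¹ * y * n)) * n⁻¹ := by rw [h1]
      _ = _ := by group
  · intro hx y hy
    have h1 := hx (n * y * n⁻¹) ((Subgroup.mem_normalizer_iff.1 hn y).1 hy)
    calc y * x = n⁻¹ * ((n * y * n⁻¹) * (n * x * n⁻¹)) * n := by group
      _ = n⁻¹ * ((n * x * n⁻¹) * (n * y * n⁻¹)) * n := by rw [h1]
      _ = _ := by group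

/-- If the centralizer system of `X'` is constrained and a map carries `U`, together with its centralizer,
into `C_S(X')` with `X'` in the image of `U`, then the centralizer system of `U` is constrained. -/
theorem isConstrained_centralizer_of_map (hS : IsPGroup p S) {X' U R T : Subgroup Ω}
    {H : FusionSystem (centralizerIn S X')} (hH : F.IsCentralizerSystem X' H) (hHc : H.IsConstrained p)
    (hU : F.IsFullyCentralized U) (hUR : U ≤ R) (hT : T = centralizerIn S U) (hTR : T ≤ R)
    {ψ : R →* Ω} (hψ : ψ ∈ F.Hom R) (hψC : ∀ x, ψ x ∈ centralizerIn S X')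
    (hX' : X' ≤ (U.subgroupOf R).map ψ)
    {C : FusionSystem T} (hC : ∀ P, C.Hom P = F.centralizerHom U P) : C.IsConstrained p := by
  haveI := finite_sub (centralizerIn_le (S := S) X')
  haveI := finite_sub (src_le hψ)
  obtain ⟨G, hG, ι, hfin, hreal, ⟨V, hV⟩, hchar⟩ :=
    FusionAlperin.Model.exists_model_of_constrained (hS.to_le (centralizerIn_le X')) hHc
  haveI := hfin
  have hUS : U ≤ S := hU.1
  haveI := finite_sub hUS
  have hTS : T ≤ S := hT ▸ centralizerIn_le U
  haveI := finite_sub hTS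
  set j : R →* G := ι.comp (ψ.codRestrict _ hψC) with hj
  have hji : Function.Injective j := fun a b hab =>
    F.injective_of_mem hψ (congrArg Subtype.val (hreal.1 hab))
  set W : Subgroup G := (U.subgroupOf R).map j with hW
  have hWmem : ∀ u : R, (u : Ω) ∈ U → j u ∈ W := fun u hu => ⟨u, hu, rfl⟩
  have hRp : IsPGroup p R := hS.to_le (src_le hψ)
  have hWp : IsPGroup p W := (hRp.to_subgroup _).map j
  have hTc : ∀ t : T, j (Subgroup.inclusion hTR t) ∈ Subgroup.centralizer (W : Set G) := by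
    intro t
    refine Subgroup.mem_centralizer_iff.2 ?_
    rintro _ ⟨u, hu, rfl⟩
    rw [← map_mul, ← map_mul]
    exact congrArg j (Subtype.ext ((mem_centralizerIn.1 (hT.le t.2)).2 u hu))
  set j1 : T →* ↥(Subgroup.centralizer (W : Set G)) :=
    (j.comp (Subgroup.inclusion hTR)).codRestrict _ hTc with hj1
  have hj1i : Function.Injective j1 := fun a b hab =>
    Subgroup.inclusion_injective hTR (hji (congrArg Subtype.val hab))
  obtain ⟨ψ', hψ', hψ'r, hψl, hψr⟩ := exists_inv hψ rfl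
  refine isConstrained_of_isModel (G := ↥(Subgroup.centralizer (W : Set G))) (ι := j1)
    ⟨inferInstance, ⟨hj1i, fun P hP φ hφT => ?_⟩, ?_, charP_centralizer hchar hWp⟩
  · -- the maps are the conjugations by `C_G(W)`
    have hPR : P ⊔ U ≤ R := sup_le (hP.trans hTR) hUR
    set P' : Subgroup Ω := ((P ⊔ U).subgroupOf R).map ψ with hP'
    have hP'r : P' ≤ ψ.range := by rintro _ ⟨z, -, rfl⟩; exact ⟨z, rfl⟩
    have hP'C : P' ≤ centralizerIn S X' := by rintro _ ⟨z, -, rfl⟩; exact hψC z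
    have hXP' : X' ≤ P' := hX'.trans (Subgroup.map_mono (fun z hz => (le_sup_right : U ≤ P ⊔ U) hz))
    have hback : ∀ y : P', ψ' (Subgroup.inclusion hP'r y) ∈ P ⊔ U := by
      rintro ⟨_, z, hz, rfl⟩
      exact (congrArg (· ∈ P ⊔ U) (hψl z ⟨z, rfl⟩)).mpr hz
    rw [hC P]
    constructor
    · rintro ⟨hφ, -, -, χ, hχ, he, hfix⟩
      have hχR : ∀ z, χ z ∈ R := by
        rintro ⟨z, hz⟩
        have : P ⊔ U ≤ (R.comap χ).map (P ⊔ U).subtype :=
          sup_le (fun x hx => ⟨Subgroup.inclusion le_sup_left ⟨x, hx⟩,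
              (by show χ _ ∈ R; rw [he]; exact hTR (hφT _)), rfl⟩)
            (fun x hx => ⟨Subgroup.inclusion le_sup_right ⟨x, hx⟩,
              (by show χ _ ∈ R; rw [hfix]; exact hUR hx), rfl⟩)
        obtain ⟨w, hw, hwz⟩ := this hz
        exact (congrArg (fun v => χ v ∈ R) (Subtype.ext hwz : w = ⟨z, hz⟩)).mp hw
      obtain ⟨χ₁, hχ₁, he₁⟩ := exists_comp (restrict_mem hψ' hP'r) hχ hback
      obtain ⟨χ₂, hχ₂, he₂⟩ := exists_comp hχ₁ hψ fun y => by rw [he₁]; exact hχR _
      have hval : ∀ (z : ↥(P ⊔ U)) (hz : ψ (Subgroup.inclusion hPR z) ∈ P'),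
          χ₂ ⟨_, hz⟩ = ψ ⟨χ z, hχR z⟩ := by
        intro z hz
        rw [he₂]
        refine congrArg ψ (Subtype.ext ?_)
        show χ₁ _ = χ z
        rw [he₁]
        exact congrArg χ (Subtype.ext (hψl _ _))
      have hχ₂H : χ₂ ∈ H.Hom P' := by
        rw [hH P']
        refine ⟨hχ₂, hP'C, fun y => by rw [he₂]; exact hψC _,
          χ₂.comp (Subgroup.inclusion (sup_le le_rfl hXP')), restrict_mem hχ₂ _, fun y => rfl, ?_⟩
        rintro ⟨x, hx⟩
        obtain ⟨u, hu, rfl⟩ := hX' hx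
        have hmem : (u : Ω) ∈ P ⊔ U := (le_sup_right : U ≤ P ⊔ U) hu
        refine (hval ⟨u, hmem⟩ (hXP' hx)).trans ?_
        exact congrArg ψ (Subtype.ext (hfix ⟨u, hu⟩))
      obtain ⟨g, hg⟩ := (hreal.2 P' hP'C χ₂ fun y => apply_mem hχ₂H y).1 hχ₂H
      have hg' : ∀ z : ↥(P ⊔ U), j ⟨χ z, hχR z⟩ = g * j (Subgroup.inclusion hPR z) * g⁻¹ := by
        intro z
        have hz : ψ (Subgroup.inclusion hPR z) ∈ P' := ⟨_, z.2, rfl⟩
        refine Eq.trans ?_ (hg ⟨_, hz⟩)
        exact congrArg ι (Subtype.ext (hval z hz).symm)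
      have hgW : g ∈ Subgroup.centralizer (W : Set G) := by
        refine Subgroup.mem_centralizer_iff.2 ?_
        rintro _ ⟨u, hu, rfl⟩
        have h1 := hg' ⟨u, (le_sup_right : U ≤ P ⊔ U) hu⟩
        have h2 : (⟨χ ⟨u, (le_sup_right : U ≤ P ⊔ U) hu⟩, hχR _⟩ : R) = u :=
          Subtype.ext (hfix ⟨u, hu⟩)
        rw [h2] at h1
        exact (mul_inv_eq_iff_eq_mul.1 h1.symm).symm
      refine ⟨⟨g, hgW⟩, fun x => Subtype.ext ?_⟩
      refine Eq.trans ?_ (hg' (Subgroup.inclusion le_sup_left x))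
      exact congrArg j (Subtype.ext (he x).symm)
    · rintro ⟨g, hg⟩
      set A : Subgroup R := j.range.comap ((MulAut.conj (g : G)).toMonoidHom.comp j) with hA
      have hle : P ⊔ U ≤ A.map R.subtype := by
        refine sup_le (fun x hx => ⟨⟨x, hTR (hP hx)⟩, ?_, rfl⟩) (fun x hx => ⟨⟨x, hUR hx⟩, ?_, rfl⟩)
        · exact ⟨_, congrArg Subtype.val (hg ⟨x, hx⟩)⟩
        · refine ⟨⟨x, hUR hx⟩, ?_⟩
          show j _ = (g : G) * j _ * (g : G)⁻¹
          rw [← Subgroup.mem_centralizer_iff.1 g.2 _ (hWmem ⟨x, hUR hx⟩ hx), mul_inv_cancel_right]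
      let f : ↥(P ⊔ U) →* j.range :=
        (((MulAut.conj (g : G)).toMonoidHom.comp j).comp (Subgroup.inclusion hPR)).codRestrict _
          fun z => by
            obtain ⟨w, hw, hwe⟩ := hle z.2
            show (MulAut.conj (g : G)) (j _) ∈ j.range
            rw [show Subgroup.inclusion hPR z = w from Subtype.ext hwe.symm]
            exact hw
      let χ₀ : ↥(P ⊔ U) →* R := (MonoidHom.ofInjective hji).symm.toMonoidHom.comp f
      have hχ₀ : ∀ z, j (χ₀ z) = (g : G) * j (Subgroup.inclusion hPR z) * (g : G)⁻¹ := fun z =>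
        congrArg Subtype.val ((MonoidHom.ofInjective hji).apply_symm_apply (f z))
      let τ : P' →* ↥(P ⊔ U) := (ψ'.comp (Subgroup.inclusion hP'r)).codRestrict _ hback
      let φ' : P' →* Ω := ψ.comp (χ₀.comp τ)
      have hφ'H : φ' ∈ H.Hom P' := by
        refine (hreal.2 P' hP'C φ' fun y => hψC _).2 ⟨(g : G), fun y => ?_⟩
        show j (χ₀ (τ y)) = _
        rw [hχ₀]
        congr 2
        exact congrArg ι (Subtype.ext (hψr (Subgroup.inclusion hP'r y) (src_le hψ |> fun _ =>
          hPR (τ y).2)))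
      rw [hH P'] at hφ'H
      obtain ⟨χ₁, hχ₁, he₁⟩ := exists_comp (restrict_mem hψ hPR) hφ'H.1
        fun z => ⟨Subgroup.inclusion hPR z, z.2, rfl⟩
      obtain ⟨χ, hχ, he⟩ := exists_comp hχ₁ hψ' fun z => by rw [he₁]; exact ⟨_, rfl⟩
      have hχv : ∀ z, χ z = (χ₀ z : Ω) := by
        intro z
        rw [he]
        refine Eq.trans (congrArg ψ' (Subtype.ext ?_)) (hψl (χ₀ z) ⟨_, rfl⟩)
        show χ₁ z = ψ (χ₀ z)
        rw [he₁]
        show ψ (χ₀ (τ _)) = _
        exact congrArg (fun v => ψ (χ₀ v)) (Subtype.ext (hψl _ _))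
      have hφe : ∀ x : P, χ (Subgroup.inclusion le_sup_left x) = φ x := by
        intro x
        rw [hχv]
        refine congrArg Subtype.val (hji ?_ : χ₀ _ = ⟨φ x, hTR (hφT x)⟩)
        exact (hχ₀ _).trans (congrArg Subtype.val (hg x)).symm
      refine ⟨mem_of_restrict hχ le_sup_left fun x => (hφe x).symm, hP.trans hT.le,
        fun x => hT.le (hφT x), χ, hχ, hφe, fun u => ?_⟩
      rw [hχv]
      refine congrArg Subtype.val (hji ?_ : χ₀ _ = ⟨(u : Ω), hUR u.2⟩)
      refine (hχ₀ _).trans ?_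
      show (g : G) * j _ * (g : G)⁻¹ = _
      rw [← Subgroup.mem_centralizer_iff.1 g.2 _ (hWmem _ u.2), mul_inv_cancel_right]
      rfl
  · -- the image of `C_S(U)` is a Sylow subgroup
    have hTp : IsPGroup p T := hS.to_le hTS
    obtain ⟨V₀, hV₀⟩ := (hTp.of_surjective j1.rangeRestrict j1.rangeRestrict_surjective).exists_le_sylow
    refine ⟨V₀, (Subgroup.eq_of_le_of_card_ge hV₀ ?_).symm⟩
    set P₀ : Subgroup G := (V₀ : Subgroup ↥(Subgroup.centralizer (W : Set G))).map
      (Subgroup.centralizer (W : Set G)).subtype with hP₀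
    have hPW : IsPGroup p ↥(P₀ ⊔ W) := by
      refine IsPGroup.to_sup_of_normal_right' (V₀.isPGroup'.map _) hWp ?_
      exact (Subgroup.map_subtype_le _).trans (Subgroup.centralizer_le_normalizer _)
    haveI : Finite ↥(⊤ : Subgroup G) := inferInstance
    obtain ⟨a, -, ha⟩ := exists_conj_le_sylow (A := (⊤ : Subgroup G))
      (R₀ := ι.range) (V.subtype le_top) (by rw [Sylow.coe_subtype, hV]) le_top hPW
    set U' : Subgroup Ω := (U.subgroupOf R).map ψ with hU'
    have hU'C : U' ≤ centralizerIn S X' := by rintro _ ⟨z, -, rfl⟩; exact hψC z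
    have hU'j : ∀ y : U', ι ⟨y, hU'C y.2⟩ ∈ W := by
      rintro ⟨_, u, hu, rfl⟩
      exact hWmem u hu
    let e := MonoidHom.ofInjective hreal.1
    let f : U' →* ι.range :=
      ((MulAut.conj a).toMonoidHom.comp (ι.comp (Subgroup.inclusion hU'C))).codRestrict _
        fun y => ha _ ((le_sup_right : W ≤ P₀ ⊔ W) (hU'j y))
    let γ : U' →* Ω := (centralizerIn S X').subtype.comp (e.symm.toMonoidHom.comp f)
    have hγC : ∀ y, γ y ∈ centralizerIn S X' := fun y => (e.symm (f y)).2
    have hγι : ∀ y, ι ⟨γ y, hγC y⟩ = a * ι ⟨y, hU'C y.2⟩ * a⁻¹ := fun y =>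
      congrArg Subtype.val (e.apply_symm_apply (f y))
    have hγH : γ ∈ H.Hom U' := (hreal.2 U' hU'C γ hγC).2 ⟨a, hγι⟩
    rw [hH U'] at hγH
    obtain ⟨δ, hδ, hδe⟩ := exists_comp (restrict_mem hψ hUR) hγH.1
      fun u => ⟨Subgroup.inclusion hUR u, u.2, rfl⟩
    have hconj : F.IsConj U δ.range := ⟨δ, hδ, rfl⟩
    have hc := hU.2 δ.range hconj
    rw [← hT] at hc
    haveI := finite_sub (centralizerIn_le (S := S) δ.range)
    let k : ↥(V₀ : Subgroup ↥(Subgroup.centralizer (W : Set G))) → centralizerIn S X' := fun v =>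
      e.symm ⟨a * ((v : ↥(Subgroup.centralizer (W : Set G))) : G) * a⁻¹,
        ha _ ((le_sup_left : P₀ ≤ P₀ ⊔ W) ⟨v.1, v.2, rfl⟩)⟩
    have hkι : ∀ v, ι (k v) = a * ((v : ↥(Subgroup.centralizer (W : Set G))) : G) * a⁻¹ := fun v =>
      congrArg Subtype.val (e.apply_symm_apply _)
    have hkc : ∀ v, (k v : Ω) ∈ centralizerIn S δ.range := by
      intro v
      refine mem_centralizerIn.2 ⟨centralizerIn_le X' (k v).2, ?_⟩
      rintro _ ⟨u, rfl⟩
      rw [hδe]
      obtain ⟨y, hy⟩ : ∃ y : U', (y : Ω) = ψ (Subgroup.inclusion hUR u) := ⟨⟨_, _, u.2, rfl⟩, rfl⟩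
      rw [show (⟨(ψ.comp (Subgroup.inclusion hUR)) u, ⟨_, u.2, rfl⟩⟩ : U') = y from Subtype.ext hy.symm]
      have key : (⟨γ y, hγC y⟩ : centralizerIn S X') * k v = k v * ⟨γ y, hγC y⟩ := by
        refine hreal.1 ?_
        rw [map_mul, map_mul, hγι, hkι]
        have hvc := Subgroup.mem_centralizer_iff.1
          (v : ↥(Subgroup.centralizer (W : Set G))).2 _ (hU'j y)
        calc a * ι ⟨y, hU'C y.2⟩ * a⁻¹ * (a * ((v : ↥(Subgroup.centralizer (W : Set G))) : G) * a⁻¹)
            = a * (ι ⟨y, hU'C y.2⟩ * ((v : ↥(Subgroup.centralizer (W : Set G))) : G)) * a⁻¹ := by group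
          _ = a * (((v : ↥(Subgroup.centralizer (W : Set G))) : G) * ι ⟨y, hU'C y.2⟩) * a⁻¹ := by rw [hvc]
          _ = _ := by group
      exact congrArg Subtype.val key
    let h0 : ↥(V₀ : Subgroup ↥(Subgroup.centralizer (W : Set G))) → centralizerIn S δ.range := fun v =>
      ⟨k v, hkc v⟩
    have h0i : Function.Injective h0 := by
      intro v w hvw
      have hk : k v = k w := Subtype.ext (congrArg (fun z : centralizerIn S δ.range => (z : Ω)) hvw)
      have h1 := congrArg ι hk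
      rw [hkι, hkι] at h1
      exact Subtype.ext (Subtype.ext (mul_left_cancel (mul_right_cancel h1)))
    rw [← Nat.card_congr (MonoidHom.ofInjective hj1i).toEquiv]
    exact (Nat.card_le_card_of_injective h0 h0i).trans hc

/-- If the centralizer system of every fully normalised subgroup of order `p` is constrained, the system is
of characteristic `p`-type. -/
theorem isOfCharacteristicPType (hS : IsPGroup p S) (hF : F.IsSaturated p)
    (h : ∀ (X : Subgroup Ω), Nat.card X = p → F.IsFullyNormalized X →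
      ∀ H : FusionSystem (centralizerIn S X), F.IsCentralizerSystem X H → H.IsConstrained p) :
    F.IsOfCharacteristicPType p := by
  intro U hU1 hUn
  have hUS := hUn.1
  set N := normalizerIn S U with hN
  intro E hE
  have hNS : N ≤ S := normalizerIn_le U
  haveI := finite_sub hNS
  haveI := finite_sub hUS
  have hNp : IsPGroup p N := hS.to_le hNS
  have hEs := normalizerSystem_isSaturated hS hF hUn hE
  have hUE : E.IsNormal U := Transfer.FusionLocal.isNormal_normalizerSystem hUS hE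
  have hUN : U ≤ N := le_normalizerIn hUS
  -- an element of order `p` of `U` central in `N_S(U)`
  haveI : (U.subgroupOf N).Normal :=
    (Subgroup.normal_subgroupOf_iff_le_normalizer hUN).2 inf_le_right
  have hne := PGroups.normal_inf_center_ne_bot hNp (U.subgroupOf N)
    (fun hb => hU1 (eq_bot_iff.2 fun x hx => by
      have h1 : (⟨x, hUN hx⟩ : N) ∈ U.subgroupOf N := hx
      rw [hb, Subgroup.mem_bot] at h1
      exact congrArg Subtype.val h1))
  set M := U.subgroupOf N ⊓ Subgroup.center N with hM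
  haveI : Nontrivial M := (Subgroup.nontrivial_iff_ne_bot M).2 hne
  obtain ⟨n, hn, hcM⟩ := (hNp.to_subgroup M).nontrivial_iff_card.mp inferInstance
  obtain ⟨x, hx⟩ := exists_prime_orderOf_dvd_card' (G := M) p (hcM ▸ dvd_pow_self p (by omega))
  have hxo : orderOf ((x : N) : Ω) = p := by rw [Subgroup.orderOf_coe, Subgroup.orderOf_coe, hx]
  set X := Subgroup.zpowers ((x : N) : Ω) with hX
  have hXp : Nat.card X = p := (Nat.card_zpowers _).trans hxo
  have hXU : X ≤ U := Subgroup.zpowers_le.2 (Subgroup.mem_inf.1 x.2).1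
  have hNX : N ≤ centralizerIn S X := by
    intro m hm
    refine mem_centralizerIn.2 ⟨hNS hm, ?_⟩
    rintro _ ⟨k, rfl⟩
    have hc : Commute ((x : N) : Ω) m :=
      congrArg Subtype.val ((Subgroup.mem_center_iff.1 (Subgroup.mem_inf.1 x.2).2) ⟨m, hm⟩).symm
    exact (hc.zpow_left k).eq
  -- move it to a fully normalised conjugate
  obtain ⟨X', hXX', hX'n⟩ := exists_isFullyNormalized F (hXU.trans hUS)
  obtain ⟨ψ₀, hψ₀, -, hψX⟩ := exists_normalizer_map hS hF hX'n hXX'
  have hR : centralizerIn S X ≤ normalizerIn S X := centralizerIn_le_normalizerIn X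
  obtain ⟨ψ, hψ, hψe⟩ := exists_restrict hψ₀ hR
  have hXR : X ≤ normalizerIn S X := le_normalizerIn (hXU.trans hUS)
  have hψC : ∀ z, ψ z ∈ centralizerIn S X' := fun z => by
    rw [hψe]
    exact (apply_mem_centralizerIn_iff hψ₀ hXR hψX _).2 z.2
  have hX' : X' ≤ (U.subgroupOf (centralizerIn S X)).map ψ := by
    intro y hy
    obtain ⟨z, hz, rfl⟩ := hψX.ge hy
    exact ⟨⟨z, hNX (hUN (hXU hz))⟩, hXU hz, hψe _⟩
  obtain ⟨H, hH⟩ := exists_centralizerSystem F hX'n.1
  have hHc := h X' ((isConj_card hXX').trans hXp) hX'n H hH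
  -- the centralizer system of `U`
  obtain ⟨C, hC, hCn⟩ := exists_centralizer_normal hNp hEs hUE
  have hT : centralizerIn N U = centralizerIn S U := by
    ext g
    exact ⟨fun hg => ⟨hNS hg.1, hg.2⟩, fun hg => ⟨centralizerIn_le_normalizerIn U hg, hg.2⟩⟩
  have hCF : ∀ P, C.Hom P = F.centralizerHom U P := by
    intro P
    rw [hC P]
    ext φ
    constructor
    · rintro ⟨hφ, hP, hφv, χ, hχ, he, hfix⟩
      rw [hE] at hφ hχ
      exact ⟨hφ.1, hP.trans hT.le, fun z => hT.le (hφv z), χ, hχ.1, he, hfix⟩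
    · rintro ⟨hφ, hP, hφv, χ, hχ, he, hfix⟩
      have hPN : P ≤ N := hP.trans (centralizerIn_le_normalizerIn U)
      have hm : (U.subgroupOf (P ⊔ U)).map χ = U := by
        ext y
        constructor
        · rintro ⟨z, hz, rfl⟩
          exact (congrArg (· ∈ U) (hfix ⟨z, hz⟩)).mpr hz
        · intro hy
          exact ⟨Subgroup.inclusion le_sup_right ⟨y, hy⟩, hy, hfix ⟨y, hy⟩⟩
      have hφE : φ ∈ E.Hom P := by
        rw [hE]
        exact ⟨hφ, hPN, fun z => centralizerIn_le_normalizerIn U (hφv z), χ, hχ, he, hm⟩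
      obtain ⟨χ', hχ', he', -⟩ := hUE.2 P φ hφE
      refine ⟨hφE, hP.trans hT.ge, fun z => hT.ge (hφv z), χ, ?_, he, hfix⟩
      rw [hE]
      have hle : P ⊔ U ⊔ U ≤ P ⊔ U := sup_le le_rfl le_sup_right
      refine ⟨hχ, sup_le hPN hUN, fun z => apply_mem_normalizerIn hχ le_sup_right hm z
        ((sup_le hPN hUN : P ⊔ U ≤ N) z.2).2, χ.comp (Subgroup.inclusion hle),
        restrict_mem hχ hle, fun z => rfl, ?_⟩
      ext y
      constructor
      · rintro ⟨z, hz, rfl⟩
        exact hm.le ⟨_, hz, rfl⟩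
      · intro hy
        obtain ⟨z, hz, rfl⟩ := hm.ge hy
        exact ⟨Subgroup.inclusion le_sup_left z, hz, rfl⟩
  have hUfc : F.IsFullyCentralized U :=
    isFullyCentralized_of_receptive (receptive_of_fullyNormalized hS hF hUn)
  have hCc : C.IsConstrained p :=
    isConstrained_centralizer_of_map hS hH hHc hUfc (hUN.trans hNX) hT
      ((centralizerIn_le U).trans hNX) hψ hψC hX' hCF
  haveI := finite_sub (centralizerIn_le (S := N) U)
  have hK : E.IsNormal C.core :=
    ComponentExists.isNormal_core_of_invariant hNp hEs hCc.1 hCn.1.2.2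
  have hKc := FusionConstrained.Inherit.isCentric_core hCc
  refine ⟨hEs, U ⊔ C.core, FusionAlperin.Join.isNormal_sup E hUE hK,
    ComponentExists.isCentric_of_normal (FusionAlperin.Join.isNormal_sup E hUE hK) ?_⟩
  intro g hg
  obtain ⟨hgN, hgc⟩ := mem_centralizerIn.1 hg
  have hgT : g ∈ centralizerIn N U :=
    mem_centralizerIn.2 ⟨hgN, fun y hy => hgc y ((le_sup_left : U ≤ U ⊔ C.core) hy)⟩
  exact (le_sup_right : C.core ≤ U ⊔ C.core) (hKc.2 C.core (isConj_refl C hKc.1)
    (mem_centralizerIn.2 ⟨hgT, fun y hy => hgc y ((le_sup_right : C.core ≤ U ⊔ C.core) hy)⟩))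

end Cfsg.Agent.Lib.FS.CharPType
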