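/-
An invariant homomorphism exact on elements fixed modulo the kernel.
-/
import Cfsg.Agent.Lib.FusionP3.Transfer
set_option autoImplicit false

namespace Cfsg.Agent.Lib.FS.Control

open Cfsg Cfsg.FusionSystem Cfsg.Agent.Lib Cfsg.Agent.Lib.FS Cfsg.Agent.Lib.FusionP3.Biset
  Cfsg.Agent.Lib.FusionP3.Transfer MulAction

universe u

variable {Ω : Type u} [Group Ω] {S : Subgroup Ω} [Finite S] {F : FusionSystem S}

/-- An invariant homomorphism agreeing with `θ ^ m` on the elements fixed by every map. -/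
theorem exists_invariant_hom_rel {p : ℕ} [Fact p.Prime] (hS : IsPGroup p S)
    (hF : F.IsSaturated p) :
    ∃ m : ℕ, ¬ p ∣ m ∧ ∀ {A : Type u} [CommGroup A] (θ : S →* A),
      ∃ τ : S →* A, (∀ (P : Subgroup Ω) (φ : P →* Ω) (hφ : φ ∈ F.Hom P) (x : P),
        τ ⟨φ x, apply_mem hφ x⟩ = τ ⟨x, src_le hφ x.2⟩) ∧
      ∀ a : S, (∀ (P : Subgroup Ω) (φ : P →* Ω) (hφ : φ ∈ F.Hom P) (x : P) (k : ℕ),
        (x : Ω) = (a : Ω) ^ k → θ ⟨φ x, apply_mem hφ x⟩ = θ ⟨x, src_le hφ x.2⟩) → τ a = θ a ^ m := by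
  obtain ⟨X, iX, fX, hg, hst, m, hm, hpm⟩ := exists_biset hS hF
  refine ⟨m, hpm, fun {A} _ θ => ?_⟩
  have hne : Nonempty X := by
    refine (Nat.card_pos_iff.mp ?_).1
    rw [hm]
    exact Nat.mul_pos Nat.card_pos (Nat.pos_of_ne_zero fun h => hpm (h ▸ dvd_zero p))
  obtain ⟨z₀⟩ := hne
  let ψ := MonoidHom.id (equivGroup S X)
  haveI : (orbitStab ψ z₀).FiniteIndex := Subgroup.finiteIndex_of_finite
  have hidx : (orbitStab ψ z₀).index = m := by
    have := card_eq hg ψ z₀ (transitive_equivGroup hg z₀)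
    rw [hm] at this
    exact (Nat.eq_of_mul_eq_mul_left Nat.card_pos this).symm
  let tr := MonoidHom.transfer (θ.comp (ev hg ψ z₀))
  refine ⟨tr.comp (lft S X), fun P φ hφ x => ?_, fun a ha => ?_⟩
  · obtain ⟨ε, hε⟩ := exists_twist hst hφ
    have : lft S X ⟨φ x, apply_mem hφ x⟩ * ε = ε * lft S X ⟨x, src_le hφ x.2⟩ :=
      Subtype.ext (Equiv.ext fun z => (hε x 1 z).symm)
    have h := congrArg tr this
    rw [map_mul, map_mul, mul_comm (tr ε)] at h
    exact mul_right_cancel h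
  · classical
    haveI := (orbitStab ψ z₀).fintypeQuotientOfFiniteIndex
    show tr (lft S X a) = _
    simp only [tr, MonoidHom.transfer_eq_prod_quotient_orbitRel_zpowers_quot]
    rw [← hidx, Subgroup.index_eq_sum_minimalPeriod (orbitStab ψ z₀) (lft S X a),
      ← Finset.prod_pow_eq_pow_sum]
    refine Finset.prod_congr rfl fun q _ => ?_
    have hf := factor_fixed hg ψ z₀ (a := a) (â := lft S X a) rfl _ _
      (QuotientGroup.out_conj_pow_minimalPeriod_mem (orbitStab ψ z₀) (lft S X a) q.out)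
    obtain ⟨P, φ, hφ, x, hx, hxs⟩ := exists_of_mem_stab hg hf
    have h := ha P φ hφ x _ (by rw [hx, SubmonoidClass.coe_pow])
    refine Eq.trans (Eq.trans ?_ h) ?_
    · exact congrArg θ (Subtype.ext hxs.symm)
    · rw [← map_pow]
      exact congrArg θ (Subtype.ext hx)

end Cfsg.Agent.Lib.FS.Control
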