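/-
Control of the focal subgroup by `N_F(W(S))`.
-/
import Cfsg.Agent.Lib.FusionSystem.ControlResults
import Cfsg.Agent.Lib.FusionSystem.TransferRel
set_option autoImplicit false
set_option linter.style.haveILetI false
set_option linter.unusedSectionVars false

namespace Cfsg.Agent.Lib.FS.Control

open scoped commutatorElement

open Cfsg Cfsg.FusionSystem Cfsg.Agent.Lib Cfsg.Agent.Lib.FS

universe u

variable {Ω : Type u} [Group Ω] {S : Subgroup Ω} [Finite S] {p : ℕ} [Fact p.Prime] {F : FusionSystem S}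

/-- One step down in the series of a normal subgroup on which every map acts as an element of `S`. -/
theorem movesIn_descend (hS : IsPGroup p S) (hF : F.IsSaturated p) {X U₁ : Subgroup Ω} (hXS : X ≤ S)
    (hXfoc : X ≤ F.focalSubgroup)
    (hXd : ∀ g ∈ S, ∀ x ∈ S, x⁻¹ * (g * x * g⁻¹) ∈ X) (hUS : U₁ ≤ S)
    (hUn : S ≤ Subgroup.normalizer (U₁ : Set Ω))
    (hact : ∀ (P : Subgroup Ω) (φ : P →* Ω), φ ∈ F.Hom P →
      ∃ g ∈ S, ∀ x : P, (x : Ω) ∈ U₁ → φ x = g * (x : Ω) * g⁻¹)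
    (hall : AllMaps F (MovesIn (X ⊔ U₁))) : AllMaps F (MovesIn (X ⊔ ⁅U₁, S⁆)) := by
  have hU₂ : ⁅U₁, S⁆ ≤ S := Subgroup.commutator_le.2 fun a ha b hb => by
    rw [commutatorElement_def]
    exact S.mul_mem (S.mul_mem (S.mul_mem (hUS ha) hb) (S.inv_mem (hUS ha))) (S.inv_mem hb)
  set X₂ := X ⊔ ⁅U₁, S⁆ with hX₂
  have hX₂S : X₂ ≤ S := sup_le hXS hU₂
  haveI hn : (X₂.subgroupOf S).Normal := by
    refine ⟨fun y hy g => Subgroup.mem_subgroupOf.2 ?_⟩
    have h := Subgroup.mem_sup_left (T := ⁅U₁, S⁆) (hXd g g.2 y y.2)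
    have := X₂.mul_mem (Subgroup.mem_subgroupOf.1 hy) h
    rwa [mul_inv_cancel_left] at this
  let θ := QuotientGroup.mk' (X₂.subgroupOf S)
  have hker : ∀ s : S, θ s = 1 ↔ (s : Ω) ∈ X₂ := fun s =>
    (QuotientGroup.eq_one_iff s).trans Subgroup.mem_subgroupOf
  have hcomm : ∀ u v : S ⧸ X₂.subgroupOf S, u * v = v * u := by
    intro u v
    obtain ⟨a, rfl⟩ := QuotientGroup.mk'_surjective _ u
    obtain ⟨b, rfl⟩ := QuotientGroup.mk'_surjective _ v
    have h1 : θ (b⁻¹ * (a * b * a⁻¹)) = 1 := (hker _).2 (Subgroup.mem_sup_left (hXd a a.2 b b.2))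
    simp only [map_mul, map_inv] at h1
    show θ a * θ b = θ b * θ a
    exact mul_inv_eq_iff_eq_mul.1 (inv_mul_eq_one.1 h1).symm
  let _ : CommGroup (S ⧸ X₂.subgroupOf S) :=
    { (inferInstance : Group (S ⧸ X₂.subgroupOf S)) with mul_comm := hcomm }
  obtain ⟨m, hm, hτ⟩ := exists_invariant_hom_rel hS hF
  obtain ⟨τ, hinv, hfix⟩ := hτ θ
  intro P φ hφ x
  set y : S := (⟨x, src_le hφ x.2⟩ : S)⁻¹ * ⟨φ x, apply_mem hφ x⟩ with hy
  have hyX : (y : Ω) ∈ ((X ⊔ U₁ : Subgroup Ω) : Set Ω) := hall P φ hφ x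
  have hXn : X ≤ Subgroup.normalizer (U₁ : Set Ω) := hXS.trans hUn
  rw [Subgroup.coe_mul_of_left_le_normalizer_right X U₁ hXn] at hyX
  obtain ⟨a, ha, u, hu, hau⟩ := hyX
  have hτy : τ y = 1 := by rw [hy, map_mul, map_inv, hinv P φ hφ x, inv_mul_cancel]
  -- `τ` kills `a` and is the power map on `u`
  have hθX : ∀ s : S, (s : Ω) ∈ X₂ → θ s = 1 := fun s hs => (hker s).2 hs
  have hτu : τ ⟨u, hUS hu⟩ = θ ⟨u, hUS hu⟩ ^ m := by
    refine hfix _ fun P' φ' hφ' x' k hx' => ?_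
    have hx'U : (x' : Ω) ∈ U₁ := by rw [hx']; exact U₁.pow_mem hu k
    obtain ⟨g, hg, eg⟩ := hact P' φ' hφ'
    have h1 : θ ((⟨φ' x', apply_mem hφ' x'⟩ : S) * (⟨x', src_le hφ' x'.2⟩ : S)⁻¹) = 1 := by
      refine hθX _ (Subgroup.mem_sup_right ?_)
      show φ' x' * (x' : Ω)⁻¹ ∈ ⁅U₁, S⁆
      have h := (⁅U₁, S⁆).inv_mem (Subgroup.commutator_mem_commutator hx'U hg)
      rw [commutatorElement_inv, commutatorElement_def] at h
      rwa [eg x' hx'U]
    rw [map_mul, map_inv, mul_inv_eq_one] at h1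
    exact h1
  have hτa : θ ⟨a, hXS ha⟩ = 1 := hθX _ (Subgroup.mem_sup_left ha)
  obtain ⟨k, hk⟩ := hS ⟨u, hUS hu⟩
  suffices h : θ y = 1 from (hker y).1 h
  have hsplit : y = ⟨a, hXS ha⟩ * ⟨u, hUS hu⟩ := Subtype.ext hau.symm
  rw [hsplit, map_mul, hτa, one_mul]
  -- `τ a` is a power of an element of `X₂`
  have hb : τ y = τ ⟨a, hXS ha⟩ * θ ⟨u, hUS hu⟩ ^ m := by rw [hsplit, map_mul, hτu]
  rw [hτy] at hb
  have hle : F.focalSubgroup ≤ (τ.ker).map S.subtype := by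
    refine (Subgroup.closure_le _).mpr ?_
    rintro _ ⟨P', φ', x', hφ', rfl⟩
    refine ⟨(⟨x', src_le hφ' x'.2⟩ : S)⁻¹ * ⟨φ' x', apply_mem hφ' x'⟩, ?_, rfl⟩
    show τ _ = 1
    rw [map_mul, map_inv, hinv P' φ' hφ' x', inv_mul_cancel]
  obtain ⟨s, hs, hsa⟩ := hle (hXfoc ha)
  rw [show (⟨a, hXS ha⟩ : S) = s from Subtype.ext hsa.symm, show τ s = 1 from hs, one_mul] at hb
  have h2 : θ ⟨u, hUS hu⟩ ^ p ^ k = 1 := by rw [← map_pow, hk, map_one]
  rw [← pow_one (θ ⟨u, hUS hu⟩), ← (((Nat.Prime.coprime_iff_not_dvd Fact.out).2 hm).pow_left k)]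
  exact pow_gcd_eq_one.2 ⟨h2, hb.symm⟩

variable {W : ∀ (Q : Type u) [Group Q], Subgroup Q}

theorem focal_all (hW1 : ∀ (Q : Type u) [Group Q] [Finite Q], IsPGroup p Q → Nontrivial Q → W Q ≠ ⊥)
    (hW2 : ∀ (Q R : Type u) [Group Q] [Group R] [Finite Q], IsPGroup p Q → ∀ φ : Q ≃* R,
      (W Q).map φ.toMonoidHom = W R)
    (hT : ∀ (G : Type u) [Group G] [Finite G] (P : Sylow p G),
      Subgroup.centralizer ((pCore p G : Subgroup G) : Set G) ≤ pCore p G →
      pCore p G ⊓ commutator G = pCore p G ⊓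
        (commutator ↥(Subgroup.normalizer (wOf W (P : Subgroup G) : Set G))).map
          (Subgroup.normalizer (wOf W (P : Subgroup G) : Set G)).subtype) :
    ∀ (n m : ℕ) {Ω : Type u} [Group Ω] {S : Subgroup Ω} [Finite S] (F : FusionSystem S),
      Nat.card S = n → homCount F = m → IsPGroup p S → F.IsSaturated p →
      ∀ X : Subgroup Ω, NormMaps F (wOf W S) (MovesIn X) → AllMaps F (MovesIn X) := by
  intro n
  induction n using Nat.strong_induction_on with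
  | _ n ihn =>
  intro m
  induction m using Nat.strong_induction_on with
  | _ m ihm =>
  intro Ω _ S _ F hn hm hS hF X' hN'
  set X := Subgroup.closure {y : Ω | ∃ (P : Subgroup Ω) (φ : P →* Ω) (x : P),
    φ ∈ F.normalizerHom (wOf W S) P ∧ y = (x : Ω)⁻¹ * φ x} with hXdef
  have hXle : X ≤ X' := (Subgroup.closure_le _).2 fun y ⟨P, φ, x, hφ, e⟩ => e ▸ hN' P φ hφ x
  have hN : NormMaps F (wOf W S) (MovesIn X) := fun P φ hφ x => Subgroup.subset_closure ⟨P, φ, x, hφ, rfl⟩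
  suffices hAll : AllMaps F (MovesIn X) from fun P φ hφ x => hXle (hAll P φ hφ x)
  have hXS : X ≤ S := (Subgroup.closure_le _).2 fun y ⟨P, φ, x, hφ, e⟩ =>
    e ▸ S.mul_mem (S.inv_mem (src_le hφ.1 x.2)) (apply_mem hφ.1 x)
  have hXfoc : X ≤ F.focalSubgroup := Subgroup.closure_mono fun y ⟨P, φ, x, hφ, e⟩ => ⟨P, φ, x, hφ.1, e⟩
  have hWn := le_normalizer_wOf hW2 hS
  have hXd : ∀ g ∈ S, ∀ x ∈ S, x⁻¹ * (g * x * g⁻¹) ∈ X := by
    intro g hg x hx
    refine Subgroup.subset_closure ⟨S, conjHom S g, ⟨x, hx⟩, ⟨F.conj_mem le_rfl hg, le_inf le_rfl hWn,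
      fun y => ⟨apply_mem (F.conj_mem le_rfl hg) y, hWn (apply_mem (F.conj_mem le_rfl hg) y)⟩,
      conjHom _ g, F.conj_mem (sup_le le_rfl (wOf_le S)) hg, fun y => rfl, ?_⟩, rfl⟩
    haveI : Finite (wOf W S) := finite_sub (S := S) (wOf_le S)
    exact map_subgroupOf_eq_of_mapsTo (F.conj_mem (sup_le le_rfl (wOf_le S)) hg) le_sup_right
      fun y hy => conj_mem_of_normalizer (hWn hg) hy
  have IH : ∀ (T : Subgroup Ω) (E : FusionSystem T), IsPGroup p T → E.IsSaturated p →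
      (Nat.card T < Nat.card S ∨ (T = S ∧ homCount E < homCount F)) → T ≤ S →
      NormMaps E (wOf W T) (MovesIn X) → AllMaps E (MovesIn X) := by
    intro T E hT' hE hlt hTS h
    haveI := finite_sub hTS
    rcases hlt with hlt | ⟨rfl, hlt⟩
    · exact ihn _ (hn ▸ hlt) _ E rfl rfl hT' hE X h
    · exact ihm _ (hm ▸ hlt) E hn rfl hT' hE X h
  have hM := isMapClass_movesIn F X
  have hsys : ∀ H : Subgroup Ω, H ≤ S → S ≤ Subgroup.normalizer (H : Set Ω) → ¬ F.IsNormal H →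
      NormMaps F H (MovesIn X) := by
    intro H hH hSH hnn
    obtain ⟨E, hE⟩ := exists_normalizerSystem F hH
    have heq : normalizerIn S H = S := inf_eq_left.2 hSH
    have hall := IH _ E (isPGroup_of_le hS (normalizerIn_le H))
      (normalizerSystem_isSaturated hS hF (isFullyNormalized_of_le_normalizer hH hSH) hE)
      (normalizerSystem_lt hH hE (Or.inr hnn)) (normalizerIn_le H) (fun P φ hφ => hN P φ (by
        rw [show wOf W (normalizerIn S H) = wOf W S by rw [heq]] at hφ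
        exact normalizerHom_sub (normalizerIn_le H) (fun P φ h => ((hE P).le h).1) _ _ hφ))
    exact fun P φ hφ => hall P φ ((hE P).ge hφ)
  by_cases hcore : F.core = ⊥
  · refine maps_of_core_eq_bot hS hF hW1 hW2 hM hcore hN fun H hH E hE hlt hNE => ?_
    exact IH _ E (isPGroup_of_le hS (normalizerIn_le H)) (normalizerSystem_isSaturated hS hF hH hE)
      (normalizerSystem_lt hH.1 hE hlt) (normalizerIn_le H) hNE
  set U := F.core with hUdef
  have hU : F.IsNormal U := FusionAlperin.Join.isNormal_core F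
  have hUn := isNormal_le_normalizer hU
  -- everything moves within `X U`
  obtain ⟨Ω', _, θ, F', hθ, hker, hfin', hp', hsat', hfac, hlt'⟩ :=
    exists_factor hS hF (isNormal_stronglyClosed hU) hcore
  haveI := hfin'
  have hall' : AllMaps F' (MovesIn (imageAlong θ X)) := by
    refine ihn _ (hn ▸ hlt') _ F' rfl rfl hp' hsat' _ ?_
    intro P' φ' hφ' x'
    by_cases htop : (⊤ : Subgroup Ω') = ⊥
    · have h1 : ∀ y : Ω', y = 1 := fun y => Subgroup.mem_bot.1 (htop ▸ Subgroup.mem_top y)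
      rw [h1 ((x' : Ω')⁻¹ * φ' x')]; exact one_mem _
    set Y := preimageAlong θ (wOf W (⊤ : Subgroup Ω')) with hY
    have hYS : Y ≤ S := preimageAlong_le θ _
    have hYn : S ≤ Subgroup.normalizer (Y : Set Ω) := fun s hs => by
      haveI := finite_sub hYS
      refine mem_normalizer_of_conj_mem ?_
      rintro _ ⟨x, hx, rfl⟩
      refine ⟨⟨s, hs⟩ * x * (⟨s, hs⟩ : S)⁻¹, ?_, rfl⟩
      show θ _ ∈ wOf W ⊤
      rw [map_mul, map_mul, map_inv]
      exact conj_mem_of_normalizer (le_normalizer_wOf hW2 hp' (Subgroup.mem_top _)) hx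
    have hYnn : ¬ F.IsNormal Y := by
      intro h
      refine wOf_ne_bot hW1 hp' htop (le_bot_iff.1 fun y hy => ?_)
      obtain ⟨s, rfl⟩ := hθ y
      exact Subgroup.mem_bot.2 ((hker s).2 (le_core_of_isNormal h ⟨s, hy, rfl⟩))
    obtain ⟨φ, hφ, hind⟩ := normalizerHom_lift hS hF (isNormal_stronglyClosed hU) hfac le_top hYn hφ'
    obtain ⟨hP, hv, hm', e⟩ := hind
    obtain ⟨s, hs⟩ := hθ x'
    have hxP : (s : Ω) ∈ preimageAlong θ P' := ⟨s, by show θ s ∈ P'; rw [hs]; exact x'.2, rfl⟩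
    refine ⟨⟨(s : Ω)⁻¹ * φ ⟨s, hxP⟩, S.mul_mem (S.inv_mem s.2) (hv _)⟩,
      Subgroup.mem_subgroupOf.2 (hsys Y hYS hYn hYnn _ φ hφ ⟨s, hxP⟩), ?_⟩
    rw [show (⟨(s : Ω)⁻¹ * φ ⟨s, hxP⟩, S.mul_mem (S.inv_mem s.2) (hv _)⟩ : S) = s⁻¹ * ⟨φ ⟨s, hxP⟩, hv _⟩ from rfl,
      map_mul, map_inv, hs, ← e ⟨s, hxP⟩]
    exact congrArg (fun z : P' => (x' : Ω')⁻¹ * φ' z) (Subtype.ext hs)
  have hXU : AllMaps F (MovesIn (X ⊔ U)) := by
    intro P φ hφ x
    obtain ⟨φ', hφ', hP, hv, hm', e⟩ :=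
      (factor_isSurjectiveMorphism hS hF (isNormal_stronglyClosed hU) hfac).1.2 P φ hφ
    obtain ⟨a, ha, hae⟩ := hall' _ φ' hφ' ⟨_, hm' x⟩
    rw [e x] at hae
    have hd : θ (a⁻¹ * ((⟨x, hP x.2⟩ : S)⁻¹ * ⟨φ x, hv x⟩)) = 1 := by
      rw [map_mul, map_inv, map_mul, map_inv, hae, inv_mul_cancel]
    have := (X ⊔ U).mul_mem (Subgroup.mem_sup_left (Subgroup.mem_subgroupOf.1 ha))
      (Subgroup.mem_sup_right ((hker _).1 hd))
    convert this using 1
    show (x : Ω)⁻¹ * φ x = (a : Ω) * ((a : Ω)⁻¹ * ((x : Ω)⁻¹ * φ x))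
    group
  by_cases hcen : centralizerIn S U ≤ U
  · -- constrained: the group statement in a model
    obtain ⟨G, _, ι, hM'⟩ := FusionAlperin.Model.exists_model_of_constrained hS
      (⟨hF, U, hU, isCentric_of_isNormal hU hcen⟩ : F.IsConstrained p)
    obtain ⟨hfin, hr, ⟨T, hT'⟩, hCO⟩ := id hM'
    haveI := hfin
    have hW' : wOf W (T : Subgroup G) = (W ↥S).map ι := by rw [hT']; exact wOf_sylow hW2 hS hr.1
    have hgen : ∀ (P : Subgroup Ω) (φ : P →* Ω) (hφ : φ ∈ F.Hom P) (x : P),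
        ι ((⟨x, src_le hφ x.2⟩ : S)⁻¹ * ⟨φ x, apply_mem hφ x⟩) ∈ commutator G := by
      intro P φ hφ x
      obtain ⟨g, hg⟩ := (hr.2 P (src_le hφ) φ (apply_mem hφ)).1 hφ
      rw [map_mul, map_inv, hg, commutator_def]
      have := Subgroup.commutator_mem_commutator (H₁ := (⊤ : Subgroup G)) (H₂ := (⊤ : Subgroup G))
        (Subgroup.mem_top (ι ⟨x, src_le hφ x.2⟩)⁻¹) (Subgroup.mem_top g)
      rw [commutatorElement_def] at this
      convert this using 1
      group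
    have hXG : ∀ a (ha : a ∈ X), ι ⟨a, hXS ha⟩ ∈ commutator G := by
      have hle : X ≤ ((commutator G).comap ι).map S.subtype := (Subgroup.closure_le _).2
        fun y ⟨P, φ, x, hφ, e⟩ => ⟨_, hgen P φ hφ.1 x, e.symm⟩
      intro a ha
      obtain ⟨s, hs, hse⟩ := hle ha
      rwa [show (⟨a, hXS ha⟩ : S) = s from Subtype.ext hse.symm]
    intro P φ hφ x
    have hy : (x : Ω)⁻¹ * φ x ∈ ((X ⊔ U : Subgroup Ω) : Set Ω) := hXU P φ hφ x
    rw [Subgroup.coe_mul_of_left_le_normalizer_right X U (hXS.trans hUn)] at hy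
    obtain ⟨a, ha, u, hu, hau⟩ := hy
    have hu' : ι ⟨u, hU.1 hu⟩ ∈ pCore p G ⊓ commutator G := by
      refine ⟨by rw [model_pCore_eq hM']; exact ⟨_, hu, rfl⟩, ?_⟩
      have h1 := hgen P φ hφ x
      rw [show ((⟨x, src_le hφ x.2⟩ : S)⁻¹ * ⟨φ x, apply_mem hφ x⟩) = ⟨a, hXS ha⟩ * ⟨u, hU.1 hu⟩ from
        Subtype.ext hau.symm, map_mul] at h1
      have := (commutator G).mul_mem ((commutator G).inv_mem (hXG a ha)) h1
      rwa [inv_mul_cancel_left] at this
    rw [hT G T hCO] at hu'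
    set N := Subgroup.normalizer (wOf W (T : Subgroup G) : Set G) with hNdef
    obtain ⟨-, n', hn', hne⟩ := hu'
    have hTN : (T : Subgroup G) ≤ N := le_normalizer_wOf hW2 T.isPGroup'
    have hfoc : n' ∈ (T.subtype hTN : Subgroup N).focalSubgroup := by
      rw [← Subgroup.commutator_inf_eq_focalSubgroup]
      refine ⟨hn', ?_⟩
      show n' ∈ (T.subtype hTN : Subgroup N)
      rw [Sylow.coe_subtype, Subgroup.mem_subgroupOf, hT']
      exact ⟨_, hne.symm⟩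
    have hle : (T.subtype hTN : Subgroup N).focalSubgroup ≤ ((X.subgroupOf S).map ι).subgroupOf N := by
      rw [Subgroup.focalSubgroup_def]
      refine (Subgroup.closure_le _).2 ?_
      rintro _ ⟨hg', a', ha', b', rfl⟩
      rw [Sylow.coe_subtype, Subgroup.mem_subgroupOf, hT'] at hg' ha'
      obtain ⟨s, hs⟩ := ha'
      obtain ⟨r, hr'⟩ := hg'
      -- `⁅a, b⁆ = s (b s⁻¹ b⁻¹)`
      have hconj : (b' : G) * ι s⁻¹ * (b' : G)⁻¹ ∈ ι.range := by
        refine ⟨s⁻¹ * r, ?_⟩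
        rw [map_mul, map_inv, hr', hs]
        show (a' : G)⁻¹ * ((⁅a', b'⁆ : N) : G) = _
        rw [commutatorElement_def]
        simp only [Subgroup.coe_mul, Subgroup.coe_inv]
        group
      obtain ⟨ψ, hψ, eψ⟩ := mem_normalizerHom_of_conj hW2 hS hr (x := s⁻¹) (hW' ▸ b'.2) hconj
      refine ⟨⟨(s⁻¹ : S), (s⁻¹ : S).2⟩⁻¹ * ⟨ψ ⟨_, Subgroup.mem_zpowers _⟩, apply_mem hψ.1 _⟩, ?_, ?_⟩
      · exact Subgroup.mem_subgroupOf.2 (hN _ ψ hψ ⟨_, Subgroup.mem_zpowers _⟩)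
      · rw [map_mul, map_inv, eψ, show (⟨((s⁻¹ : S) : Ω), (s⁻¹ : S).2⟩ : S) = s⁻¹ from rfl]
        show _ = ((⁅a', b'⁆ : N) : G)
        rw [commutatorElement_def, map_inv, hs]
        simp only [Subgroup.coe_mul, Subgroup.coe_inv]
        group
    obtain ⟨v, hv, hve⟩ := hle hfoc
    rw [show N.subtype n' = ι ⟨u, hU.1 hu⟩ from hne] at hve
    have hvu : v = ⟨u, hU.1 hu⟩ := hr.1 hve
    show (x : Ω)⁻¹ * φ x ∈ X
    rw [← hau]
    exact X.mul_mem ha (by rw [hvu] at hv; exact hv)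
  set D := U ⊔ centralizerIn S U with hD
  have hDS : D ≤ S := sup_le hU.1 (centralizerIn_le U)
  have hDn : NormMaps F D (MovesIn X) := by
    refine hsys D hDS (fun s hs => ?_) fun h => hcen (le_sup_right.trans (le_core_of_isNormal h))
    haveI := finite_sub hDS
    have h1 : D ≤ D.comap (MulAut.conj s).toMonoidHom := by
      refine sup_le (fun x hx => Subgroup.mem_sup_left (conj_mem_of_normalizer (hUn hs) hx))
        (fun c hc => Subgroup.mem_sup_right ⟨S.mul_mem (S.mul_mem hs hc.1) (S.inv_mem hs), fun x hx => ?_⟩)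
      have h := hc.2 _ (conj_inv_mem_of_normalizer (hUn hs) hx)
      show x * (s * c * s⁻¹) = s * c * s⁻¹ * x
      calc x * (s * c * s⁻¹) = s * ((s⁻¹ * x * s) * c) * s⁻¹ := by group
        _ = _ := by rw [h]; group
    exact mem_normalizer_of_conj_mem fun x hx => h1 hx
  obtain ⟨K, hKs, hKsub, hKext, hKmem⟩ := exists_kBase hS hF hU
  by_cases hKF : ∃ P φ, φ ∈ F.Hom P ∧ φ ∉ K.Hom P
  · refine maps_of_decomp hS hF hM hU hDn fun P φ hφ hUP hfix => ?_
    refine IH S K hS hKs (Or.inr ⟨rfl, homCount_lt rfl hKsub hKF⟩) le_rfl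
      (fun P φ h => hN P φ (normalizerHom_sub le_rfl hKsub _ _ h)) P φ (hKmem P φ hφ hUP ⟨1, S.one_mem, fun x hx => ?_⟩)
    rw [hfix x hx]; group
  push_neg at hKF
  -- descend through `U`
  suffices h : ∀ (k : ℕ) (U₁ : Subgroup Ω), Nat.card U₁ = k → U₁ ≤ U →
      S ≤ Subgroup.normalizer (U₁ : Set Ω) → AllMaps F (MovesIn (X ⊔ U₁)) → AllMaps F (MovesIn X) from
    h _ U rfl le_rfl hUn hXU
  intro k
  induction k using Nat.strong_induction_on with
  | _ k ihk =>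
  intro U₁ hk hle hn₁ hall
  haveI := finite_sub (hle.trans hU.1)
  by_cases hb : U₁ = ⊥
  · rw [hb, sup_bot_eq] at hall; exact hall
  have hstep := movesIn_descend hS hF hXS hXfoc hXd (hle.trans hU.1) hn₁ (fun P φ hφ => ?_) hall
  swap
  · obtain ⟨ψ, hψ, eψ, g, hg, eg⟩ := hKext P φ (hKF P φ hφ)
    exact ⟨g, hg, fun y hy => by
      rw [← eψ]; exact (congrArg ψ (Subtype.ext rfl)).trans (eg ⟨y, hle hy⟩)⟩
  have h2le : ⁅U₁, S⁆ ≤ U₁ := Subgroup.commutator_le.2 fun a ha b hb' => by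
    rw [commutatorElement_def, show a * b * a⁻¹ * b⁻¹ = a * (b * a⁻¹ * b⁻¹) by group]
    exact U₁.mul_mem ha (conj_mem_of_normalizer (hn₁ hb') (U₁.inv_mem ha))
  have h2lt : ⁅U₁, S⁆ ≠ U₁ := by
    intro e
    obtain ⟨j, hj⟩ := (Subgroup.isNilpotent_iff_lowerCentralSeries S).1 hS.isNilpotent
    have hser : ∀ i, U₁ ≤ S.lowerCentralSeries i := by
      intro i
      induction i with
      | zero => exact hle.trans hU.1
      | succ i ih => rw [← e, Subgroup.lowerCentralSeries_succ]; exact Subgroup.commutator_mono ih le_rfl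
    exact hb (le_bot_iff.1 (hj ▸ hser j))
  refine ihk _ (hk ▸ lt_of_le_of_ne (Subgroup.card_le_of_le h2le) fun e =>
    h2lt (Subgroup.eq_of_le_of_card_ge h2le e.ge)) _ rfl (h2le.trans hle) (fun s hs => ?_) hstep
  haveI := finite_sub (h2le.trans (hle.trans hU.1))
  refine mem_normalizer_of_conj_mem fun y hy => ?_
  have hle' : ⁅U₁, S⁆ ≤ (⁅U₁, S⁆).comap (MulAut.conj s).toMonoidHom := Subgroup.commutator_le.2 fun a ha b hb' => by
    show (MulAut.conj s).toMonoidHom ⁅a, b⁆ ∈ ⁅U₁, S⁆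
    rw [map_commutatorElement]
    exact Subgroup.commutator_mem_commutator (conj_mem_of_normalizer (hn₁ hs) ha)
      (S.mul_mem (S.mul_mem hs hb') (S.inv_mem hs))
  exact hle' hy

end Cfsg.Agent.Lib.FS.Control

namespace Cfsg.Agent.Lib.FS.Control

open Cfsg Cfsg.FusionSystem Cfsg.Agent.Lib Cfsg.Agent.Lib.FS

universe v

theorem center_eq {p : ℕ} [Fact p.Prime] {W : ∀ (Q : Type v) [Group Q], Subgroup Q}
    (hW1 : ∀ (Q : Type v) [Group Q] [Finite Q], IsPGroup p Q → Nontrivial Q → W Q ≠ ⊥)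
    (hW2 : ∀ (Q R : Type v) [Group Q] [Group R] [Finite Q], IsPGroup p Q → ∀ φ : Q ≃* R,
      (W Q).map φ.toMonoidHom = W R)
    (hC : ∀ (G : Type v) [Group G] [Finite G] (P : Sylow p G), pCore p G ⊓ Subgroup.center G =
      pCore p G ⊓ (Subgroup.center ↥(Subgroup.normalizer (wOf W (P : Subgroup G) : Set G))).map
        (Subgroup.normalizer (wOf W (P : Subgroup G) : Set G)).subtype)
    {Ω : Type v} [Group Ω] {S : Subgroup Ω} [Finite S] (hS : IsPGroup p S) (F : FusionSystem S)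
    (hF : F.IsSaturated p) (N : FusionSystem (normalizerIn S (wOf W S)))
    (hN : F.IsNormalizerSystem (wOf W S) N) : N.center = F.center := by
  have hWn := le_normalizer_wOf hW2 hS
  have heq : normalizerIn S (wOf W S) = S := inf_eq_left.2 hWn
  haveI : Finite (normalizerIn S (wOf W S)) := finite_sub (S := S) (normalizerIn_le _)
  have hNp : IsPGroup p (normalizerIn S (wOf W S)) := isPGroup_of_le hS (normalizerIn_le _)
  have hNs := normalizerSystem_isSaturated hS hF (isFullyNormalized_of_le_normalizer (wOf_le S) hWn) hN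
  refine le_antisymm (fun z hz => ?_) (fun z hz => ?_)
  · have hcen : N.IsCentral N.center := FusionAlperin.Join.isCentral_center N
    have hzS : z ∈ S := normalizerIn_le _ (hcen.1 hz)
    suffices hc : F.IsCentral (Subgroup.zpowers z) from
      le_sSup (show Subgroup.zpowers z ∈ {Q | F.IsCentral Q} from hc) (Subgroup.mem_zpowers z)
    refine (isCentral_iff hS hF).2 ⟨Subgroup.zpowers_le.2 hzS, ?_⟩
    intro x hxz y ⟨φ, hφ, hy⟩
    have hx : x ∈ N.center := Subgroup.zpowers_le.2 hz hxz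
    have hxS : x ∈ S := normalizerIn_le _ (hcen.1 hx)
    have hxc : ∀ g ∈ S, g * x = x * g := fun g hg => by
      have h : g * x * g⁻¹ = x := ((isCentral_iff hNp hNs).1 hcen).2 x hx _ ⟨conjHom _ g,
        N.conj_mem (Subgroup.zpowers_le.2 (hcen.1 hx)) (by rw [heq]; exact hg), rfl⟩
      exact mul_inv_eq_iff_eq_mul.1 h
    have hfixN : NormMaps F (wOf W S) (Fixes x) := fun P ψ hψ v hv => by
      obtain ⟨ψ', -, he, hfix⟩ := hcen.2 P ψ ((hN P).ge hψ)
      rw [← he]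
      refine (congrArg ψ' (Subtype.ext (show (v : Ω) = _ from hv))).trans (hfix ⟨x, hx⟩)
    rw [← hy]
    exact fixes_all hW1 hW2 hC _ _ F rfl rfl hS hF x hxS hxc hfixN _ φ hφ ⟨x, Subgroup.mem_zpowers x⟩ rfl
  · have hcen : F.IsCentral F.center := FusionAlperin.Join.isCentral_center F
    have hzS : z ∈ S := hcen.1 hz
    suffices hc : N.IsCentral (Subgroup.zpowers z) from
      le_sSup (show Subgroup.zpowers z ∈ {Q | N.IsCentral Q} from hc) (Subgroup.mem_zpowers z)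
    refine (isCentral_iff hNp hNs).2 ⟨?_, fun x hx y ⟨φ, hφ, hy⟩ => ?_⟩
    · rw [Subgroup.zpowers_le, heq]; exact hzS
    · exact ((isCentral_iff hS hF).1 hcen).2 x (Subgroup.zpowers_le.2 hz hx) y ⟨φ, ((hN _).le hφ).1, hy⟩

end Cfsg.Agent.Lib.FS.Control
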