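/-
`Qd(p)`-freeness of a fusion system: the local form, and its inheritance.
-/
import Cfsg.Agent.S5206
import Cfsg.Agent.Lib.FusionSystem.Factor
import Cfsg.Agent.Lib.FusionSystem.Normalizer
import Cfsg.Agent.Lib.Transfer.FusionLocal

set_option autoImplicit false
set_option linter.style.haveILetI false
set_option linter.unusedSectionVars false

namespace Cfsg.Agent.Lib.FS.SectionFree

open Cfsg Cfsg.FusionSystem Cfsg.Agent.Lib Cfsg.Agent.Lib.FS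
open Cfsg.Agent.Lib.Tech42.QdRankTwo Cfsg.Agent.Lib.Transfer.InvolvesS4

universe u

variable {p : ℕ} [Fact p.Prime]

/-- A section of type `C_p × C_p` on which the normaliser acts as `SL₂(p)` does gives `Qd(p)`. -/
theorem involves_of_action (hp : p ≠ 2) {G : Type*} [Group G] [Finite G] {R : Subgroup G}
    (hR : IsPGroup p R) (θ : R →* ↥(Cfsg.qd p)) (hθ : θ.range = transSub p)
    (hcover : ∀ q : ↥(Cfsg.qd p), ∃ y ∈ Subgroup.normalizer (R : Set G),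
      ∀ r : R, ∃ h : y * r * y⁻¹ ∈ R, θ ⟨_, h⟩ = q * θ r * q⁻¹) :
    Involves ↥(Cfsg.qd p) G := by
  haveI : Fact (Nat.Prime 2) := ⟨Nat.prime_two⟩
  set Y := Subgroup.normalizer (R : Set G) with hY
  have hconj : ∀ y ∈ Y, ∀ r : R, y * r * y⁻¹ ∈ R := fun y hy r =>
    (Subgroup.mem_normalizer_iff.mp hy r).mp r.2
  let W : Subgroup (G × ↥(Cfsg.qd p)) :=
    { carrier := {z | z.1 ∈ Y ∧ ∀ a b : R, z.1 * a * z.1⁻¹ = b → θ b = z.2 * θ a * z.2⁻¹}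
      one_mem' := ⟨Y.one_mem, fun a b hab => by
        simp only [Prod.fst_one, Prod.snd_one, one_mul, inv_one, mul_one] at hab ⊢
        rw [Subtype.ext hab]⟩
      mul_mem' := by
        rintro x y ⟨hx1, hx2⟩ ⟨hy1, hy2⟩
        refine ⟨Y.mul_mem hx1 hy1, fun a b hab => ?_⟩
        simp only [Prod.fst_mul, Prod.snd_mul] at hab ⊢
        rw [hx2 ⟨_, hconj _ hy1 a⟩ b (by rw [← hab]; group), hy2 a ⟨_, hconj _ hy1 a⟩ rfl]
        group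
      inv_mem' := by
        rintro x ⟨hx1, hx2⟩
        refine ⟨Y.inv_mem hx1, fun a b hab => ?_⟩
        simp only [Prod.fst_inv, Prod.snd_inv, inv_inv] at hab ⊢
        rw [hx2 b a (by rw [← hab]; group)]
        group }
  have hWmem : ∀ y q, ((y, q) : G × ↥(Cfsg.qd p)) ∈ W ↔ y ∈ Y ∧
      ∀ a b : R, y * a * y⁻¹ = b → θ b = q * θ a * q⁻¹ := fun y q => Iff.rfl
  have hcov : ∀ q, ∃ y, (y, q) ∈ W := by
    intro q
    obtain ⟨y, hy, hyr⟩ := hcover q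
    refine ⟨y, (hWmem _ _).2 ⟨hy, fun a b hab => ?_⟩⟩
    obtain ⟨h, e⟩ := hyr a
    rw [show b = ⟨_, h⟩ from Subtype.ext hab.symm, e]
  set τ := tauQ p with hτ
  have hτ2 : τ * τ = 1 := tauQ_mul_self
  obtain ⟨z, hzW, hz2⟩ : ∃ z, (z, τ) ∈ W ∧ ∃ e : ℕ, z ^ 2 ^ e = 1 := by
    obtain ⟨y, hy⟩ := hcov τ
    obtain ⟨e, m, hm, hme⟩ := Nat.exists_eq_two_pow_mul_odd (orderOf_pos y).ne'
    refine ⟨y ^ m, ?_, e, ?_⟩
    · obtain ⟨j, rfl⟩ := hm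
      have h1 := W.pow_mem hy (2 * j + 1)
      have h2 : τ ^ (2 * j + 1) = τ := by rw [pow_succ, pow_mul, pow_two, hτ2, one_pow, one_mul]
      rwa [Prod.pow_mk, h2] at h1
    · rw [← pow_mul, mul_comm, ← hme, pow_orderOf_eq_one]
  let Ct : Subgroup ↥(Cfsg.qd p) := Subgroup.centralizer ({τ} : Set ↥(Cfsg.qd p))
  have hCt : ∀ q, q ∈ Ct ↔ τ * q = q * τ := fun q => by
    rw [Subgroup.mem_centralizer_iff]; simp
  let L0 : Subgroup G :=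
    (W ⊓ (⊤ : Subgroup G).prod (Subgroup.zpowers τ)).map (MonoidHom.fst G ↥(Cfsg.qd p))
  let Yt : Subgroup G := (W ⊓ (⊤ : Subgroup G).prod Ct).map (MonoidHom.fst G ↥(Cfsg.qd p))
  have hL0 : ∀ {y}, y ∈ L0 ↔ ∃ q ∈ Subgroup.zpowers τ, (y, q) ∈ W := by
    intro y
    constructor
    · rintro ⟨⟨a, b⟩, ⟨h1, -, h2⟩, rfl⟩; exact ⟨b, h2, h1⟩
    · rintro ⟨q, h2, h1⟩; exact ⟨(y, q), ⟨h1, trivial, h2⟩, rfl⟩
  have hnorm : Yt ≤ Subgroup.normalizer (L0 : Set G) := by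
    have hstab : ∀ x ∈ Yt, ∀ l ∈ L0, x * l * x⁻¹ ∈ L0 := by
      rintro x ⟨⟨x', q⟩, ⟨hxW, -, hq⟩, rfl⟩ l hl
      obtain ⟨t, ht, hlW⟩ := hL0.mp hl
      refine hL0.mpr ⟨t, ht, ?_⟩
      obtain ⟨i, rfl⟩ := ht
      have hc : q * τ ^ i * q⁻¹ = τ ^ i := by
        have : Commute q (τ ^ i) := ((hCt q).mp hq).symm |> fun h => Commute.zpow_right h i
        rw [this.eq, mul_inv_cancel_right]
      have h1 := W.mul_mem (W.mul_mem hxW hlW) (W.inv_mem hxW)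
      simpa [hc] using h1
    intro x hx
    rw [Subgroup.mem_normalizer_iff]
    intro l
    refine ⟨hstab x hx l, fun h => ?_⟩
    simpa [mul_assoc] using hstab x⁻¹ (Yt.inv_mem hx) _ h
  have hzL : z ∈ L0 := hL0.mpr ⟨τ, Subgroup.mem_zpowers τ, hzW⟩
  obtain ⟨e, he⟩ := hz2
  have hzp : IsPGroup 2 (Subgroup.zpowers (⟨z, hzL⟩ : L0)) :=
    IsPGroup.of_card (n := Nat.log 2 (orderOf z)) (by
      obtain ⟨i, -, hi⟩ := (Nat.dvd_prime_pow Nat.prime_two).mp (orderOf_dvd_of_pow_eq_one he)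
      rw [Nat.card_zpowers, Subgroup.orderOf_mk, hi, Nat.log_pow Nat.one_lt_two])
  obtain ⟨S2, hS2⟩ := hzp.exists_le_sylow
  set S2' : Subgroup G := (S2 : Subgroup L0).map L0.subtype with hS2'
  set H : Subgroup G := Subgroup.normalizer (S2' : Set G) with hH
  have hzS2 : z ∈ S2' := ⟨⟨z, hzL⟩, hS2 (Subgroup.mem_zpowers _), rfl⟩
  have hzY : z ∈ Y := ((hWmem z τ).mp hzW).1
  have hRH : ∀ r : R, (r : G) ∈ H → θ r = 1 := by
    intro r hrH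
    have h1 : (r : G) * z * (r : G)⁻¹ * z⁻¹ = 1 := by
      refine S5206.eq_one_of_pGroup_inter (p := p) (q := 2) (B := S2') hp hR (S2.isPGroup'.map _) ?_ ?_
      · have h2 : z * (r : G)⁻¹ * z⁻¹ ∈ R := hconj z hzY r⁻¹
        simpa [mul_assoc] using R.mul_mem r.2 h2
      · exact S2'.mul_mem ((Subgroup.mem_normalizer_iff.mp hrH z).mp hzS2) (S2'.inv_mem hzS2)
    have h3 : (r : G) * z * (r : G)⁻¹ = z := mul_inv_eq_one.mp h1
    have h2 : z * (r : G) * z⁻¹ = r := by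
      calc z * (r : G) * z⁻¹ = (r * z * (r : G)⁻¹) * r * z⁻¹ := by rw [h3]
        _ = r := by group
    have h4 := ((hWmem z τ).mp hzW).2 r r h2
    refine transSub_fixed hp ?_ ?_
    · rw [← hθ]; exact ⟨_, rfl⟩
    · exact (mul_inv_eq_iff_eq_mul.mp h4.symm).symm ▸ rfl
  let Wg : Subgroup (G × ↥(Cfsg.qd p)) := W ⊓ H.prod Ct
  let g : R →* G × ↥(Cfsg.qd p) := R.subtype.prod θ
  have hWgn : Wg ≤ Subgroup.normalizer (g.range : Set (G × ↥(Cfsg.qd p))) := by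
    have hstab : ∀ x ∈ W, ∀ y ∈ g.range, x * y * x⁻¹ ∈ g.range := by
      rintro ⟨x, q⟩ hx _ ⟨r, rfl⟩
      obtain ⟨hx1, hx2⟩ := (hWmem x q).mp hx
      exact ⟨⟨x * r * x⁻¹, hconj x hx1 r⟩, Prod.ext rfl (hx2 r _ rfl)⟩
    intro x hx
    rw [Subgroup.mem_normalizer_iff]
    intro y
    refine ⟨hstab x hx.1 y, fun h => ?_⟩
    simpa [mul_assoc] using hstab x⁻¹ (W.inv_mem hx.1) _ h
  set U : Subgroup (G × ↥(Cfsg.qd p)) := Wg ⊔ g.range with hU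
  let f1 : U →* G := (MonoidHom.fst G ↥(Cfsg.qd p)).comp U.subtype
  have hinj : Function.Injective f1 := by
    rw [injective_iff_map_eq_one]
    rintro ⟨u, hu⟩ hu1
    change u.1 = 1 at hu1
    have hu' : u ∈ (U : Set (G × ↥(Cfsg.qd p))) := hu
    rw [hU, Subgroup.coe_mul_of_left_le_normalizer_right _ _ hWgn] at hu'
    obtain ⟨⟨x, q⟩, hw, _, ⟨r, rfl⟩, rfl⟩ := hu'
    obtain ⟨hwW, hxH, hqC⟩ := hw
    change x * (r : G) = 1 at hu1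
    have hx : x = (r : G)⁻¹ := eq_inv_of_mul_eq_one_left hu1
    subst hx
    have h1 : θ r = 1 := hRH r (by simpa using H.inv_mem hxH)
    have h2 : q = 1 := by
      refine S5206.eq_one_of_centralizes hp ((hCt q).mp hqC) fun v hv => ?_
      rw [← hθ] at hv
      obtain ⟨a, rfl⟩ := hv
      have h3 := ((hWmem _ q).mp hwW).2 a (r⁻¹ * a * r) (by simp)
      rw [map_mul, map_mul, map_inv, h1, inv_one, one_mul, mul_one] at h3
      exact (mul_inv_eq_iff_eq_mul.mp h3.symm)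
    apply Subtype.ext
    refine Prod.ext hu1 ?_
    change q * θ r = 1
    rw [h1, h2, one_mul]
  have hsurj : ∀ q : ↥(Cfsg.qd p), ∃ u ∈ U, u.2 = q := by
    intro q
    obtain ⟨v, hv, hvq⟩ := S5206.qd_decomp q
    obtain ⟨r, hrv⟩ : v⁻¹ ∈ θ.range := by rw [hθ]; exact (transSub p).inv_mem hv
    obtain ⟨y, hy⟩ := hcov (v * q)
    have hyt : y ∈ Yt := ⟨(y, v * q), ⟨hy, trivial, (hCt _).mpr hvq⟩, rfl⟩
    obtain ⟨l, hl, hln⟩ := S5206.frattini hnorm S2 hyt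
    obtain ⟨t, ht, hlW⟩ := hL0.mp hl
    obtain ⟨i, rfl⟩ := ht
    have hw : (y * l * z ^ (-i), v * q) ∈ Wg := by
      refine ⟨?_, H.mul_mem hln (H.zpow_mem (Subgroup.le_normalizer hzS2) _), (hCt _).mpr hvq⟩
      have h1 := W.mul_mem (W.mul_mem hy hlW) (W.zpow_mem hzW (-i))
      simpa [mul_assoc] using h1
    refine ⟨g r * (y * l * z ^ (-i), v * q), U.mul_mem (Subgroup.mem_sup_right ⟨_, rfl⟩)
      (Subgroup.mem_sup_left hw), ?_⟩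
    change θ r * (v * q) = q
    rw [hrv, inv_mul_cancel_left]
  refine involves_of_hom f1.range ((MonoidHom.snd G ↥(Cfsg.qd p)).comp (U.subtype.comp
    (MonoidHom.ofInjective hinj).symm.toMonoidHom)) fun q => ?_
  obtain ⟨u, hu, huq⟩ := hsurj q
  exact ⟨MonoidHom.ofInjective hinj ⟨u, hu⟩, by simp [huq]⟩

variable {Ω : Type u} [Group Ω] {S : Subgroup Ω} {F : FusionSystem S}

/-- `R ≤ Q`, `θ` maps `R` onto the translations, and every element of `Qd(p)` acts on the image as some map of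
`Q` to itself. -/
def QdAt (F : FusionSystem S) (p : ℕ) [Fact p.Prime] (Q R : Subgroup Ω) : Prop :=
  ∃ (hRQ : R ≤ Q) (θ : R →* ↥(Cfsg.qd p)), θ.range = transSub p ∧
    ∀ q : ↥(Cfsg.qd p), ∃ β ∈ F.Hom Q, (∀ x, β x ∈ Q) ∧
      ∀ r : R, ∃ h : β ⟨r, hRQ r.2⟩ ∈ R, θ ⟨_, h⟩ = q * θ r * q⁻¹

/-- The local form of `Qd(p)` occurring in `F`. -/
def QdPair (F : FusionSystem S) (p : ℕ) [Fact p.Prime] : Prop := ∃ R, R ≤ S ∧ QdAt F p R R

theorem QdPair.of_sub {T : Subgroup Ω} {E : FusionSystem T} (hTS : T ≤ S)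
    (hsub : ∀ P, E.Hom P ⊆ F.Hom P) (h : QdPair E p) : QdPair F p := by
  obtain ⟨R, hR, hRR, θ, hθ, hq⟩ := h
  exact ⟨R, hR.trans hTS, hRR, θ, hθ, fun q =>
    let ⟨β, hβ, h'⟩ := hq q; ⟨β, hsub _ hβ, h'⟩⟩

theorem QdPair.of_factor {Ω' : Type u} [Group Ω'] {S' : Subgroup Ω'} {θ : S →* Ω'} {F' : FusionSystem S'}
    {U : Subgroup Ω} (hF' : F.IsFactorSystem U θ F') (h : QdPair F' p) : QdPair F p := by
  obtain ⟨R', hR', _, θ', hθ', hq⟩ := h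
  obtain ⟨-, -, hr, hmem⟩ := hF'
  set R := preimageAlong θ R'
  have hRS : R ≤ S := preimageAlong_le θ R'
  let π : R →* R' := (θ.comp (Subgroup.inclusion hRS)).codRestrict R' fun x => (mem_preimageAlong.1 x.2).2
  refine ⟨R, hRS, le_rfl, θ'.comp π, ?_, fun q => ?_⟩
  · refine le_antisymm ?_ ?_
    · rintro _ ⟨x, rfl⟩; exact hθ'.le ⟨_, rfl⟩
    · intro v hv
      obtain ⟨y, rfl⟩ := hθ'.ge hv
      obtain ⟨s, hs⟩ := hr.ge (hR' y.2)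
      exact ⟨⟨s, mem_preimageAlong.2 ⟨s.2, by rw [hs]; exact y.2⟩⟩, congrArg θ' (Subtype.ext hs)⟩
  · obtain ⟨β', hβ', hQQ, hβR⟩ := hq q
    obtain ⟨-, β, hβ, hind⟩ := (hmem R' β').1 hβ'
    have e : ∀ x : R, θ ⟨β x, apply_mem hβ x⟩ = β' (π x) := fun x =>
      (inducedAlong_apply hind x _ _ _).symm
    have hm : ∀ x : R, β x ∈ R := fun x => mem_preimageAlong.2 ⟨apply_mem hβ x, by rw [e]; exact hQQ _⟩
    refine ⟨β, hβ, hm, fun r => ⟨hm r, ?_⟩⟩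
    obtain ⟨h', e'⟩ := hβR (π r)
    show θ' _ = q * θ' (π r) * q⁻¹
    rw [← e']
    exact congrArg θ' (Subtype.ext (e r))

theorem QdAt.transport [Finite S] {Q Q₁ : Subgroup Ω} {φ : Q →* Ω} (hφ : φ ∈ F.Hom Q)
    (hr : φ.range = Q₁) {R : Subgroup Ω} (h : QdAt F p Q R) : QdAt F p Q₁ ((R.subgroupOf Q).map φ) := by
  obtain ⟨hRQ, θ, hθ, hq⟩ := h
  obtain ⟨ψ, hψ, hψr, hl, -⟩ := exists_inv hφ hr
  have hm : ∀ x, φ x ∈ Q₁ := fun x => hr.le ⟨x, rfl⟩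
  set R₁ := (R.subgroupOf Q).map φ with hR₁
  have hR₁Q : R₁ ≤ Q₁ := by rintro _ ⟨x, -, rfl⟩; exact hm x
  have hψR : ∀ y : R₁, ψ ⟨y, hR₁Q y.2⟩ ∈ R := by
    rintro ⟨_, x, hx, rfl⟩
    rw [hl x (hm x)]
    exact hx
  let θ₁ : R₁ →* ↥(Cfsg.qd p) := θ.comp ((ψ.comp (Subgroup.inclusion hR₁Q)).codRestrict R hψR)
  refine ⟨hR₁Q, θ₁, ?_, fun q => ?_⟩
  · refine le_antisymm ?_ ?_
    · rintro _ ⟨x, rfl⟩; exact hθ.le ⟨_, rfl⟩
    · intro v hv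
      obtain ⟨r, rfl⟩ := hθ.ge hv
      exact ⟨⟨φ ⟨r, hRQ r.2⟩, _, r.2, rfl⟩, congrArg θ (Subtype.ext (hl _ (hm _)))⟩
  · obtain ⟨β, hβ, hβQ, hβR⟩ := hq q
    have hψQ : ∀ y, ψ y ∈ Q := fun y => hψr.le ⟨y, rfl⟩
    obtain ⟨χ₁, hχ₁, e₁⟩ := exists_comp hψ hβ hψQ
    obtain ⟨χ, hχ, e⟩ := exists_comp hχ₁ hφ fun y => by rw [e₁]; exact hβQ _
    refine ⟨χ, hχ, fun y => by rw [e]; exact hm _, fun r => ?_⟩
    obtain ⟨h', he'⟩ := hβR ⟨_, hψR r⟩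
    have h1 : χ₁ ⟨r, hR₁Q r.2⟩ ∈ R := by rw [e₁]; exact h'
    refine ⟨⟨⟨χ₁ ⟨r, hR₁Q r.2⟩, hRQ h1⟩, h1, (e _).symm⟩, ?_⟩
    show θ _ = q * θ _ * q⁻¹
    refine Eq.trans (congrArg θ (Subtype.ext ?_)) he'
    show ψ ⟨χ ⟨r, hR₁Q r.2⟩, _⟩ = β _
    simp only [e, hl, e₁]

variable [Finite S]

theorem map_subgroupOf_self {Q : Subgroup Ω} (φ : Q →* Ω) : (Q.subgroupOf Q).map φ = φ.range := by
  rw [Subgroup.subgroupOf_self, MonoidHom.range_eq_map]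

/-- `Qd(p)` does not occur in a `Qd(p)`-free system. -/
theorem not_qdPair (hp : p ≠ 2) (hS : IsPGroup p S) (hF : F.IsSaturated p)
    (hfree : F.IsSectionFree p ↥(Cfsg.qd p)) : ¬ QdPair F p := by
  rintro ⟨R₀, hR₀S, hR₀⟩
  obtain ⟨R, ⟨φ, hφ, hφr⟩, hR⟩ := exists_isFullyNormalized F hR₀S
  obtain ⟨_, θ, hθ, hq⟩ : QdAt F p R R := by
    have := hR₀.transport hφ hφr
    rwa [map_subgroupOf_self, hφr] at this
  obtain ⟨hRc, -, hrec⟩ := fullyNormalized_props hS hF hR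
  haveI := finite_sub hR.1
  set C := centralizerIn S R with hC
  set Q := R ⊔ C with hQdef
  have hQS : Q ≤ S := sup_le hR.1 (centralizerIn_le R)
  have hQc : F.IsCentric Q := by
    refine ⟨hQS, ?_⟩
    rintro _ ⟨χ, hχ, rfl⟩
    set R' := (R.subgroupOf Q).map χ with hR'
    have hR'le : R' ≤ χ.range := by rintro _ ⟨x, -, rfl⟩; exact ⟨x, rfl⟩
    obtain ⟨ρ, hρ, eρ⟩ := exists_restrict hχ (le_sup_left : R ≤ Q)
    have hconj : F.IsConj R R' := ⟨ρ, hρ, by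
      rw [hR', map_subgroupOf_eq_range (le_sup_left : R ≤ Q)]
      congr 1; ext x; exact eρ x⟩
    haveI : Finite (centralizerIn S R') := finite_sub (centralizerIn_le R')
    haveI : Finite (centralizerIn S R) := finite_sub (centralizerIn_le R)
    let f : centralizerIn S R → centralizerIn S R' := fun c =>
      ⟨χ ⟨c, Subgroup.mem_sup_right c.2⟩, (apply_mem_centralizerIn_iff hχ le_sup_left rfl _).2 c.2⟩
    have hf : Function.Injective f := fun a b hab =>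
      Subtype.ext (congrArg (fun z : Q => (z : Ω)) (F.injective_of_mem hχ (congrArg Subtype.val hab)))
    have hsur := (hf.bijective_of_nat_card_le (hRc.2 R' hconj)).2
    intro x hx
    obtain ⟨c, hc⟩ := hsur ⟨x, centralizerIn_anti hR'le hx⟩
    exact ⟨_, congrArg Subtype.val hc⟩
  have hQR : QdAt F p Q R := by
    refine ⟨le_sup_left, θ, hθ, fun q => ?_⟩
    obtain ⟨α, hα, hαR, hαθ⟩ := hq q
    have hαr : α.range = R := range_eq_of_mem hα hαR le_rfl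
    obtain ⟨ψ₀, hψ₀, e₀⟩ := hrec.2 R α hα hαr
    obtain ⟨β, hβ, eβ⟩ := exists_restrict hψ₀
      (sup_le (le_extender hR.1 (apply_mem hα)) (centralizerIn_le_extender R α) : Q ≤ extender S R α)
    have eR : ∀ r : R, β ⟨r, Subgroup.mem_sup_left r.2⟩ = α r := fun r => by rw [eβ]; exact e₀ _ r.2 _
    have hmap : (R.subgroupOf Q).map β = R := by
      rw [map_subgroupOf_eq_range (le_sup_left : R ≤ Q)]
      conv_rhs => rw [← hαr]
      congr 1; ext x; exact eR x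
    have hle : Q ≤ (Q.comap β).map Q.subtype := by
      refine sup_le (fun r hr => ⟨⟨r, Subgroup.mem_sup_left hr⟩, ?_, rfl⟩)
        (fun c hc => ⟨⟨c, Subgroup.mem_sup_right hc⟩, ?_, rfl⟩)
      · show β _ ∈ Q
        rw [eR ⟨r, hr⟩]; exact Subgroup.mem_sup_left (hαR _)
      · exact Subgroup.mem_sup_right ((apply_mem_centralizerIn_iff hβ le_sup_left hmap _).2 hc)
    refine ⟨β, hβ, fun x => ?_, fun r => ?_⟩
    · obtain ⟨y, hy, hyx⟩ := hle x.2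
      rw [show x = y from Subtype.ext hyx.symm]; exact hy
    · obtain ⟨h, he⟩ := hαθ r
      exact ⟨by rw [eR]; exact h, (congrArg θ (Subtype.ext (eR r))).trans he⟩
  obtain ⟨Q₁, ⟨χ, hχ, hχr⟩, hQ₁⟩ := exists_isFullyNormalized F hQS
  have hQ₁c : F.IsCentric Q₁ :=
    ⟨hQ₁.1, fun Q' hQ' => hQc.2 Q' (isConj_trans ⟨χ, hχ, hχr⟩ hQ')⟩
  have hQR₁ := hQR.transport hχ hχr
  set R₁ := (R.subgroupOf Q).map χ with hR₁
  obtain ⟨hR₁Q, θ₁, hθ₁, hq₁⟩ := hQR₁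
  set T := normalizerIn S Q₁ with hTdef
  obtain ⟨N, hN⟩ := exists_normalizerSystem F hQ₁.1
  haveI : Finite T := finite_sub (normalizerIn_le Q₁)
  have hT : IsPGroup p T := isPGroup_of_le hS (normalizerIn_le Q₁)
  obtain ⟨L, _, ι, hM⟩ := FusionAlperin.Model.exists_model_of_constrained hT
    (Transfer.FusionLocal.isConstrained_normalizerSystem hS hF hQ₁ hQ₁c hN).2
  refine hfree Q₁ hQ₁ hQ₁c N hN L ι hM ?_
  obtain ⟨hfin, hreal, -, -⟩ := id hM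
  haveI := hfin
  have hQT : Q₁ ≤ T := le_normalizerIn hQ₁.1
  have hRT : R₁ ≤ T := hR₁Q.trans hQT
  let e : R₁ ≃* (R₁.subgroupOf T).map ι :=
    (Subgroup.subgroupOfEquivOfLe hRT).symm.trans (Subgroup.equivMapOfInjective _ ι hreal.1)
  have he : ∀ r : R₁, (e r : L) = ι ⟨r, hRT r.2⟩ := fun r => rfl
  refine involves_of_action hp ((isPGroup_of_le hS (hR₁Q.trans hQ₁.1)).of_equiv e)
    (θ₁.comp e.symm.toMonoidHom) ?_ fun q => ?_
  · rw [← hθ₁]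
    ext v
    exact ⟨fun ⟨x, hx⟩ => ⟨e.symm x, hx⟩, fun ⟨x, hx⟩ => ⟨e x, by simpa using hx⟩⟩
  obtain ⟨β, hβ, hβQ, hβR⟩ := hq₁ q
  haveI := finite_sub hQ₁.1
  have hβN : β ∈ N.Hom Q₁ := by
    obtain ⟨β', hβ', eb⟩ := exists_restrict hβ (sup_le le_rfl le_rfl : Q₁ ⊔ Q₁ ≤ Q₁)
    refine (hN Q₁).ge ⟨hβ, hQT, fun x => hQT (hβQ x), β', hβ', fun x => eb _, ?_⟩
    exact map_subgroupOf_eq_of_mapsTo hβ' le_sup_right fun y hy => by rw [eb]; exact hβQ _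
  obtain ⟨g, hg⟩ := (hreal.2 Q₁ hQT β (fun x => hQT (hβQ x))).1 hβN
  have hconj : ∀ r : R₁, ∃ h : β ⟨r, hR₁Q r.2⟩ ∈ R₁,
      (e ⟨_, h⟩ : L) = g * (e r : L) * g⁻¹ ∧ θ₁ ⟨_, h⟩ = q * θ₁ r * q⁻¹ := fun r =>
    let ⟨h, ht⟩ := hβR r; ⟨h, hg ⟨r, hR₁Q r.2⟩, ht⟩
  refine ⟨g, mem_normalizer_of_conj_mem fun x hx => ?_, fun x => ?_⟩
  · obtain ⟨h, hh, -⟩ := hconj (e.symm ⟨x, hx⟩)
    rw [e.apply_symm_apply] at hh
    exact hh ▸ (e _).2
  · obtain ⟨h, hh, ht⟩ := hconj (e.symm x)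
    rw [e.apply_symm_apply] at hh
    refine ⟨hh ▸ (e _).2, ?_⟩
    show θ₁ (e.symm _) = q * θ₁ (e.symm x) * q⁻¹
    rw [← ht]
    refine congrArg θ₁ (e.symm_apply_eq.2 (Subtype.ext ?_))
    exact hh.symm

/-- The model of a system without `QdPair` does not involve `Qd(p)`. -/
theorem not_involves_of_model {G : Type u} [Group G] {ι : S →* G} (hM : F.IsModel p G ι)
    (hno : ¬ QdPair F p) : ¬ Involves ↥(Cfsg.qd p) G := by
  intro hinv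
  obtain ⟨hfin, hreal, ⟨T, hT⟩, -⟩ := hM
  haveI := hfin
  obtain ⟨K, φ, R₂, hφ, hR₂, hR₂K, hKR, hRV⟩ := S5206.exists_normalised hinv
  obtain ⟨U, hU⟩ := hR₂.exists_le_sylow
  obtain ⟨g, hg⟩ := MulAction.exists_smul_eq G U T
  have hmem : ∀ x ∈ R₂, g * x * g⁻¹ ∈ ι.range := fun x hx => by
    rw [← hT, ← hg, Sylow.coe_subgroup_smul]
    exact Subgroup.smul_mem_pointwise_smul x (MulAut.conj g) _ (hU hx)
  set R₀ := ((R₂.map (MulAut.conj g).toMonoidHom).comap ι).map S.subtype with hR₀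
  have hR₀S : R₀ ≤ S := Subgroup.map_subtype_le _
  have hback : ∀ x : R₀, g⁻¹ * ι ⟨x, hR₀S x.2⟩ * g ∈ R₂ := by
    rintro ⟨_, s, ⟨y, hy, hys⟩, rfl⟩
    show g⁻¹ * ι s * g ∈ R₂
    rw [← hys]
    simpa [mul_assoc] using hy
  let π : R₀ →* K := (((MulAut.conj g⁻¹).toMonoidHom).comp (ι.comp (Subgroup.inclusion hR₀S))).codRestrict K
    fun x => by
      show g⁻¹ * ι ⟨x, hR₀S x.2⟩ * g⁻¹⁻¹ ∈ K
      rw [inv_inv]; exact hR₂K (hback x)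
  have hπ : ∀ x : R₀, (π x : G) = g⁻¹ * ι ⟨x, hR₀S x.2⟩ * g := fun x => by
    show g⁻¹ * ι ⟨x, hR₀S x.2⟩ * g⁻¹⁻¹ = _
    rw [inv_inv]
  refine hno ⟨R₀, hR₀S, le_rfl, φ.comp π, le_antisymm ?_ ?_, fun q => ?_⟩
  · rintro _ ⟨x, rfl⟩
    rw [← hRV]
    exact ⟨π x, show (π x : G) ∈ R₂ by rw [hπ]; exact hback x, rfl⟩
  · intro v hv
    obtain ⟨r, hr, rfl⟩ := hRV.ge hv
    obtain ⟨s, hs⟩ := hmem _ hr
    have hsR : (s : Ω) ∈ R₀ := ⟨s, ⟨r, hr, hs.symm⟩, rfl⟩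
    refine ⟨⟨s, hsR⟩, congrArg φ (Subtype.ext ?_)⟩
    rw [hπ]
    show g⁻¹ * ι s * g = r
    rw [hs]; group; rfl
  obtain ⟨k, rfl⟩ := hφ q
  set c := g * (k : G) * g⁻¹ with hc
  have hcR : ∀ x : R₀, c * ι ⟨x, hR₀S x.2⟩ * c⁻¹ ∈ (R₂.map (MulAut.conj g).toMonoidHom) := fun x =>
    ⟨_, (Subgroup.mem_normalizer_iff.mp (hKR k.2) _).mp (hback x), by simp [hc, mul_assoc]⟩
  have hcι : ∀ x : R₀, c * ι ⟨x, hR₀S x.2⟩ * c⁻¹ ∈ ι.range := fun x => by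
    obtain ⟨y, hy, e⟩ := hcR x
    rw [← e]; exact hmem y hy
  let α : R₀ →* Ω := S.subtype.comp ((MonoidHom.ofInjective hreal.1).symm.toMonoidHom.comp
    (((MulAut.conj c).toMonoidHom.comp (ι.comp (Subgroup.inclusion hR₀S))).codRestrict ι.range hcι))
  have hαS : ∀ x, α x ∈ S := fun x => SetLike.coe_mem _
  have hαι : ∀ x, ι ⟨α x, hαS x⟩ = c * ι ⟨x, hR₀S x.2⟩ * c⁻¹ := fun x =>
    congrArg Subtype.val ((MonoidHom.ofInjective hreal.1).apply_symm_apply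
      ((((MulAut.conj c).toMonoidHom.comp (ι.comp (Subgroup.inclusion hR₀S))).codRestrict ι.range hcι) x))
  have hα : α ∈ F.Hom R₀ := (hreal.2 R₀ hR₀S α hαS).2 ⟨c, hαι⟩
  have hαR : ∀ x, α x ∈ R₀ := fun x => ⟨⟨α x, hαS x⟩, by
    show ι _ ∈ R₂.map (MulAut.conj g).toMonoidHom
    rw [hαι]; exact hcR x, rfl⟩
  refine ⟨α, hα, hαR, fun x => ⟨hαR x, ?_⟩⟩
  show φ (π ⟨α x, hαR x⟩) = φ k * φ (π x) * (φ k)⁻¹
  rw [← map_inv, ← map_mul, ← map_mul]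
  refine congrArg φ (Subtype.ext ?_)
  simp only [Subgroup.coe_mul, Subgroup.coe_inv, hπ, hαι, hc]
  group

end Cfsg.Agent.Lib.FS.SectionFree
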