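/-
A Glauberman functor controls a `Qd(p)`-free fusion system.
-/
import Cfsg.Agent.Lib.FusionSystem.ControlResults
import Cfsg.Agent.Lib.FusionSystem.SectionFree
set_option autoImplicit false
set_option linter.style.haveILetI false
set_option linter.unusedSectionVars false

namespace Cfsg.Agent.Lib.FS.Control

open Cfsg Cfsg.FusionSystem Cfsg.Agent.Lib Cfsg.Agent.Lib.FS

universe u

variable {Ω : Type u} [Group Ω] {S : Subgroup Ω} {p : ℕ} [Fact p.Prime]

/-- The maps of a subsystem form a class. -/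
theorem isMapClass_hom {T : Subgroup Ω} {F : FusionSystem S} {E : FusionSystem T} :
    IsMapClass F (fun P φ => φ ∈ E.Hom P) :=
  ⟨fun P Q φ ψ χ _ _ hv hχ h₁ h₂ => mem_comp h₁ h₂ hv hχ,
    fun P Q φ ψ hle _ he h => mem_of_restrict h hle he⟩

theorem mem_normalizerHom_of_isNormal [Finite S] {F : FusionSystem S} {H : Subgroup Ω} (hH : F.IsNormal H)
    {P : Subgroup Ω} {φ : P →* Ω} (hφ : φ ∈ F.Hom P) : φ ∈ F.normalizerHom H P :=
  ⟨hφ, le_inf (src_le hφ) ((src_le hφ).trans (isNormal_le_normalizer hH)),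
    fun x => ⟨apply_mem hφ x, isNormal_le_normalizer hH (apply_mem hφ x)⟩, hH.2 P φ hφ⟩

variable [Finite S] {F : FusionSystem S}

/-- When all maps act on the normal subgroup `U` as `S` does, a normal subgroup of the factor system
lifts to a normal subgroup. -/
theorem isNormal_preimage (hS : IsPGroup p S) (hF : F.IsSaturated p) {U : Subgroup Ω} (hU : F.IsNormal U)
    {Ω' : Type u} [Group Ω'] {θ : S →* Ω'} {F' : FusionSystem (⊤ : Subgroup Ω')}
    [Finite (⊤ : Subgroup Ω')] (hθ : Function.Surjective θ)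
    (hker : ∀ s : S, θ s = 1 ↔ (s : Ω) ∈ U) (hfac : F.IsFactorSystem U θ F')
    {W' : Subgroup Ω'} (hW' : F'.IsNormal W')
    (hact : ∀ (P : Subgroup Ω) (φ : P →* Ω), φ ∈ F.Hom P →
      ∃ g ∈ S, ∀ x : P, (x : Ω) ∈ U → φ x = g * (x : Ω) * g⁻¹) :
    F.IsNormal (preimageAlong θ W') := by
  set X := preimageAlong θ W' with hXdef
  have hXS : X ≤ S := preimageAlong_le θ _
  haveI := finite_sub hXS
  haveI := finite_sub hU.1
  have hWn := isNormal_le_normalizer hW'
  have hXn : S ≤ Subgroup.normalizer (X : Set Ω) := fun s hs => by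
    refine mem_normalizer_of_conj_mem ?_
    rintro _ ⟨x, hx, rfl⟩
    refine ⟨⟨s, hs⟩ * x * (⟨s, hs⟩ : S)⁻¹, ?_, rfl⟩
    show θ _ ∈ W'
    rw [map_mul, map_mul, map_inv]
    exact conj_mem_of_normalizer (hWn (Subgroup.mem_top _)) hx
  obtain ⟨E, hE⟩ := exists_normalizerSystem F hXS
  suffices h : AllMaps F (fun P φ => φ ∈ E.Hom P) from
    isNormal_of_all hXS fun P φ hφ => (hE P).le (h P φ hφ)
  have hM := isMapClass_hom (F := F) (E := E)
  refine FusionP3.Induction.hom_induction hS hF hM.comp hM.restrict fun Q hQn hQc hQr α hα _ => ?_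
  have hQS := hQn.1
  haveI := finite_sub hQS
  have hUQ : U ≤ Q := isNormal_le_centricRadical hS hU hQc hQr
  set A := F.autGroup Q
  have hAU : ∀ a ∈ A, ∀ x : Q, (x : Ω) ∈ U → ((a x : Q) : Ω) ∈ U := by
    intro a ha x hx
    obtain ⟨ψ, hψ, -, e⟩ := exists_hom_of_aut hQS ha
    rw [← e]; exact isNormal_apply_mem hU hψ hx
  -- the kernel of the action on `Q/U`
  let K₀ : Subgroup (MulAut Q) :=
    { carrier := {δ | δ ∈ A ∧ ∀ x : Q, ((x⁻¹ * δ x : Q) : Ω) ∈ U}
      one_mem' := ⟨A.one_mem, fun x => by simp [U.one_mem]⟩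
      mul_mem' := fun {a b} ha hb => ⟨A.mul_mem ha.1 hb.1, fun x => by
        rw [show x⁻¹ * (a * b) x = (x⁻¹ * b x) * ((b x)⁻¹ * a (b x)) by
          simp [MulAut.mul_apply, mul_assoc]]
        exact U.mul_mem (hb.2 x) (ha.2 _)⟩
      inv_mem' := fun {a} ha => ⟨A.inv_mem ha.1, fun x => by
        have h := U.inv_mem (ha.2 (a⁻¹ x))
        rw [MulAut.apply_inv_self] at h
        simpa using h⟩ }
  have hK₀p : IsPGroup p K₀ := by
    rintro ⟨δ, hδA, hδ⟩
    obtain ⟨g, hg, hgU⟩ := hact Q _ ((mem_autGroup hQS).1 hδA)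
    have hgU' : ∀ x : Q, (x : Ω) ∈ U → ((δ x : Q) : Ω) = g * (x : Ω) * g⁻¹ := hgU
    obtain ⟨k, hk⟩ := hS ⟨g, hg⟩
    obtain ⟨m, hm⟩ := IsPGroup.iff_card.1 hS
    have h1 : ∀ (n : ℕ) (x : Q), (x : Ω) ∈ U → (((δ ^ n) x : Q) : Ω) = g ^ n * (x : Ω) * (g ^ n)⁻¹ := by
      intro n
      induction n with
      | zero => intro x _; simp
      | succ n ih =>
        intro x hx
        have hx' : ((δ x : Q) : Ω) ∈ U := hAU δ hδA x hx
        rw [pow_succ, MulAut.mul_apply, ih _ hx', hgU' x hx, pow_succ]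
        group
    set ε := δ ^ p ^ k with hε
    have hεK : ε ∈ K₀ := K₀.pow_mem ⟨hδA, hδ⟩ _
    have hεfix : ∀ x : Q, (x : Ω) ∈ U → ε x = x := fun x hx => Subtype.ext (by
      rw [hε, h1 _ x hx, show g ^ p ^ k = 1 from congrArg Subtype.val hk]; group)
    have h2 : ∀ (n : ℕ) (x : Q), (ε ^ n) x = x * (x⁻¹ * ε x) ^ n := by
      intro n
      induction n with
      | zero => intro x; simp
      | succ n ih =>
        intro x
        have hfix : ε ((x⁻¹ * ε x) ^ n) = (x⁻¹ * ε x) ^ n := hεfix _ (by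
          rw [SubgroupClass.coe_pow]; exact U.pow_mem (hεK.2 x) n)
        rw [pow_succ', MulAut.mul_apply, ih, map_mul, hfix, pow_succ', ← mul_assoc, mul_inv_cancel_left]
    refine ⟨k + m, Subtype.ext ?_⟩
    show δ ^ p ^ (k + m) = 1
    rw [pow_add, pow_mul, ← hε]
    refine MulEquiv.ext fun x => ?_
    rw [h2, MulAut.one_apply]
    have : (x⁻¹ * ε x) ^ p ^ m = 1 := Subtype.ext (by
      rw [← hm]
      have h := congrArg Subtype.val (pow_card_eq_one' (x := (⟨_, hQS (x⁻¹ * ε x).2⟩ : S)))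
      rw [SubgroupClass.coe_pow] at h
      rw [SubgroupClass.coe_pow]
      exact h)
    rw [this, mul_one]
  have hK₀Inn : K₀ ≤ Inn Q := le_inn_of_radical hQr (fun δ hδ => hδ.1)
    (fun a ha δ hδ => ⟨A.mul_mem (A.mul_mem ha hδ.1) (A.inv_mem ha), fun x => by
      rw [show x⁻¹ * (a * δ * a⁻¹) x = a ((a⁻¹ x)⁻¹ * δ (a⁻¹ x)) by simp [MulAut.mul_apply]]
      exact hAU a ha _ (hδ.2 _)⟩) hK₀p
  -- lift the induced map
  have hφ := (mem_autGroup hQS).1 hα
  obtain ⟨φ', hφ', hP, hv, hm', e⟩ :=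
    (factor_isSurjectiveMorphism hS hF (isNormal_stronglyClosed hU) hfac).1.2 Q _ hφ
  obtain ⟨χ, hχ, hind⟩ := normalizerHom_lift hS hF (isNormal_stronglyClosed hU) hfac le_top hXn
    (mem_normalizerHom_of_isNormal hW' hφ')
  have hQle : Q ≤ preimageAlong θ (imageAlong θ Q) := le_preimageAlong_imageAlong hQS
  obtain ⟨χQ, hχQ, eχ⟩ := exists_restrict ((hE _).ge hχ) hQle
  have hχQF : χQ ∈ F.Hom Q := ((hE _).le hχQ).1
  have hθχ : ∀ x : Q, θ ⟨χQ x, apply_mem hχQF x⟩ = φ' ⟨θ ⟨x, hQS x.2⟩, hm' x⟩ := fun x => by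
    rw [inducedAlong_apply hind ⟨x, hQle x.2⟩ (hQS x.2) (hm' x) (apply_mem hχ.1 _)]
    exact congrArg θ (Subtype.ext (eχ x))
  have hχm : ∀ x : Q, χQ x ∈ Q := by
    intro x
    have h := hθχ x
    rw [e x] at h
    have h1 : θ ((⟨Q.subtype.comp α.toMonoidHom x, hv x⟩ : S)⁻¹ * ⟨χQ x, apply_mem hχQF x⟩) = 1 := by
      rw [map_mul, map_inv, h, inv_mul_cancel]
    have h2 := Q.mul_mem (α x).2 (hUQ ((hker _).1 h1))
    simp only [Subgroup.coe_mul, Subgroup.coe_inv] at h2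
    rwa [show ((α x : Q) : Ω) * ((Q.subtype.comp α.toMonoidHom x)⁻¹ * χQ x) = χQ x from
      mul_inv_cancel_left _ _] at h2
  have hr : χQ.range = Q := range_eq_of_mem hχQF hχm le_rfl
  set β := homEquiv hχQF hr with hβdef
  have hβA : β ∈ A := homEquiv_mem_autGroup hχQF hr
  have hφi : Function.Injective φ' := F'.injective_of_mem hφ'
  have hδ : β⁻¹ * α ∈ K₀ := by
    refine ⟨A.mul_mem (A.inv_mem hβA) hα, fun x => ?_⟩
    set y := (β⁻¹ * α) x with hy
    have hby : β y = α x := by rw [hy, MulAut.mul_apply, MulAut.apply_inv_self]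
    have h : φ' ⟨θ ⟨y, hQS y.2⟩, hm' y⟩ = φ' ⟨θ ⟨x, hQS x.2⟩, hm' x⟩ := by
      rw [← hθχ y, e x]
      exact congrArg θ (Subtype.ext (congrArg Subtype.val hby :))
    have h' : θ ⟨y, hQS y.2⟩ = θ ⟨x, hQS x.2⟩ := congrArg Subtype.val (hφi h)
    refine (hker ((⟨x, hQS x.2⟩ : S)⁻¹ * ⟨y, hQS y.2⟩)).1 ?_
    rw [map_mul, map_inv, h', inv_mul_cancel]
  obtain ⟨q, hq⟩ := hK₀Inn hδ
  have hαe : ∀ x : Q, ((α x : Q) : Ω) = χQ q * χQ x * (χQ q)⁻¹ := fun x => by
    have h := congrArg (fun f : MulAut Q => β (f x)) hq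
    simp only [MulAut.mul_apply, MulAut.apply_inv_self] at h
    rw [← h, ← map_inv, ← map_mul, ← map_mul]
    rfl
  have hQN : Q ≤ normalizerIn S X := le_inf hQS (hQS.trans hXn)
  refine mem_comp hχQ (E.conj_mem hQN (hQN (hχm q))) hχm fun x => ?_
  exact hαe x

variable {W : ∀ (Q : Type u) [Group Q], Subgroup Q}

theorem wOf_isNormal (hp : p ≠ 2)
    (hW1 : ∀ (Q : Type u) [Group Q] [Finite Q], IsPGroup p Q → Nontrivial Q → W Q ≠ ⊥)
    (hW2 : ∀ (Q R : Type u) [Group Q] [Group R] [Finite Q], IsPGroup p Q → ∀ φ : Q ≃* R,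
      (W Q).map φ.toMonoidHom = W R)
    (hW3 : ∀ (L : Type u) [Group L] [Finite L] (P : Sylow p L),
      Subgroup.centralizer ((pCore p L : Subgroup L) : Set L) =
        pCore p L ⊓ Subgroup.centralizer ((pCore p L : Subgroup L) : Set L) →
      ¬ Involves ↥(Cfsg.qd p) L → (wOf W (P : Subgroup L)).Normal) :
    ∀ (n m : ℕ) {Ω : Type u} [Group Ω] {S : Subgroup Ω} [Finite S] (F : FusionSystem S),
      Nat.card S = n → homCount F = m → IsPGroup p S → F.IsSaturated p → ¬ SectionFree.QdPair F p →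
      F.IsNormal (wOf W S) := by
  intro n
  induction n using Nat.strong_induction_on with
  | _ n ihn =>
  intro m
  induction m using Nat.strong_induction_on with
  | _ m ihm =>
  intro Ω _ S _ F hn hm hS hF hfree
  have hWn := le_normalizer_wOf hW2 hS
  obtain ⟨N₀, hN₀⟩ := exists_normalizerSystem F (wOf_le (W := W) S)
  let M : ∀ P : Subgroup Ω, (P →* Ω) → Prop := fun P φ => φ ∈ N₀.Hom P
  have hM : IsMapClass F M := isMapClass_hom
  have hN : NormMaps F (wOf W S) M := fun P φ hφ => (hN₀ P).ge hφ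
  suffices hAll : AllMaps F M from isNormal_of_all (wOf_le S) fun P φ hφ => (hN₀ P).le (hAll P φ hφ)
  have IH : ∀ (T : Subgroup Ω) (E : FusionSystem T), T ≤ S → (∀ P, E.Hom P ⊆ F.Hom P) → IsPGroup p T →
      E.IsSaturated p → (Nat.card T < Nat.card S ∨ (T = S ∧ homCount E < homCount F)) →
      NormMaps E (wOf W T) M → AllMaps E M := by
    intro T E hTS hsub hT hE hlt hNE
    haveI := finite_sub hTS
    have hfE : ¬ SectionFree.QdPair E p := fun h => hfree (h.of_sub hTS hsub)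
    have hWT : E.IsNormal (wOf W T) := by
      rcases hlt with hlt | ⟨rfl, hlt⟩
      · exact ihn _ (hn ▸ hlt) _ E rfl rfl hT hE hfE
      · exact ihm _ (hm ▸ hlt) E hn rfl hT hE hfE
    exact fun P φ hφ => hNE P φ (mem_normalizerHom_of_isNormal hWT hφ)
  have hsys : ∀ H : Subgroup Ω, H ≤ S → S ≤ Subgroup.normalizer (H : Set Ω) → ¬ F.IsNormal H →
      NormMaps F H M := by
    intro H hH hSH hnn
    obtain ⟨E, hE⟩ := exists_normalizerSystem F hH
    have heq : normalizerIn S H = S := inf_eq_left.2 hSH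
    have hsub : ∀ P, E.Hom P ⊆ F.Hom P := fun P φ h => ((hE P).le h).1
    have hall := IH _ E (normalizerIn_le H) hsub (isPGroup_of_le hS (normalizerIn_le H))
      (normalizerSystem_isSaturated hS hF (isFullyNormalized_of_le_normalizer hH hSH) hE)
      (normalizerSystem_lt hH hE (Or.inr hnn)) (fun P φ hφ => hN P φ (by
        rw [show wOf W (normalizerIn S H) = wOf W S by rw [heq]] at hφ
        exact normalizerHom_sub (normalizerIn_le H) hsub _ _ hφ))
    exact fun P φ hφ => hall P φ ((hE P).ge hφ)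
  by_cases hcore : F.core = ⊥
  · refine maps_of_core_eq_bot hS hF hW1 hW2 hM hcore hN fun H hH E hE hlt hNE => ?_
    exact IH _ E (normalizerIn_le H) (fun P φ h => ((hE P).le h).1) (isPGroup_of_le hS (normalizerIn_le H))
      (normalizerSystem_isSaturated hS hF hH hE) (normalizerSystem_lt hH.1 hE hlt) hNE
  set U := F.core with hUdef
  have hU : F.IsNormal U := FusionAlperin.Join.isNormal_core F
  have hUn := isNormal_le_normalizer hU
  by_cases hcen : centralizerIn S U ≤ U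
  · -- constrained
    obtain ⟨G, _, ι, hM'⟩ := FusionAlperin.Model.exists_model_of_constrained hS
      (⟨hF, U, hU, isCentric_of_isNormal hU hcen⟩ : F.IsConstrained p)
    have hinv := SectionFree.not_involves_of_model hM' hfree
    obtain ⟨hfin, hr, ⟨T, hT⟩, hCO⟩ := id hM'
    haveI := hfin
    haveI hWG : ((W ↥S).map ι).Normal := by
      have h := hW3 G T (le_antisymm (le_inf hCO le_rfl) inf_le_right) hinv
      rwa [hT, wOf_sylow hW2 hS hr.1] at h
    intro P φ hφ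
    obtain ⟨g, hg⟩ := (hr.2 P (src_le hφ) φ (apply_mem hφ)).1 hφ
    have hB : P ⊔ wOf W S ≤ S := sup_le (src_le hφ) (wOf_le S)
    have hgW : ∀ w : S, w ∈ W ↥S → g * ι w * g⁻¹ ∈ (W ↥S).map ι := fun w hw =>
      hWG.conj_mem _ ⟨w, hw, rfl⟩ g
    have hval : ∀ b : ↥(P ⊔ wOf W S), g * ι ⟨b, hB b.2⟩ * g⁻¹ ∈ ι.range := by
      rintro ⟨b, hb⟩
      have hle : P ⊔ wOf W S ≤ (ι.range.comap ((MulAut.conj g).toMonoidHom.comp ι)).map S.subtype := by
        refine sup_le (fun x hx => ⟨⟨x, src_le hφ hx⟩, ⟨_, hg ⟨x, hx⟩⟩, rfl⟩) ?_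
        rintro _ ⟨w, hw, rfl⟩
        obtain ⟨v, -, hv⟩ := hgW w hw
        exact ⟨w, ⟨v, hv⟩, rfl⟩
      obtain ⟨w, hw, hwb⟩ := hle hb
      rwa [show (⟨b, hB hb⟩ : S) = w from Subtype.ext hwb.symm]
    obtain ⟨ψ, hψ, eψ⟩ := exists_map_of_conj hr hB g hval
    haveI : Finite (wOf W S) := finite_sub (S := S) (wOf_le S)
    refine hN P φ ⟨hφ, le_inf (src_le hφ) ((src_le hφ).trans hWn),
      fun y => ⟨apply_mem hφ y, hWn (apply_mem hφ y)⟩, ψ, hψ, fun x => ?_,
      map_subgroupOf_eq_of_mapsTo hψ le_sup_right fun b hb => ?_⟩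
    · exact congrArg Subtype.val
        (hr.1 ((eψ (Subgroup.inclusion le_sup_left x) (apply_mem hψ _)).trans (hg x).symm) :)
    · obtain ⟨w, hw, hwb⟩ := hb
      obtain ⟨v, hv, hve⟩ := hgW w hw
      refine ⟨v, hv, congrArg Subtype.val (hr.1 ?_ : v = ⟨ψ b, apply_mem hψ b⟩)⟩
      rw [eψ, hve, show (⟨(b : Ω), hB b.2⟩ : S) = w from Subtype.ext hwb.symm]
  set D := U ⊔ centralizerIn S U with hD
  have hDS : D ≤ S := sup_le hU.1 (centralizerIn_le U)
  have hDn : NormMaps F D M := by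
    refine hsys D hDS (fun s hs => ?_) fun h => hcen (le_sup_right.trans (le_core_of_isNormal h))
    haveI := finite_sub hDS
    have h1 : D ≤ D.comap (MulAut.conj s).toMonoidHom := by
      refine sup_le (fun x hx => Subgroup.mem_sup_left (conj_mem_of_normalizer (hUn hs) hx))
        (fun c hc => Subgroup.mem_sup_right ⟨S.mul_mem (S.mul_mem hs hc.1) (S.inv_mem hs), fun x hx => ?_⟩)
      have h := hc.2 _ (conj_inv_mem_of_normalizer (hUn hs) hx)
      show x * (s * c * s⁻¹) = s * c * s⁻¹ * x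
      calc x * (s * c * s⁻¹) = s * ((s⁻¹ * x * s) * c) * s⁻¹ := by group
        _ = _ := by rw [h]; group
    exact mem_normalizer_of_conj_mem fun x hx => h1 hx
  obtain ⟨K, hKs, hKsub, hKext, hKmem⟩ := exists_kBase hS hF hU
  by_cases hKF : ∃ P φ, φ ∈ F.Hom P ∧ φ ∉ K.Hom P
  · refine maps_of_decomp hS hF hM hU hDn fun P φ hφ hUP hfix => ?_
    refine IH S K le_rfl hKsub hS hKs (Or.inr ⟨rfl, homCount_lt rfl hKsub hKF⟩)
      (fun P φ h => hN P φ (normalizerHom_sub le_rfl hKsub _ _ h)) P φ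
      (hKmem P φ hφ hUP ⟨1, S.one_mem, fun x hx => ?_⟩)
    rw [hfix x hx]; group
  push_neg at hKF
  -- impossible: the preimage of `W(S/U)` would be normal
  exfalso
  obtain ⟨Ω', _, θ, F', hθ, hker, hfin', hp', hsat', hfac, hlt'⟩ :=
    exists_factor hS hF (isNormal_stronglyClosed hU) hcore
  haveI := hfin'
  have hW' : F'.IsNormal (wOf W (⊤ : Subgroup Ω')) :=
    ihn _ (hn ▸ hlt') _ F' rfl rfl hp' hsat' fun h => hfree (h.of_factor hfac)
  have hact : ∀ (P : Subgroup Ω) (φ : P →* Ω), φ ∈ F.Hom P →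
      ∃ g ∈ S, ∀ x : P, (x : Ω) ∈ U → φ x = g * (x : Ω) * g⁻¹ := fun P φ hφ => by
    obtain ⟨ψ, hψ, eψ, g, hg, eg⟩ := hKext P φ (hKF P φ hφ)
    exact ⟨g, hg, fun y hy => by rw [← eψ]; exact (congrArg ψ (Subtype.ext rfl)).trans (eg ⟨y, hy⟩)⟩
  have hX := le_core_of_isNormal (isNormal_preimage hS hF hU hθ hker hfac hW' hact)
  by_cases htop : (⊤ : Subgroup Ω') = ⊥
  · exact hcen fun c hc => (hker ⟨c, hc.1⟩).1 (Subgroup.mem_bot.1 (htop ▸ Subgroup.mem_top _))
  refine wOf_ne_bot hW1 hp' htop (le_bot_iff.1 fun y hy => ?_)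
  obtain ⟨s, rfl⟩ := hθ y
  exact Subgroup.mem_bot.2 ((hker s).2 (hX ⟨s, hy, rfl⟩))

end Cfsg.Agent.Lib.FS.Control
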