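import Cfsg.Agent.Lib.FusionP3.Transfer
import Cfsg.Agent.Lib.FusionP3.Criterion.Top
import Cfsg.Agent.Lib.FusionP3.Prime.PPower

/-!
# The kernel subsystem of an invariant character of a saturated fusion system

For a saturated system `F` over `S` and a homomorphism `χ : S →* A` into an abelian group of exponent `p`
that is invariant under all maps of `F`, a characteristic biset carries a function `η` with
`η ((a, b) • x) = χ a / χ b * η x`. The product of `η (γ x) / η x` over the right orbits is a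
homomorphism on the right equivariant permutations `γ`. The maps covered by permutations with trivial
product form, over `ker χ`, a saturated subsystem of `p`-power index.
-/

set_option autoImplicit false
set_option linter.style.haveILetI false
set_option linter.unusedSectionVars false

namespace Cfsg.Agent.Lib.FS.PPowerKernel

open Cfsg Cfsg.FusionSystem Cfsg.Agent.Lib.FS MulAction
open Cfsg.Agent.Lib.FusionP3 (GT.autGroup_mono GT.finite_mulAut)
open Cfsg.Agent.Lib.FusionP3.Biset Cfsg.Agent.Lib.FusionP3.Transfer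

universe u v

variable {Ω : Type u} [Group Ω] {S : Subgroup Ω} {X : Type u} [MulAction (S × S) X]

/-- A product over a set acted on by a `p`-group is the product over the fixed points, for an
invariant function with values of exponent `p`. -/
theorem prod_eq_prod_fixed {p : ℕ} [Fact p.Prime] {G : Type*} [Group G] (hG : IsPGroup p G)
    {Y : Type*} [MulAction G Y] [Fintype Y] [DecidablePred (· ∈ fixedPoints G Y)] {A : Type*} [CommGroup A]
    (hA : ∀ a : A, a ^ p = 1) (h : Y → A) (hh : ∀ (g : G) (y : Y), h (g • y) = h y) :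
    ∏ y, h y = ∏ y ∈ Finset.univ.filter (· ∈ fixedPoints G Y), h y := by
  classical
  have e : ∀ s : Finset Y, ∏ y ∈ s, h y = ∏ a ∈ Finset.univ.image h, a ^ (s.filter (h · = a)).card := by
    intro s
    rw [← Finset.prod_fiberwise_of_maps_to (t := Finset.univ.image h) (g := h)
      (fun y _ => Finset.mem_image_of_mem h (Finset.mem_univ y))]
    refine Finset.prod_congr rfl fun a _ => ?_
    rw [Finset.prod_congr rfl fun y hy => (Finset.mem_filter.1 hy).2, Finset.prod_const]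
  rw [e, e]
  refine Finset.prod_congr rfl fun a _ => ?_
  let Z : SubMulAction G Y :=
    { carrier := {y | h y = a}
      smul_mem' := fun g y hy => by show h (g • y) = a; rw [hh]; exact hy }
  haveI : Finite Z := Finite.of_injective (fun z : Z => (z : Y)) Subtype.val_injective
  have hmod : Nat.card Z ≡ Nat.card (fixedPoints G Z) [MOD p] := hG.card_modEq_card_fixedPoints Z
  have h1 : Nat.card Z = (Finset.univ.filter (h · = a)).card := by
    rw [← Fintype.card_subtype, ← Nat.card_eq_fintype_card]; rfl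
  have h2 : Nat.card (fixedPoints G Z) =
      ((Finset.univ.filter (· ∈ fixedPoints G Y)).filter (h · = a)).card := by
    rw [Finset.filter_filter, ← Fintype.card_subtype, ← Nat.card_eq_fintype_card]
    refine Nat.card_congr
      { toFun := fun z => ⟨(z.1 : Y), fun g => congrArg Subtype.val (z.2 g), z.1.2⟩
        invFun := fun y => ⟨⟨y.1, y.2.2⟩, fun g => Subtype.ext (y.2.1 g)⟩
        left_inv := fun _ => rfl
        right_inv := fun _ => rfl }
  rw [← h1, ← h2]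
  exact pow_eq_pow_of_modEq hmod (hA a)

/-- The right orbits. -/
def rightRel (S : Subgroup Ω) (X : Type u) [MulAction (S × S) X] : Setoid X where
  r x y := ∃ b : S, y = ((1 : S), b) • x
  iseqv :=
    { refl := fun x => ⟨1, (one_smul (S × S) x).symm⟩
      symm := fun {x y} ⟨b, h⟩ => ⟨b⁻¹, by rw [h, smul_smul]; simp [Prod.mk_one_one]⟩
      trans := fun {x y z} ⟨b, h⟩ ⟨c, h'⟩ => ⟨c * b, by rw [h', h, smul_smul]; simp⟩ }

/-- The set of right orbits. -/
def Orb (S : Subgroup Ω) (X : Type u) [MulAction (S × S) X] : Type u := Quotient (rightRel S X)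

/-- The orbit of a point. -/
def mkOrb (x : X) : Orb S X := Quotient.mk (rightRel S X) x

theorem mkOrb_surjective : Function.Surjective (mkOrb (S := S) (X := X)) :=
  fun y => Quotient.exists_rep y

theorem mkOrb_eq {x y : X} : mkOrb (S := S) x = mkOrb y ↔ ∃ b : S, y = ((1 : S), b) • x := Quotient.eq

instance [Finite X] : Finite (Orb S X) := Finite.of_surjective _ mkOrb_surjective

/-- The action of the equivariant permutations. -/
instance : MulAction (equivGroup S X) (Orb S X) where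
  smul γ := Quotient.map γ.1 fun x y ⟨b, h⟩ => ⟨b, by rw [h, equiv_apply]⟩
  one_smul y := by obtain ⟨x, rfl⟩ := mkOrb_surjective y; rfl
  mul_smul γ γ' y := by obtain ⟨x, rfl⟩ := mkOrb_surjective y; rfl

theorem smul_mkOrb (γ : equivGroup S X) (x : X) : γ • mkOrb (S := S) x = mkOrb (γ.1 x) := rfl

/-- `γ` covers `φ`: it intertwines the left action of `P` through `φ`. -/
def Cov (P : Subgroup Ω) (φ : P →* Ω) (γ : equivGroup S X) : Prop :=
  ∀ (a a' : S) (ha : (a : Ω) ∈ P), (a' : Ω) = φ ⟨a, ha⟩ →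
    ∀ x : X, γ.1 (((a, 1) : S × S) • x) = ((a', 1) : S × S) • γ.1 x

theorem Cov.congr {P : Subgroup Ω} {φ ψ : P →* Ω} {γ : equivGroup S X} (h : Cov P φ γ)
    (he : ∀ x, ψ x = φ x) : Cov P ψ γ := fun a a' ha e => h a a' ha (e.trans (he _))

theorem Cov.restrict {P Q : Subgroup Ω} {φ : P →* Ω} {ψ : Q →* Ω} {γ : equivGroup S X} (h : Cov P φ γ)
    (hQP : Q ≤ P) (he : ∀ x : Q, ψ x = φ ⟨x, hQP x.2⟩) : Cov Q ψ γ :=
  fun a a' ha e => h a a' (hQP ha) (e.trans (he _))

theorem Cov.comp {P Q : Subgroup Ω} {φ χ : P →* Ω} {ψ : Q →* Ω} {γ δ : equivGroup S X} (h : Cov P φ γ)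
    (h' : Cov Q ψ δ) (hS : ∀ x, φ x ∈ S) (hm : ∀ x, φ x ∈ Q) (he : ∀ x, χ x = ψ ⟨φ x, hm x⟩) :
    Cov P χ (δ * γ) := fun a a' ha e x => by
  show δ.1 (γ.1 (((a, 1) : S × S) • x)) = _
  rw [h a ⟨φ ⟨a, ha⟩, hS _⟩ ha rfl x]
  exact h' _ a' (hm _) (e.trans (he _)) _

theorem Cov.inv {P : Subgroup Ω} {φ : P →* Ω} {ψ : φ.range →* Ω} {γ : equivGroup S X} (h : Cov P φ γ)
    (hPS : P ≤ S) (he : ∀ x : P, ψ ⟨φ x, x, rfl⟩ = x) : Cov φ.range ψ γ⁻¹ := fun a a' ha e x => by
  obtain ⟨⟨y, hy⟩, hye⟩ := id ha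
  have e1 : a' = ⟨y, hPS hy⟩ := Subtype.ext (e.trans ((congrArg ψ (Subtype.ext hye.symm)).trans (he ⟨y, hy⟩)))
  apply γ.1.injective
  show γ.1 (γ.1.symm _) = γ.1 (_ • γ.1.symm x)
  have e2 : (a' : Ω) = y := congrArg Subtype.val e1
  have hm : (a' : Ω) ∈ P := e2.symm ▸ hy
  rw [Equiv.apply_symm_apply, h a' a hm (hye.symm.trans (congrArg φ (Subtype.ext e2.symm))),
    Equiv.apply_symm_apply]

theorem cov_conj {P : Subgroup Ω} (g : S) : Cov P (conjHom P (g : Ω)) (lft S X g) := fun a a' ha e x => by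
  have e' : a' = g * a * g⁻¹ := Subtype.ext e
  simp only [lft_apply, smul_smul, Prod.mk_mul_mk, e', inv_mul_cancel_right]

/-- `η` twists the action by `χ a / χ b`. -/
def IsHeight {A : Type v} [CommGroup A] (χ : S →* A) (η : X → A) : Prop :=
  ∀ (a b : S) (x : X), η (((a, b) : S × S) • x) = χ a / χ b * η x

section Value

variable {A : Type v} [CommGroup A] {χ : S →* A} {η : X → A}

theorem IsHeight.right (h : IsHeight χ η) (b : S) (x : X) : η (((1 : S), b) • x) = (χ b)⁻¹ * η x := by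
  rw [h, map_one, one_div]

/-- The shift of a permutation on a right orbit. -/
def shift (h : IsHeight χ η) (γ : equivGroup S X) : Orb S X → A :=
  Quotient.lift (fun x => η (γ.1 x) / η x) fun x y ⟨b, hb⟩ => by
    rw [hb, equiv_apply, h.right, h.right, mul_div_mul_left_eq_div]

theorem shift_mk (h : IsHeight χ η) (γ : equivGroup S X) (x : X) :
    shift h γ (mkOrb x) = η (γ.1 x) / η x := rfl

variable [Fintype (Orb S X)]

/-- The product of the shifts. -/
def value (h : IsHeight χ η) : equivGroup S X →* A where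
  toFun γ := ∏ y, shift h γ y
  map_one' := Finset.prod_eq_one fun y _ => by
    obtain ⟨x, rfl⟩ := mkOrb_surjective y
    rw [shift_mk]; exact div_self' _
  map_mul' γ δ := by
    have e : ∀ y, shift h (γ * δ) y = shift h γ (δ • y) * shift h δ y := fun y => by
      obtain ⟨x, rfl⟩ := mkOrb_surjective y
      rw [smul_mkOrb, shift_mk, shift_mk, shift_mk, div_mul_div_cancel]
      rfl
    rw [Finset.prod_congr rfl fun y _ => e y, Finset.prod_mul_distrib]
    congr 1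
    exact Fintype.prod_equiv (MulAction.toPerm δ) _ _ fun _ => rfl

theorem value_apply (h : IsHeight χ η) (γ : equivGroup S X) : value h γ = ∏ y, shift h γ y := rfl

theorem value_lft (h : IsHeight χ η) (g : S) :
    value h (lft S X g) = χ g ^ Fintype.card (Orb S X) := by
  rw [value_apply, ← Finset.card_univ, ← Finset.prod_const]
  refine Finset.prod_congr rfl fun y _ => ?_
  obtain ⟨x, rfl⟩ := mkOrb_surjective y
  rw [shift_mk, lft_apply, h, map_one, div_one, mul_div_cancel_right]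

end Value

variable [Finite S] {p : ℕ} [Fact p.Prime] {F : FusionSystem S}

/-- Everything needed from a characteristic biset. -/
theorem exists_data (hS : IsPGroup p S) (hF : F.IsSaturated p) {A : Type v} [CommGroup A] (χ : S →* A)
    (hχ : ∀ (P : Subgroup Ω) (φ : P →* Ω) (hφ : φ ∈ F.Hom P) (x : P),
      χ ⟨φ x, apply_mem hφ x⟩ = χ ⟨x, src_le hφ x.2⟩) :
    ∃ (X : Type u) (_ : MulAction (S × S) X) (_ : Finite X) (η : X → A),
      IsHeight χ η ∧ (∀ x : X, IsGraph F (stabilizer (S × S) x)) ∧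
      (∀ (P : Subgroup Ω) (φ : P →* Ω), φ ∈ F.Hom P → ∃ γ : equivGroup S X, Cov P φ γ) ∧
      ¬ p ∣ Nat.card (Orb S X) := by
  classical
  obtain ⟨X, iX, fX, hg, hst, m, hm, hpm⟩ := exists_biset hS hF
  let f : S × S →* A := (χ.comp (MonoidHom.fst S S)) / (χ.comp (MonoidHom.snd S S))
  have hf : ∀ x : X, ∀ z ∈ stabilizer (S × S) x, f z = 1 := by
    intro x z hz
    obtain ⟨P, φ, hφ, -, key⟩ := exists_hom_of_isGraph (hg x)
    obtain ⟨hP, e⟩ := (key z).1 hz
    show χ z.1 / χ z.2 = 1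
    have := hχ P φ hφ ⟨z.1, hP⟩
    rw [show (⟨φ ⟨z.1, hP⟩, apply_mem hφ _⟩ : S) = z.2 from Subtype.ext e] at this
    rw [this, show (⟨((z.1 : S) : Ω), src_le hφ hP⟩ : S) = z.1 from rfl, div_self']
  let base : X → X := fun x => (Quotient.mk (orbitRel (S × S) X) x).out
  have hbase : ∀ x, ∃ g : S × S, g • base x = x := fun x => by
    have h : (orbitRel (S × S) X).r x (base x) := Setoid.symm' _ (Quotient.mk_out x)
    exact h
  choose g hgb using hbase
  refine ⟨X, iX, fX, fun x => f (g x), fun a b x => ?_, hg, fun P φ hφ => ?_, ?_⟩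
  · set z : S × S := (a, b) with hz
    have hb : base (z • x) = base x :=
      congrArg Quotient.out (Quotient.sound (s := orbitRel (S × S) X) ⟨z, rfl⟩)
    have h1 : (z * g x)⁻¹ * g (z • x) ∈ stabilizer (S × S) (base x) := by
      rw [mem_stabilizer_iff, mul_smul, ← hb, hgb, hb, inv_smul_eq_iff, mul_smul, hgb]
    have h2 := hf _ _ h1
    rw [map_mul, map_inv, inv_mul_eq_one, map_mul] at h2
    exact h2.symm
  · obtain ⟨e, he⟩ := hst P φ hφ
    refine ⟨⟨e, fun b x => ?_⟩, fun a a' ha h x => ?_⟩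
    · have h1 := he ⟨((1 : S), b), mem_dom.2 P.one_mem⟩ x
      rw [show twHom hφ ⟨((1 : S), b), mem_dom.2 P.one_mem⟩ = ((1 : S), b) from
        Prod.ext (Subtype.ext (map_one φ)) rfl] at h1
      exact h1
    · have h1 := he ⟨(a, 1), mem_dom.2 ha⟩ x
      rw [show twHom hφ ⟨(a, 1), mem_dom.2 ha⟩ = (a', 1) from Prod.ext (Subtype.ext h.symm) rfl] at h1
      exact h1
  · haveI := Fintype.ofFinite (Orb S X)
    have hfib : ∀ y : Orb S X, Nat.card {x : X // mkOrb x = y} = Nat.card S := fun y => by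
      obtain ⟨x, rfl⟩ := mkOrb_surjective y
      refine (Nat.card_eq_of_bijective (fun b : S =>
        (⟨((1 : S), b) • x, (mkOrb_eq.2 ⟨b, rfl⟩).symm⟩ : {x' : X // mkOrb x' = mkOrb x})) ⟨?_, ?_⟩).symm
      · intro b c h
        exact free_eq hg (congrArg Subtype.val h)
      · rintro ⟨x', hx'⟩
        obtain ⟨b, hb⟩ := mkOrb_eq.1 hx'.symm
        exact ⟨b, Subtype.ext hb.symm⟩
    have hXc : Nat.card X = Nat.card (Orb S X) * Nat.card S := by
      rw [Nat.card_congr (Equiv.sigmaFiberEquiv (mkOrb (S := S) (X := X))).symm, Nat.card_sigma,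
        Finset.sum_congr rfl fun y _ => hfib y, Finset.sum_const, Finset.card_univ, smul_eq_mul,
        ← Nat.card_eq_fintype_card]
    rw [hm, mul_comm] at hXc
    rwa [← Nat.eq_of_mul_eq_mul_right Nat.card_pos hXc]

section Kernel

variable {A : Type v} [CommGroup A] {χ : S →* A} {η : X → A} [Fintype (Orb S X)]

/-- A root of order prime to `p` inside a subgroup. -/
theorem mem_of_pow_mem_exp {G : Type*} [Group G] {a : G} (ha : a ^ p = 1) {H : Subgroup G} {m : ℕ}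
    (hm : ¬ p ∣ m) (h : a ^ m ∈ H) : a ∈ H := by
  obtain ⟨i, hi⟩ := exists_pow_eq_self_of_coprime (n := m) (x := a)
    ((((Fact.out : p.Prime).coprime_iff_not_dvd).2 hm).symm.coprime_dvd_right (orderOf_dvd_of_pow_eq_one ha))
  exact hi ▸ H.pow_mem h i

/-- On a receptive subgroup the permutations covering the inclusion have values in `χ (C_S U)`. -/
theorem value_mem_of_cov_id (hS : IsPGroup p S) (hg : ∀ x : X, IsGraph F (stabilizer (S × S) x))
    (hA : ∀ a : A, a ^ p = 1)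
    (hχ : ∀ (P : Subgroup Ω) (φ : P →* Ω) (hφ : φ ∈ F.Hom P) (x : P),
      χ ⟨φ x, apply_mem hφ x⟩ = χ ⟨x, src_le hφ x.2⟩)
    (h : IsHeight χ η) {U : Subgroup Ω} (hU : F.IsReceptive U) {γ : equivGroup S X}
    (hγ : Cov U U.subtype γ) : value h γ ∈ ((centralizerIn S U).subgroupOf S).map χ := by
  classical
  set H := ((centralizerIn S U).subgroupOf S).map χ
  letI : MulAction (U.subgroupOf S) (Orb S X) :=
    MulAction.compHom _ ((lft S X).comp (U.subgroupOf S).subtype)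
  have hsm : ∀ (u : U.subgroupOf S) (x : X),
      u • mkOrb (S := S) x = mkOrb (S := S) ((((u : S), 1) : S × S) • x) := fun u x => by
    show ((lft S X).comp (U.subgroupOf S).subtype u) • mkOrb (S := S) x = _
    exact smul_mkOrb _ x
  have hinv : ∀ (u : U.subgroupOf S) (y : Orb S X), shift h γ (u • y) = shift h γ y := fun u y => by
    obtain ⟨x, rfl⟩ := mkOrb_surjective y
    rw [hsm, shift_mk, shift_mk, hγ u u (Subgroup.mem_subgroupOf.1 u.2) rfl, h, h, map_one, div_one,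
      mul_div_mul_left_eq_div]
  rw [value_apply, prod_eq_prod_fixed (hS.to_subgroup _) hA _ hinv]
  set Fx := Finset.univ.filter (· ∈ fixedPoints (U.subgroupOf S) (Orb S X))
  rw [← QuotientGroup.eq_one_iff, ← QuotientGroup.mk'_apply, map_prod]
  set q := QuotientGroup.mk' H
  let K : X → Set (S × S) := fun x => {z | (z.1 : Ω) ∈ U ∧ z • x = x}
  have key : ∀ x, mkOrb x ∈ Fx → ∀ b : S, K (((1 : S), b) • x) = K x → q (χ b) = 1 := by
    intro x hx b hK
    have hfix : ∀ u : S, (u : Ω) ∈ U → ∃ c : S, (u, c) ∈ K x := fun u hu => by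
      obtain ⟨c, hc⟩ := mkOrb_eq.1 ((hsm ⟨u, Subgroup.mem_subgroupOf.2 hu⟩ x).symm.trans
        ((Finset.mem_filter.1 hx).2 ⟨u, Subgroup.mem_subgroupOf.2 hu⟩))
      refine ⟨c, hu, ?_⟩
      calc ((u, c) : S × S) • x = ((1 : S), c) • ((u, 1) : S × S) • x := by
            rw [smul_smul, Prod.mk_mul_mk, one_mul, mul_one]
        _ = x := hc.symm
    obtain ⟨P, φ, hφ, -, hk⟩ := exists_hom_of_isGraph (hg x)
    have hUP : U ≤ P := fun u hu => by
      obtain ⟨c, -, hc⟩ := hfix ⟨u, hU.1 hu⟩ hu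
      exact ((hk _).1 hc).1
    obtain ⟨φU, hφU, hφUe⟩ := exists_restrict hφ hUP
    obtain ⟨θ, hθ, hθr, hθl, -⟩ := exists_inv hφU rfl
    obtain ⟨Θ, hΘ, hΘe⟩ := hU.2 _ θ hθ hθr
    have hcomm : ∀ u : U, (b : Ω) * φU u * (b : Ω)⁻¹ = φU u := by
      intro u
      set c : S := ⟨φU u, apply_mem hφU u⟩
      have h1 : ((⟨u, hU.1 u.2⟩ : S), c) ∈ K x := ⟨u.2, (hk _).2 ⟨hUP u.2, (hφUe u).symm⟩⟩
      have h2 : ((⟨u, hU.1 u.2⟩ : S), b⁻¹ * c * b) • x = x := by
        have h3 := (hK.symm ▸ h1 : _ ∈ K (((1 : S), b) • x)).2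
        have h4 := congrArg (fun t => ((1 : S), b⁻¹) • t) h3
        simpa [smul_smul, mul_assoc, Prod.mk_one_one] using h4
      obtain ⟨hP5, h5⟩ := (hk _).1 h2
      have h6 : (c : Ω) = (b : Ω)⁻¹ * c * b := (hφUe u).trans h5
      calc (b : Ω) * φU u * (b : Ω)⁻¹ = b * ((b : Ω)⁻¹ * c * b) * (b : Ω)⁻¹ := by rw [← h6]
        _ = φU u := by group; rfl
    have hbC : (b : Ω) ∈ centralizerIn S φU.range := by
      refine mem_centralizerIn'.2 ⟨b.2, ?_⟩
      rintro _ ⟨u, rfl⟩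
      exact hcomm u
    have hbE := centralizerIn_le_extender φU.range θ hbC
    have hbU : Θ ⟨b, hbE⟩ ∈ centralizerIn S U := by
      refine mem_centralizerIn'.2 ⟨apply_mem hΘ _, fun y hy => ?_⟩
      have hy' : (⟨φU ⟨y, hy⟩, le_extender (range_le_base hφU) (apply_mem hθ) ⟨_, rfl⟩⟩ :
          ↥(extender S φU.range θ)) =
          ⟨b, hbE⟩ * ⟨φU ⟨y, hy⟩, le_extender (range_le_base hφU) (apply_mem hθ) ⟨_, rfl⟩⟩ *
            ⟨b, hbE⟩⁻¹ := Subtype.ext (hcomm ⟨y, hy⟩).symm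
      have h1 := congrArg Θ hy'
      have e1 : θ ⟨φU ⟨y, hy⟩, ⟨y, hy⟩, rfl⟩ = y := hθl ⟨y, hy⟩ ⟨_, rfl⟩
      rw [map_mul, map_mul, map_inv, hΘe _ ⟨⟨y, hy⟩, rfl⟩ _, e1] at h1
      exact h1.symm
    rw [QuotientGroup.mk'_apply, QuotientGroup.eq_one_iff]
    exact ⟨⟨Θ ⟨b, hbE⟩, apply_mem hΘ _⟩, hbU, hχ _ Θ hΘ ⟨b, hbE⟩⟩
  -- a potential for the shifts
  let kinds : Orb S X → Set (Set (S × S)) := fun y => {T | ∃ x, mkOrb x = y ∧ K x = T}
  let pick : Set (Set (S × S)) → Set (S × S) := fun C => if hC : C.Nonempty then hC.choose else ∅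
  have hpick : ∀ y, ∃ x, mkOrb x = y ∧ K x = pick (kinds y) := fun y => by
    have hC : (kinds y).Nonempty := by
      obtain ⟨x, hx⟩ := mkOrb_surjective y
      exact ⟨_, x, hx, rfl⟩
    simp only [pick, dif_pos hC]
    exact hC.choose_spec
  choose rep hrep hrepK using hpick
  let pot : Orb S X → A ⧸ H := fun y => q (η (rep y))
  have hKγ : ∀ x, K (γ.1 x) = K x := fun x => by
    ext ⟨a, b⟩
    refine and_congr_right fun ha => ?_
    have e : γ.1 (((a, b) : S × S) • x) = ((a, b) : S × S) • γ.1 x := by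
      rw [show ((a, b) : S × S) = ((1 : S), b) * (a, 1) by simp, mul_smul, mul_smul, equiv_apply,
        hγ a a ha rfl]
    rw [← e, γ.1.injective.eq_iff]
  have hfixγ : ∀ y, y ∈ Fx → γ • y ∈ Fx := by
    intro y hy
    obtain ⟨x, rfl⟩ := mkOrb_surjective y
    refine Finset.mem_filter.2 ⟨Finset.mem_univ _, fun u => ?_⟩
    rw [smul_mkOrb, hsm, ← hγ u u (Subgroup.mem_subgroupOf.1 u.2) rfl, ← smul_mkOrb, ← hsm,
      (Finset.mem_filter.1 hy).2 u]
    rfl
  have hshift : ∀ y ∈ Fx, q (shift h γ y) = pot (γ • y) / pot y := by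
    intro y hy
    have hkinds : kinds (γ • y) = kinds y := by
      ext T
      constructor
      · rintro ⟨x', hx', rfl⟩
        refine ⟨γ.1.symm x', ?_, ?_⟩
        · rw [← inv_smul_smul γ y, ← hx', smul_mkOrb]
          rfl
        · have := hKγ (γ.1.symm x')
          rwa [Equiv.apply_symm_apply, eq_comm] at this
      · rintro ⟨x', rfl, rfl⟩
        exact ⟨γ.1 x', rfl, hKγ x'⟩
    obtain ⟨b, hb⟩ := mkOrb_eq.1 (show mkOrb (γ.1 (rep y)) = mkOrb (rep (γ • y)) by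
      rw [← smul_mkOrb, hrep, hrep])
    have hK' : K (((1 : S), b) • γ.1 (rep y)) = K (γ.1 (rep y)) := by
      rw [← hb, hKγ, hrepK, hrepK, hkinds]
    have hq := key _ (by rw [← smul_mkOrb, hrep]; exact hfixγ y hy) b hK'
    show _ = q (η (rep (γ • y))) / q (η (rep y))
    rw [hb, h.right, map_mul, map_inv, hq, inv_one, one_mul, ← map_div, ← shift_mk h, hrep]
  rw [Finset.prod_congr rfl hshift, Finset.prod_div_distrib, div_eq_one]
  refine Finset.prod_bij (fun y _ => γ • y) hfixγ (fun a _ b _ e => MulAction.injective γ e) ?_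
    fun _ _ => rfl
  intro y hy
  refine ⟨γ⁻¹ • y, ?_, smul_inv_smul γ y⟩
  obtain ⟨z, hz, hze⟩ := Finset.surj_on_of_inj_on_of_card_le (fun y (_ : y ∈ Fx) => γ • y) hfixγ
    (fun a b _ _ e => MulAction.injective γ e) le_rfl y hy
  rwa [hze, inv_smul_smul]

end Kernel

section Subsystem

variable {A : Type v} [CommGroup A] {χ : S →* A} {η : X → A} [Fintype (Orb S X)]

/-- The subsystem over the kernel. -/
def kernelSystem (F : FusionSystem S) (h : IsHeight χ η) : FusionSystem (χ.ker.map S.subtype) where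
  Hom U := {φ | φ ∈ F.Hom U ∧ U ≤ χ.ker.map S.subtype ∧ (∀ x, φ x ∈ χ.ker.map S.subtype) ∧
    ∃ γ : equivGroup S X, Cov U φ γ ∧ value h γ = 1}
  le_of_mem h := ⟨h.2.1, h.2.2.1⟩
  injective_of_mem h := F.injective_of_mem h.1
  conj_mem := by
    rintro P g hP hgT
    obtain ⟨g, hg, rfl⟩ := id hgT
    refine ⟨F.conj_mem (hP.trans (Subgroup.map_subtype_le _)) g.2, hP,
      fun x => mul_mem (mul_mem hgT (hP x.2)) (inv_mem hgT), lft S X g, cov_conj g, ?_⟩
    rw [value_lft, MonoidHom.mem_ker.1 hg, one_pow]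
  comp_mem := by
    rintro P Q φ ψ ⟨hφ, hP, hφT, γ, hγ, hv⟩ ⟨hψ, -, hψT, δ, hδ, hw⟩ hm
    exact ⟨F.comp_mem hφ hψ hm, hP, fun x => hψT _, δ * γ,
      hγ.comp hδ (apply_mem hφ) hm fun x => rfl, by rw [map_mul, hv, hw, one_mul]⟩
  inv_mem := by
    rintro P φ ⟨hφ, hP, hφT, γ, hγ, hv⟩
    obtain ⟨ψ, hψ, he⟩ := F.inv_mem hφ
    refine ⟨ψ, ⟨hψ, by rintro _ ⟨x, rfl⟩; exact hφT x, ?_, γ⁻¹, hγ.inv (src_le hφ) he,
      by rw [map_inv, hv, inv_one]⟩, he⟩
    rintro ⟨_, x, rfl⟩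
    rw [he]
    exact hP x.2

theorem kernelSystem_le (h : IsHeight χ η) : (kernelSystem F h).IsSubsystemOf F := fun _ _ h => h.1

theorem coprime_mem (h : IsHeight χ η) (hA : ∀ a : A, a ^ p = 1)
    (hex : ∀ (P : Subgroup Ω) (φ : P →* Ω), φ ∈ F.Hom P → ∃ γ : equivGroup S X, Cov P φ γ)
    {P : Subgroup Ω} (hP : P ≤ χ.ker.map S.subtype) {α : MulAut P} (hα : α ∈ F.autGroup P)
    (hc : (orderOf α).Coprime p) : α ∈ (kernelSystem F h).autGroup P := by
  have hPS : P ≤ S := hP.trans (Subgroup.map_subtype_le _)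
  obtain ⟨γ, hγ⟩ := hex P _ ((mem_autGroup hPS).1 hα)
  have hpow : ∀ k : ℕ, Cov P (P.subtype.comp (α ^ k).toMonoidHom) (γ ^ k) := by
    intro k
    induction k with
    | zero =>
      intro a a' ha e x
      rw [show a' = a from Subtype.ext e]
      rfl
    | succ k ih =>
      rw [pow_succ γ]
      refine hγ.comp ih (fun x => hPS (α x).2) (fun x => (α x).2) fun x => ?_
      show (((α ^ (k + 1)) x : P) : Ω) = ((α ^ k) (α x) : P)
      rw [pow_succ, MulAut.mul_apply]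
  obtain ⟨i, hi⟩ := exists_pow_eq_self_of_coprime (n := p) (x := α) hc.symm
  rw [← pow_mul] at hi
  refine (mem_autGroup hP).2 ⟨(mem_autGroup hPS).1 hα, hP, fun x => hP (α x).2, γ ^ (p * i), ?_, ?_⟩
  · exact (hpow (p * i)).congr fun x => by rw [hi]
  · rw [map_pow, pow_mul, hA, one_pow]

theorem kernelSystem_saturated (hS : IsPGroup p S) (hF : F.IsSaturated p) (h : IsHeight χ η)
    (hg : ∀ x : X, IsGraph F (stabilizer (S × S) x)) (hA : ∀ a : A, a ^ p = 1)
    (hex : ∀ (P : Subgroup Ω) (φ : P →* Ω), φ ∈ F.Hom P → ∃ γ : equivGroup S X, Cov P φ γ)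
    (hm : ¬ p ∣ Fintype.card (Orb S X))
    (hχ : ∀ (P : Subgroup Ω) (φ : P →* Ω) (hφ : φ ∈ F.Hom P) (x : P),
      χ ⟨φ x, apply_mem hφ x⟩ = χ ⟨x, src_le hφ x.2⟩)
    (hsurj : Function.Surjective χ) : (kernelSystem F h).IsSaturated p := by
  set T := χ.ker.map S.subtype with hT
  set E := kernelSystem F h with hE
  set m := Fintype.card (Orb S X) with hm'
  have hTS : T ≤ S := Subgroup.map_subtype_le _
  have hmemT : ∀ {g : Ω} (hg : g ∈ S), g ∈ T ↔ χ ⟨g, hg⟩ = 1 := fun {g} hg =>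
    ⟨fun ⟨s, hs, e⟩ => by rwa [show (⟨g, hg⟩ : S) = s from Subtype.ext e.symm],
      fun e => ⟨⟨g, hg⟩, e, rfl⟩⟩
  have hclosed : ∀ {P : Subgroup Ω} {φ : P →* Ω}, φ ∈ F.Hom P → P ≤ T → ∀ x, φ x ∈ T :=
    fun hφ hP x => (hmemT (apply_mem hφ x)).2 ((hχ _ _ hφ x).trans ((hmemT (hTS (hP x.2))).1 (hP x.2)))
  intro U hUT
  obtain ⟨R, ⟨φ, hφ, hr⟩, hR⟩ := exists_isFullyNormalized F (hUT.trans hTS)
  obtain ⟨γ, hγ⟩ := hex U φ hφ
  have hroot : ∀ a : A, ∃ g : S, χ g ^ m = a := fun a => by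
    have : a ∈ (⊤ : Subgroup A).map (powMonoidHom m) := mem_of_pow_mem_exp (hA a) hm ⟨a, trivial, rfl⟩
    obtain ⟨c, -, hc⟩ := this
    obtain ⟨g, rfl⟩ := hsurj c
    exact ⟨g, hc⟩
  obtain ⟨g, hg'⟩ := hroot (value h γ)⁻¹
  -- move `R` so that it is conjugate to `U` in the subsystem
  obtain ⟨φ', hφ', e'⟩ := exists_comp hφ (F.conj_mem (range_le_base hφ) g.2) fun x => ⟨x, rfl⟩
  set Q := φ'.range with hQdef
  have hφ'T : ∀ x, φ' x ∈ T := hclosed hφ' hUT
  have hUQ : E.IsConj U Q := ⟨φ', ⟨hφ', hUT, hφ'T, lft S X g * γ,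
    hγ.comp (cov_conj (P := φ.range) g) (apply_mem hφ) (fun x => ⟨x, rfl⟩) e',
    by rw [map_mul, value_lft, hg', inv_mul_cancel]⟩, rfl⟩
  have hQT : Q ≤ T := by rintro _ ⟨x, rfl⟩; exact hφ'T x
  have hQS := hQT.trans hTS
  have hQn : F.IsFullyNormalized Q := by
    refine ⟨hQS, fun W hW => ?_⟩
    have hRQ : F.IsConj R Q := isConj_trans (isConj_symm ⟨φ, hφ, hr⟩) ⟨φ', hφ', rfl⟩
    refine (hR.2 W (isConj_trans hRQ hW)).trans ?_
    haveI := finite_sub (normalizerIn_le (S := S) R)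
    haveI := finite_sub (normalizerIn_le (S := S) Q)
    refine card_le_of_hom (F.conj_mem (normalizerIn_le R) g.2) fun x => ?_
    refine apply_mem_normalizerIn (F.conj_mem (normalizerIn_le R) g.2) (le_normalizerIn hR.1) ?_ x x.2.2
    rw [map_subgroupOf_eq_range (le_normalizerIn hR.1), hQdef]
    ext y
    constructor
    · rintro ⟨w, rfl⟩
      obtain ⟨x, hx⟩ := hr.ge w.2
      exact ⟨x, by rw [e']; simp [hx]⟩
    · rintro ⟨x, rfl⟩
      exact ⟨⟨φ x, hr.le ⟨x, rfl⟩⟩, by rw [e']; rfl⟩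
  refine ⟨Q, hUQ, ⟨hQT, ?_⟩, hQT, ?_⟩
  · haveI := finite_sub hQS
    haveI := GT.finite_mulAut ↥Q
    obtain ⟨W, hW⟩ := (fullyAutomized_of_fullyNormalized hS hF hQn).2
    refine FusionP3.Criterion.exists_sylow_of_catches (autInducedBy_le_autGroup E hQT)
      (isPGroup_autInducedBy (hS.to_le hTS) Q) fun Z hZ hZp => ?_
    obtain ⟨a, ha, haZ⟩ := exists_conj_le_sylow W hW
      (hZ.trans (GT.autGroup_mono (kernelSystem_le h) hQT)) hZp
    obtain ⟨n, hn, r, hr, hnr⟩ :=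
      Transfer.PResidual.exists_mul_sylow W (⟨a, ha⟩ : F.autGroup Q)⁻¹
    have hnE : (n : MulAut Q) ∈ E.autGroup Q :=
      (Transfer.PResidual.pResidual_le_iff.2 fun b hb => coprime_mem h hA hex hQT b.2
        (by rwa [Subgroup.subtype_apply, Subgroup.orderOf_coe]) : pResidual p (F.autGroup Q) ≤
          (E.autGroup Q).comap (F.autGroup Q).subtype) hn
    rw [← SetLike.mem_coe, ← Sylow.coe_coe, hW, SetLike.mem_coe, Subgroup.mem_subgroupOf] at hr
    refine ⟨(n : MulAut Q)⁻¹, fun t ht => ?_⟩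
    have hnt : (n : MulAut Q)⁻¹ * t * (n : MulAut Q)⁻¹⁻¹ ∈ E.autGroup Q :=
      mul_mem (mul_mem (inv_mem hnE) (hZ ht)) (inv_mem (inv_mem hnE))
    have hnS : (n : MulAut Q)⁻¹ * t * (n : MulAut Q)⁻¹⁻¹ ∈ autInducedBy S Q := by
      have e1 : a⁻¹ = (n : MulAut Q) * (r : MulAut Q) := (congrArg Subtype.val hnr).symm
      have := mul_mem (mul_mem hr (haZ t ht)) (inv_mem hr)
      convert this using 1
      rw [show a = (a⁻¹)⁻¹ from (inv_inv a).symm, e1]
      group
    obtain ⟨s, hs, hse⟩ := mem_autInducedBy.1 hnS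
    obtain ⟨-, -, -, δ, hδ, hδ1⟩ := (mem_autGroup hQT).1 hnt
    have hcov : Cov Q Q.subtype (lft S X (⟨s, hs⟩ : S)⁻¹ * δ) :=
      hδ.comp (cov_conj (P := Q) (⟨s, hs⟩ : S)⁻¹) (fun x => hQS (((n : MulAut Q)⁻¹ * t * (n : MulAut Q)⁻¹⁻¹) x).2)
        (fun x => (((n : MulAut Q)⁻¹ * t * (n : MulAut Q)⁻¹⁻¹) x).2) fun x => by
          show (x : Ω) = s⁻¹ * (((n : MulAut Q)⁻¹ * t * (n : MulAut Q)⁻¹⁻¹) x : Q) * s⁻¹⁻¹
          rw [hse]; group
    have hv := value_mem_of_cov_id hS hg hA hχ h (receptive_of_fullyNormalized hS hF hQn) hcov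
    rw [map_mul, value_lft, hδ1, mul_one, map_inv, inv_pow, inv_mem_iff] at hv
    obtain ⟨c, hc, hce⟩ := mem_of_pow_mem_exp (hA _) hm hv
    have hc' := mem_centralizerIn'.1 (Subgroup.mem_subgroupOf.1 hc)
    refine mem_autInducedBy.2 ⟨s * (c : Ω)⁻¹, ⟨⟨s, hs⟩ * c⁻¹, ?_, rfl⟩, fun x => ?_⟩
    · rw [SetLike.mem_coe, MonoidHom.mem_ker, map_mul, map_inv, hce, mul_inv_cancel]
    · rw [hse]
      have hcx := hc'.2 x x.2
      calc s * (x : Ω) * s⁻¹ = s * ((c : Ω)⁻¹ * ((c : Ω) * x * (c : Ω)⁻¹) * c) * s⁻¹ := by group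
        _ = _ := by rw [hcx]; group
  · rintro W ψ ⟨hψ, hWT, hψT, δ, hδ, hδ1⟩ hψr
    obtain ⟨Ψ, hΨ, hΨe⟩ := (receptive_of_fullyNormalized hS hF hQn).2 W ψ hψ hψr
    set N := extender T W ψ with hN
    have hNT : N ≤ T := (extender_le_normalizerIn W ψ).trans (normalizerIn_le W)
    have hNle : N ≤ extender S W ψ := (Subgroup.closure_le _).2 fun g ⟨hg1, hg2, k, hk, hke⟩ =>
      Subgroup.subset_closure ⟨hTS hg1, hg2, k, hTS hk, hke⟩
    obtain ⟨Φ, hΦ, hΦe⟩ := exists_restrict hΨ hNle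
    obtain ⟨ε, hε⟩ := hex N Φ hΦ
    have hWN : W ≤ N := le_extender hWT hψT
    have hcov : Cov Q Q.subtype (ε * δ⁻¹) := by
      obtain ⟨ω, hω, -, hωl, -⟩ := exists_inv hψ rfl
      have h1 : Cov ψ.range ω δ⁻¹ := hδ.inv (src_le hψ) fun x => hωl x ⟨x, rfl⟩
      have hωN : ∀ y : ψ.range, ω y ∈ N := by
        rintro ⟨_, x, rfl⟩
        have e := hωl x ⟨x, rfl⟩
        exact e.symm ▸ hWN x.2
      have h2 : Cov ψ.range ψ.range.subtype (ε * δ⁻¹) :=
        h1.comp hε (apply_mem hω) hωN (by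
          rintro ⟨_, x, rfl⟩
          show ψ x = Φ ⟨ω ⟨ψ x, x, rfl⟩, _⟩
          rw [hΦe, show (⟨ω ⟨ψ x, x, rfl⟩, hωN _⟩ : N) = ⟨(x : Ω), hWN x.2⟩ from Subtype.ext (hωl x ⟨x, rfl⟩)]
          exact (hΨe x x.2 (hNle (hWN x.2))).symm)
      exact h2.restrict hψr.ge fun x => rfl
    have hv := value_mem_of_cov_id hS hg hA hχ h (receptive_of_fullyNormalized hS hF hQn) hcov
    rw [map_mul, map_inv, hδ1, inv_one, mul_one] at hv
    obtain ⟨c, hc, hce⟩ : ∃ c : S, (c : Ω) ∈ centralizerIn S Q ∧ χ c ^ m = (value h ε)⁻¹ := by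
      have hv' : (value h ε)⁻¹ ∈ (((centralizerIn S Q).subgroupOf S).map χ).map (powMonoidHom m) :=
        mem_of_pow_mem_exp (hA _) hm ⟨_, inv_mem hv, rfl⟩
      obtain ⟨_, ⟨c, hc, rfl⟩, hce⟩ := hv'
      exact ⟨c, Subgroup.mem_subgroupOf.1 hc, hce⟩
    obtain ⟨Φ', hΦ', eΦ'⟩ := exists_comp hΦ (F.conj_mem (range_le_base hΦ) c.2) fun x => ⟨x, rfl⟩
    refine ⟨Φ', ⟨hΦ', hNT, hclosed hΦ' hNT, lft S X c * ε,
      hε.comp (cov_conj (P := Φ.range) c) (apply_mem hΦ) (fun x => ⟨x, rfl⟩) eΦ',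
      by rw [map_mul, value_lft, hce, inv_mul_cancel]⟩, fun x hx hxN => ?_⟩
    rw [eΦ']
    show (c : Ω) * Φ ⟨x, hxN⟩ * (c : Ω)⁻¹ = _
    rw [hΦe, hΨe x hx]
    exact (mem_centralizerIn'.1 hc).2 _ (hψr.le ⟨_, rfl⟩)

theorem kernelSystem_index (h : IsHeight χ η) (hA : ∀ a : A, a ^ p = 1)
    (hex : ∀ (P : Subgroup Ω) (φ : P →* Ω), φ ∈ F.Hom P → ∃ γ : equivGroup S X, Cov P φ γ)
    (hhyp : F.hyperfocalSubgroup p ≤ χ.ker.map S.subtype) :
    (kernelSystem F h).HasPPowerIndexIn F p := by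
  refine ⟨kernelSystem_le h, hhyp, fun P hP => ?_⟩
  rw [Subgroup.map_le_iff_le_comap, Transfer.PResidual.pResidual_le_iff]
  exact fun b hb => coprime_mem h hA hex hP b.2 (by rwa [Subgroup.subtype_apply, Subgroup.orderOf_coe])

end Subsystem

/-- A subsystem of `p`-power index over a normal subgroup of index `p` above the hyperfocal subgroup. -/
theorem exists_pPower_of_index (hS : IsPGroup p S) (hF : F.IsSaturated p) {T : Subgroup Ω} (hTS : T ≤ S)
    [hn : (T.subgroupOf S).Normal] (hidx : (T.subgroupOf S).index = p)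
    (hT : F.hyperfocalSubgroup p ≤ T) :
    ∃ E : FusionSystem T, E.IsSaturated p ∧ E.HasPPowerIndexIn F p := by
  obtain ⟨e⟩ : Nonempty (S ⧸ T.subgroupOf S ≃* Multiplicative (ZMod p)) :=
    ⟨mulEquivOfPrimeCardEq (p := p) hidx (by simp)⟩
  let χ : S →* Multiplicative (ZMod p) := e.toMonoidHom.comp (QuotientGroup.mk' _)
  have hker : χ.ker = T.subgroupOf S := by
    ext s
    simp [χ, MonoidHom.mem_ker, QuotientGroup.eq_one_iff]
  have hTeq : χ.ker.map S.subtype = T := by rw [hker, Subgroup.map_subgroupOf_eq_of_le hTS]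
  have hA : ∀ a : Multiplicative (ZMod p), a ^ p = 1 := fun a => by
    have := pow_card_eq_one' (x := a)
    simpa using this
  have hfoc : F.focalSubgroup ≤ T := by
    rw [FusionP3.Tate.focal_eq_sup hS hF]
    refine sup_le hT ?_
    rw [← hTeq]
    refine Subgroup.map_mono ?_
    rw [_root_.commutator_def, Subgroup.commutator_le]
    intro a _ b _
    rw [MonoidHom.mem_ker, map_commutatorElement, commutatorElement_eq_one_iff_commute]
    exact Commute.all _ _
  have hχ : ∀ (P : Subgroup Ω) (φ : P →* Ω) (hφ : φ ∈ F.Hom P) (x : P),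
      χ ⟨φ x, apply_mem hφ x⟩ = χ ⟨x, src_le hφ x.2⟩ := by
    intro P φ hφ x
    have h1 : (⟨x, src_le hφ x.2⟩ : S)⁻¹ * ⟨φ x, apply_mem hφ x⟩ ∈ χ.ker :=
      hker ▸ Subgroup.mem_subgroupOf.2 (hfoc (FusionP3.Tate.focal_gen_mem hφ x))
    rw [MonoidHom.mem_ker, map_mul, map_inv, inv_mul_eq_one] at h1
    exact h1.symm
  obtain ⟨X, iX, fX, η, hη, hg, hex, hm⟩ := exists_data hS hF χ hχ
  haveI : Fintype (Orb S X) := Fintype.ofFinite _
  rw [Nat.card_eq_fintype_card] at hm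
  have hsurj : Function.Surjective χ := e.surjective.comp (QuotientGroup.mk'_surjective _)
  have hs := kernelSystem_saturated hS hF hη hg hA hex hm hχ hsurj
  have hi := kernelSystem_index (F := F) hη hA hex (hTeq.symm ▸ hT)
  suffices key : ∀ T', χ.ker.map S.subtype = T' →
      ∃ E : FusionSystem T', E.IsSaturated p ∧ E.HasPPowerIndexIn F p from key T hTeq
  rintro _ rfl
  exact ⟨_, hs, hi⟩

end Cfsg.Agent.Lib.FS.PPowerKernel
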