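/-
Yoshida's transfer theorem for fusion systems.
-/
import Cfsg.Agent.Lib.FusionP3.Tate
import Cfsg.Agent.Lib.Wreath.CpWrCp

set_option autoImplicit false
set_option linter.style.haveILetI false
set_option linter.unusedSectionVars false

namespace Cfsg.Agent.Lib.FS.Yoshida

open Cfsg Cfsg.FusionSystem Cfsg.Agent.Lib Cfsg.Agent.Lib.FS
open Cfsg.Agent.Lib.FusionP3 MulAction

universe u

/-- A product over a set permuted by `h` is trivial when every cycle contributes trivially. -/
theorem prod_cocycle_eq_one {G Q A : Type*} [Group G] [Finite G] [MulAction G Q] [CommMonoid A] [DecidableEq Q]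
    (d : G → Q → A) (hd : ∀ a b q, d (a * b) q = d b q * d a (b • q)) (h : G) (O : Finset Q)
    (hO : ∀ q ∈ O, h • q ∈ O) (h1 : ∀ q ∈ O, ∀ k : ℕ, 0 < k → h ^ k • q = q → d (h ^ k) q = 1) :
    ∏ q ∈ O, d h q = 1 := by
  induction O using Finset.strongInduction with
  | _ O ih =>
  rcases O.eq_empty_or_nonempty with rfl | ⟨q, hq⟩
  · rfl
  set k := Function.minimalPeriod (h • ·) q with hk
  have hkpos : 0 < k := Function.IsPeriodicPt.minimalPeriod_pos (orderOf_pos h)
    (by simp [Function.IsPeriodicPt, Function.IsFixedPt, smul_iterate, pow_orderOf_eq_one])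
  have hfix : h ^ k • q = q := by
    have := Function.isPeriodicPt_minimalPeriod (h • ·) q
    rw [Function.IsPeriodicPt, Function.IsFixedPt, smul_iterate] at this
    exact this
  let C := (Finset.range k).image fun i => h ^ i • q
  have hpow : ∀ i : ℕ, h ^ i • q ∈ O := by
    intro i
    induction i with
    | zero => simpa using hq
    | succ i ih' => rw [pow_succ', mul_smul]; exact hO _ ih'
  have hC : C ⊆ O := by
    intro x hx
    obtain ⟨i, -, rfl⟩ := Finset.mem_image.1 hx
    exact hpow i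
  have hinj : Set.InjOn (fun i => h ^ i • q) (Finset.range k : Set ℕ) := by
    intro i hi j hj hij
    refine Function.iterate_injOn_Iio_minimalPeriod (f := (h • ·)) (x := q) ?_ ?_ ?_
    · simpa using hi
    · simpa using hj
    · simpa [smul_iterate] using hij
  have hcyc : ∀ n : ℕ, d (h ^ n) q = ∏ i ∈ Finset.range n, d h (h ^ i • q) := by
    intro n
    induction n with
    | zero =>
      have e := h1 q hq k hkpos hfix
      have e1 := hd 1 (h ^ k) q
      rw [one_mul, hfix, e, one_mul] at e1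
      simp [← e1]
    | succ n ih' => rw [Finset.prod_range_succ, ← ih', pow_succ', hd]
  rw [← Finset.prod_sdiff hC, ih (O \ C) ?_ ?_ fun x hx => h1 x (Finset.sdiff_subset hx), one_mul,
    Finset.prod_image hinj, ← hcyc]
  · exact h1 q hq k hkpos hfix
  · exact Finset.sdiff_ssubset hC ((Finset.nonempty_range_iff.2 hkpos.ne').image _)
  · intro x hx
    rw [Finset.mem_sdiff] at hx ⊢
    refine ⟨hO x hx.1, fun hc => hx.2 ?_⟩
    obtain ⟨i, hi, hix⟩ := Finset.mem_image.1 hc
    refine Finset.mem_image.2 ⟨(i + (k - 1)) % k, Finset.mem_range.2 (Nat.mod_lt _ hkpos), ?_⟩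
    have e : h ^ ((i + (k - 1)) % k) • q = h ^ (i + (k - 1)) • q := by
      have hdiv : ∀ n : ℕ, h ^ (k * n) • q = q := by
        intro n
        induction n with
        | zero => simp
        | succ n ih' => rw [Nat.mul_succ, pow_add, mul_smul, hfix, ih']
      conv_rhs => rw [← Nat.mod_add_div (i + (k - 1)) k]
      rw [pow_add, mul_smul, hdiv]
    rw [e, add_comm, pow_add, mul_smul, hix, ← mul_smul, ← pow_succ,
      Nat.sub_add_cancel hkpos]
    -- `h^k` fixes the cycle
    have hx' : x = h⁻¹ • (h ^ i • q) := by rw [hix, inv_smul_smul]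
    rw [hx', ← mul_smul h⁻¹, ← mul_smul,
      (((Commute.refl h).pow_left k).inv_right.mul_right ((Commute.refl h).pow_pow k i)).eq, mul_smul, hfix]

variable {Ω : Type u} [Group Ω] {S : Subgroup Ω} [Finite S] {p : ℕ} [Fact p.Prime] {F : FusionSystem S}

local notation "Z" => Multiplicative (ZMod p)

/-- The transfer along a characteristic biset, as a cocycle on the right orbits. -/
theorem exists_transfer (hS : IsPGroup p S) (hF : F.IsSaturated p) (θ : S →* Z) :
    ∃ (Q : Type u) (_ : MulAction S Q) (_ : Fintype Q) (d : S → Q → Z), (∀ a b q, d (a * b) q = d b q * d a (b • q)) ∧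
      (¬ p ∣ Nat.card Q) ∧
      (∀ q : Q, ∃ (P : Subgroup Ω) (φ : P →* Ω) (hφ : φ ∈ F.Hom P),
        ∀ a : S, a • q = q → ∃ h : (a : Ω) ∈ P, d a q = θ ⟨φ ⟨a, h⟩, apply_mem hφ _⟩) ∧
      ∀ (P : Subgroup Ω) (φ : P →* Ω) (hφ : φ ∈ F.Hom P) (x : P),
        ∏ q, d ⟨φ x, apply_mem hφ x⟩ q = ∏ q, d ⟨x, src_le hφ x.2⟩ q := by
  classical
  obtain ⟨X, iX, fX, hg, hst, m, hm, hpm⟩ := Biset.exists_biset hS hF
  have h11 : ∀ z : X, (((1 : S), (1 : S)) : S × S) • z = z := fun z => by rw [Prod.mk_one_one, one_smul]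
  let rel : Setoid X :=
    ⟨fun z w => ∃ b : S, ((1 : S), b) • z = w, fun z => ⟨1, by rw [Prod.mk_one_one, one_smul]⟩,
      fun {z w} ⟨b, hb⟩ => ⟨b⁻¹, by rw [← hb, smul_smul, Prod.mk_mul_mk]; simp [h11]⟩,
      fun {x y z} ⟨b, hb⟩ ⟨c, hc⟩ => ⟨c * b, by rw [← hc, ← hb, smul_smul, Prod.mk_mul_mk, one_mul]⟩⟩
  let Q := Quotient rel
  have hwell : ∀ (a : S) (z w : X), rel z w → rel ((a, (1 : S)) • z) ((a, (1 : S)) • w) := fun a z w ⟨b, hb⟩ =>
    ⟨b, by rw [← hb, smul_smul, smul_smul, Prod.mk_mul_mk, Prod.mk_mul_mk]; simp⟩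
  let act : MulAction S Q :=
    { smul := fun a => Quotient.map' (fun z => (a, (1 : S)) • z) (hwell a)
      one_smul := fun q => by
        induction q using Quotient.inductionOn with
        | h z => exact congrArg (Quotient.mk rel) (h11 z)
      mul_smul := fun a b q => by
        induction q using Quotient.inductionOn with
        | h z => exact congrArg (Quotient.mk rel) (by simp only [smul_smul, Prod.mk_mul_mk, one_mul]) }
  let r : Q → X := fun q => q.out
  have hr : ∀ q, Quotient.mk rel (r q) = q := fun q => Quotient.out_eq q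
  have hfree : ∀ (z : X) (b c : S), ((1 : S), b) • z = ((1 : S), c) • z → b = c := fun z b c h =>
    Transfer.free_eq hg h
  have hex : ∀ (a : S) (q : Q), ∃ b : S, (a, (1 : S)) • r q = ((1 : S), b) • r (a • q) := fun a q => by
    obtain ⟨b, hb⟩ : rel (r (a • q)) ((a, (1 : S)) • r q) := Quotient.exact (by
      rw [hr]; conv_lhs => rw [← hr q]
      rfl)
    exact ⟨b, hb.symm⟩
  choose c hc using hex
  have hcmul : ∀ a b q, c (a * b) q = c b q * c a (b • q) := by
    intro a b q
    refine hfree (r ((a * b) • q)) _ _ ?_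
    rw [← hc, show ((a * b, (1 : S)) : S × S) = (a, 1) * (b, 1) by simp, mul_smul, hc, smul_smul,
      show (a, (1 : S)) * ((1 : S), c b q) = ((1 : S), c b q) * (a, 1) by simp, mul_smul, hc, smul_smul, mul_smul]
    simp [smul_smul]
  haveI : Fintype Q := Fintype.ofFinite Q
  refine ⟨Q, act, inferInstance, fun a q => (θ (c a q))⁻¹, fun a b q => ?_, ?_, fun q => ?_, fun P φ hφ x => ?_⟩
  · simp only [hcmul, map_mul, mul_inv]
  · have hcard : Nat.card X = Nat.card S * Nat.card Q := by
      rw [mul_comm, ← Nat.card_prod]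
      refine (Nat.card_eq_of_bijective (fun z : Q × S => ((1 : S), z.2) • r z.1) ⟨?_, fun z => ?_⟩).symm
      · rintro ⟨q, b⟩ ⟨q', b'⟩ h
        have hq : q = q' := by
          rw [← hr q, ← hr q']
          refine Quotient.sound ⟨b'⁻¹ * b, ?_⟩
          simp only at h
          rw [show ((1 : S), b'⁻¹ * b) = ((1 : S), b'⁻¹) * ((1 : S), b) by simp, mul_smul, h, smul_smul]
          simp [h11]
        subst hq
        exact Prod.ext rfl (hfree _ _ _ h)
      · obtain ⟨b, hb⟩ : rel (r (Quotient.mk rel z)) z := Quotient.exact (hr _)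
        exact ⟨(Quotient.mk rel z, b), hb⟩
    rw [← Nat.eq_of_mul_eq_mul_left Nat.card_pos (hcard.symm.trans hm)] at hpm
    exact hpm
  · obtain ⟨P, φ, hφ, -, key⟩ := Biset.exists_hom_of_isGraph (hg (r q))
    refine ⟨P, φ, hφ, fun a ha => ?_⟩
    have h : ((a, (c a q)⁻¹) : S × S) • r q = r q := by
      have := hc a q
      rw [ha] at this
      rw [show ((a, (c a q)⁻¹) : S × S) = ((1 : S), (c a q)⁻¹) * (a, 1) by simp, mul_smul, this, smul_smul]
      simp [h11]
    obtain ⟨h1, h2⟩ := (key _).1 (mem_stabilizer_iff.2 h)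
    refine ⟨h1, ?_⟩
    show (θ _)⁻¹ = _
    rw [← map_inv]
    exact congrArg θ (Subtype.ext h2.symm)
  · obtain ⟨e, he⟩ := hst P φ hφ
    have he' : ∀ (x : P) (b : S) (z : X),
        e (((⟨x, src_le hφ x.2⟩ : S), b) • z) = ((⟨φ x, apply_mem hφ x⟩ : S), b) • e z := fun x b z =>
      he ⟨((⟨x, src_le hφ x.2⟩ : S), b), Biset.mem_dom.mpr x.2⟩ z
    have heb : ∀ (b : S) (z : X), e (((1 : S), b) • z) = ((1 : S), b) • e z := fun b z => by
      have := he' 1 b z
      rw [show (⟨φ 1, apply_mem hφ 1⟩ : S) = 1 from Subtype.ext (map_one φ)] at this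
      exact this
    let σ : Q → Q := fun q => Quotient.mk rel (e (r q))
    have hσ : Function.Bijective σ := by
      refine (Finite.surjective_iff_bijective).1 fun q => ?_
      refine ⟨Quotient.mk rel (e.symm (r q)), ?_⟩
      obtain ⟨b, hb⟩ : rel (r (Quotient.mk rel (e.symm (r q)))) (e.symm (r q)) := Quotient.exact (hr _)
      conv_rhs => rw [← hr q]
      refine Quotient.sound ⟨b, ?_⟩
      rw [← heb, hb, e.apply_symm_apply]
    have hk : ∀ q, ∃ b : S, e (r q) = ((1 : S), b) • r (σ q) := fun q => by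
      obtain ⟨b, hb⟩ : rel (r (σ q)) (e (r q)) := Quotient.exact (hr _)
      exact ⟨b, hb.symm⟩
    choose k hk using hk
    set a : S := ⟨x, src_le hφ x.2⟩ with ha
    set a' : S := ⟨φ x, apply_mem hφ x⟩ with ha'
    have h1 : ∀ q, (a', k q) • r (σ q) = ((1 : S), c a q * k (a • q)) • r (σ (a • q)) := by
      intro q
      rw [show ((a', k q) : S × S) = (a', 1) * ((1 : S), k q) by simp, mul_smul, ← hk, ← he' x 1, hc, heb, hk,
        smul_smul]
      simp [a]
    have h2 : ∀ q, a' • σ q = σ (a • q) := by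
      intro q
      conv_lhs => rw [← hr (σ q)]
      conv_rhs => rw [← hr (σ (a • q))]
      refine Quotient.sound ⟨(c a q * k (a • q))⁻¹ * k q, ?_⟩
      rw [smul_smul, show ((1 : S), (c a q * k (a • q))⁻¹ * k q) * (a', (1 : S)) =
        ((1 : S), (c a q * k (a • q))⁻¹) * (a', k q) by simp, mul_smul, h1, smul_smul]
      simp [h11]
    have h3 : ∀ q, k q * c a' (σ q) = c a q * k (a • q) := by
      intro q
      refine hfree (r (σ (a • q))) _ _ ?_
      rw [← h1, ← h2, show ((1 : S), k q * c a' (σ q)) = ((1 : S), k q) * ((1 : S), c a' (σ q)) by simp,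
        mul_smul, ← hc, smul_smul]
      simp
    have h4 : ∏ q, θ (c a' q) = ∏ q, θ (c a q) := by
      have e1 : ∏ q, θ (c a' q) = ∏ q, θ (c a' (σ q)) :=
        (Fintype.prod_bijective σ hσ _ _ fun q => rfl).symm
      have e2 : (∏ q, θ (k q)) * ∏ q, θ (c a' (σ q)) = (∏ q, θ (c a q)) * ∏ q, θ (k q) := by
        rw [← Finset.prod_mul_distrib, Finset.prod_congr rfl fun q _ => (map_mul θ _ _).symm]
        simp only [h3, map_mul]
        rw [Finset.prod_mul_distrib]
        congr 1
        exact Fintype.prod_equiv (MulAction.toPerm a) _ _ fun q => rfl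
      rw [e1]
      rw [mul_comm] at e2
      exact mul_right_cancel e2
    simp only [Finset.prod_inv_distrib, h4]

/-- Without a `C_p ≀ C_p` quotient, invariant homomorphisms onto `C_p` kill the focal subgroup. -/
theorem hom_focal_eq_one (hS : IsPGroup p S) (hF : F.IsSaturated p)
    (hno : ∀ f : S →* Z ≀ᵣ Z, ¬ Function.Surjective f) (θ : S →* Z)
    (hθ : ∀ (φ : S →* Ω) (hφ : φ ∈ F.Hom S) (x : S), θ ⟨φ x, apply_mem hφ x⟩ = θ x) :
    ∀ y : S, (y : Ω) ∈ F.focalSubgroup → θ y = 1 := by
  classical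
  obtain ⟨Q, _, _, d, hd, hcard, hgr, hinv⟩ := exists_transfer hS hF θ
  let τ : S →* Z := MonoidHom.mk' (fun a => ∏ q, d a q) fun a b => by
    simp only [hd]
    rw [Finset.prod_mul_distrib, mul_comm]
    congr 1
    exact Fintype.prod_equiv (MulAction.toPerm b) _ _ fun q => rfl
  have hτ : ∀ y : S, (y : Ω) ∈ F.focalSubgroup → τ y = 1 := by
    have hle : F.focalSubgroup ≤ τ.ker.map S.subtype := by
      refine (Subgroup.closure_le _).mpr ?_
      rintro _ ⟨P, φ, x, hφ, rfl⟩
      refine ⟨(⟨x, src_le hφ x.2⟩ : S)⁻¹ * ⟨φ x, apply_mem hφ x⟩, ?_, rfl⟩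
      show τ _ = 1
      rw [map_mul, map_inv, show τ ⟨φ x, apply_mem hφ x⟩ = τ ⟨x, src_le hφ x.2⟩ from hinv P φ hφ x,
        inv_mul_cancel]
    intro y hy
    obtain ⟨z, hz, hzy⟩ := hle hy
    rw [← Subtype.ext hzy]; exact hz
  suffices h : ∀ n, ∀ y : S, (y : Ω) ∈ F.focalSubgroup → orderOf y = n → θ y = 1 from
    fun y hy => h _ y hy rfl
  intro n
  induction n using Nat.strong_induction_on with
  | _ n ih =>
  intro y hy hn
  -- powers by multiples of `p` are killed
  have hsmall : ∀ (k : ℕ) (q : Q), p ∣ k → y ^ k • q = q → d (y ^ k) q = 1 := by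
    intro k q hpk hkq
    by_cases hy1 : y = 1
    · subst hy1
      have e := hd 1 1 q
      rw [one_smul, one_mul] at e
      rw [one_pow]
      exact mul_left_cancel (e.symm.trans (mul_one _).symm)
    obtain ⟨P, φ, hφ, hP⟩ := hgr q
    obtain ⟨hmem, he⟩ := hP _ hkq
    rw [he]
    have hyk : ((y ^ k : S) : Ω) ∈ F.focalSubgroup := by
      rw [SubgroupClass.coe_pow]; exact F.focalSubgroup.pow_mem hy k
    refine ih (orderOf (⟨φ ⟨_, hmem⟩, apply_mem hφ _⟩ : S)) ?_ _ ?_ rfl
    · have h1 : orderOf (⟨φ ⟨_, hmem⟩, apply_mem hφ _⟩ : S) = orderOf (y ^ k) := by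
        rw [Subgroup.orderOf_mk, orderOf_injective φ (F.injective_of_mem hφ), Subgroup.orderOf_mk,
          Subgroup.orderOf_coe]
      rw [h1, ← hn, orderOf_pow]
      refine Nat.div_lt_self (orderOf_pos y) ?_
      obtain ⟨j, hj⟩ := (IsPGroup.iff_orderOf.1 hS) y
      have hj0 : j ≠ 0 := fun h => hy1 (orderOf_eq_one_iff.1 (by rw [hj, h, pow_zero]))
      exact (Fact.out : p.Prime).one_lt.trans_le (Nat.le_of_dvd (Nat.gcd_pos_of_pos_left _ (orderOf_pos y))
        (Nat.dvd_gcd (hj ▸ dvd_pow_self p hj0) hpk))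
    · have h2 := F.focalSubgroup.mul_mem hyk (Tate.focal_gen_mem hφ ⟨_, hmem⟩)
      rwa [mul_inv_cancel_left] at h2
  let fixd : Finset Q := Finset.univ.filter fun q => ∀ s : S, s • q = q
  have hrest : ∀ q ∈ (Finset.univ \ fixd), ∏ w ∈ Finset.univ.filter (fun w => w ∈ orbit S q), d y w = 1 := by
    intro q₀ hq₀
    set O := Finset.univ.filter (fun w => w ∈ orbit S q₀) with hO
    set R := stabilizer S q₀ with hR
    have hRtop : R ≠ ⊤ := fun h => (Finset.mem_sdiff.1 hq₀).2 (Finset.mem_filter.2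
      ⟨Finset.mem_univ _, fun s => mem_stabilizer_iff.1 (show s ∈ R from h ▸ Subgroup.mem_top s)⟩)
    haveI : Group.IsNilpotent S := hS.isNilpotent
    obtain ⟨M, hM, hRM⟩ := (eq_top_or_exists_le_coatom R).resolve_left hRtop
    haveI : M.Normal := Subgroup.NormalizerCondition.normal_of_coatom M Group.normalizerCondition_of_isNilpotent hM
    have hMi : M.index = p := by
      obtain ⟨k, hk⟩ := hS.index M
      rcases k with _ | k
      · exact absurd (Subgroup.index_eq_one.1 (by simpa using hk)) hM.1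
      rw [Subgroup.index_eq_card] at hk
      obtain ⟨K, hK⟩ := Sylow.exists_subgroup_card_pow_prime p (G := S ⧸ M) (n := k) (hk ▸ pow_dvd_pow p (by omega))
      rcases (QuotientGroup.le_comap_mk' M K : M ≤ K.comap (QuotientGroup.mk' M)).eq_or_lt with h | h
      · have hKb : K = ⊥ := by
          rw [← Subgroup.map_comap_eq_self_of_surjective (QuotientGroup.mk'_surjective M) K, ← h]
          exact QuotientGroup.map_mk'_self M
        rw [hKb, Subgroup.card_bot] at hK
        rw [Subgroup.index_eq_card, hk, pow_succ, ← hK, one_mul]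
      · have hKt : K = ⊤ := by
          rw [← Subgroup.map_comap_eq_self_of_surjective (QuotientGroup.mk'_surjective M) K, hM.2 _ h,
            ← MonoidHom.range_eq_map]
          exact MonoidHom.range_eq_top.2 (QuotientGroup.mk'_surjective M)
        rw [hKt, Subgroup.card_top, hk] at hK
        exact absurd (Nat.pow_right_injective (Fact.out : p.Prime).two_le hK) (by omega)
    have hqc : Nat.card (S ⧸ M) = p := by rw [← Subgroup.index_eq_card, hMi]
    let eq : (S ⧸ M) ≃* Z := mulEquivOfPrimeCardEq (p := p) hqc (by simp)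
    let π : S →* Z := eq.toMonoidHom.comp (QuotientGroup.mk' M)
    have hπ : Function.Surjective π := eq.surjective.comp (QuotientGroup.mk'_surjective M)
    have hRπ : ∀ a : S, a • q₀ = q₀ → π a = 1 := fun a ha => by
      show eq _ = 1
      rw [show QuotientGroup.mk' M a = 1 from (QuotientGroup.eq_one_iff a).2 (hRM ha), map_one]
    by_cases hyM : π y = 1
    · obtain ⟨g, hg⟩ := hπ (Multiplicative.ofAdd 1)
      let O₀ := O.filter fun w => ∃ m : S, π m = 1 ∧ w = m • q₀
      have hO₀ : ∀ (h : S), π h = 1 → ∀ w, w ∈ O₀ → h • w ∈ O₀ := by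
        intro h hh w hw
        obtain ⟨-, m, hm, rfl⟩ := Finset.mem_filter.1 hw
        refine Finset.mem_filter.2 ⟨Finset.mem_filter.2 ⟨Finset.mem_univ _, ⟨h * m, mul_smul h m q₀⟩⟩,
          h * m, by rw [map_mul, hh, hm, one_mul], (mul_smul h m q₀).symm⟩
      have hperm : ∀ (h : S), π h = 1 → ∀ f : Q → Z, ∏ w ∈ O₀, f (h • w) = ∏ w ∈ O₀, f w := fun h hh f =>
        Finset.prod_bij' (fun w _ => h • w) (fun w _ => h⁻¹ • w) (fun w hw => hO₀ h hh w hw)
          (fun w hw => hO₀ h⁻¹ (by rw [map_inv, hh, inv_one]) w hw) (fun w _ => inv_smul_smul h w)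
          (fun w _ => smul_inv_smul h w) (fun w _ => rfl)
      let D : π.ker →* Z := MonoidHom.mk' (fun h => ∏ w ∈ O₀, d h w) fun a b => by
        simp only [Subgroup.coe_mul, hd]
        rw [Finset.prod_mul_distrib, mul_comm]
        congr 1
        exact hperm b b.2 (d a)
      have hmemc : ∀ j : ℕ, (g ^ j)⁻¹ * y * g ^ j ∈ π.ker := fun j => by
        simp [MonoidHom.mem_ker, hyM]
      have hN : (∏ j ∈ Finset.range p, D ⟨_, hmemc j⟩) = 1 := by
        by_contra hne
        obtain ⟨f, hf⟩ := Wreath.CpWrCp.exists_surjective π g hg D ⟨y, hyM⟩ hne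
        exact hno f hf
      have hgpow : ∀ j : ℕ, π (g ^ j) = Multiplicative.ofAdd (j : ZMod p) := fun j => by
        rw [map_pow, hg, ← ofAdd_nsmul, nsmul_one]
      calc ∏ w ∈ O, d y w = ∏ z ∈ Finset.range p ×ˢ O₀, d y (g ^ z.1 • z.2) := by
            refine (Finset.prod_bij (fun z _ => g ^ z.1 • z.2) ?_ ?_ ?_ fun _ _ => rfl).symm
            · intro z hz
              obtain ⟨-, m, -, hzm⟩ := Finset.mem_filter.1 (Finset.mem_product.1 hz).2
              refine Finset.mem_filter.2 ⟨Finset.mem_univ _, ⟨g ^ z.1 * m, ?_⟩⟩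
              rw [hzm]
              exact mul_smul _ _ _
            · rintro ⟨i, w⟩ hz ⟨j, w'⟩ hz' h
              obtain ⟨hi, hw⟩ := Finset.mem_product.1 hz
              obtain ⟨hj, hw'⟩ := Finset.mem_product.1 hz'
              obtain ⟨-, a, ha, rfl⟩ := Finset.mem_filter.1 hw
              obtain ⟨-, b, hb, rfl⟩ := Finset.mem_filter.1 hw'
              simp only at h
              have h' : ((g ^ j * b)⁻¹ * (g ^ i * a)) • q₀ = q₀ := by
                rw [mul_smul, mul_smul, h, ← mul_smul (g ^ j), inv_smul_smul]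
              have h'' := hRπ _ h'
              rw [map_mul, map_inv, map_mul, map_mul, hgpow, hgpow, ha, hb, mul_one, mul_one,
                inv_mul_eq_one] at h''
              have hij := congrArg ZMod.val (Multiplicative.ofAdd.injective h'')
              simp [ZMod.val_natCast, Nat.mod_eq_of_lt (Finset.mem_range.1 hi),
                Nat.mod_eq_of_lt (Finset.mem_range.1 hj)] at hij
              subst hij
              rw [smul_left_cancel_iff] at h
              rw [h]
            · intro w hw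
              obtain ⟨a, rfl⟩ := (Finset.mem_filter.1 hw).2
              set j := (Multiplicative.toAdd (π a)).val
              have hj : j < p := ZMod.val_lt _
              have hm : π ((g ^ j)⁻¹ * a) = 1 := by
                rw [map_mul, map_inv, hgpow]; simp [j]
              refine ⟨(j, ((g ^ j)⁻¹ * a) • q₀), Finset.mem_product.2 ⟨Finset.mem_range.2 hj,
                Finset.mem_filter.2 ⟨Finset.mem_filter.2 ⟨Finset.mem_univ _, ⟨_, rfl⟩⟩, _, hm, rfl⟩⟩, ?_⟩
              show g ^ j • ((g ^ j)⁻¹ * a) • q₀ = a • q₀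
              rw [← mul_smul, mul_inv_cancel_left]
        _ = ∏ j ∈ Finset.range p, D ⟨_, hmemc j⟩ := by
            rw [Finset.prod_product]
            refine Finset.prod_congr rfl fun j _ => ?_
            show ∏ w ∈ O₀, d y (g ^ j • w) = ∏ w ∈ O₀, d ((g ^ j)⁻¹ * y * g ^ j) w
            have hh : y * g ^ j = g ^ j * ((g ^ j)⁻¹ * y * g ^ j) := by group
            have e : ∀ w, d (g ^ j) w * d y (g ^ j • w) =
                d ((g ^ j)⁻¹ * y * g ^ j) w * d (g ^ j) (((g ^ j)⁻¹ * y * g ^ j) • w) := fun w => by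
              rw [← hd, ← hd, ← hh]
            have e' := Finset.prod_congr (rfl : O₀ = O₀) fun w _ => e w
            rw [Finset.prod_mul_distrib, Finset.prod_mul_distrib, hperm _ (hmemc j) (d (g ^ j))] at e'
            rw [mul_comm] at e'
            exact mul_right_cancel e'
        _ = 1 := hN
    · refine prod_cocycle_eq_one d hd y O (fun w hw => ?_) fun w hw k _ hkw => hsmall k w ?_ hkw
      · obtain ⟨a, rfl⟩ := (Finset.mem_filter.1 hw).2
        exact Finset.mem_filter.2 ⟨Finset.mem_univ _, ⟨y * a, mul_smul y a q₀⟩⟩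
      · obtain ⟨a, rfl⟩ := (Finset.mem_filter.1 hw).2
        have h1 : (a⁻¹ * y ^ k * a) • q₀ = q₀ := by
          rw [mul_smul, mul_smul]
          rw [show y ^ k • a • q₀ = a • q₀ from hkw, inv_smul_smul]
        have h2 := hRπ _ h1
        rw [map_mul, map_mul, map_inv, map_pow, inv_mul_cancel_comm] at h2
        have hord : orderOf (π y) = p := orderOf_eq_prime (by
          have h : Nat.card Z = p := by simp
          exact (congrArg ((π y) ^ ·) h.symm).trans pow_card_eq_one') hyM
        exact hord ▸ orderOf_dvd_of_pow_eq_one h2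
  have hfix : ∀ q ∈ fixd, d y q = θ y := by
    intro q hq
    obtain ⟨P, φ, hφ, hP⟩ := hgr q
    have hSP : S ≤ P := fun s hs => (hP ⟨s, hs⟩ ((Finset.mem_filter.1 hq).2 _)).1
    obtain ⟨φ', hφ', e⟩ := exists_restrict hφ hSP
    obtain ⟨h, he⟩ := hP y ((Finset.mem_filter.1 hq).2 y)
    rw [he, ← hθ φ' hφ' y]
    exact congrArg θ (Subtype.ext (e y).symm)
  have hsum : τ y = θ y ^ fixd.card := by
    show ∏ q, d y q = _
    rw [← Finset.prod_sdiff (Finset.subset_univ fixd), Finset.prod_congr rfl hfix, Finset.prod_const]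
    suffices h : ∏ q ∈ Finset.univ \ fixd, d y q = 1 by rw [h, one_mul]
    rw [← Finset.prod_fiberwise (Finset.univ \ fixd) (fun q => Quotient.mk (orbitRel S Q) q) (d y)]
    refine Finset.prod_eq_one fun o _ => ?_
    induction o using Quotient.inductionOn with
    | h q₀ =>
    by_cases hq₀ : q₀ ∈ Finset.univ \ fixd
    · refine Eq.trans (Finset.prod_congr ?_ fun _ _ => rfl) (hrest q₀ hq₀)
      ext w
      simp only [Finset.mem_filter, Finset.mem_univ, true_and]
      constructor
      · exact fun h => Quotient.exact h.2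
      · intro hw
        refine ⟨Finset.mem_sdiff.2 ⟨Finset.mem_univ _, fun hwf => (Finset.mem_sdiff.1 hq₀).2 ?_⟩, Quotient.sound hw⟩
        refine Finset.mem_filter.2 ⟨Finset.mem_univ _, fun s => ?_⟩
        obtain ⟨a, ha⟩ := hw
        have hwf' := (Finset.mem_filter.1 hwf).2
        have e : q₀ = w := by
          have := hwf' a⁻¹
          rw [← ha] at this
          simp only [inv_smul_smul] at this
          exact this.trans ha
        rw [e]; exact hwf' s
    · refine Finset.prod_eq_one fun w hw => absurd ?_ hq₀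
      obtain ⟨hw1, hw2⟩ := Finset.mem_filter.1 hw
      refine Finset.mem_sdiff.2 ⟨Finset.mem_univ _, fun hf => (Finset.mem_sdiff.1 hw1).2 ?_⟩
      obtain ⟨a, ha⟩ := Quotient.exact hw2
      have hf' := (Finset.mem_filter.1 hf).2
      refine Finset.mem_filter.2 ⟨Finset.mem_univ _, fun s => ?_⟩
      rw [← ha]
      show s • a • q₀ = a • q₀
      rw [hf' a, hf' s]
  rw [hτ y hy] at hsum
  have hmod := hS.card_modEq_card_fixedPoints Q
  have hfc : Nat.card (fixedPoints S Q) = fixd.card := by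
    rw [← Nat.card_eq_finsetCard]
    exact Nat.card_congr (Equiv.subtypeEquivRight fun q => by simp [fixd, mem_fixedPoints])
  have hnd : ¬ p ∣ fixd.card := fun h => hcard (Nat.modEq_zero_iff_dvd.1
    (hmod.trans (hfc ▸ Nat.modEq_zero_iff_dvd.2 h)))
  exact Tate.eq_one_of_pow_eq_one (IsPGroup.of_card (n := 1) (by simp)) hnd hsum.symm

/-- Yoshida: without a `C_p ≀ C_p` quotient the focal subgroup is that of `N_F(S)`. -/
theorem focal_le_of_no_wreath (hS : IsPGroup p S) (hF : F.IsSaturated p)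
    (hno : ∀ f : S →* Z ≀ᵣ Z, ¬ Function.Surjective f) {C : Subgroup Ω} (hDC : Tate.derivedOf S ≤ C)
    (hCF : C ≤ F.focalSubgroup)
    (hC : ∀ (φ : S →* Ω), φ ∈ F.Hom S → ∀ x : S, (x : Ω)⁻¹ * φ x ∈ C) :
    F.focalSubgroup ≤ C := by
  classical
  refine Tate.focal_le_of_le_sup_frattini hS hF hDC hCF ?_
  intro y hy
  by_contra hnot
  have hyS : y ∈ S := Tate.focal_le F hy
  set C₁ := frattini S ⊔ C.subgroupOf S with hC₁
  have hyC : (⟨y, hyS⟩ : S) ∉ C₁ := fun h => hnot (by
    have hle : C₁ ≤ ((frattini S).map S.subtype ⊔ C).comap S.subtype :=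
      sup_le (fun z hz => Subgroup.mem_sup_left ⟨z, hz, rfl⟩)
        (fun z hz => Subgroup.mem_sup_right (Subgroup.mem_subgroupOf.1 hz))
    exact hle h)
  haveI : Finite {B : Subgroup S // C₁ ≤ B ∧ (⟨y, hyS⟩ : S) ∉ B} := inferInstance
  haveI : Nonempty {B : Subgroup S // C₁ ≤ B ∧ (⟨y, hyS⟩ : S) ∉ B} := ⟨⟨C₁, le_rfl, hyC⟩⟩
  obtain ⟨⟨B, hB1, hB2⟩, hmax⟩ :=
    Finite.exists_max fun B : {B : Subgroup S // C₁ ≤ B ∧ (⟨y, hyS⟩ : S) ∉ B} => Nat.card B.1
  have hderB : ∀ a b : S, a * b * a⁻¹ * b⁻¹ ∈ B := fun a b => hB1 (Subgroup.mem_sup_right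
    (Subgroup.mem_subgroupOf.2 (hDC ⟨_, by
      have := Subgroup.commutator_mem_commutator (Subgroup.mem_top a) (Subgroup.mem_top b)
      rwa [commutatorElement_def] at this, rfl⟩)))
  haveI : B.Normal := ⟨fun b hb g => by
    have := B.mul_mem (hderB g b) hb
    simpa [mul_assoc] using this⟩
  have hpow : ∀ a : S, a ^ p ∈ B := fun a => hB1 (Subgroup.mem_sup_left (PGroups.pow_mem_frattini hS a))
  have hyb : ((⟨y, hyS⟩ : S) : S ⧸ B) ≠ 1 := fun h => hB2 ((QuotientGroup.eq_one_iff _).1 h)
  have hord : orderOf ((⟨y, hyS⟩ : S) : S ⧸ B) = p := orderOf_eq_prime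
    (by rw [← QuotientGroup.mk_pow]; exact (QuotientGroup.eq_one_iff _).2 (hpow _)) hyb
  have hall : ∀ a : S, (a : S ⧸ B) ∈ Subgroup.zpowers ((⟨y, hyS⟩ : S) : S ⧸ B) := by
    intro a
    by_cases ha : a ∈ B
    · rw [(QuotientGroup.eq_one_iff a).2 ha]; exact one_mem _
    set B' := (Subgroup.zpowers (a : S ⧸ B)).comap (QuotientGroup.mk' B) with hB'
    have hBB : B < B' := by
      refine lt_of_le_not_ge (fun b hb => ?_) fun h => ha (h (Subgroup.mem_zpowers (a : S ⧸ B)))
      rw [hB', Subgroup.mem_comap, show QuotientGroup.mk' B b = 1 from (QuotientGroup.eq_one_iff b).2 hb]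
      exact one_mem _
    have hy' : (⟨y, hyS⟩ : S) ∈ B' := by
      by_contra hny
      refine absurd (hmax ⟨B', hB1.trans hBB.le, hny⟩) (not_le.2 ?_)
      exact lt_of_le_of_ne (Subgroup.card_le_of_le hBB.le) fun e =>
        hBB.ne (Subgroup.eq_of_le_of_card_ge hBB.le e.ge)
    have heq : Subgroup.zpowers ((⟨y, hyS⟩ : S) : S ⧸ B) = Subgroup.zpowers (a : S ⧸ B) := by
      refine Subgroup.eq_of_le_of_card_ge (Subgroup.zpowers_le.2 hy') ?_
      rw [Nat.card_zpowers, Nat.card_zpowers, hord]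
      exact Nat.le_of_dvd (Fact.out : p.Prime).pos (orderOf_dvd_of_pow_eq_one
        (by rw [← QuotientGroup.mk_pow]; exact (QuotientGroup.eq_one_iff _).2 (hpow _)))
    rw [heq]; exact Subgroup.mem_zpowers _
  have hcard : Nat.card (S ⧸ B) = p := by
    rw [← hord, ← Nat.card_zpowers]
    refine (Nat.card_congr (Equiv.subtypeUnivEquiv fun x => ?_)).symm
    obtain ⟨a, rfl⟩ := QuotientGroup.mk_surjective x
    exact hall a
  let e : (S ⧸ B) ≃* Z := mulEquivOfPrimeCardEq (p := p) hcard (by simp)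
  let θ : S →* Z := e.toMonoidHom.comp (QuotientGroup.mk' B)
  have h1 := hom_focal_eq_one hS hF hno θ (fun φ hφ x => by
    show e _ = e _
    refine congrArg e (QuotientGroup.eq.2 ?_)
    have hx : (x⁻¹ * ⟨φ x, apply_mem hφ x⟩ : S) ∈ B :=
      hB1 (Subgroup.mem_sup_right (Subgroup.mem_subgroupOf.2 (hC φ hφ x)))
    have hx' := B.inv_mem hx
    rwa [mul_inv_rev, inv_inv] at hx') ⟨y, hyS⟩ hy
  exact hyb (e.injective (h1.trans (map_one e).symm))

end Cfsg.Agent.Lib.FS.Yoshida
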